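import Mathlib

/-!
# Involutory transvections over the field with two elements in groups with a normal odd subgroup

Abstract setting: a group `G` acting faithfully on an elementary abelian 2-group `V`.  An
involution `d` is a *transvection with centre `b`* if `d • v ∈ {v, v + b}` for all `v`.
If `t = P * P` is such a transvection and `R` is a normal subgroup all of whose elements have odd
order, then `t` centralizes `R`.
-/

set_option autoImplicit false

namespace Cfsg.Agent.Lib.Helper22.Transv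

variable {G V : Type*} [Group G] [AddCommGroup V] [DistribMulAction G V]

/-- `d` is an involution (or trivial) acting as a transvection with centre `b ≠ 0`. -/
def IsTv (d : G) (b : V) : Prop :=
  d * d = 1 ∧ b ≠ 0 ∧ ∀ v : V, d • v = v ∨ d • v = v + b

theorem IsTv.conj {d : G} {b : V} (h : IsTv d b) (g : G) : IsTv (g * d * g⁻¹) (g • b) := by
  refine ⟨?_, ?_, ?_⟩
  · calc g * d * g⁻¹ * (g * d * g⁻¹) = g * (d * d) * g⁻¹ := by group
      _ = 1 := by rw [h.1]; group
  · intro h0
    exact h.2.1 ((smul_eq_zero_iff_eq g).mp h0)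
  · intro v
    rcases h.2.2 (g⁻¹ • v) with h1 | h1
    · left
      rw [mul_smul, mul_smul, h1, smul_inv_smul]
    · right
      rw [mul_smul, mul_smul, h1, smul_add, smul_inv_smul]

section
variable (h2 : ∀ v : V, v + v = 0)
include h2

theorem IsTv.smul_self {d : G} {b : V} (h : IsTv d b) : d • b = b := by
  rcases h.2.2 b with h1 | h1
  · exact h1
  · exfalso
    rw [h2 b] at h1
    exact h.2.1 ((smul_eq_zero_iff_eq d).mp h1)

variable (hf : ∀ g : G, (∀ v : V, g • v = v) → g = 1)
include hf

/-- Two distinct transvections whose product has odd order: each moves the centre of the other. -/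
theorem tv_pair {d d' : G} {b b' : V} (h : IsTv d b) (h' : IsTv d' b')
    (hodd : ∃ n, Odd n ∧ (d * d') ^ n = 1) (hne : d ≠ d') : d • b' = b' + b := by
  rcases h.2.2 b' with h1 | h1
  swap
  · exact h1
  exfalso
  apply hne
  have hc : ∀ x y : V, x + (x + y) = y := fun x y => by rw [← add_assoc, h2, zero_add]
  have hb : d • b = b := h.smul_self h2
  have hb' : d' • b' = b' := h'.smul_self h2
  have hu2 : ∀ v : V, (d * d' * (d * d')) • v = v ∨ (d * d' * (d * d')) • v = v + b' := by
    intro v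
    rcases h'.2.2 v with e1 | e1 <;> rcases h.2.2 v with e2 | e2 <;>
      rcases h'.2.2 b with e3 | e3
    all_goals
      first
      | (left
         simp only [mul_smul, e1, e2, e3, smul_add, hb, hb', h1, add_assoc, add_left_comm,
           add_comm, hc, h2, add_zero, zero_add]
         done)
      | (right
         simp only [mul_smul, e1, e2, e3, smul_add, hb, hb', h1, add_assoc, add_left_comm,
           add_comm, hc, h2, add_zero, zero_add]
         done)
  have hub' : (d * d' * (d * d')) • b' = b' := by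
    simp only [mul_smul, hb', h1]
  have hu4 : (d * d') ^ 4 = 1 := by
    apply hf
    intro v
    have e : (d * d') ^ 4 = (d * d' * (d * d')) * (d * d' * (d * d')) := by
      rw [show (4 : ℕ) = 2 + 2 from rfl, pow_add, pow_two]
    rw [e, mul_smul]
    rcases hu2 v with e1 | e1
    · rw [e1, e1]
    · rw [e1, smul_add, e1, hub', add_assoc, h2, add_zero]
  obtain ⟨n, hn, hun⟩ := hodd
  have hu1 : d * d' = 1 := by
    have hcop : Nat.Coprime 4 n := by
      have := (Nat.coprime_two_left.mpr hn).pow_left 2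
      simpa using this
    have h3 := (pow_gcd_eq_one (a := d * d')).mpr ⟨hu4, hun⟩
    rwa [hcop.gcd_eq_one, pow_one] at h3
  exact mul_right_cancel (hu1.trans h'.1.symm)

/-- If `t = P * P` is a transvection and `R` is a normal subgroup of odd-order elements, then `t`
is the only transvection in the coset `t R`. -/
theorem tv_unique (R : Subgroup G) [hRn : R.Normal] (hR : ∀ x ∈ R, ∃ n, Odd n ∧ x ^ n = 1)
    (P t : G) (hPt : P * P = t) {a : V} (hta : IsTv t a)
    {d : G} {b : V} (hdb : IsTv d b) (hd : t * d ∈ R) : d = t := by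
  by_contra hne
  have hti : t⁻¹ = t := inv_eq_of_mul_eq_one_left hta.1
  have hdi : d⁻¹ = d := inv_eq_of_mul_eq_one_left hdb.1
  have hprod : ∀ {x y : G}, x * x = 1 → t * x ∈ R → t * y ∈ R → x * y ∈ R := by
    intro x y hx hxR hyR
    have hxi : x⁻¹ = x := inv_eq_of_mul_eq_one_left hx
    have : x * y = (t * x)⁻¹ * (t * y) := by
      rw [mul_inv_rev, hxi]; group
    rw [this]; exact R.mul_mem (R.inv_mem hxR) hyR
  have hpair : ∀ {x y : G} {β β' : V}, IsTv x β → IsTv y β' → t * x ∈ R → t * y ∈ R → x ≠ y →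
      x • β' = β' + β := by
    intro x y β β' hx hy hxR hyR hxy
    exact tv_pair h2 hf hx hy (hR _ (hprod hx.1 hxR hyR)) hxy
  have htR : t * t ∈ R := by rw [hta.1]; exact R.one_mem
  have h_tb : t • b = b + a := hpair hta hdb htR hd (Ne.symm hne)
  have hconj : ∀ {x y : G}, t * x ∈ R → t * y ∈ R → t * (x * y * x⁻¹) ∈ R := by
    intro x y hxR hyR
    have : t * (x * y * x⁻¹) = (t * x) * (t⁻¹ * ((t * y) * (t * x)⁻¹) * t⁻¹⁻¹) := by group
    rw [this]
    exact R.mul_mem hxR (hRn.conj_mem _ (R.mul_mem hyR (R.inv_mem hxR)) t⁻¹)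
  have he : IsTv (d * t * d⁻¹) (d • a) := hta.conj d
  have heR : t * (d * t * d⁻¹) ∈ R := hconj hd htR
  have h3 : ∀ {d' : G} {b' : V}, IsTv d' b' → t * d' ∈ R →
      d' = t ∨ d' = d ∨ d' = d * t * d⁻¹ := by
    intro d' b' hd'b' hd'R
    by_contra hcon
    push Not at hcon
    obtain ⟨n1, n2, n3⟩ := hcon
    have h_db' : d • b' = b' + b := hpair hdb hd'b' hd hd'R (Ne.symm n2)
    have h_tb' : t • b' = b' + a := hpair hta hd'b' htR hd'R (Ne.symm n1)
    have hd'' : IsTv (d * d' * d⁻¹) (d • b') := hd'b'.conj d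
    have hd''R : t * (d * d' * d⁻¹) ∈ R := hconj hd hd'R
    have hd''ne : t ≠ d * d' * d⁻¹ := by
      intro heq
      apply n3
      calc d' = d⁻¹ * (d * d' * d⁻¹) * d := by group
        _ = d⁻¹ * t * d := by rw [← heq]
        _ = d * t * d⁻¹ := by rw [hdi]
    have h4 := hpair hta hd'' htR hd''R hd''ne
    rw [h_db', smul_add, h_tb', h_tb] at h4
    apply hta.2.1
    linear_combination (norm := module) h4
  have hσR : ∀ {x : G}, t * x ∈ R → t * (P * x * P⁻¹) ∈ R := by
    intro x hx
    have : t * (P * x * P⁻¹) = P * (t * x) * P⁻¹ := by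
      rw [← hPt]; group
    rw [this]; exact hRn.conj_mem _ hx P
  have hσ : ∀ {x : G} {β : V}, IsTv x β → t * x ∈ R →
      P * x * P⁻¹ = t ∨ P * x * P⁻¹ = d ∨ P * x * P⁻¹ = d * t * d⁻¹ :=
    fun hx hxR => h3 (hx.conj P) (hσR hxR)
  have hσσ : P * (P * d * P⁻¹) * P⁻¹ = t * d * t := by
    have : P * (P * d * P⁻¹) * P⁻¹ = t * d * t⁻¹ := by rw [← hPt]; group
    rw [this, hti]
  have hsq_of : t * d * t = d → (t * d) * (t * d) = 1 := by
    intro h
    calc t * d * (t * d) = (t * d * t) * d := by group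
      _ = 1 := by rw [h, hdb.1]
  have hsq : (t * d) * (t * d) = 1 := by
    rcases hσ hdb hd with c1 | c1 | c1
    · exfalso; apply hne
      calc d = P⁻¹ * (P * d * P⁻¹) * P := by group
        _ = P⁻¹ * t * P := by rw [c1]
        _ = t := by rw [← hPt]; group
    · apply hsq_of
      rw [← hσσ, c1, c1]
    · rcases hσ he heR with c2 | c2 | c2
      · have het : d * t * d⁻¹ = t := by
          calc d * t * d⁻¹ = P⁻¹ * (P * (d * t * d⁻¹) * P⁻¹) * P := by group
            _ = P⁻¹ * t * P := by rw [c2]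
            _ = t := by rw [← hPt]; group
        calc t * d * (t * d) = t * (d * t * d) := by group
          _ = t * (d * t * d⁻¹) := by rw [hdi]
          _ = 1 := by rw [het, hta.1]
      · apply hsq_of
        rw [← hσσ, c1, c2]
      · exfalso; apply hne
        have hed : d * t * d⁻¹ = d := by
          calc d * t * d⁻¹ = P⁻¹ * (P * (d * t * d⁻¹) * P⁻¹) * P := by group
            _ = P⁻¹ * (P * d * P⁻¹) * P := by rw [c2, ← c1]
            _ = d := by group
        calc d = d⁻¹ * (d * d) := by group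
          _ = d⁻¹ * 1 := by rw [hdb.1]
          _ = d⁻¹ * (d * t * d⁻¹ * d⁻¹) := by rw [hed, hdi, hdb.1]
          _ = t * d⁻¹ * d⁻¹ := by group
          _ = t := by rw [hdi, mul_assoc, hdb.1, mul_one]
  obtain ⟨n, hn, hun⟩ := hR _ hd
  have h1 : t * d = 1 := by
    have hu2 : (t * d) ^ 2 = 1 := by rw [pow_two]; exact hsq
    have hcop : Nat.Coprime 2 n := Nat.coprime_two_left.mpr hn
    have h3 := (pow_gcd_eq_one (a := t * d)).mpr ⟨hu2, hun⟩
    rwa [hcop.gcd_eq_one, pow_one] at h3
  apply hne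
  calc d = t⁻¹ := (inv_eq_of_mul_eq_one_right h1).symm
    _ = t := hti

/-- `t` centralizes `R`. -/
theorem tv_commute (R : Subgroup G) [hRn : R.Normal] (hR : ∀ x ∈ R, ∃ n, Odd n ∧ x ^ n = 1)
    (P t : G) (hPt : P * P = t) {a : V} (hta : IsTv t a) {y : G} (hy : y ∈ R) :
    y * t = t * y := by
  have h1 : IsTv (y⁻¹ * t * y⁻¹⁻¹) (y⁻¹ • a) := hta.conj y⁻¹
  have h2' : t * (y⁻¹ * t * y⁻¹⁻¹) ∈ R := by
    have hti : t⁻¹ = t := inv_eq_of_mul_eq_one_left hta.1
    have : t * (y⁻¹ * t * y⁻¹⁻¹) = (t * y⁻¹ * t⁻¹) * y := by rw [hti]; group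
    rw [this]
    exact R.mul_mem (hRn.conj_mem _ (R.inv_mem hy) t) hy
  have h3 := tv_unique h2 hf R hR P t hPt hta h1 h2'
  calc y * t = y * (y⁻¹ * t * y⁻¹⁻¹) := by rw [h3]
    _ = t * y := by group

end

end Cfsg.Agent.Lib.Helper22.Transv
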