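import Mathlib
import Cfsg.Prelude.Def_Solvable
import Cfsg.Agent.Lib.Helper13.BenderA
import Cfsg.Agent.Lib.Helper22.Transv

/-!
# No square is an `F₂`-transvection in a solvable group with `O₂ = 1`
-/

set_option autoImplicit false

namespace Cfsg.Agent.Lib.Helper22.TransvSolv

open Cfsg Cfsg.Agent.Lib.Helper20 Cfsg.Agent.Lib.Helper22.Transv

variable {G V : Type*} [Group G] [Finite G] [AddCommGroup V] [DistribMulAction G V]

/-- In a finite solvable group with `O₂ = 1` acting faithfully on an elementary abelian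
2-group, a square `P * P` which acts as a transvection is trivial. -/
theorem no_square_tv [hs : Group.IsSolvable G] (h2 : ∀ v : V, v + v = 0)
    (hf : ∀ g : G, (∀ v : V, g • v = v) → g = 1) (hO2 : Cfsg.pCore 2 G = ⊥)
    (P : G) {a : V} (hta : IsTv (P * P) a) : P * P = 1 := by
  obtain ⟨t, ht⟩ : ∃ t, t = P * P := ⟨_, rfl⟩
  rw [← ht] at hta ⊢
  -- t centralizes every pCore
  have hcent : ∀ p : Nat.Primes, Cfsg.pCore (p : ℕ) G ≤ Subgroup.centralizer {t} := by
    intro p
    by_cases hp2 : (p : ℕ) = 2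
    · rw [hp2, hO2]; exact bot_le
    · haveI : (Cfsg.pCore (p : ℕ) G).Normal := Subgroup.sSup_normal _ (fun _ hH => hH.1)
      have hodd : Odd (p : ℕ) := p.2.odd_of_ne_two hp2
      have hR : ∀ x ∈ Cfsg.pCore (p : ℕ) G, ∃ n, Odd n ∧ x ^ n = 1 := by
        intro x hx
        obtain ⟨k, hk⟩ := (pCore_isPGroup' (G := G) (p : ℕ)) ⟨x, hx⟩
        refine ⟨(p : ℕ) ^ k, hodd.pow, ?_⟩
        have := congrArg Subtype.val hk
        simpa using this
      intro y hy
      rw [Subgroup.mem_centralizer_iff]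
      intro z hz
      rw [Set.mem_singleton_iff] at hz
      rw [hz]
      exact (tv_commute h2 hf _ hR P t ht.symm hta hy).symm
  have hF : Cfsg.fittingSubgroup G ≤ Subgroup.centralizer {t} := by
    rw [fittingSubgroup_eq_iSup_pCore']
    exact iSup_le hcent
  have hFt : ∀ y ∈ Cfsg.fittingSubgroup G, t * y = y * t := by
    intro y hy
    have := hF hy
    rw [Subgroup.mem_centralizer_iff] at this
    exact this t rfl
  have htC : t ∈ Subgroup.centralizer (Cfsg.fittingSubgroup G : Set G) := by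
    rw [Subgroup.mem_centralizer_iff]
    intro x hx
    exact (hFt x hx).symm
  have htF : t ∈ Cfsg.fittingSubgroup G := Helper13.BenderA.centralizer_fitting_le htC
  obtain ⟨F, hFdef⟩ : ∃ F, F = Cfsg.fittingSubgroup G := ⟨_, rfl⟩
  rw [← hFdef] at htF hFt
  haveI hFn : F.Normal := by rw [hFdef]; exact fittingSubgroup_normal'
  let N : Subgroup G :=
    { carrier := {x | x ∈ F ∧ (∀ y ∈ F, x * y = y * x) ∧ x * x = 1}
      one_mem' := ⟨F.one_mem, fun y _ => by simp, by simp⟩
      mul_mem' := by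
        rintro x x' ⟨hx1, hx2, hx3⟩ ⟨hx1', hx2', hx3'⟩
        refine ⟨F.mul_mem hx1 hx1', ?_, ?_⟩
        · intro y hy
          rw [mul_assoc, hx2' y hy, ← mul_assoc, hx2 y hy, mul_assoc]
        · calc x * x' * (x * x') = x * (x' * x) * x' := by group
            _ = x * (x * x') * x' := by rw [hx2' x hx1]
            _ = (x * x) * (x' * x') := by group
            _ = 1 := by rw [hx3, hx3', one_mul]
      inv_mem' := by
        rintro x ⟨hx1, hx2, hx3⟩
        have hxi : x⁻¹ = x := inv_eq_of_mul_eq_one_left hx3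
        show x⁻¹ ∈ F ∧ (∀ y ∈ F, x⁻¹ * y = y * x⁻¹) ∧ x⁻¹ * x⁻¹ = 1
        rw [hxi]
        exact ⟨hx1, hx2, hx3⟩ }
  have hNn : N.Normal := by
    constructor
    rintro x ⟨hx1, hx2, hx3⟩ g
    refine ⟨hFn.conj_mem x hx1 g, ?_, ?_⟩
    · intro y hy
      have hy' : g⁻¹ * y * g⁻¹⁻¹ ∈ F := hFn.conj_mem y hy g⁻¹
      have := hx2 _ hy'
      calc g * x * g⁻¹ * y = g * (x * (g⁻¹ * y * g⁻¹⁻¹)) * g⁻¹ := by group
        _ = g * ((g⁻¹ * y * g⁻¹⁻¹) * x) * g⁻¹ := by rw [this]
        _ = y * (g * x * g⁻¹) := by group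
    · calc g * x * g⁻¹ * (g * x * g⁻¹) = g * (x * x) * g⁻¹ := by group
        _ = 1 := by rw [hx3]; group
  have hNp : IsPGroup 2 N := by
    rintro ⟨x, hx⟩
    refine ⟨1, ?_⟩
    apply Subtype.ext
    have h3 : x * x = 1 := hx.2.2
    simp [pow_two, h3]
  have hNle : N ≤ Cfsg.pCore 2 G := le_pCore' hNn hNp
  rw [hO2] at hNle
  have htN : t ∈ N := ⟨htF, hFt, hta.1⟩
  exact Subgroup.mem_bot.mp (hNle htN)

end Cfsg.Agent.Lib.Helper22.TransvSolv
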