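import Mathlib

/-! Subgroups of `GL₂(ℤ/2ᵏ)` isomorphic to `A₄` are conjugate. -/

set_option autoImplicit false

namespace Cfsg.Agent.Lib.Helper22.A4GL2

open Matrix Equiv

section A4

/-- a three-cycle -/
def τ : alternatingGroup (Fin 4) :=
  ⟨swap 0 1 * swap 1 2, by rw [Equiv.Perm.mem_alternatingGroup]; decide⟩
/-- a double transposition -/
def α : alternatingGroup (Fin 4) :=
  ⟨swap 0 1 * swap 2 3, by rw [Equiv.Perm.mem_alternatingGroup]; decide⟩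

theorem τ_pow : τ ^ 3 = 1 := by decide
theorem τ_ne : τ ≠ 1 := by decide
theorem α_sq : α * α = 1 := by decide
theorem α_ne : α ≠ 1 := by decide
theorem α_rel : α * (τ * α * τ⁻¹) = τ * (τ * α * τ⁻¹) * τ⁻¹ := by decide
theorem a4_gen : ∀ σ : alternatingGroup (Fin 4), ∃ i j : Fin 3, ∃ ε : Fin 2,
    σ = τ ^ (i : ℕ) * (τ ^ (j : ℕ) * α ^ (ε : ℕ) * (τ⁻¹) ^ (j : ℕ)) := by decide

end A4

section zmod

variable {k : ℕ}

instance neZeroPow : NeZero (2 ^ k) := ⟨by positivity⟩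

/-- the element `2^(k-1)` -/
def hh (k : ℕ) : ZMod (2 ^ k) := ((2 ^ (k - 1) : ℕ) : ZMod (2 ^ k))

theorem two_mul_eq_zero (hk : 1 ≤ k) (n : ZMod (2 ^ k)) (h2 : 2 * n = 0) :
    n = 0 ∨ n = hh k := by
  unfold hh
  have hn : ((n.val : ℕ) : ZMod (2 ^ k)) = n := ZMod.natCast_zmod_val n
  have h3 : ((2 * n.val : ℕ) : ZMod (2 ^ k)) = 0 := by
    rw [Nat.cast_mul, hn]; exact_mod_cast h2
  rw [ZMod.natCast_eq_zero_iff] at h3
  have hpow : 2 ^ k = 2 * 2 ^ (k - 1) := by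
    rw [← pow_succ']; congr 1; omega
  have h3' : 2 * 2 ^ (k - 1) ∣ 2 * n.val := by rw [← hpow]; exact h3
  have h4 : 2 ^ (k - 1) ∣ n.val := Nat.dvd_of_mul_dvd_mul_left (by norm_num) h3'
  obtain ⟨j, hj⟩ := h4
  have hlt : n.val < 2 * 2 ^ (k - 1) := by rw [← hpow]; exact ZMod.val_lt n
  rw [hj] at hlt
  have hpos : 0 < 2 ^ (k - 1) := by positivity
  have hj2 : j < 2 := by
    by_contra hcon
    have hcon' : 2 ≤ j := by omega
    have : 2 ^ (k - 1) * 2 ≤ 2 ^ (k - 1) * j := Nat.mul_le_mul_left _ hcon'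
    omega
  interval_cases j
  · left
    rw [← hn, hj]; simp
  · right
    rw [← hn, hj]; simp

theorem hh_mul_hh (hk : 2 ≤ k) : hh k * hh k = 0 := by
  unfold hh
  rw [← Nat.cast_mul, ZMod.natCast_eq_zero_iff, ← pow_add]
  exact pow_dvd_pow 2 (by omega)

theorem two_mul_hh (hk : 1 ≤ k) : 2 * hh k = 0 := by
  unfold hh
  have : (2 : ZMod (2 ^ k)) = ((2 : ℕ) : ZMod (2 ^ k)) := by norm_num
  rw [this, ← Nat.cast_mul, ZMod.natCast_eq_zero_iff, ← pow_succ']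
  exact pow_dvd_pow 2 (by omega)

theorem hh_add_hh (hk : 1 ≤ k) : hh k + hh k = 0 := by
  rw [← two_mul]; exact two_mul_hh hk

theorem neg_hh (hk : 1 ≤ k) : - hh k = hh k := by
  have := hh_add_hh hk
  exact neg_eq_of_add_eq_zero_left this

theorem hh_ne_zero (hk : 1 ≤ k) : hh k ≠ 0 := by
  unfold hh
  rw [Ne, ZMod.natCast_eq_zero_iff]
  intro h
  have := Nat.le_of_dvd (by positivity) h
  have : 2 ^ (k - 1) < 2 ^ k := Nat.pow_lt_pow_right (by norm_num) (by omega)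
  omega

theorem mul_eq_zero_of_two_torsion (hk : 2 ≤ k) (a b : ZMod (2 ^ k)) (ha : 2 * a = 0)
    (hb : 2 * b = 0) : a * b = 0 := by
  rcases two_mul_eq_zero (by omega) a ha with rfl | rfl
  · simp
  · rcases two_mul_eq_zero (by omega) b hb with rfl | rfl
    · simp
    · exact hh_mul_hh hk

/-- reduction mod 2 -/
noncomputable def red (hk : 1 ≤ k) : ZMod (2 ^ k) →+* ZMod 2 :=
  ZMod.castHom (dvd_pow_self 2 (by omega)) (ZMod 2)

theorem red_eq_zero (hk : 1 ≤ k) (x : ZMod (2 ^ k)) (hx : red hk x = 0) : ∃ y, x = 2 * y := by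
  have hn : ((x.val : ℕ) : ZMod (2 ^ k)) = x := ZMod.natCast_zmod_val x
  have : red hk ((x.val : ℕ) : ZMod (2 ^ k)) = 0 := by rw [hn]; exact hx
  rw [map_natCast, ZMod.natCast_eq_zero_iff] at this
  obtain ⟨j, hj⟩ := this
  refine ⟨(j : ZMod (2 ^ k)), ?_⟩
  rw [← hn, hj]; push_cast; ring

theorem isUnit_of_red (hk : 1 ≤ k) (x : ZMod (2 ^ k)) (hx : red hk x = 1) : IsUnit x := by
  have hn : ((x.val : ℕ) : ZMod (2 ^ k)) = x := ZMod.natCast_zmod_val x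
  rw [← hn, ZMod.isUnit_iff_coprime]
  apply Nat.Coprime.pow_right
  rw [Nat.coprime_two_right, ← Nat.not_even_iff_odd]
  intro he
  have : red hk ((x.val : ℕ) : ZMod (2 ^ k)) = 1 := by rw [hn]; exact hx
  rw [map_natCast] at this
  have h0 : ((x.val : ℕ) : ZMod 2) = 0 := by
    rw [ZMod.natCast_eq_zero_iff]; exact even_iff_two_dvd.mp he
  rw [h0] at this
  exact absurd this (by decide)

end zmod

section mat

variable {R : Type*} [CommRing R]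

/-- the companion matrix of `x² + x + 1` -/
def T : Matrix (Fin 2) (Fin 2) R := !![0, -1; 1, -1]
/-- its inverse -/
def T' : Matrix (Fin 2) (Fin 2) R := !![-1, 1; -1, 0]

theorem T_mul_T' : (T : Matrix (Fin 2) (Fin 2) R) * T' = 1 := by
  unfold T T'
  rw [Matrix.mul_fin_two, Matrix.one_fin_two]
  congr! 3 <;> simp

theorem T'_mul_T : (T' : Matrix (Fin 2) (Fin 2) R) * T = 1 := by
  unfold T T'
  rw [Matrix.mul_fin_two, Matrix.one_fin_two]
  congr! 3 <;> simp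

theorem T_mul_T : (T : Matrix (Fin 2) (Fin 2) R) * T = T' := by
  unfold T T'
  rw [Matrix.mul_fin_two]
  congr! 3 <;> simp

theorem cayley_two (X : Matrix (Fin 2) (Fin 2) R) :
    X * X = (X.trace) • X - (X.det) • (1 : Matrix (Fin 2) (Fin 2) R) := by
  ext i j
  fin_cases i <;> fin_cases j <;>
    simp [Matrix.mul_apply, Fin.sum_univ_two, Matrix.trace_fin_two, Matrix.det_fin_two] <;> ring

/-- the matrix `f x z` -/
def f (x z : R) : Matrix (Fin 2) (Fin 2) R := !![x, x + z; z, x]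

theorem conj_general (x y z w : R) :
    (T : Matrix (Fin 2) (Fin 2) R) * !![x, y; z, w] * T' =
      !![z + w, -z; z + w - x - y, x - z] := by
  unfold T T'
  rw [Matrix.mul_fin_two, Matrix.mul_fin_two]
  congr! 3 <;> ring

theorem rel_entries (p q r s : R)
    (h : !![p, q; r, s] * ((T : Matrix (Fin 2) (Fin 2) R) * !![p, q; r, s] * T') =
      T * (T * !![p, q; r, s] * T') * T') :
    p * (r + s) + q * (r + s - p - q) = s - q ∧ p * (-r) + q * (p - r) = p + q - r - s := by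
  rw [conj_general, conj_general, Matrix.mul_fin_two] at h
  have h00 := congrFun (congrFun h 0) 0
  have h01 := congrFun (congrFun h 0) 1
  simp at h00 h01
  constructor
  · linear_combination h00
  · linear_combination h01

theorem add_self_of_rel (A : Matrix (Fin 2) (Fin 2) R) (hA : A * A = 1)
    (hrel : A * (T * A * T') = T * (T * A * T') * T') : A + A = 1 + 1 := by
  have hTT' : (T : Matrix (Fin 2) (Fin 2) R) * T' = 1 := T_mul_T'
  have hT'T : (T' : Matrix (Fin 2) (Fin 2) R) * T = 1 := T'_mul_T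
  have hdT : (T : Matrix (Fin 2) (Fin 2) R).det * (T' : Matrix (Fin 2) (Fin 2) R).det = 1 := by
    rw [← Matrix.det_mul, hTT', Matrix.det_one]
  have conj_det : ∀ X : Matrix (Fin 2) (Fin 2) R, (T * X * T').det = X.det := by
    intro X
    rw [Matrix.det_mul, Matrix.det_mul]
    linear_combination X.det * hdT
  have conj_tr : ∀ X : Matrix (Fin 2) (Fin 2) R, (T * X * T').trace = X.trace := by
    intro X
    rw [Matrix.trace_mul_comm, ← Matrix.mul_assoc, hT'T, Matrix.one_mul]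
  have conj_sq : ∀ X : Matrix (Fin 2) (Fin 2) R, X * X = 1 → (T * X * T') * (T * X * T') = 1 := by
    intro X hX
    calc (T * X * T') * (T * X * T') = T * X * (T' * T) * X * T' := by
          simp only [Matrix.mul_assoc]
      _ = T * (X * X) * T' := by rw [hT'T, Matrix.mul_one]; simp only [Matrix.mul_assoc]
      _ = 1 := by rw [hX, Matrix.mul_one, hTT']
  set B := T * A * T' with hB
  set C := T * B * T' with hC
  have hdB : B.det = A.det := conj_det A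
  have hdC : C.det = A.det := by rw [hC, conj_det, hdB]
  have hd1 : A.det * A.det = 1 := by rw [← Matrix.det_mul, hA, Matrix.det_one]
  have hd2 : A.det * A.det = A.det := by
    have := congrArg Matrix.det hrel
    rw [Matrix.det_mul, hdB, hdC] at this
    exact this
  have hd : A.det = 1 := by rw [← hd2, hd1]
  have htB : B.trace = A.trace := conj_tr A
  have htC : C.trace = A.trace := by rw [hC, conj_tr, htB]
  have hBB : B * B = 1 := conj_sq A hA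
  have hCC : C * C = 1 := conj_sq B hBB
  have key : ∀ X : Matrix (Fin 2) (Fin 2) R, X * X = 1 → X.det = 1 → X.trace • X = 1 + 1 := by
    intro X hX hdX
    have := cayley_two X
    rw [hX, hdX, one_smul] at this
    exact (eq_sub_iff_add_eq.mp this).symm
  have kA := key A hA hd
  have kC := key C hCC (by rw [hdC, hd])
  rw [htC, ← hrel, ← Matrix.smul_mul, kA] at kC
  have hBB2 : B + B = 1 + 1 := by
    rw [← kC]; simp [Matrix.add_mul]
  have hAeq : A = T' * B * T := by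
    rw [hB]
    calc A = (T' * T) * A * (T' * T) := by rw [hT'T, Matrix.one_mul, Matrix.mul_one]
      _ = T' * (T * A * T') * T := by simp only [Matrix.mul_assoc]
  calc A + A = T' * (B + B) * T := by
        rw [Matrix.mul_add, Matrix.add_mul, ← hAeq]
    _ = 1 + 1 := by
        rw [hBB2, Matrix.mul_add, Matrix.add_mul, Matrix.mul_one, hT'T]

end mat

section main

variable {k : ℕ}

theorem form_of_rel (hk : 2 ≤ k) (A : Matrix (Fin 2) (Fin 2) (ZMod (2 ^ k))) (hA : A * A = 1)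
    (hrel : A * (T * A * T') = T * (T * A * T') * T') :
    ∃ x z : ZMod (2 ^ k), 2 * x = 0 ∧ 2 * z = 0 ∧ A = 1 + f x z := by
  have h2 := add_self_of_rel A hA hrel
  obtain ⟨x, hx⟩ : ∃ x, x = A 0 0 - 1 := ⟨_, rfl⟩
  obtain ⟨y, hy⟩ : ∃ y, y = A 0 1 := ⟨_, rfl⟩
  obtain ⟨z, hz⟩ : ∃ z, z = A 1 0 := ⟨_, rfl⟩
  obtain ⟨w, hw⟩ : ∃ w, w = A 1 1 - 1 := ⟨_, rfl⟩
  have tx : 2 * x = 0 := by
    have := congrFun (congrFun h2 0) 0
    simp only [Matrix.add_apply, Matrix.one_apply_eq] at this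
    rw [hx]; linear_combination this
  have ty : 2 * y = 0 := by
    have := congrFun (congrFun h2 0) 1
    simp only [Matrix.add_apply] at this
    rw [Matrix.one_apply_ne (by decide)] at this
    rw [hy]; linear_combination this
  have tz : 2 * z = 0 := by
    have := congrFun (congrFun h2 1) 0
    simp only [Matrix.add_apply] at this
    rw [Matrix.one_apply_ne (by decide)] at this
    rw [hz]; linear_combination this
  have tw : 2 * w = 0 := by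
    have := congrFun (congrFun h2 1) 1
    simp only [Matrix.add_apply, Matrix.one_apply_eq] at this
    rw [hw]; linear_combination this
  have hAeq : A = !![1 + x, y; z, 1 + w] := by
    ext i j
    fin_cases i <;> fin_cases j <;> simp [hx, hy, hz, hw]
  rw [hAeq] at hrel
  obtain ⟨e1, e2⟩ := rel_entries (1 + x) y z (1 + w) hrel
  have hxz := mul_eq_zero_of_two_torsion hk x z tx tz
  have hxw := mul_eq_zero_of_two_torsion hk x w tx tw
  have hxy := mul_eq_zero_of_two_torsion hk x y tx ty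
  have hyz := mul_eq_zero_of_two_torsion hk y z ty tz
  have hyw := mul_eq_zero_of_two_torsion hk y w ty tw
  have hyy := mul_eq_zero_of_two_torsion hk y y ty ty
  have hwx : w = x := by linear_combination e2 + hxz - hxy + hyz
  have hyxz : y = x + z := by
    linear_combination e1 - hxz - hxw - hyz - hyw + hxy + hyy - tx - tz
  refine ⟨x, z, tx, tz, ?_⟩
  rw [hAeq, hwx, hyxz]
  ext i j
  fin_cases i <;> fin_cases j <;> simp [f]

theorem decide2 : ∀ m : Matrix (Fin 2) (Fin 2) (ZMod 2), m * m * m = 1 → m ≠ 1 →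
    m 1 0 = 1 ∧ (m 0 0 - 1) * (m 1 1 - 1) - m 0 1 * m 1 0 = 1 := by decide

theorem pow_two_pow (M₀ : Matrix (Fin 2) (Fin 2) (ZMod (2 ^ k))) (j : ℕ) :
    ∃ M' : Matrix (Fin 2) (Fin 2) (ZMod (2 ^ k)),
      (1 + (2 : ZMod (2 ^ k)) • M₀) ^ (2 ^ j) = 1 + ((2 : ZMod (2 ^ k)) ^ (j + 1)) • M' := by
  induction j with
  | zero => exact ⟨M₀, by simp⟩
  | succ j ih =>
    obtain ⟨M', hM'⟩ := ih
    refine ⟨M' + ((2 : ZMod (2 ^ k)) ^ j) • (M' * M'), ?_⟩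
    rw [pow_succ, pow_mul, hM', pow_two]
    rw [Matrix.mul_add, Matrix.add_mul, Matrix.add_mul, Matrix.one_mul, Matrix.mul_one,
      Matrix.one_mul, Matrix.smul_mul, Matrix.mul_smul, smul_smul, smul_add, smul_smul]
    have e1 : (2 : ZMod (2 ^ k)) ^ (j + 1 + 1) = 2 ^ (j + 1) + 2 ^ (j + 1) := by ring
    have e2 : (2 : ZMod (2 ^ k)) ^ (j + 1 + 1) * 2 ^ j = 2 ^ (j + 1) * 2 ^ (j + 1) := by ring
    rw [e2, e1, add_smul]
    abel

theorem eq_one_of_red (hk : 1 ≤ k) (t : Matrix (Fin 2) (Fin 2) (ZMod (2 ^ k)))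
    (h3 : t * t * t = 1) (hred : (red hk).mapMatrix t = 1) : t = 1 := by
  -- `t = 1 + 2 M`
  have hent : ∀ i j, ∃ y, t i j - (1 : Matrix (Fin 2) (Fin 2) (ZMod (2 ^ k))) i j = 2 * y := by
    intro i j
    apply red_eq_zero hk
    have := congrFun (congrFun hred i) j
    rw [RingHom.mapMatrix_apply, Matrix.map_apply] at this
    rw [map_sub, this]
    by_cases hij : i = j
    · subst hij; simp
    · simp [Matrix.one_apply_ne hij]
  choose M₀ hM₀ using hent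
  have ht : t = 1 + (2 : ZMod (2 ^ k)) • (Matrix.of M₀) := by
    ext i j
    rw [Matrix.add_apply, Matrix.smul_apply, Matrix.of_apply, smul_eq_mul, ← hM₀]
    ring
  obtain ⟨M', hM'⟩ := pow_two_pow (Matrix.of M₀) (k - 1)
  rw [← ht] at hM'
  have hzero : (2 : ZMod (2 ^ k)) ^ (k - 1 + 1) = 0 := by
    have : k - 1 + 1 = k := by omega
    rw [this]
    have : ((2 ^ k : ℕ) : ZMod (2 ^ k)) = 0 := ZMod.natCast_self _
    rw [← this]; push_cast; rfl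
  rw [hzero, zero_smul, add_zero] at hM'
  have h3' : t ^ 3 = 1 := by rw [pow_succ, pow_two]; exact h3
  have d1 : orderOf t ∣ 2 ^ (k - 1) := orderOf_dvd_of_pow_eq_one hM'
  have d2 : orderOf t ∣ 3 := orderOf_dvd_of_pow_eq_one h3'
  have hcop : Nat.Coprime (2 ^ (k - 1)) 3 := Nat.Coprime.pow_left _ (by norm_num)
  have : orderOf t ∣ 1 := by
    have := Nat.dvd_gcd d1 d2
    rwa [hcop] at this
  exact orderOf_eq_one_iff.mp (Nat.dvd_one.mp this)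

theorem exists_conj (hk : 1 ≤ k) (t : Matrix (Fin 2) (Fin 2) (ZMod (2 ^ k)))
    (h3 : t * t * t = 1) (h1 : t ≠ 1) :
    ∃ g : Matrix (Fin 2) (Fin 2) (ZMod (2 ^ k)), IsUnit g.det ∧ t * g = g * T := by
  have hbar3 : (red hk).mapMatrix t * (red hk).mapMatrix t * (red hk).mapMatrix t = 1 := by
    rw [← map_mul, ← map_mul, h3, map_one]
  have hbar1 : (red hk).mapMatrix t ≠ 1 := fun h => h1 (eq_one_of_red hk t h3 h)
  obtain ⟨hd1, hd2⟩ := decide2 _ hbar3 hbar1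
  simp only [RingHom.mapMatrix_apply, Matrix.map_apply] at hd1 hd2
  have hu10 : IsUnit (t 1 0) := isUnit_of_red hk _ hd1
  have hudet : IsUnit (t - 1).det := by
    apply isUnit_of_red hk
    rw [Matrix.det_fin_two]
    simp only [Matrix.sub_apply, Matrix.one_apply_eq, map_sub, map_mul, map_one]
    rw [Matrix.one_apply_ne (by decide : (0 : Fin 2) ≠ 1),
      Matrix.one_apply_ne (by decide : (1 : Fin 2) ≠ 0)]
    simpa using hd2
  have hunit : IsUnit (t - 1) := (Matrix.isUnit_iff_isUnit_det _).mpr hudet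
  have hP : t * t + t + 1 = 0 := by
    have : (t - 1) * (t * t + t + 1) = 0 := by
      have : (t - 1) * (t * t + t + 1) = t * t * t - 1 := by noncomm_ring
      rw [this, h3, sub_self]
    exact (hunit.mul_right_eq_zero).mp this
  obtain ⟨a, ha⟩ : ∃ a, a = t 0 0 := ⟨_, rfl⟩
  obtain ⟨b, hb⟩ : ∃ b, b = t 0 1 := ⟨_, rfl⟩
  obtain ⟨c, hc⟩ : ∃ c, c = t 1 0 := ⟨_, rfl⟩
  obtain ⟨d, hd⟩ : ∃ d, d = t 1 1 := ⟨_, rfl⟩
  have ht : t = !![a, b; c, d] := by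
    rw [ha, hb, hc, hd]; exact Matrix.eta_fin_two t
  have hP00 : a * a + b * c + a + 1 = 0 := by
    have := congrFun (congrFun hP 0) 0
    rw [ht] at this
    simpa [Matrix.mul_apply, Fin.sum_univ_two] using this
  have hP10 : c * a + d * c + c = 0 := by
    have := congrFun (congrFun hP 1) 0
    rw [ht] at this
    simpa [Matrix.mul_apply, Fin.sum_univ_two] using this
  refine ⟨!![1, a; 0, c], ?_, ?_⟩
  · rw [Matrix.det_fin_two_of]
    simpa [hc] using hu10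
  · rw [ht]
    unfold T
    ext i j
    fin_cases i <;> fin_cases j
    · simp [Matrix.mul_apply, Fin.sum_univ_two]
    · simp only [Matrix.mul_apply, Fin.sum_univ_two]
      simp
      linear_combination hP00
    · simp [Matrix.mul_apply, Fin.sum_univ_two]
    · simp only [Matrix.mul_apply, Fin.sum_univ_two]
      simp
      linear_combination hP10

end main

section grp

variable {G : Type*} [Group G]

/-- generators and relations witnessing `H ≅ A₄` -/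
structure A4Data (H : Subgroup G) (t a : G) : Prop where
  t_mem : t ∈ H
  a_mem : a ∈ H
  t3 : t ^ 3 = 1
  t1 : t ≠ 1
  a2 : a * a = 1
  a1 : a ≠ 1
  rel : a * (t * a * t⁻¹) = t * (t * a * t⁻¹) * t⁻¹
  gen : ∀ x ∈ H, ∃ i j ε : ℕ, x = t ^ i * (t ^ j * a ^ ε * (t⁻¹) ^ j)

theorem exists_a4Data (H : Subgroup G) (e : H ≃* alternatingGroup (Fin 4)) :
    ∃ t a : G, A4Data H t a := by
  refine ⟨(e.symm τ : G), (e.symm α : G), ?_⟩
  have inj : Function.Injective (fun x : alternatingGroup (Fin 4) => ((e.symm x : H) : G)) :=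
    Subtype.val_injective.comp e.symm.injective
  refine ⟨(e.symm τ).2, (e.symm α).2, ?_, ?_, ?_, ?_, ?_, ?_⟩
  · have := congrArg (fun x : alternatingGroup (Fin 4) => ((e.symm x : H) : G)) τ_pow
    simpa using this
  · intro h
    apply τ_ne
    apply inj
    simpa using h
  · have := congrArg (fun x : alternatingGroup (Fin 4) => ((e.symm x : H) : G)) α_sq
    simpa using this
  · intro h
    apply α_ne
    apply inj
    simpa using h
  · have := congrArg (fun x : alternatingGroup (Fin 4) => ((e.symm x : H) : G)) α_rel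
    simpa using this
  · intro x hx
    obtain ⟨i, j, ε, h⟩ := a4_gen (e ⟨x, hx⟩)
    refine ⟨i, j, ε, ?_⟩
    have := congrArg (fun x : alternatingGroup (Fin 4) => ((e.symm x : H) : G)) h
    simpa using this

theorem map_conj_eq {H₁ H₂ : Subgroup G} {t₁ a₁ t₂ a₂ : G} (d₁ : A4Data H₁ t₁ a₁)
    (d₂ : A4Data H₂ t₂ a₂) (g : G) (ht : g * t₁ * g⁻¹ = t₂) (ha : g * a₁ * g⁻¹ = a₂) :
    H₂ = H₁.map (MulAut.conj g).toMonoidHom := by
  have hφt : (MulAut.conj g).toMonoidHom t₁ = t₂ := by simpa using ht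
  have hφa : (MulAut.conj g).toMonoidHom a₁ = a₂ := by simpa using ha
  have word : ∀ i j ε : ℕ, (MulAut.conj g).toMonoidHom (t₁ ^ i * (t₁ ^ j * a₁ ^ ε * (t₁⁻¹) ^ j)) =
      t₂ ^ i * (t₂ ^ j * a₂ ^ ε * (t₂⁻¹) ^ j) := by
    intro i j ε
    rw [map_mul, map_mul, map_mul, map_pow, map_pow, map_pow, map_pow, map_inv, hφt, hφa]
  have mem₁ : ∀ i j ε : ℕ, t₁ ^ i * (t₁ ^ j * a₁ ^ ε * (t₁⁻¹) ^ j) ∈ H₁ := fun i j ε =>
    H₁.mul_mem (H₁.pow_mem d₁.t_mem i) (H₁.mul_mem (H₁.mul_mem (H₁.pow_mem d₁.t_mem j)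
      (H₁.pow_mem d₁.a_mem ε)) (H₁.pow_mem (H₁.inv_mem d₁.t_mem) j))
  have mem₂ : ∀ i j ε : ℕ, t₂ ^ i * (t₂ ^ j * a₂ ^ ε * (t₂⁻¹) ^ j) ∈ H₂ := fun i j ε =>
    H₂.mul_mem (H₂.pow_mem d₂.t_mem i) (H₂.mul_mem (H₂.mul_mem (H₂.pow_mem d₂.t_mem j)
      (H₂.pow_mem d₂.a_mem ε)) (H₂.pow_mem (H₂.inv_mem d₂.t_mem) j))
  ext x
  constructor
  · intro hx
    obtain ⟨i, j, ε, rfl⟩ := d₂.gen x hx
    exact ⟨_, mem₁ i j ε, word i j ε⟩
  · rintro ⟨y, hy, rfl⟩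
    obtain ⟨i, j, ε, rfl⟩ := d₁.gen y hy
    rw [word]
    exact mem₂ i j ε

end grp

section gl

variable {k : ℕ}

/-- the standard element of order three -/
def t₀ (k : ℕ) : GL (Fin 2) (ZMod (2 ^ k)) := ⟨T, T', T_mul_T', T'_mul_T⟩

theorem f_zero : f (0 : ZMod (2 ^ k)) 0 = 0 := by
  ext i j
  fin_cases i <;> fin_cases j <;> simp [f]

theorem conjT_f (x z : ZMod (2 ^ k)) (tx : 2 * x = 0) (tz : 2 * z = 0) :
    T * (1 + f x z) * T' = 1 + f (x + z) x := by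
  rw [Matrix.mul_add, Matrix.add_mul, Matrix.mul_one, T_mul_T']
  unfold f
  rw [conj_general]
  congr 1
  ext i j
  fin_cases i <;> fin_cases j
  · simp; ring
  · simp; linear_combination -tx - tz
  · simp; linear_combination -tx
  · simp; linear_combination -tz

theorem step (a' : GL (Fin 2) (ZMod (2 ^ k))) (x z : ZMod (2 ^ k)) (tx : 2 * x = 0)
    (tz : 2 * z = 0)
    (h : (a' : Matrix (Fin 2) (Fin 2) (ZMod (2 ^ k))) = 1 + f x z) :
    ((t₀ k * a' * (t₀ k)⁻¹ : GL (Fin 2) (ZMod (2 ^ k))) : Matrix (Fin 2) (Fin 2) (ZMod (2 ^ k)))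
      = 1 + f (x + z) x := by
  show T * (a' : Matrix (Fin 2) (Fin 2) (ZMod (2 ^ k))) * T' = _
  rw [h, conjT_f x z tx tz]

theorem try0 (a₁ a₂ : GL (Fin 2) (ZMod (2 ^ k))) (x₁ z₁ x₂ z₂ : ZMod (2 ^ k))
    (h₁ : (a₁ : Matrix (Fin 2) (Fin 2) (ZMod (2 ^ k))) = 1 + f x₁ z₁)
    (h₂ : (a₂ : Matrix (Fin 2) (Fin 2) (ZMod (2 ^ k))) = 1 + f x₂ z₂)
    (ex : x₁ = x₂) (ez : z₁ = z₂) :
    ∃ s : GL (Fin 2) (ZMod (2 ^ k)), s * t₀ k * s⁻¹ = t₀ k ∧ s * a₁ * s⁻¹ = a₂ := by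
  refine ⟨1, by group, ?_⟩
  apply Units.ext
  rw [h₂, ← ex, ← ez, ← h₁]
  simp

theorem try1 (a₁ a₂ : GL (Fin 2) (ZMod (2 ^ k))) (x₁ z₁ x₂ z₂ : ZMod (2 ^ k))
    (tx : 2 * x₁ = 0) (tz : 2 * z₁ = 0)
    (h₁ : (a₁ : Matrix (Fin 2) (Fin 2) (ZMod (2 ^ k))) = 1 + f x₁ z₁)
    (h₂ : (a₂ : Matrix (Fin 2) (Fin 2) (ZMod (2 ^ k))) = 1 + f x₂ z₂)
    (ex : x₁ + z₁ = x₂) (ez : x₁ = z₂) :
    ∃ s : GL (Fin 2) (ZMod (2 ^ k)), s * t₀ k * s⁻¹ = t₀ k ∧ s * a₁ * s⁻¹ = a₂ := by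
  refine ⟨t₀ k, by group, ?_⟩
  apply Units.ext
  rw [h₂, ← ex, ← ez]
  exact step a₁ x₁ z₁ tx tz h₁

theorem try2 (a₁ a₂ : GL (Fin 2) (ZMod (2 ^ k))) (x₁ z₁ x₂ z₂ : ZMod (2 ^ k))
    (tx : 2 * x₁ = 0) (tz : 2 * z₁ = 0)
    (h₁ : (a₁ : Matrix (Fin 2) (Fin 2) (ZMod (2 ^ k))) = 1 + f x₁ z₁)
    (h₂ : (a₂ : Matrix (Fin 2) (Fin 2) (ZMod (2 ^ k))) = 1 + f x₂ z₂)
    (ex : x₁ + z₁ + x₁ = x₂) (ez : x₁ + z₁ = z₂) :
    ∃ s : GL (Fin 2) (ZMod (2 ^ k)), s * t₀ k * s⁻¹ = t₀ k ∧ s * a₁ * s⁻¹ = a₂ := by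
  refine ⟨t₀ k * t₀ k, by group, ?_⟩
  apply Units.ext
  have e : t₀ k * t₀ k * a₁ * (t₀ k * t₀ k)⁻¹ = t₀ k * (t₀ k * a₁ * (t₀ k)⁻¹) * (t₀ k)⁻¹ := by
    group
  rw [e, h₂, ← ex, ← ez]
  have h' := step a₁ x₁ z₁ tx tz h₁
  have txz : 2 * (x₁ + z₁) = 0 := by linear_combination tx + tz
  exact step _ (x₁ + z₁) x₁ txz tx h'

theorem orbit (hk : 1 ≤ k) (a₁ a₂ : GL (Fin 2) (ZMod (2 ^ k))) (x₁ z₁ x₂ z₂ : ZMod (2 ^ k))
    (tx₁ : 2 * x₁ = 0) (tz₁ : 2 * z₁ = 0) (tx₂ : 2 * x₂ = 0) (tz₂ : 2 * z₂ = 0)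
    (nz₁ : ¬ (x₁ = 0 ∧ z₁ = 0)) (nz₂ : ¬ (x₂ = 0 ∧ z₂ = 0))
    (h₁ : (a₁ : Matrix (Fin 2) (Fin 2) (ZMod (2 ^ k))) = 1 + f x₁ z₁)
    (h₂ : (a₂ : Matrix (Fin 2) (Fin 2) (ZMod (2 ^ k))) = 1 + f x₂ z₂) :
    ∃ s : GL (Fin 2) (ZMod (2 ^ k)), s * t₀ k * s⁻¹ = t₀ k ∧ s * a₁ * s⁻¹ = a₂ := by
  have hadd := hh_add_hh hk
  rcases two_mul_eq_zero hk x₁ tx₁ with rfl | rfl <;>
  rcases two_mul_eq_zero hk z₁ tz₁ with rfl | rfl <;>
  rcases two_mul_eq_zero hk x₂ tx₂ with rfl | rfl <;>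
  rcases two_mul_eq_zero hk z₂ tz₂ with rfl | rfl <;>
  first
  | exact absurd ⟨rfl, rfl⟩ nz₁
  | exact absurd ⟨rfl, rfl⟩ nz₂
  | exact try0 a₁ a₂ _ _ _ _ h₁ h₂ rfl rfl
  | (refine try1 a₁ a₂ _ _ _ _ tx₁ tz₁ h₁ h₂ ?_ ?_ <;> (simp [hadd]; done))
  | (refine try2 a₁ a₂ _ _ _ _ tx₁ tz₁ h₁ h₂ ?_ ?_ <;> (simp [hadd]; done))

theorem standardize (hk : 2 ≤ k) (H : Subgroup (GL (Fin 2) (ZMod (2 ^ k))))
    (t a : GL (Fin 2) (ZMod (2 ^ k))) (d : A4Data H t a) :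
    ∃ g : GL (Fin 2) (ZMod (2 ^ k)), ∃ x z : ZMod (2 ^ k), g⁻¹ * t * g = t₀ k ∧
      ((g⁻¹ * a * g : GL (Fin 2) (ZMod (2 ^ k))) : Matrix (Fin 2) (Fin 2) (ZMod (2 ^ k)))
        = 1 + f x z ∧ 2 * x = 0 ∧ 2 * z = 0 ∧ ¬ (x = 0 ∧ z = 0) := by
  have h3 : (t : Matrix (Fin 2) (Fin 2) (ZMod (2 ^ k))) * t * t = 1 := by
    have := congrArg Units.val d.t3
    rw [pow_succ, pow_two] at this
    exact this
  have h1 : (t : Matrix (Fin 2) (Fin 2) (ZMod (2 ^ k))) ≠ 1 := fun h => d.t1 (Units.ext h)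
  obtain ⟨g₀, hg₀, hconj⟩ := exists_conj (by omega) _ h3 h1
  obtain ⟨g, hg⟩ : ∃ g : GL (Fin 2) (ZMod (2 ^ k)),
      (g : Matrix (Fin 2) (Fin 2) (ZMod (2 ^ k))) = g₀ := ⟨Matrix.nonsingInvUnit g₀ hg₀, rfl⟩
  have htg : t * g = g * t₀ k := by
    apply Units.ext
    show (t : Matrix (Fin 2) (Fin 2) (ZMod (2 ^ k))) *
      (g : Matrix (Fin 2) (Fin 2) (ZMod (2 ^ k))) = (g : Matrix (Fin 2) (Fin 2) (ZMod (2 ^ k))) * T
    rw [hg]; exact hconj
  have hgt : g⁻¹ * t * g = t₀ k := by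
    rw [mul_assoc, htg]; group
  have cmul : ∀ u v : GL (Fin 2) (ZMod (2 ^ k)), (g⁻¹ * u * g) * (g⁻¹ * v * g) = g⁻¹ * (u * v) * g := by
    intro u v; group
  have cinv : ∀ u : GL (Fin 2) (ZMod (2 ^ k)), (g⁻¹ * u * g)⁻¹ = g⁻¹ * u⁻¹ * g := by
    intro u; group
  obtain ⟨a', ha'⟩ : ∃ a', a' = g⁻¹ * a * g := ⟨_, rfl⟩
  have haa : a' * a' = 1 := by
    rw [ha', cmul, d.a2]; group
  have hrel : a' * (t₀ k * a' * (t₀ k)⁻¹) = t₀ k * (t₀ k * a' * (t₀ k)⁻¹) * (t₀ k)⁻¹ := by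
    rw [ha', ← hgt, cinv, cmul, cmul, cmul, cmul, cmul, d.rel]
  obtain ⟨A, hA⟩ : ∃ A : Matrix (Fin 2) (Fin 2) (ZMod (2 ^ k)), A = (a' : Matrix _ _ _) := ⟨_, rfl⟩
  have hAA : A * A = 1 := by rw [hA]; exact congrArg Units.val haa
  have hrelM : A * (T * A * T') = T * (T * A * T') * T' := by
    rw [hA]; exact congrArg Units.val hrel
  obtain ⟨x, z, tx, tz, hform⟩ := form_of_rel hk _ hAA hrelM
  rw [hA] at hform
  refine ⟨g, x, z, hgt, ?_, tx, tz, ?_⟩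
  · rw [← ha']; exact hform
  · rintro ⟨rfl, rfl⟩
    rw [f_zero, add_zero] at hform
    have h1' : a' = 1 := Units.ext hform
    apply d.a1
    have : a = g * a' * g⁻¹ := by rw [ha']; group
    rw [this, h1']; group

theorem main (hk : 2 ≤ k) (H₁ H₂ : Subgroup (GL (Fin 2) (ZMod (2 ^ k))))
    (e₁ : H₁ ≃* alternatingGroup (Fin 4)) (e₂ : H₂ ≃* alternatingGroup (Fin 4)) :
    ∃ g : GL (Fin 2) (ZMod (2 ^ k)), H₂ = H₁.map (MulAut.conj g).toMonoidHom := by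
  obtain ⟨t₁, a₁, d₁⟩ := exists_a4Data H₁ e₁
  obtain ⟨t₂, a₂, d₂⟩ := exists_a4Data H₂ e₂
  obtain ⟨g₁, x₁, z₁, ht₁, hf₁, tx₁, tz₁, nz₁⟩ := standardize hk H₁ t₁ a₁ d₁
  obtain ⟨g₂, x₂, z₂, ht₂, hf₂, tx₂, tz₂, nz₂⟩ := standardize hk H₂ t₂ a₂ d₂
  obtain ⟨s, hs₁, hs₂⟩ := orbit (by omega) _ _ x₁ z₁ x₂ z₂ tx₁ tz₁ tx₂ tz₂ nz₁ nz₂ hf₁ hf₂
  refine ⟨g₂ * s * g₁⁻¹, map_conj_eq d₁ d₂ _ ?_ ?_⟩
  · have e : g₂ * s * g₁⁻¹ * t₁ * (g₂ * s * g₁⁻¹)⁻¹ =
        g₂ * (s * (g₁⁻¹ * t₁ * g₁) * s⁻¹) * g₂⁻¹ := by group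
    rw [e, ht₁, hs₁, ← ht₂]; group
  · have e : g₂ * s * g₁⁻¹ * a₁ * (g₂ * s * g₁⁻¹)⁻¹ =
        g₂ * (s * (g₁⁻¹ * a₁ * g₁) * s⁻¹) * g₂⁻¹ := by group
    rw [e, hs₂]; group

end gl

end Cfsg.Agent.Lib.Helper22.A4GL2
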