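import Mathlib

/-!
# Automorphisms of a 2-group stabilizing a chain of characteristic subsets with steps of index two
-/

set_option autoImplicit false

namespace Cfsg.Agent.Lib.Helper22.AutChain

variable {T : Type*} [Group T]

theorem pow_fix_aux (β : MulAut T) (x u : T) (hx : β x = x * u) (hu : β u = u) (k : ℕ) :
    (β ^ k) x = x * u ^ k := by
  induction k with
  | zero => simp
  | succ k ih =>
    rw [pow_succ', MulAut.mul_apply, ih, map_mul, map_pow, hx, hu, pow_succ', mul_assoc]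

theorem pow_fix_of_fix (β : MulAut T) (x : T) (hx : β x = x) (k : ℕ) : (β ^ k) x = x := by
  induction k with
  | zero => simp
  | succ k ih => rw [pow_succ', MulAut.mul_apply, ih, hx]

/-- one step up a chain of characteristic subsets -/
theorem step [Finite T] (hT2 : IsPGroup 2 T) (P P' : T → Prop)
    (hP : ∀ β : MulAut T, ∀ x, P x → P (β x)) (hP' : ∀ β : MulAut T, ∀ x, P' x → P' (β x))
    (hcoset : ∀ x y, P x → P y → ¬ P' x → ¬ P' y → P' (x⁻¹ * y)) (α : MulAut T)
    (h : ∃ e : ℕ, ∀ x, P' x → (α ^ (2 ^ e)) x = x) :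
    ∃ e : ℕ, ∀ x, P x → (α ^ (2 ^ e)) x = x := by
  obtain ⟨e, he⟩ := h
  obtain ⟨n, hn⟩ := hT2.exists_card_eq
  refine ⟨e + n, ?_⟩
  intro x hx
  obtain ⟨β, hβ⟩ : ∃ β, β = α ^ (2 ^ e) := ⟨_, rfl⟩
  have hpow : α ^ (2 ^ (e + n)) = β ^ (2 ^ n) := by rw [hβ, ← pow_mul, pow_add]
  rw [hpow]
  rw [← hβ] at he
  by_cases hx' : P' x
  · exact pow_fix_of_fix β x (he x hx') _
  · have hβx : P (β x) := hP β x hx
    have hβx' : ¬ P' (β x) := by
      intro hcon
      apply hx'
      have := hP' β⁻¹ (β x) hcon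
      simpa using this
    have hu : P' (x⁻¹ * β x) := hcoset x (β x) hx hβx hx' hβx'
    have h1 : β x = x * (x⁻¹ * β x) := by group
    have h2 := pow_fix_aux β x (x⁻¹ * β x) h1 (he _ hu) (2 ^ n)
    rw [h2, ← hn, pow_card_eq_one', mul_one]

/-- the final step -/
theorem isPGroup_of_fix_all (h : ∀ α : MulAut T, ∃ e : ℕ, ∀ x, True → (α ^ (2 ^ e)) x = x) :
    IsPGroup 2 (MulAut T) := by
  intro α
  obtain ⟨e, he⟩ := h α
  refine ⟨e, ?_⟩
  ext x
  exact he x trivial

/-! ### characteristic predicates -/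

def isD (x : T) : Prop := ∀ y : T, x * (y * y) = y * y * x

def Om (k : ℕ) (x : T) : Prop := isD x ∧ x ^ (2 ^ k) = 1

def Z2 (x : T) : Prop := x * x = 1 ∧ ∀ y : T, x * y = y * x

def Sq (x : T) : Prop := ∃ y : T, y * y = x

def C1 (x : T) : Prop := Sq x ∨ x * x ≠ 1

theorem isD_inv (β : MulAut T) (x : T) (h : isD x) : isD (β x) := by
  intro y
  obtain ⟨y', rfl⟩ := β.surjective y
  rw [← map_mul, ← map_mul, ← map_mul, h y']

theorem Om_inv (k : ℕ) (β : MulAut T) (x : T) (h : Om k x) : Om k (β x) :=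
  ⟨isD_inv β x h.1, by rw [← map_pow, h.2, map_one]⟩

theorem Z2_inv (β : MulAut T) (x : T) (h : Z2 x) : Z2 (β x) := by
  refine ⟨by rw [← map_mul, h.1, map_one], ?_⟩
  intro y
  obtain ⟨y', rfl⟩ := β.surjective y
  rw [← map_mul, ← map_mul, h.2 y']

theorem one_inv (β : MulAut T) (x : T) (h : x = 1) : β x = 1 := by rw [h, map_one]

theorem Sq_inv (β : MulAut T) (x : T) (h : Sq x) : Sq (β x) := by
  obtain ⟨y, rfl⟩ := h
  exact ⟨β y, by rw [map_mul]⟩

theorem C1_inv (β : MulAut T) (x : T) (h : C1 x) : C1 (β x) := by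
  rcases h with h | h
  · exact Or.inl (Sq_inv β x h)
  · right
    intro hcon
    apply h
    apply β.injective
    rw [map_mul, hcon, map_one]

theorem fix_one (α : MulAut T) : ∃ e : ℕ, ∀ x : T, x = 1 → (α ^ (2 ^ e)) x = x :=
  ⟨0, fun x hx => by rw [hx, map_one]⟩

end Cfsg.Agent.Lib.Helper22.AutChain
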