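import Mathlib

set_option autoImplicit false
open scoped commutatorElement

namespace Cfsg.Agent.Lib.Helper22.Breadth

variable {G : Type*} [Group G]

/-- The "two-step centralizer": elements `x` with `⁅A, x⁆ ⊆ B`, for `B` normal. -/
def twoStep (A B : Subgroup G) [hB : B.Normal] : Subgroup G where
  carrier := {x | ∀ g ∈ A, ⁅g, x⁆ ∈ B}
  one_mem' := by
    intro g _
    simp [commutatorElement_def]
  mul_mem' := by
    intro x y hx hy g hg
    have h : ⁅g, x * y⁆ = ⁅g, x⁆ * (x * ⁅g, y⁆ * x⁻¹) := by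
      simp only [commutatorElement_def]; group
    rw [h]
    exact B.mul_mem (hx g hg) (hB.conj_mem _ (hy g hg) x)
  inv_mem' := by
    intro x hx g hg
    have h : ⁅g, x⁻¹⁆ = x⁻¹ * (⁅g, x⁆)⁻¹ * x⁻¹⁻¹ := by
      simp only [commutatorElement_def]; group
    show ⁅g, x⁻¹⁆ ∈ B
    rw [h]
    exact hB.conj_mem _ (B.inv_mem (hx g hg)) x⁻¹

lemma mem_twoStep {A B : Subgroup G} [B.Normal] {x : G} :
    x ∈ twoStep A B ↔ ∀ g ∈ A, ⁅g, x⁆ ∈ B := Iff.rfl

/-- strict inclusion in a finite `p`-group costs a factor `p`. -/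
lemma p_mul_card_le {p : ℕ} [Fact p.Prime] [Finite G] (hG : IsPGroup p G) {A B : Subgroup G}
    (h : A ≤ B) (hne : A ≠ B) : p * Nat.card A ≤ Nat.card B := by
  obtain ⟨a, ha⟩ := IsPGroup.iff_card.mp (hG.to_subgroup A)
  obtain ⟨b, hb⟩ := IsPGroup.iff_card.mp (hG.to_subgroup B)
  have hle : Nat.card A ≤ Nat.card B := Subgroup.card_le_of_le h
  have hne' : Nat.card A ≠ Nat.card B := by
    intro heq
    exact hne (Subgroup.eq_of_le_of_card_ge h (le_of_eq heq.symm))
  have hp : 1 < p := (Fact.out : p.Prime).one_lt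
  rw [ha, hb] at hle hne' ⊢
  have hab : a < b := by
    rcases lt_or_ge a b with h1 | h1
    · exact h1
    · exfalso
      have : b ≤ a := h1
      have h2 : p ^ b ≤ p ^ a := Nat.pow_le_pow_right (by omega) this
      exact hne' (le_antisymm hle h2)
  calc p * p ^ a = p ^ (a + 1) := by rw [pow_succ, mul_comm]
    _ ≤ p ^ b := Nat.pow_le_pow_right (by omega) hab


/-- the lower central series of the whole group -/
abbrev L (G : Type*) [Group G] (i : ℕ) : Subgroup G := (⊤ : Subgroup G).lowerCentralSeries i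

instance L_normal (i : ℕ) : (L G i).Normal := by
  unfold L; infer_instance

/-- the two-step centralizer `C_G(γ_{i+1}/γ_{i+3})` (indices shifted). -/
abbrev TS (G : Type*) [Group G] (i : ℕ) : Subgroup G := twoStep (L G i) (L G (i + 2))

lemma L_succ (i : ℕ) : L G (i + 1) = ⁅L G i, (⊤ : Subgroup G)⁆ := rfl

lemma L_anti {i j : ℕ} (h : i ≤ j) : L G j ≤ L G i :=
  Subgroup.lowerCentralSeries_antitone (S := (⊤ : Subgroup G)) h

lemma sup_ne {x : G} {i : ℕ} (hx : x ∉ TS G i) :
    Subgroup.centralizer {x} ⊔ L G (i + 1) ≠ Subgroup.centralizer {x} ⊔ L G i := by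
  intro heq
  apply hx
  intro g hg
  have hg' : g ∈ Subgroup.centralizer {x} ⊔ L G (i + 1) := by
    rw [heq]; exact Subgroup.mem_sup_right hg
  rw [Subgroup.mem_sup_of_normal_right] at hg'
  obtain ⟨c, hc, l, hl, rfl⟩ := hg'
  have hcx : c * x = x * c := by
    have := Subgroup.mem_centralizer_iff.mp hc x (Set.mem_singleton x)
    exact this.symm
  have h : ⁅c * l, x⁆ = c * ⁅l, x⁆ * c⁻¹ := by
    simp only [commutatorElement_def]
    have h2 : x⁻¹ * c⁻¹ = c⁻¹ * x⁻¹ := by
      rw [← mul_inv_rev, ← mul_inv_rev, hcx]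
    calc c * l * x * (c * l)⁻¹ * x⁻¹ = c * l * x * l⁻¹ * (c⁻¹ * x⁻¹) := by group
      _ = c * l * x * l⁻¹ * (x⁻¹ * c⁻¹) := by rw [h2]
      _ = c * (l * x * l⁻¹ * x⁻¹) * c⁻¹ := by group
  rw [h]
  have hlx : ⁅l, x⁆ ∈ L G (i + 2) := by
    rw [L_succ]
    exact Subgroup.commutator_mem_commutator hl (Subgroup.mem_top x)
  exact (L_normal (i + 2)).conj_mem _ hlx c

open scoped Classical in
/-- the chain `C ⊔ L k` from `G` down to `C = C_G(x)` loses a factor `p` at each two-step
centralizer missing `x`. -/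
lemma chain {p : ℕ} [Fact p.Prime] [Finite G] (hG : IsPGroup p G) (x : G) (k : ℕ) :
    p ^ ((Finset.range k).filter (fun i => x ∉ TS G i)).card *
      Nat.card ↥(Subgroup.centralizer {x} ⊔ L G k) ≤ Nat.card G := by
  classical
  induction k with
  | zero =>
    have : Subgroup.centralizer {x} ⊔ L G 0 = ⊤ := by
      show Subgroup.centralizer {x} ⊔ ⊤ = ⊤
      simp
    rw [this]; simp
  | succ k ih =>
    rw [Finset.range_add_one, Finset.filter_insert]
    have hmono : Subgroup.centralizer {x} ⊔ L G (k + 1) ≤ Subgroup.centralizer {x} ⊔ L G k :=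
      sup_le_sup_left (L_anti (Nat.le_succ k)) _
    by_cases hx : x ∉ TS G k
    · rw [if_pos hx, Finset.card_insert_of_notMem (by simp), pow_succ]
      have h1 := p_mul_card_le hG hmono (sup_ne hx)
      calc p ^ _ * p * Nat.card ↥(Subgroup.centralizer {x} ⊔ L G (k + 1))
          = p ^ _ * (p * Nat.card ↥(Subgroup.centralizer {x} ⊔ L G (k + 1))) := by ring
        _ ≤ p ^ _ * Nat.card ↥(Subgroup.centralizer {x} ⊔ L G k) := Nat.mul_le_mul_left _ h1
        _ ≤ Nat.card G := ih
    · rw [if_neg hx]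
      calc p ^ _ * Nat.card ↥(Subgroup.centralizer {x} ⊔ L G (k + 1))
          ≤ p ^ _ * Nat.card ↥(Subgroup.centralizer {x} ⊔ L G k) :=
            Nat.mul_le_mul_left _ (Subgroup.card_le_of_le hmono)
        _ ≤ Nat.card G := ih

open scoped Classical in
/-- the number of two-step centralizers missing `x` is at most the breadth of `x`. -/
lemma count_le_breadth {p : ℕ} [Fact p.Prime] [Finite G] (hG : IsPGroup p G) (x : G) (k b : ℕ)
    (hb : (Subgroup.centralizer ({x} : Set G)).index ≤ p ^ b) :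
    ((Finset.range k).filter (fun i => x ∉ TS G i)).card ≤ b := by
  classical
  have h1 := chain hG x k
  have h2 : Nat.card ↥(Subgroup.centralizer {x}) ≤ Nat.card ↥(Subgroup.centralizer {x} ⊔ L G k) :=
    Subgroup.card_le_of_le le_sup_left
  have h3 := Subgroup.card_mul_index (Subgroup.centralizer ({x} : Set G))
  have hpos : 0 < Nat.card ↥(Subgroup.centralizer ({x} : Set G)) := Nat.card_pos
  have hp : 1 < p := (Fact.out : p.Prime).one_lt
  set s := ((Finset.range k).filter (fun i => x ∉ TS G i)).card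
  have h4 : p ^ s * Nat.card ↥(Subgroup.centralizer ({x} : Set G)) ≤
      p ^ b * Nat.card ↥(Subgroup.centralizer ({x} : Set G)) := by
    calc p ^ s * Nat.card ↥(Subgroup.centralizer ({x} : Set G))
        ≤ p ^ s * Nat.card ↥(Subgroup.centralizer {x} ⊔ L G k) := Nat.mul_le_mul_left _ h2
      _ ≤ Nat.card G := h1
      _ = Nat.card ↥(Subgroup.centralizer ({x} : Set G)) * (Subgroup.centralizer ({x} : Set G)).index :=
          h3.symm
      _ ≤ Nat.card ↥(Subgroup.centralizer ({x} : Set G)) * p ^ b := Nat.mul_le_mul_left _ hb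
      _ = _ := mul_comm _ _
  have h5 : p ^ s ≤ p ^ b := Nat.le_of_mul_le_mul_right h4 hpos
  exact (Nat.pow_le_pow_iff_right hp).mp h5


lemma L_stationary {i : ℕ} (h : L G (i + 1) = L G i) : ∀ j, L G (i + j) = L G i := by
  intro j
  induction j with
  | zero => rfl
  | succ j ih =>
    have : L G (i + (j + 1)) = ⁅L G (i + j), (⊤ : Subgroup G)⁆ := rfl
    rw [this, ih, ← L_succ, h]

lemma TS_ne_top {c i : ℕ} (hc : L G c = ⊥) (hmin : ∀ m < c, L G m ≠ ⊥) (hi : i + 1 < c) :
    TS G i ≠ ⊤ := by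
  intro htop
  have h1 : L G (i + 2) = L G (i + 1) := by
    apply le_antisymm (L_anti (by omega))
    rw [L_succ, Subgroup.commutator_le]
    intro g hg x _
    have hx : x ∈ TS G i := by rw [htop]; exact Subgroup.mem_top x
    exact hx g hg
  have h2 := L_stationary (i := i + 1) h1 (c - (i + 1))
  have h3 : i + 1 + (c - (i + 1)) = c := by omega
  rw [h3, hc] at h2
  exact hmin (i + 1) hi h2.symm

open scoped Classical in
/-- Leedham-Green–Neumann–Wiegold: a finite `p`-group of breadth `≤ b` (with `b ≥ 1`) and class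
exactly `c` satisfies `(c - 1) (p - 1) < b p`. -/
theorem class_bound {p : ℕ} [Fact p.Prime] [Finite G] (hG : IsPGroup p G) (b : ℕ) (hb0 : b ≠ 0)
    (hb : ∀ x : G, (Subgroup.centralizer ({x} : Set G)).index ≤ p ^ b)
    {c : ℕ} (hc : L G c = ⊥) (hmin : ∀ m < c, L G m ≠ ⊥) :
    (c - 1) * (p - 1) < b * p := by
  have hp : p.Prime := Fact.out
  haveI : Fintype G := Fintype.ofFinite G
  set N := Fintype.card G with hN
  have hNcard : Nat.card G = N := Nat.card_eq_fintype_card
  have hNpos : 0 < N := Fintype.card_pos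
  let f : G → ℕ := fun x => ((Finset.range (c - 1)).filter (fun i => x ∉ TS G i)).card
  have hA : ∀ x, f x ≤ b := fun x => count_le_breadth hG x (c - 1) b (hb x)
  have hB : f 1 = 0 := by
    show ((Finset.range (c - 1)).filter (fun i => (1 : G) ∉ TS G i)).card = 0
    rw [Finset.card_eq_zero, Finset.filter_eq_empty_iff]
    intro i _ h
    exact h (Subgroup.one_mem _)
  have hC : ∑ x : G, f x =
      ∑ i ∈ Finset.range (c - 1), (Finset.univ.filter (fun x : G => x ∉ TS G i)).card := by
    simp only [f, Finset.card_filter]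
    exact Finset.sum_comm
  have hD : ∀ i ∈ Finset.range (c - 1),
      (p - 1) * N ≤ p * (Finset.univ.filter (fun x : G => x ∉ TS G i)).card := by
    intro i hi
    rw [Finset.mem_range] at hi
    have hne : TS G i ≠ ⊤ := TS_ne_top hc hmin (by omega)
    have h1 : p * Nat.card ↥(TS G i) ≤ Nat.card ↥(⊤ : Subgroup G) :=
      p_mul_card_le hG le_top hne
    rw [Subgroup.card_top, hNcard] at h1
    have h2 : Nat.card ↥(TS G i) = (Finset.univ.filter (fun x : G => x ∈ TS G i)).card := by
      rw [← Nat.card_eq_finsetCard]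
      exact Nat.card_congr (Equiv.subtypeEquivRight (by simp))
    have h3 : (Finset.univ.filter (fun x : G => x ∈ TS G i)).card +
        (Finset.univ.filter (fun x : G => x ∉ TS G i)).card = N := by
      rw [Finset.card_filter_add_card_filter_not, Finset.card_univ]
    rw [h2] at h1
    obtain ⟨q, rfl⟩ : ∃ q, p = q + 1 := ⟨p - 1, by have := hp.two_le; omega⟩
    simp only [Nat.add_sub_cancel]
    nlinarith
  have hE : (c - 1) * ((p - 1) * N) ≤ p * ∑ x : G, f x := by
    rw [hC, Finset.mul_sum]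
    calc (c - 1) * ((p - 1) * N) = ∑ _i ∈ Finset.range (c - 1), (p - 1) * N := by
          rw [Finset.sum_const, Finset.card_range, smul_eq_mul]
      _ ≤ _ := Finset.sum_le_sum hD
  have hF : ∑ x : G, f x ≤ b * (N - 1) := by
    rw [← Finset.add_sum_erase Finset.univ f (Finset.mem_univ (1 : G)), hB, zero_add]
    calc ∑ x ∈ Finset.univ.erase (1 : G), f x ≤ ∑ _x ∈ Finset.univ.erase (1 : G), b :=
          Finset.sum_le_sum (fun x _ => hA x)
      _ = b * (N - 1) := by
          rw [Finset.sum_const, Finset.card_erase_of_mem (Finset.mem_univ _), Finset.card_univ,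
            smul_eq_mul, mul_comm]
  have hG' : (c - 1) * (p - 1) * N < b * p * N := by
    calc (c - 1) * (p - 1) * N = (c - 1) * ((p - 1) * N) := by ring
      _ ≤ p * ∑ x : G, f x := hE
      _ ≤ p * (b * (N - 1)) := Nat.mul_le_mul_left _ hF
      _ < p * (b * N) := by
          apply Nat.mul_lt_mul_of_pos_left _ hp.pos
          apply Nat.mul_lt_mul_of_pos_left _ (Nat.pos_of_ne_zero hb0)
          omega
      _ = b * p * N := by ring
  exact Nat.lt_of_mul_lt_mul_right hG'

end Cfsg.Agent.Lib.Helper22.Breadth
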