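import Mathlib

set_option autoImplicit false

namespace Cfsg.Agent.Lib.Helper22.CharTwoQuad

/-- uniqueness of `2^i+2^j` representation with `i ≤ j` -/
lemma two_pow_pair_inj {i j i' j' : ℕ} (hij : i ≤ j) (hij' : i' ≤ j')
    (h : 2 ^ i + 2 ^ j = 2 ^ i' + 2 ^ j') : i = i' ∧ j = j' := by
  have key : ∀ {a b c d : ℕ}, a ≤ b → c ≤ d → 2 ^ a + 2 ^ b = 2 ^ c + 2 ^ d → ¬ b < d := by
    intro a b c d hab hcd h hbd
    have h1 : 2 ^ a ≤ 2 ^ b := Nat.pow_le_pow_right (by norm_num) hab
    have h2 : 2 ^ (b + 1) ≤ 2 ^ d := Nat.pow_le_pow_right (by norm_num) hbd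
    have h3 : 0 < 2 ^ c := by positivity
    rw [pow_succ] at h2
    omega
  have hj : j = j' := le_antisymm (not_lt.mp (key hij' hij h.symm)) (not_lt.mp (key hij hij' h))
  subst hj
  have : 2 ^ i = 2 ^ i' := by omega
  exact ⟨Nat.pow_right_injective (le_refl 2) this, rfl⟩

section field

variable {F : Type*} [Field F] [Fintype F]

/-- power functions with close exponents differ on a finite field -/
lemma pow_fun_ne {k l : ℕ} (hkl : k < l) (hsmall : l - k < Fintype.card F - 1) :
    ¬ (∀ x : F, x ^ k = x ^ l) := by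
  classical
  intro h
  obtain ⟨g, hg⟩ := IsCyclic.exists_generator (α := Fˣ)
  have hord : orderOf g = Fintype.card F - 1 := by
    rw [orderOf_eq_card_of_forall_mem_zpowers hg, Nat.card_eq_fintype_card, Fintype.card_units]
  have h1 : g ^ k = g ^ l := by
    apply Units.ext
    push_cast
    exact h _
  have h2 : g ^ (l - k) = 1 := by
    have : g ^ k * g ^ (l - k) = g ^ k * 1 := by
      rw [← pow_add, mul_one, Nat.add_sub_cancel' hkl.le, h1]
    exact mul_left_cancel this
  have h3 := orderOf_dvd_of_pow_eq_one h2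
  rw [hord] at h3
  have := Nat.le_of_dvd (by omega) h3
  omega

end field

section main

variable {F : Type*} [Field F] [Fintype F] [CharP F 2]

/-- the submodule of quadratic maps -/
def quadSub (F : Type*) [Field F] : Submodule F (F → F) where
  carrier := {q | ∀ x y z : F,
    q (x + y + z) + q (x + y) + q (x + z) + q (y + z) + q x + q y + q z = 0}
  add_mem' := by
    intro a b ha hb x y z
    simp only [Pi.add_apply]
    linear_combination ha x y z + hb x y z
  zero_mem' := by
    intro x y z
    simp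
  smul_mem' := by
    intro c a ha x y z
    simp only [Pi.smul_apply, smul_eq_mul]
    linear_combination c * ha x y z

omit [Fintype F] [CharP F 2] in
lemma mem_quadSub {q : F → F} : q ∈ quadSub F ↔ ∀ x y z : F,
    q (x + y + z) + q (x + y) + q (x + z) + q (y + z) + q x + q y + q z = 0 := Iff.rfl

omit [Fintype F] [CharP F 2] in
lemma additive_eq_zero [Module (ZMod 2) F] {ι : Type*} (b : Module.Basis ι (ZMod 2) F) (f : F → F)
    (hadd : ∀ x y, f (x + y) = f x + f y) (hb : ∀ i, f (b i) = 0) : ∀ x, f x = 0 := by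
  have h0 : f 0 = 0 := by
    have := hadd 0 0
    simpa using this
  intro x
  have hx : x ∈ Submodule.span (ZMod 2) (Set.range b) := by rw [b.span_eq]; trivial
  induction hx using Submodule.span_induction with
  | mem x hx => obtain ⟨i, rfl⟩ := hx; exact hb i
  | zero => exact h0
  | add x y _ _ hx hy => rw [hadd, hx, hy, add_zero]
  | smul c x _ hx =>
    fin_cases c
    · change f ((0 : ZMod 2) • x) = 0
      rw [zero_smul]; exact h0
    · change f ((1 : ZMod 2) • x) = 0
      rw [one_smul]; exact hx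

end main

section main2

variable {F : Type*} [Field F] [Fintype F] [CharP F 2]

/-- index type -/
abbrev Idx (n : ℕ) := {p : Fin n × Fin n // p.1 ≤ p.2}

/-- the polar form -/
def polar (q : F → F) (x y : F) : F := q (x + y) + q x + q y

omit [Fintype F] in
lemma two_eq_zero' : (2 : F) = 0 := by
  have := CharP.cast_eq_zero F 2
  exact_mod_cast this

omit [Fintype F] in
lemma quad_zero {q : F → F} (hq : q ∈ quadSub F) : q 0 = 0 := by
  have := hq 0 0 0
  simp only [add_zero] at this
  have h2 : (2 : F) = 0 := two_eq_zero'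
  linear_combination this - 3 * q 0 * h2

omit [Fintype F] in
lemma polar_add_left {q : F → F} (hq : q ∈ quadSub F) (x y z : F) :
    polar q (x + y) z = polar q x z + polar q y z := by
  unfold polar
  have := hq x y z
  have h2 : (2 : F) = 0 := two_eq_zero'
  linear_combination this - (q (x + z) + q (y + z) + q x + q y + q z) * h2

omit [Fintype F] [CharP F 2] in
lemma polar_comm (q : F → F) (x y : F) : polar q x y = polar q y x := by
  unfold polar
  rw [add_comm x y]; ring

omit [Fintype F] in
lemma polar_add_right {q : F → F} (hq : q ∈ quadSub F) (x y z : F) :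
    polar q x (y + z) = polar q x y + polar q x z := by
  rw [polar_comm, polar_add_left hq, polar_comm q y, polar_comm q z]

omit [Fintype F] in
lemma polar_self {q : F → F} (hq : q ∈ quadSub F) (x : F) : polar q x x = 0 := by
  unfold polar
  have h2 : (2 : F) = 0 := two_eq_zero'
  have hx : x + x = 0 := by linear_combination x * h2
  rw [hx, quad_zero hq]
  linear_combination q x * h2

/-- the evaluation map -/
def evalMap {n : ℕ} (b : Fin n → F) : (F → F) →ₗ[F] (Idx n → F) where
  toFun q := fun p => if p.1.1 = p.1.2 then q (b p.1.1) else polar q (b p.1.1) (b p.1.2)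
  map_add' := by
    intro q r; funext p
    simp only [Pi.add_apply, polar]
    split_ifs <;> ring
  map_smul' := by
    intro c q; funext p
    simp only [Pi.smul_apply, smul_eq_mul, RingHom.id_apply, polar]
    split_ifs <;> ring

omit [Fintype F] in
lemma evalMap_inj [Module (ZMod 2) F] {n : ℕ} (b : Module.Basis (Fin n) (ZMod 2) F) {q : F → F}
    (hq : q ∈ quadSub F) (h : evalMap (fun i => b i) q = 0) : q = 0 := by
  have hdiag : ∀ i, q (b i) = 0 := by
    intro i
    have := congrFun h ⟨(i, i), le_refl _⟩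
    simpa [evalMap] using this
  have hoff : ∀ i j, i < j → polar q (b i) (b j) = 0 := by
    intro i j hij
    have := congrFun h ⟨(i, j), hij.le⟩
    simpa [evalMap, hij.ne] using this
  have hall : ∀ i j, polar q (b i) (b j) = 0 := by
    intro i j
    rcases lt_trichotomy i j with hij | rfl | hij
    · exact hoff i j hij
    · exact polar_self hq _
    · rw [polar_comm]; exact hoff j i hij
  have h1 : ∀ i y, polar q (b i) y = 0 := by
    intro i
    exact additive_eq_zero b (fun y => polar q (b i) y)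
      (fun x y => polar_add_right hq _ x y) (fun j => hall i j)
  have h2 : ∀ x y, polar q x y = 0 := by
    intro x y
    exact additive_eq_zero b (fun x => polar q x y)
      (fun x x' => polar_add_left hq x x' y) (fun i => h1 i y) x
  have h3 : ∀ x y, q (x + y) = q x + q y := by
    intro x y
    have := h2 x y
    unfold polar at this
    have h2' : (2 : F) = 0 := two_eq_zero'
    linear_combination this - (q x + q y) * h2'
  funext x
  exact additive_eq_zero b q h3 hdiag x

lemma idx_bound {n : ℕ} (p : Idx n) :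
    2 ≤ 2 ^ (p.1.1 : ℕ) + 2 ^ (p.1.2 : ℕ) ∧ 2 ^ (p.1.1 : ℕ) + 2 ^ (p.1.2 : ℕ) ≤ 2 ^ n := by
  have h1 : 1 ≤ 2 ^ (p.1.1 : ℕ) := Nat.one_le_two_pow
  have h2 : 1 ≤ 2 ^ (p.1.2 : ℕ) := Nat.one_le_two_pow
  have h3 : 2 ^ (p.1.1 : ℕ) ≤ 2 ^ (n - 1) :=
    Nat.pow_le_pow_right (by norm_num) (by have := p.1.1.2; omega)
  have h4 : 2 ^ (p.1.2 : ℕ) ≤ 2 ^ (n - 1) :=
    Nat.pow_le_pow_right (by norm_num) (by have := p.1.2.2; omega)
  have h5 : 2 ^ n = 2 * 2 ^ (n - 1) := by
    have hn : n = (n - 1) + 1 := by have := p.1.1.2; omega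
    conv_lhs => rw [hn, pow_succ]
    ring
  omega

omit [CharP F 2] in
lemma g_inj {n : ℕ} (hn : Fintype.card F = 2 ^ n) :
    Function.Injective
      (fun p : Idx n => (powMonoidHom (2 ^ (p.1.1 : ℕ) + 2 ^ (p.1.2 : ℕ)) : F →* F)) := by
  intro p p' h
  have hfun : ∀ x : F, x ^ (2 ^ (p.1.1 : ℕ) + 2 ^ (p.1.2 : ℕ))
      = x ^ (2 ^ (p'.1.1 : ℕ) + 2 ^ (p'.1.2 : ℕ)) := fun x => by
    simpa using DFunLike.congr_fun h x
  by_contra hne
  have hkl : 2 ^ (p.1.1 : ℕ) + 2 ^ (p.1.2 : ℕ) ≠ 2 ^ (p'.1.1 : ℕ) + 2 ^ (p'.1.2 : ℕ) := by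
    intro hkl
    obtain ⟨h1, h2⟩ := two_pow_pair_inj (show (p.1.1 : ℕ) ≤ p.1.2 from p.2)
      (show (p'.1.1 : ℕ) ≤ p'.1.2 from p'.2) hkl
    apply hne
    apply Subtype.ext
    apply Prod.ext <;> apply Fin.ext <;> assumption
  have hb := idx_bound p
  have hb' := idx_bound p'
  rcases lt_or_gt_of_ne hkl with hlt | hgt
  · exact pow_fun_ne hlt (by rw [hn]; omega) hfun
  · exact pow_fun_ne hgt (by rw [hn]; omega) (fun x => (hfun x).symm)

omit [CharP F 2] in
lemma g_li {n : ℕ} (hn : Fintype.card F = 2 ^ n) :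
    LinearIndependent F
      (fun p : Idx n => (fun x : F => x ^ (2 ^ (p.1.1 : ℕ) + 2 ^ (p.1.2 : ℕ)))) := by
  have := (linearIndependent_monoidHom F F).comp _ (g_inj hn)
  exact this

omit [Fintype F] in
lemma v_mem_quad (σ τ : F ≃+* F) : (fun x : F => σ x * τ x) ∈ quadSub F := by
  intro x y z
  simp only [map_add]
  have h2 : (2 : F) = 0 := two_eq_zero'
  linear_combination (2 * σ x * τ x + 2 * σ y * τ y + 2 * σ z * τ z + σ x * τ y + σ y * τ x
    + σ x * τ z + σ z * τ x + σ y * τ z + σ z * τ y) * h2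

theorem main (q : F → F) (hq : q ∈ quadSub F) :
    q ∈ Submodule.span F (Set.range
      (fun p : (F ≃+* F) × (F ≃+* F) => (fun x : F => p.1 x * p.2 x))) := by
  classical
  letI : Algebra (ZMod 2) F := ZMod.algebra F 2
  haveI : ExpChar F 2 := ExpChar.prime Nat.prime_two
  set n := Module.finrank (ZMod 2) F with hn
  have b : Module.Basis (Fin n) (ZMod 2) F := Module.finBasis (ZMod 2) F
  have hcard : Fintype.card F = 2 ^ n := by
    rw [Module.card_eq_pow_finrank (K := ZMod 2) (V := F), ZMod.card]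
  let g : Idx n → (F → F) := fun p x => x ^ (2 ^ (p.1.1 : ℕ) + 2 ^ (p.1.2 : ℕ))
  have hli : LinearIndependent F g := g_li hcard
  have hgv : ∀ p : Idx n, g p = (fun x : F => iterateFrobeniusEquiv F 2 (p.1.1 : ℕ) x
      * iterateFrobeniusEquiv F 2 (p.1.2 : ℕ) x) := by
    intro p
    funext x
    simp only [g, iterateFrobeniusEquiv_def, pow_add]
  have hgQ : ∀ p, g p ∈ quadSub F := by
    intro p
    rw [hgv]
    exact v_mem_quad _ _
  have hgW : ∀ p, g p ∈ Submodule.span F (Set.range
      (fun p : (F ≃+* F) × (F ≃+* F) => (fun x : F => p.1 x * p.2 x))) := by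
    intro p
    rw [hgv]
    exact Submodule.subset_span ⟨(iterateFrobeniusEquiv F 2 (p.1.1 : ℕ),
      iterateFrobeniusEquiv F 2 (p.1.2 : ℕ)), rfl⟩
  have hspanQ : Submodule.span F (Set.range g) ≤ quadSub F :=
    Submodule.span_le.mpr (by rintro _ ⟨p, rfl⟩; exact hgQ p)
  have hfr1 : Module.finrank F (Submodule.span F (Set.range g)) = Fintype.card (Idx n) :=
    finrank_span_eq_card hli
  have hfr2 : Module.finrank F (quadSub F) ≤ Fintype.card (Idx n) := by
    have hinj : Function.Injective ((evalMap (fun i => b i)).domRestrict (quadSub F)) := by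
      rw [injective_iff_map_eq_zero]
      rintro ⟨q, hq⟩ h
      exact Subtype.ext (evalMap_inj b hq h)
    have := LinearMap.finrank_le_finrank_of_injective hinj
    rwa [Module.finrank_fintype_fun_eq_card] at this
  have heq := Submodule.eq_of_le_of_finrank_le hspanQ (by rw [hfr1]; exact hfr2)
  have hq' : q ∈ Submodule.span F (Set.range g) := heq ▸ hq
  exact (Submodule.span_le.mpr (by rintro _ ⟨p, rfl⟩; exact hgW p)) hq'

end main2

end Cfsg.Agent.Lib.Helper22.CharTwoQuad
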