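import Mathlib

/-!
# The two four-subgroups of the dihedral group of order 8
-/

set_option autoImplicit false

namespace Cfsg.Agent.Lib.Helper22.D8Four

open DihedralGroup

/-- membership predicate of the first four-group -/
def in0 (d : DihedralGroup 4) : Prop := d = r 0 ∨ d = r 2 ∨ d = sr 0 ∨ d = sr 2

/-- membership predicate of the second four-group -/
def in1 (d : DihedralGroup 4) : Prop := d = r 0 ∨ d = r 2 ∨ d = sr 1 ∨ d = sr 3

instance : DecidablePred in0 := fun d => by unfold in0; infer_instance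
instance : DecidablePred in1 := fun d => by unfold in1; infer_instance

/-- the four-group `{1, r², s, sr²}` -/
def B0 : Subgroup (DihedralGroup 4) where
  carrier := {d | in0 d}
  mul_mem' := by
    intro a b ha hb
    have key : ∀ a b : DihedralGroup 4, in0 a → in0 b → in0 (a * b) := by decide
    exact key a b ha hb
  one_mem' := Or.inl rfl
  inv_mem' := by
    intro a ha
    have key : ∀ a : DihedralGroup 4, in0 a → in0 a⁻¹ := by decide
    exact key a ha

/-- the four-group `{1, r², sr, sr³}` -/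
def B1 : Subgroup (DihedralGroup 4) where
  carrier := {d | in1 d}
  mul_mem' := by
    intro a b ha hb
    have key : ∀ a b : DihedralGroup 4, in1 a → in1 b → in1 (a * b) := by decide
    exact key a b ha hb
  one_mem' := Or.inl rfl
  inv_mem' := by
    intro a ha
    have key : ∀ a : DihedralGroup 4, in1 a → in1 a⁻¹ := by decide
    exact key a ha

theorem mem_B0 (d : DihedralGroup 4) : d ∈ B0 ↔ in0 d := Iff.rfl
theorem mem_B1 (d : DihedralGroup 4) : d ∈ B1 ↔ in1 d := Iff.rfl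

instance : DecidablePred (· ∈ B0) := fun d => inferInstanceAs (Decidable (in0 d))
instance : DecidablePred (· ∈ B1) := fun d => inferInstanceAs (Decidable (in1 d))

theorem card_B0 : Nat.card B0 = 4 := by
  rw [Nat.card_eq_fintype_card, Fintype.card_subtype]; decide

theorem card_B1 : Nat.card B1 = 4 := by
  rw [Nat.card_eq_fintype_card, Fintype.card_subtype]; decide

theorem sq_B0 : ∀ d ∈ B0, d * d = 1 := by
  have key : ∀ d : DihedralGroup 4, in0 d → d * d = 1 := by decide
  exact fun d hd => key d hd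

theorem sq_B1 : ∀ d ∈ B1, d * d = 1 := by
  have key : ∀ d : DihedralGroup 4, in1 d → d * d = 1 := by decide
  exact fun d hd => key d hd

theorem key_pair : ∀ d₁ d₂ : DihedralGroup 4, d₁ ≠ r 0 → d₁ ≠ r 2 → d₁ * d₁ = 1 → d₂ * d₂ = 1 →
    (d₁ * d₂) * (d₁ * d₂) = 1 → (in0 d₁ ∧ in0 d₂ ∧ ¬ in1 d₁) ∨ (in1 d₁ ∧ in1 d₂ ∧ ¬ in0 d₁) := by
  decide

/-- classification of the four-subgroups of exponent two -/
theorem four_classify (B : Subgroup (DihedralGroup 4)) (h4 : Nat.card B = 4)
    (hsq : ∀ b ∈ B, b * b = 1) : B = B0 ∨ B = B1 := by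
  classical
  -- an element outside {1, r 2}
  have hex : ∃ d₁ ∈ B, d₁ ≠ r 0 ∧ d₁ ≠ r 2 := by
    by_contra hcon
    push Not at hcon
    have hsub : (B : Set (DihedralGroup 4)) ⊆ {r 0, r 2} := by
      intro d hd
      by_cases h0 : d = r 0
      · left; exact h0
      · right; exact hcon d hd h0
    have h1 : (B : Set (DihedralGroup 4)).ncard ≤ ({r 0, r 2} : Set (DihedralGroup 4)).ncard :=
      Set.ncard_le_ncard hsub (Set.toFinite _)
    have h2 : ({r 0, r 2} : Set (DihedralGroup 4)).ncard ≤ 2 := Set.ncard_insert_le _ _ |>.trans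
      (by rw [Set.ncard_singleton])
    have h3 : (B : Set (DihedralGroup 4)).ncard = 4 := Eq.trans rfl h4
    omega
  obtain ⟨d₁, hd₁, hne0, hne2⟩ := hex
  have hall : ∀ d₂ ∈ B, (in0 d₁ ∧ in0 d₂ ∧ ¬ in1 d₁) ∨ (in1 d₁ ∧ in1 d₂ ∧ ¬ in0 d₁) :=
    fun d₂ hd₂ => key_pair d₁ d₂ hne0 hne2 (hsq d₁ hd₁) (hsq d₂ hd₂) (hsq _ (B.mul_mem hd₁ hd₂))
  rcases hall d₁ hd₁ with ⟨h0, _, hn1⟩ | ⟨h1, _, hn0⟩
  · left
    apply Subgroup.eq_of_le_of_card_ge
    · intro d₂ hd₂
      rcases hall d₂ hd₂ with ⟨_, h, _⟩ | ⟨h, _, _⟩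
      · exact h
      · exact absurd h hn1
    · rw [card_B0, h4]
  · right
    apply Subgroup.eq_of_le_of_card_ge
    · intro d₂ hd₂
      rcases hall d₂ hd₂ with ⟨h, _, _⟩ | ⟨_, h, _⟩
      · exact absurd h hn0
      · exact h
    · rw [card_B1, h4]

/-- every element is `r^k` or `s r^k` -/
theorem elems : ∀ d : DihedralGroup 4, ∃ k : ℕ, k < 4 ∧ (d = (r 1) ^ k ∨ d = sr 0 * (r 1) ^ k) := by
  decide

theorem rel_r4 : (r 1 : DihedralGroup 4) * r 1 * r 1 * r 1 = 1 := by decide
theorem rel_s2 : (sr 0 : DihedralGroup 4) * sr 0 = 1 := by decide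
theorem rel_sr : (sr 0 : DihedralGroup 4) * r 1 = (r 1)⁻¹ * sr 0 := by decide
theorem rel_z : (r 1 : DihedralGroup 4) * r 1 = r 2 := by decide
theorem rel_z_ne : (r 1 : DihedralGroup 4) * r 1 ≠ 1 := by decide
theorem rel_sz_ne : (sr 0 : DihedralGroup 4) * (r 1 * r 1) ≠ 1 := by decide
theorem rel_s2' : (sr 2 : DihedralGroup 4) = sr 0 * (r 1 * r 1) := by decide
theorem rel_rs : (r 1 : DihedralGroup 4) * sr 0 = sr 3 := by decide
theorem rel_s1 : (sr 1 : DihedralGroup 4) = (r 1 * sr 0) * (r 1 * r 1) := by decide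

end Cfsg.Agent.Lib.Helper22.D8Four
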