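import Mathlib

/-!
# The faithful irreducible `F₂`-module of `3² : D₈` (operator form)

Four operators `α₁ α₂ δ τ` on an `F₂`-space `M` satisfying the relations of
`a₁, a₂ = r a₁ r⁻¹, u, r` in `3² : D₈`, irreducible, without common fixed points of `α₁, α₂`,
and with `α₁` having a nonzero fixed point.  Then `#M = 16`, the fixed points of `⟨δ, τ²⟩`
number `4` and those of `⟨τδ, τ²⟩` number `2`.
-/

set_option autoImplicit false

namespace Cfsg.Agent.Lib.Helper22.D8Mod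

variable {M : Type*} [AddCommGroup M] [Module (ZMod 2) M]

theorem add_self_zmod2 (m : M) : m + m = 0 := by
  have : (2 : ZMod 2) • m = 0 := by rw [show (2 : ZMod 2) = 0 from rfl, zero_smul]
  rwa [two_smul] at this

/-- an involution of a nonzero invariant subspace has a nonzero fixed vector -/
theorem exists_fixed (N : Submodule (ZMod 2) M) (σ : M →ₗ[ZMod 2] M)
    (hσ2 : ∀ m ∈ N, σ (σ m) = m)
    (hσN : ∀ m ∈ N, σ m ∈ N) (hN : N ≠ ⊥) : ∃ m ∈ N, m ≠ 0 ∧ σ m = m := by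
  obtain ⟨n, hnN, hn0⟩ := Submodule.exists_mem_ne_zero_of_ne_bot hN
  by_cases h : σ n = n
  · exact ⟨n, hnN, hn0, h⟩
  · refine ⟨n + σ n, N.add_mem hnN (hσN n hnN), ?_, ?_⟩
    · intro h0
      apply h
      have := add_self_zmod2 n
      linear_combination (norm := module) h0 - this
    · rw [map_add, hσ2 n hnN, add_comm]

structure Rel (α₁ α₂ δ τ : M →ₗ[ZMod 2] M) : Prop where
  a13 : ∀ m, α₁ (α₁ (α₁ m)) = m
  a23 : ∀ m, α₂ (α₂ (α₂ m)) = m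
  a12 : ∀ m, α₁ (α₂ m) = α₂ (α₁ m)
  d2 : ∀ m, δ (δ m) = m
  da1 : ∀ m, δ (α₁ m) = α₁ (δ m)
  da2 : ∀ m, δ (α₂ m) = α₂ (α₂ (δ m))
  ta1 : ∀ m, τ (α₁ m) = α₂ (τ m)
  ta2 : ∀ m, τ (α₂ m) = α₁ (α₁ (τ m))
  t4 : ∀ m, τ (τ (τ (τ m))) = m
  dt : ∀ m, δ (τ m) = τ (τ (τ (δ m)))
  ca : ∀ m, α₁ m = m → α₂ m = m → m = 0
  irr : ∀ N : Submodule (ZMod 2) M, (∀ m ∈ N, α₁ m ∈ N) → (∀ m ∈ N, α₂ m ∈ N) →
      (∀ m ∈ N, δ m ∈ N) → (∀ m ∈ N, τ m ∈ N) → N = ⊥ ∨ N = ⊤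

namespace Rel

variable {α₁ α₂ δ τ : M →ₗ[ZMod 2] M} (h : Rel α₁ α₂ δ τ)
include h

theorem dz (m : M) : δ (τ (τ m)) = τ (τ (δ m)) := by
  rw [h.dt, h.dt]
  exact h.t4 (τ (τ (δ m)))

theorem a1t (m : M) : α₁ (τ m) = τ (α₂ (α₂ m)) := by
  rw [h.ta2, h.ta2, h.a13]

theorem za1 {m : M} (hm : α₁ m = m) : α₁ (τ (τ m)) = τ (τ m) := by
  have e : τ (τ m) = α₁ (α₁ (τ (τ m))) := by
    conv_lhs => rw [← hm, h.ta1, h.ta2]
  calc α₁ (τ (τ m)) = α₁ (α₁ (α₁ (τ (τ m)))) := congrArg α₁ e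
    _ = τ (τ m) := h.a13 _

theorem tinj {m : M} (hm : τ m = 0) : m = 0 := by
  have := h.t4 m
  rw [hm, map_zero, map_zero, map_zero] at this
  exact this.symm

/-- the key consequence of irreducibility -/
theorem key (N₁ : Submodule (ZMod 2) M) (hN1 : N₁ ≠ ⊥)
    (hP : ∀ n ∈ N₁, α₁ n = n) (h2 : ∀ n ∈ N₁, α₂ n ∈ N₁) (hd : ∀ n ∈ N₁, δ n ∈ N₁)
    (hz : ∀ n ∈ N₁, τ (τ n) ∈ N₁) :
    (∀ x : M, ∃ n ∈ N₁, ∃ n' ∈ N₁, x = n + τ n') ∧ (∀ p, α₁ p = p → p ∈ N₁) := by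
  have hsplit : ∀ x ∈ N₁ ⊔ N₁.map τ, ∃ n ∈ N₁, ∃ n' ∈ N₁, x = n + τ n' := by
    intro x hx
    obtain ⟨n, hn, y, hy, rfl⟩ := Submodule.mem_sup.mp hx
    obtain ⟨n', hn', rfl⟩ := Submodule.mem_map.mp hy
    exact ⟨n, hn, n', hn', rfl⟩
  have hmem : ∀ n ∈ N₁, ∀ n' ∈ N₁, n + τ n' ∈ N₁ ⊔ N₁.map τ := fun n hn n' hn' =>
    Submodule.add_mem_sup hn (Submodule.mem_map_of_mem hn')
  have hall : N₁ ⊔ N₁.map τ = ⊥ ∨ N₁ ⊔ N₁.map τ = ⊤ := by
    apply h.irr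
    · intro x hx
      obtain ⟨n, hn, n', hn', rfl⟩ := hsplit x hx
      rw [map_add, hP n hn, h.a1t]
      exact hmem n hn _ (h2 _ (h2 _ hn'))
    · intro x hx
      obtain ⟨n, hn, n', hn', rfl⟩ := hsplit x hx
      rw [map_add, ← h.ta1, hP n' hn']
      exact hmem _ (h2 n hn) n' hn'
    · intro x hx
      obtain ⟨n, hn, n', hn', rfl⟩ := hsplit x hx
      rw [map_add, h.dt]
      exact hmem _ (hd n hn) _ (hz _ (hd _ hn'))
    · intro x hx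
      obtain ⟨n, hn, n', hn', rfl⟩ := hsplit x hx
      rw [map_add, add_comm]
      exact hmem _ (hz n' hn') n hn
  have htop : N₁ ⊔ N₁.map τ = ⊤ := by
    rcases hall with h0 | h1
    · exfalso
      apply hN1
      rw [eq_bot_iff, ← h0]
      exact le_sup_left
    · exact h1
  have hx : ∀ x : M, ∃ n ∈ N₁, ∃ n' ∈ N₁, x = n + τ n' := by
    intro x
    apply hsplit
    rw [htop]
    trivial
  refine ⟨hx, ?_⟩
  intro p hp
  obtain ⟨n, hn, n', hn', rfl⟩ := hx p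
  have e1 : α₁ (τ n') = τ n' := by
    have := hp
    rw [map_add, hP n hn] at this
    exact add_left_cancel this
  have e2 : α₂ (τ n') = τ n' := by
    rw [← h.ta1, hP n' hn']
  rw [h.ca _ e1 e2, add_zero]
  exact hn

end Rel

/-- the coordinate space -/
abbrev C4 := (ZMod 2 × ZMod 2) × (ZMod 2 × ZMod 2)

def dC (c : C4) : C4 := ((c.1.1 + c.1.2, c.1.2), (c.2.1, c.2.2))
def zC (c : C4) : C4 := ((c.1.1 + c.1.2, c.1.2), (c.2.1 + c.2.2, c.2.2))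
def tdC (c : C4) : C4 := ((c.2.1 + c.2.2, c.2.2), (c.1.1 + c.1.2, c.1.2))

theorem card_C4 : Nat.card C4 = 16 := by
  rw [Nat.card_eq_fintype_card]; rfl

theorem card_dz : Nat.card {c : C4 // dC c = c ∧ zC c = c} = 4 := by
  rw [Nat.card_eq_fintype_card, Fintype.card_subtype]; decide

theorem card_tdz : Nat.card {c : C4 // tdC c = c ∧ zC c = c} = 2 := by
  rw [Nat.card_eq_fintype_card, Fintype.card_subtype]; decide

theorem main {α₁ α₂ δ τ : M →ₗ[ZMod 2] M} (h : Rel α₁ α₂ δ τ)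
    (hP : ∃ m, m ≠ 0 ∧ α₁ m = m) :
    Nat.card M = 16 ∧ Nat.card {m : M // δ m = m ∧ τ (τ m) = m} = 4 ∧
      Nat.card {m : M // τ (δ m) = m ∧ τ (τ m) = m} = 2 := by
  classical
  obtain ⟨P, hPdef⟩ : ∃ P : Submodule (ZMod 2) M, P = LinearMap.eqLocus α₁ LinearMap.id :=
    ⟨_, rfl⟩
  have memP : ∀ m, m ∈ P ↔ α₁ m = m := fun m => by
    rw [hPdef, LinearMap.mem_eqLocus, LinearMap.id_apply]
  have hPne : P ≠ ⊥ := by
    obtain ⟨m, hm0, hm⟩ := hP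
    intro hbot
    apply hm0
    have : m ∈ P := (memP m).mpr hm
    rw [hbot] at this
    exact (Submodule.mem_bot _).mp this
  have P2 : ∀ m ∈ P, α₂ m ∈ P := fun m hm => by
    rw [memP] at hm ⊢; rw [h.a12, hm]
  have Pd : ∀ m ∈ P, δ m ∈ P := fun m hm => by
    rw [memP] at hm ⊢; rw [← h.da1, hm]
  have Pz : ∀ m ∈ P, τ (τ m) ∈ P := fun m hm => by
    rw [memP] at hm ⊢; exact h.za1 hm
  -- Step 2: δ ζ is trivial on P
  have hdz : ∀ p ∈ P, δ (τ (τ p)) = p := by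
    obtain ⟨N₁, hN₁def⟩ : ∃ N₁ : Submodule (ZMod 2) M,
        N₁ = P ⊓ LinearMap.eqLocus (δ ∘ₗ τ ∘ₗ τ) LinearMap.id := ⟨_, rfl⟩
    have memN : ∀ m, m ∈ N₁ ↔ α₁ m = m ∧ δ (τ (τ m)) = m := fun m => by
      rw [hN₁def, Submodule.mem_inf, memP, LinearMap.mem_eqLocus, LinearMap.id_apply]
      rfl
    have hN1 : N₁ ≠ ⊥ := by
      have hs2 : ∀ m ∈ P, (δ ∘ₗ τ ∘ₗ τ) ((δ ∘ₗ τ ∘ₗ τ) m) = m := by
        intro m _
        show δ (τ (τ (δ (τ (τ m))))) = m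
        rw [← h.dz, h.d2]
        exact h.t4 m
      have hsN : ∀ m ∈ P, (δ ∘ₗ τ ∘ₗ τ) m ∈ P := by
        intro m hm
        exact Pd _ (Pz _ hm)
      obtain ⟨m, hmP, hm0, hm⟩ := exists_fixed P (δ ∘ₗ τ ∘ₗ τ) hs2 hsN hPne
      intro hbot
      apply hm0
      have : m ∈ N₁ := (memN m).mpr ⟨(memP m).mp hmP, hm⟩
      rw [hbot] at this
      exact (Submodule.mem_bot _).mp this
    have hkey := (h.key N₁ hN1 (fun n hn => ((memN n).mp hn).1) ?_ ?_ ?_).2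
    · intro p hp
      exact ((memN p).mp (hkey p ((memP p).mp hp))).2
    · intro n hn
      obtain ⟨e1, e2⟩ := (memN n).mp hn
      rw [memN]
      refine ⟨by rw [h.a12, e1], ?_⟩
      rw [h.ta2, h.ta1, h.ta1, h.da2, h.da2, e2]
      exact h.a23 _
    · intro n hn
      obtain ⟨e1, e2⟩ := (memN n).mp hn
      have e3 : τ (τ n) = δ n := by conv_rhs => rw [← e2, h.d2]
      rw [memN]
      refine ⟨(memP _).mp (Pd _ ((memP _).mpr e1)), ?_⟩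
      rw [← h.dz, h.d2, e3]
    · intro n hn
      obtain ⟨e1, e2⟩ := (memN n).mp hn
      have e3 : τ (τ n) = δ n := by conv_rhs => rw [← e2, h.d2]
      rw [memN]
      refine ⟨h.za1 e1, ?_⟩
      rw [h.t4, e3]
  have hzP : ∀ p ∈ P, τ (τ p) = δ p := by
    intro p hp
    conv_rhs => rw [← hdz p hp, h.d2]
  have hdτ : ∀ q ∈ P, δ (τ q) = τ q := by
    intro q hq
    rw [h.dt, hzP _ (Pd q hq), h.d2]
  -- Step 3
  obtain ⟨m₀, hm₀P, hm₀0, hm₀d⟩ := exists_fixed P δ (fun m _ => h.d2 m) Pd hPne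
  obtain ⟨m₁, hm₁⟩ : ∃ m₁, m₁ = α₂ m₀ := ⟨_, rfl⟩
  have hm₀1 : α₁ m₀ = m₀ := (memP _).mp hm₀P
  have hm₁P : m₁ ∈ P := by rw [hm₁]; exact P2 _ hm₀P
  have h21 : α₂ m₁ = m₀ + m₁ := by
    have hx : α₁ (m₀ + m₁ + α₂ m₁) = m₀ + m₁ + α₂ m₁ := by
      rw [map_add, map_add, hm₀1, (memP _).mp hm₁P, (memP _).mp (P2 _ hm₁P)]
    have hy : α₂ (m₀ + m₁ + α₂ m₁) = m₀ + m₁ + α₂ m₁ := by
      rw [map_add, map_add, hm₁, h.a23]; abel
    have h0 := h.ca _ hx hy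
    linear_combination (norm := module) h0 - add_self_zmod2 m₀ - add_self_zmod2 m₁
  have hdm₁ : δ m₁ = m₀ + m₁ := by
    rw [← h21, hm₁, h.da2, hm₀d]
  have hind : ∀ i j : ZMod 2, i • m₀ + j • m₁ = 0 → i = 0 ∧ j = 0 := by
    intro i j hij
    have h01 : ∀ i : ZMod 2, i = 0 ∨ i = 1 := by decide
    rcases h01 i with rfl | rfl <;> rcases h01 j with rfl | rfl
    · exact ⟨rfl, rfl⟩
    · exfalso
      have e : m₁ = 0 := by simpa using hij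
      apply hm₀0
      have := h.a23 m₀
      rw [← hm₁, e, map_zero, map_zero] at this
      exact this.symm
    · exfalso; apply hm₀0; simpa using hij
    · exfalso
      have e : m₀ + m₁ = 0 := by simpa using hij
      have e' : α₂ m₀ = m₀ := by
        rw [← hm₁]
        linear_combination (norm := module) e - add_self_zmod2 m₀
      exact hm₀0 (h.ca _ hm₀1 e')
  -- the span
  obtain ⟨N₁, hN₁def⟩ : ∃ N₁ : Submodule (ZMod 2) M, N₁ = Submodule.span (ZMod 2) {m₀, m₁} :=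
    ⟨_, rfl⟩
  have memN : ∀ x, x ∈ N₁ ↔ ∃ a b : ZMod 2, a • m₀ + b • m₁ = x := fun x => by
    rw [hN₁def, Submodule.mem_span_pair]
  have hN1 : N₁ ≠ ⊥ := by
    intro hbot
    apply hm₀0
    have : m₀ ∈ N₁ := (memN _).mpr ⟨1, 0, by simp⟩
    rw [hbot] at this
    exact (Submodule.mem_bot _).mp this
  have NP : ∀ n ∈ N₁, n ∈ P := by
    intro n hn
    obtain ⟨a, b, rfl⟩ := (memN n).mp hn
    exact P.add_mem (P.smul_mem _ hm₀P) (P.smul_mem _ hm₁P)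
  have Nd : ∀ n ∈ N₁, δ n ∈ N₁ := by
    intro n hn
    obtain ⟨a, b, rfl⟩ := (memN n).mp hn
    rw [memN]
    refine ⟨a + b, b, ?_⟩
    rw [map_add, map_smul, map_smul, hm₀d, hdm₁]
    module
  have hkey := h.key N₁ hN1 (fun n hn => (memP n).mp (NP n hn)) ?_ Nd ?_
  rotate_left
  · intro n hn
    obtain ⟨a, b, rfl⟩ := (memN n).mp hn
    rw [memN]
    refine ⟨b, a + b, ?_⟩
    rw [map_add, map_smul, map_smul, ← hm₁, h21]
    module
  · intro n hn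
    rw [hzP n (NP n hn)]
    exact Nd n hn
  obtain ⟨hsplit, hPN⟩ := hkey
  -- coordinates
  let Φ : C4 →ₗ[ZMod 2] M :=
    ((LinearMap.toSpanSingleton (ZMod 2) M m₀).coprod
      (LinearMap.toSpanSingleton (ZMod 2) M m₁)).coprod
    (τ ∘ₗ ((LinearMap.toSpanSingleton (ZMod 2) M m₀).coprod
      (LinearMap.toSpanSingleton (ZMod 2) M m₁)))
  have hΦ : ∀ c : C4, Φ c = c.1.1 • m₀ + c.1.2 • m₁ + τ (c.2.1 • m₀ + c.2.2 • m₁) := by
    intro c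
    simp [Φ, LinearMap.coprod_apply, LinearMap.toSpanSingleton_apply]
  have hcP : ∀ a b : ZMod 2, a • m₀ + b • m₁ ∈ P := fun a b =>
    P.add_mem (P.smul_mem _ hm₀P) (P.smul_mem _ hm₁P)
  have hΦsurj : Function.Surjective Φ := by
    intro x
    obtain ⟨n, hn, n', hn', rfl⟩ := hsplit x
    obtain ⟨a, b, rfl⟩ := (memN n).mp hn
    obtain ⟨a', b', rfl⟩ := (memN n').mp hn'
    exact ⟨((a, b), (a', b')), by rw [hΦ]⟩
  have hΦinj : Function.Injective Φ := by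
    rw [injective_iff_map_eq_zero]
    rintro ⟨⟨i, j⟩, ⟨k, l⟩⟩ h0
    rw [hΦ] at h0
    simp only at h0
    have hq : τ (k • m₀ + l • m₁) = i • m₀ + j • m₁ := by
      linear_combination (norm := module) h0 - add_self_zmod2 (i • m₀ + j • m₁)
    have e1 : α₁ (τ (k • m₀ + l • m₁)) = τ (k • m₀ + l • m₁) := by
      rw [hq]; exact (memP _).mp (hcP i j)
    have e2 : α₂ (τ (k • m₀ + l • m₁)) = τ (k • m₀ + l • m₁) := by
      rw [← h.ta1, (memP _).mp (hcP k l)]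
    have e3 := h.ca _ e1 e2
    have e4 := h.tinj e3
    rw [e3] at hq
    obtain ⟨rfl, rfl⟩ := hind k l e4
    obtain ⟨rfl, rfl⟩ := hind i j hq.symm
    rfl
  have hδc : ∀ a b : ZMod 2, δ (a • m₀ + b • m₁) = (a + b) • m₀ + b • m₁ := by
    intro a b
    rw [map_add, map_smul, map_smul, hm₀d, hdm₁]
    module
  have hδΦ : ∀ c : C4, δ (Φ c) = Φ (dC c) := by
    intro c
    rw [hΦ, hΦ, map_add, hdτ _ (hcP _ _), hδc]
    rfl
  have hζΦ : ∀ c : C4, τ (τ (Φ c)) = Φ (zC c) := by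
    intro c
    rw [hΦ, hΦ, map_add, map_add, hzP _ (hcP c.1.1 c.1.2), hzP _ (hcP c.2.1 c.2.2), hδc, hδc]
    rfl
  have htdΦ : ∀ c : C4, τ (δ (Φ c)) = Φ (tdC c) := by
    intro c
    rw [hδΦ, hΦ, hΦ, map_add, hzP _ (hcP _ _), hδc, add_comm]
    rfl
  let e : C4 ≃ M := Equiv.ofBijective Φ ⟨hΦinj, hΦsurj⟩
  have he : ∀ c, e c = Φ c := fun c => rfl
  refine ⟨?_, ?_, ?_⟩
  · exact (Nat.card_congr e).symm.trans card_C4
  · refine Eq.trans ?_ card_dz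
    refine (Nat.card_congr (Equiv.subtypeEquiv e ?_)).symm
    intro c
    rw [he, hδΦ, hζΦ, hΦinj.eq_iff, hΦinj.eq_iff]
  · refine Eq.trans ?_ card_tdz
    refine (Nat.card_congr (Equiv.subtypeEquiv e ?_)).symm
    intro c
    rw [he, htdΦ, hζΦ, hΦinj.eq_iff, hΦinj.eq_iff]

end Cfsg.Agent.Lib.Helper22.D8Mod
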