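import Mathlib
import Cfsg.Agent.Lib.Helper22.D8Mod

/-!
# Group-level glue for the `3² : D₈` module analysis
-/

set_option autoImplicit false

namespace Cfsg.Agent.Lib.Helper22.D8Glue

open Cfsg.Agent.Lib.Helper22.D8Mod

/-- two independent elements of an elementary abelian group of order 9 generate it -/
theorem cl9 {S : Type*} [Group S] (A : Subgroup S) (hAcomm : ∀ x ∈ A, ∀ y ∈ A, x * y = y * x)
    (hA3 : ∀ a ∈ A, a ^ 3 = 1) (hA9 : Nat.card A = 9) (c d : S) (hc : c ∈ A) (hd : d ∈ A)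
    (hc1 : c ≠ 1) (hdc : d ∉ Subgroup.zpowers c) : ∀ a ∈ A, ∃ i j : ℕ, a = c ^ i * d ^ j := by
  haveI : Finite A := Nat.finite_of_card_ne_zero (by rw [hA9]; norm_num)
  obtain ⟨H, hHdef⟩ : ∃ H, H = Subgroup.closure ({c, d} : Set S) := ⟨_, rfl⟩
  have hHA : H ≤ A := by
    rw [hHdef, Subgroup.closure_le]
    intro x hx
    rcases hx with rfl | rfl
    · exact hc
    · exact hd
  have hcH' : c ∈ H := by rw [hHdef]; exact Subgroup.subset_closure (by simp)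
  have hdH : d ∈ H := by rw [hHdef]; exact Subgroup.subset_closure (by simp)
  have hcH : Subgroup.zpowers c ≤ H := Subgroup.zpowers_le.mpr hcH'
  haveI : Fact (Nat.Prime 3) := ⟨by norm_num⟩
  have hoc : orderOf c = 3 := orderOf_eq_prime (hA3 c hc) hc1
  have h3 : Nat.card (Subgroup.zpowers c) = 3 := by rw [Nat.card_zpowers, hoc]
  haveI : Finite H := Finite.of_injective (Subgroup.inclusion hHA) (Subgroup.inclusion_injective hHA)
  have hdvd : Nat.card H ∣ 9 := hA9 ▸ Subgroup.card_dvd_of_le hHA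
  have h3dvd : 3 ∣ Nat.card H := h3 ▸ Subgroup.card_dvd_of_le hcH
  have hne3 : Nat.card H ≠ 3 := by
    intro h
    have : Subgroup.zpowers c = H := Subgroup.eq_of_le_of_card_ge hcH (by rw [h, h3])
    exact hdc (this ▸ hdH)
  have h9 : Nat.card H = 9 := by
    have hm : Nat.card H ∈ Nat.divisors 9 := Nat.mem_divisors.mpr ⟨hdvd, by norm_num⟩
    have hdiv : Nat.divisors 9 = {1, 3, 9} := by decide
    rw [hdiv] at hm
    simp only [Finset.mem_insert, Finset.mem_singleton] at hm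
    rcases hm with h | h | h
    · rw [h] at h3dvd; omega
    · exact absurd h hne3
    · exact h
  have hHeq : H = A := Subgroup.eq_of_le_of_card_ge hHA (by rw [h9, hA9])
  have hcd : Commute c d := hAcomm c hc d hd
  have hmul : ∀ x y : S, (∃ i j : ℕ, x = c ^ i * d ^ j) → (∃ i j : ℕ, y = c ^ i * d ^ j) →
      ∃ i j : ℕ, x * y = c ^ i * d ^ j := by
    rintro x y ⟨i, j, rfl⟩ ⟨k, l, rfl⟩
    refine ⟨i + k, j + l, ?_⟩
    have h1 : d ^ j * c ^ k = c ^ k * d ^ j := ((hcd.pow_pow k j).eq).symm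
    calc c ^ i * d ^ j * (c ^ k * d ^ l) = c ^ i * (d ^ j * c ^ k) * d ^ l := by group
      _ = c ^ i * (c ^ k * d ^ j) * d ^ l := by rw [h1]
      _ = c ^ (i + k) * d ^ (j + l) := by rw [pow_add, pow_add]; group
  intro a ha
  rw [← hHeq, hHdef] at ha
  refine Subgroup.closure_induction (p := fun x _ => ∃ i j : ℕ, x = c ^ i * d ^ j)
    ?_ ?_ ?_ ?_ ha
  · intro x hx
    rcases hx with rfl | rfl
    · exact ⟨1, 0, by simp⟩
    · exact ⟨0, 1, by simp⟩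
  · exact ⟨0, 0, by simp⟩
  · intro x y _ _ hx hy
    exact hmul x y hx hy
  · intro x hx hpx
    have hxA : x ∈ A := by
      rw [← hHdef] at hx
      exact hHA hx
    have hx3 := hA3 x hxA
    have : x⁻¹ = x * x := by
      apply inv_eq_of_mul_eq_one_right
      rw [← hx3, pow_succ, pow_succ, pow_one, mul_assoc]
    rw [this]
    exact hmul x x hpx hpx

section rep

variable {S M : Type*} [Group S] [AddCommGroup M] [Module (ZMod 2) M]
  (ρ : Representation (ZMod 2) S M)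

theorem rho_mul (g h : S) (m : M) : ρ (g * h) m = ρ g (ρ h m) := by
  rw [map_mul]; rfl

theorem rho_one (m : M) : ρ 1 m = m := by
  rw [map_one]; rfl

theorem pow_fix (g : S) (m : M) (h : ρ g m = m) (k : ℕ) : ρ (g ^ k) m = m := by
  induction k with
  | zero => rw [pow_zero, rho_one]
  | succ k ih => rw [pow_succ, rho_mul, h, ih]

theorem pow_inv (N : Submodule (ZMod 2) M) (g : S) (h : ∀ m ∈ N, ρ g m ∈ N) (k : ℕ) :
    ∀ m ∈ N, ρ (g ^ k) m ∈ N := by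
  induction k with
  | zero => intro m hm; rw [pow_zero, rho_one]; exact hm
  | succ k ih => intro m hm; rw [pow_succ, rho_mul]; exact ih _ (h m hm)

end rep

/-- The main group-level lemma. -/
theorem L4 {S : Type*} [Group S] (A X : Subgroup S) [hAn : A.Normal]
    (hAcomm : ∀ x ∈ A, ∀ y ∈ A, x * y = y * x) (hA3 : ∀ a ∈ A, a ^ 3 = 1)
    (hA9 : Nat.card A = 9) (hAX : A ⊔ X = ⊤)
    (r u : S) (hX : ∀ x ∈ X, ∃ k : ℕ, x = r ^ k ∨ x = u * r ^ k)
    (hr4 : r * r * r * r = 1) (hu2 : u * u = 1) (hur : u * r = r⁻¹ * u)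
    (hz : ∀ a ∈ A, (r * r) * a * (r * r)⁻¹ = a⁻¹)
    (a₁ : S) (ha₁ : a₁ ∈ A) (ha₁1 : a₁ ≠ 1) (hua : u * a₁ = a₁ * u)
    {M : Type*} [AddCommGroup M] [Module (ZMod 2) M] [Finite M]
    (ρ : Representation (ZMod 2) S M)
    (hirr : ∀ N : Submodule (ZMod 2) M, (∀ s : S, ∀ m ∈ N, ρ s m ∈ N) → N = ⊥ ∨ N = ⊤)
    (hCA : ∀ m, (∀ a ∈ A, ρ a m = m) → m = 0)
    (hP : ∃ m, m ≠ 0 ∧ (ρ a₁ m = m ∨ ρ (r * a₁ * r⁻¹) m = m)) :
    Nat.card M = 16 ∧ Nat.card {m : M // ρ u m = m ∧ ρ (r * r) m = m} = 4 ∧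
      Nat.card {m : M // ρ (r * u) m = m ∧ ρ (r * r) m = m} = 2 := by
  obtain ⟨a₂, ha₂def⟩ : ∃ a₂, a₂ = r * a₁ * r⁻¹ := ⟨_, rfl⟩
  rw [← ha₂def] at hP
  have ha₂ : a₂ ∈ A := by rw [ha₂def]; exact hAn.conj_mem a₁ ha₁ r
  have hrinv : r⁻¹ = r * r * r := by
    apply inv_eq_of_mul_eq_one_right
    rw [← hr4]; group
  have h13 : a₁ * (a₁ * a₁) = 1 := by
    rw [← hA3 a₁ ha₁, pow_succ, pow_succ, pow_one, mul_assoc]
  have h23 : a₂ * (a₂ * a₂) = 1 := by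
    rw [← hA3 a₂ ha₂, pow_succ, pow_succ, pow_one, mul_assoc]
  have ha₁inv : a₁⁻¹ = a₁ * a₁ := inv_eq_of_mul_eq_one_right h13
  have ha₂inv : a₂⁻¹ = a₂ * a₂ := inv_eq_of_mul_eq_one_right h23
  have h12 : a₁ * a₂ = a₂ * a₁ := hAcomm a₁ ha₁ a₂ ha₂
  have hr1 : r * a₁ = a₂ * r := by rw [ha₂def]; group
  have hr2 : r * a₂ = a₁ * (a₁ * r) := by
    have : r * a₂ = ((r * r) * a₁ * (r * r)⁻¹) * r := by rw [ha₂def]; group
    rw [this, hz a₁ ha₁, ha₁inv, mul_assoc]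
  have hur' : u * r⁻¹ = r * u := by
    have : u * r⁻¹ = r * (r⁻¹ * u) * r⁻¹ := by group
    rw [this, ← hur]; group
  have hu2' : u * a₂ = a₂ * (a₂ * u) := by
    have e1 : u * a₂ = (r⁻¹ * a₁ * r) * u := by
      calc u * a₂ = (u * r) * a₁ * r⁻¹ := by rw [ha₂def]; group
        _ = r⁻¹ * (u * a₁) * r⁻¹ := by rw [hur]; group
        _ = r⁻¹ * a₁ * (u * r⁻¹) := by rw [hua]; group
        _ = (r⁻¹ * a₁ * r) * u := by rw [hur']; group
    have e2 : r⁻¹ * a₁ * r = a₂⁻¹ := by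
      rw [← hz a₂ ha₂, ha₂def]
      have : (r * r)⁻¹ = r * r := by
        apply inv_eq_of_mul_eq_one_right
        rw [← hr4]; group
      rw [this]
      calc r⁻¹ * a₁ * r = (r * r * r * r) * r⁻¹ * a₁ * r := by rw [hr4]; group
        _ = r * r * (r * a₁ * r⁻¹) * (r * r) := by group
    rw [e1, e2, ha₂inv, mul_assoc]
  have hdt : u * r = r * (r * (r * u)) := by
    rw [hur, hrinv]; group
  have ht4 : r * (r * (r * r)) = 1 := by rw [← hr4]; group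
  -- a₂ ∉ zpowers a₁
  have ha₂1 : a₂ ≠ 1 := by
    intro h
    apply ha₁1
    have : a₁ = r⁻¹ * a₂ * r := by rw [ha₂def]; group
    rw [this, h]; group
  have hnz : a₂ ∉ Subgroup.zpowers a₁ := by
    intro hmem
    have hle : Subgroup.zpowers a₁ ≤ Subgroup.centralizer {u} := by
      rw [Subgroup.zpowers_le, Subgroup.mem_centralizer_iff]
      intro x hx
      rw [Set.mem_singleton_iff] at hx
      rw [hx, hua]
    have hc := hle hmem
    rw [Subgroup.mem_centralizer_iff] at hc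
    have hc' : u * a₂ = a₂ * u := hc u rfl
    rw [hu2'] at hc'
    have h3 : a₂ * u = u := mul_left_cancel hc'
    apply ha₂1
    exact mul_right_cancel (h3.trans (one_mul u).symm)
  have hgen := cl9 A hAcomm hA3 hA9 a₁ a₂ ha₁ ha₂ ha₁1 hnz
  have hρ := rho_mul ρ
  -- the relation structure
  have hca : ∀ m, ρ a₁ m = m → ρ a₂ m = m → m = 0 := by
    intro m h1 h2
    apply hCA
    intro a ha
    obtain ⟨i, j, rfl⟩ := hgen a ha
    rw [hρ, pow_fix ρ a₂ m h2 j, pow_fix ρ a₁ m h1 i]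
  have hirr4 : ∀ N : Submodule (ZMod 2) M, (∀ m ∈ N, ρ a₁ m ∈ N) → (∀ m ∈ N, ρ a₂ m ∈ N) →
      (∀ m ∈ N, ρ u m ∈ N) → (∀ m ∈ N, ρ r m ∈ N) → N = ⊥ ∨ N = ⊤ := by
    intro N i1 i2 iu ir
    apply hirr
    intro s m hm
    have hs : s ∈ A ⊔ X := by rw [hAX]; trivial
    have hs' : s ∈ ((A ⊔ X : Subgroup S) : Set S) := hs
    rw [Subgroup.normal_mul] at hs'
    obtain ⟨a, ha, x, hx, rfl⟩ := Set.mem_mul.mp hs'
    obtain ⟨i, j, rfl⟩ := hgen a ha
    have hxm : ρ x m ∈ N := by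
      obtain ⟨k, rfl | rfl⟩ := hX x hx
      · exact pow_inv ρ N r ir k m hm
      · rw [hρ]; exact iu _ (pow_inv ρ N r ir k m hm)
    rw [hρ, hρ]
    exact pow_inv ρ N a₁ i1 i _ (pow_inv ρ N a₂ i2 j _ hxm)
  have hrel : Rel (ρ a₁) (ρ a₂) (ρ u) (ρ r) := by
    refine ⟨?_, ?_, ?_, ?_, ?_, ?_, ?_, ?_, ?_, ?_, hca, hirr4⟩
    · intro m; simp only [← hρ]; rw [h13, rho_one]
    · intro m; simp only [← hρ]; rw [h23, rho_one]
    · intro m; simp only [← hρ]; rw [h12]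
    · intro m; simp only [← hρ]; rw [hu2, rho_one]
    · intro m; simp only [← hρ]; rw [hua]
    · intro m; simp only [← hρ]; rw [hu2']
    · intro m; simp only [← hρ]; rw [hr1]
    · intro m; simp only [← hρ]; rw [hr2]
    · intro m; simp only [← hρ]; rw [ht4, rho_one]
    · intro m; simp only [← hρ]; rw [hdt]
  have hP' : ∃ m, m ≠ 0 ∧ ρ a₁ m = m := by
    obtain ⟨m, hm0, h1 | h2⟩ := hP
    · exact ⟨m, hm0, h1⟩
    · refine ⟨ρ r m, fun h0 => hm0 (hrel.tinj h0), ?_⟩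
      rw [hrel.a1t, h2, h2]
  obtain ⟨c1, c2, c3⟩ := main hrel hP'
  refine ⟨c1, ?_, ?_⟩
  · refine Eq.trans ?_ c2
    apply Nat.card_congr
    apply Equiv.subtypeEquivRight
    intro m
    rw [hρ]
  · refine Eq.trans ?_ c3
    apply Nat.card_congr
    apply Equiv.subtypeEquivRight
    intro m
    rw [hρ, hρ]

/-- an element of order dividing 3 with `d * d = 1` is trivial -/
theorem eq_one_of_cube_sq {S : Type*} [Group S] (d : S) (h3 : d ^ 3 = 1) (h2 : d * d = 1) :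
    d = 1 := by
  have : d ^ 3 = d * d * d := by rw [pow_succ, pow_succ, pow_one]
  rw [this, h2, one_mul] at h3
  exact h3

/-- the square of an element of order four acting faithfully on `3²` inverts it -/
theorem z_inverts {S : Type*} [Group S] (A : Subgroup S) [hAn : A.Normal]
    (hAcomm : ∀ x ∈ A, ∀ y ∈ A, x * y = y * x) (hA3 : ∀ a ∈ A, a ^ 3 = 1)
    (hA9 : Nat.card A = 9) (r : S) (hr4 : r * r * r * r = 1)
    (hzne : ∃ a ∈ A, (r * r) * a * (r * r)⁻¹ ≠ a) :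
    ∀ a ∈ A, (r * r) * a * (r * r)⁻¹ = a⁻¹ := by
  obtain ⟨z, hzdef⟩ : ∃ z, z = r * r := ⟨_, rfl⟩
  rw [← hzdef] at hzne ⊢
  have hz2 : z * z = 1 := by rw [hzdef, ← hr4]; group
  have hzinv : z⁻¹ = z := inv_eq_of_mul_eq_one_right hz2
  obtain ⟨a₀, ha₀, hne⟩ := hzne
  have hgA : ∀ a ∈ A, z * a * z⁻¹ ∈ A := fun a ha => hAn.conj_mem a ha z
  have hgg : ∀ a, z * (z * a * z⁻¹) * z⁻¹ = a := by
    intro a
    calc z * (z * a * z⁻¹) * z⁻¹ = (z * z) * a * (z * z)⁻¹ := by group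
      _ = a := by rw [hz2]; group
  obtain ⟨d, hddef⟩ : ∃ d, d = a₀ * (z * a₀ * z⁻¹)⁻¹ := ⟨_, rfl⟩
  have hdA : d ∈ A := by rw [hddef]; exact A.mul_mem ha₀ (A.inv_mem (hgA a₀ ha₀))
  have hd1 : d ≠ 1 := by
    intro h
    apply hne
    rw [hddef] at h
    exact (mul_inv_eq_one.mp h).symm
  have hgd : z * d * z⁻¹ = d⁻¹ := by
    calc z * d * z⁻¹ = (z * a₀ * z⁻¹) * (z * (z * a₀ * z⁻¹) * z⁻¹)⁻¹ := by rw [hddef]; group
      _ = (z * a₀ * z⁻¹) * a₀⁻¹ := by rw [hgg]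
      _ = d⁻¹ := by rw [hddef]; group
  obtain ⟨fd, hfddef⟩ : ∃ fd, fd = r * d * r⁻¹ := ⟨_, rfl⟩
  have hfdA : fd ∈ A := by rw [hfddef]; exact hAn.conj_mem d hdA r
  have hffd : r * fd * r⁻¹ = d⁻¹ := by
    rw [← hgd, hfddef, hzdef]; group
  have hgfd : z * fd * z⁻¹ = fd⁻¹ := by
    calc z * fd * z⁻¹ = r * (z * d * z⁻¹) * r⁻¹ := by rw [hfddef, hzdef]; group
      _ = fd⁻¹ := by rw [hgd, hfddef]; group
  have hd3 : d ^ 3 = 1 := hA3 d hdA
  have hd3' : d * d * d = 1 := by rw [← hd3, pow_succ, pow_succ, pow_one]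
  have hdinv_ne : d⁻¹ ≠ d := by
    intro h
    apply hd1
    apply eq_one_of_cube_sq d hd3
    calc d * d = d⁻¹ * d := by rw [h]
      _ = 1 := inv_mul_cancel d
  have hnz : fd ∉ Subgroup.zpowers d := by
    intro hmem
    obtain ⟨k, hk⟩ := Subgroup.mem_zpowers_iff.mp hmem
    haveI : Fact (Nat.Prime 3) := ⟨by norm_num⟩
    have hod : orderOf d = 3 := orderOf_eq_prime hd3 hd1
    have hk' : d ^ (k % 3) = fd := by
      have := zpow_mod_orderOf d k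
      rw [hod] at this
      rw [← hk]; exact this
    have hcases : k % 3 = 0 ∨ k % 3 = 1 ∨ k % 3 = 2 := by omega
    rcases hcases with h | h | h
    · rw [h, zpow_zero] at hk'
      apply hd1
      have : d = r⁻¹ * fd * r := by rw [hfddef]; group
      rw [this, ← hk']; group
    · rw [h, zpow_one] at hk'
      apply hdinv_ne
      rw [← hffd, ← hk', ← hfddef, ← hk']
    · rw [h, zpow_two] at hk'
      apply hdinv_ne
      have e1 : r * (d * d) * r⁻¹ = fd * fd := by rw [hfddef]; group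
      rw [← hffd, ← hk', e1, ← hk']
      calc d * d * (d * d) = (d * d * d) * d := by group
        _ = d := by rw [hd3', one_mul]
  have hgen := cl9 A hAcomm hA3 hA9 d fd hdA hfdA hd1 hnz
  intro a ha
  obtain ⟨i, j, rfl⟩ := hgen a ha
  have e1 : z * (d ^ i * fd ^ j) * z⁻¹ = (z * d * z⁻¹) ^ i * (z * fd * z⁻¹) ^ j := by
    rw [conj_pow, conj_pow]; group
  rw [e1, hgd, hgfd, inv_pow, inv_pow, mul_inv_rev]
  have hcd : Commute d fd := hAcomm d hdA fd hfdA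
  have hc : Commute (d ^ i) (fd ^ j) := hcd.pow_pow i j
  exact (hc.inv_inv).eq

/-- a noncentral involution of `D₈` fixes a nontrivial element of `3²` -/
theorem exists_fixed_A {S : Type*} [Group S] (A : Subgroup S) [hAn : A.Normal]
    (hAcomm : ∀ x ∈ A, ∀ y ∈ A, x * y = y * x) (u z : S) (hu2 : u * u = 1)
    (hzinv : ∀ a ∈ A, z * a * z⁻¹ = a⁻¹)
    (huz : ∃ a ∈ A, (u * z) * a * (u * z)⁻¹ ≠ a) :
    ∃ a₁ ∈ A, a₁ ≠ 1 ∧ u * a₁ = a₁ * u := by
  by_contra hcon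
  push Not at hcon
  obtain ⟨a, ha, hne⟩ := huz
  apply hne
  have huinv : u⁻¹ = u := inv_eq_of_mul_eq_one_right hu2
  have huaA : u * a * u⁻¹ ∈ A := hAn.conj_mem a ha u
  have h1 : a * (u * a * u⁻¹) = 1 := by
    by_contra hne1
    apply hcon _ (A.mul_mem ha huaA) hne1
    have e : u * (a * (u * a * u⁻¹)) = (u * a * u⁻¹) * ((u * u) * a * (u * u)⁻¹) * u := by group
    rw [e, hu2, hAcomm a ha _ huaA]; group
  have h2 : u * a * u⁻¹ = a⁻¹ := (eq_inv_of_mul_eq_one_right h1)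
  calc (u * z) * a * (u * z)⁻¹ = u * (z * a * z⁻¹) * u⁻¹ := by group
    _ = (u * a * u⁻¹)⁻¹ := by rw [hzinv a ha]; group
    _ = a := by rw [h2, inv_inv]

/-- one of `a₁`, `a₂`, `a₁a₂` has a nonzero fixed vector on a faithful module -/
theorem exists_case {S : Type*} [Group S] {M : Type*} [AddCommGroup M] [Module (ZMod 2) M]
    [Nontrivial M]
    (ρ : Representation (ZMod 2) S M) (hfaith : Function.Injective ρ) (a₁ a₂ : S)
    (h13 : a₁ * (a₁ * a₁) = 1) (h23 : a₂ * (a₂ * a₂) = 1) (h12 : a₁ * a₂ = a₂ * a₁)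
    (hne : a₁ ≠ a₂) :
    ∃ m, m ≠ 0 ∧ (ρ a₁ m = m ∨ ρ a₂ m = m ∨ ρ (a₁ * a₂) m = m) := by
  by_contra hcon
  push Not at hcon
  have hρ := rho_mul ρ
  have k1 : ∀ x, x + ρ a₁ x + ρ a₁ (ρ a₁ x) = 0 := by
    intro x
    by_contra h0
    apply (hcon _ h0).1
    rw [map_add, map_add]
    have : ρ a₁ (ρ a₁ (ρ a₁ x)) = x := by simp only [← hρ]; rw [h13, rho_one]
    rw [this]; abel
  have k2 : ∀ x, x + ρ a₂ x + ρ a₂ (ρ a₂ x) = 0 := by
    intro x
    by_contra h0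
    apply (hcon _ h0).2.1
    rw [map_add, map_add]
    have : ρ a₂ (ρ a₂ (ρ a₂ x)) = x := by simp only [← hρ]; rw [h23, rho_one]
    rw [this]; abel
  have h123 : (a₁ * a₂) * ((a₁ * a₂) * (a₁ * a₂)) = 1 := by
    have e : (a₁ * a₂) * ((a₁ * a₂) * (a₁ * a₂)) = a₁ * (a₂ * a₁) * (a₂ * a₁) * a₂ := by group
    rw [e, ← h12]
    have e2 : a₁ * (a₁ * a₂) * (a₁ * a₂) * a₂ = a₁ * a₁ * (a₂ * a₁) * a₂ * a₂ := by group
    rw [e2, ← h12]
    have e3 : a₁ * a₁ * (a₁ * a₂) * a₂ * a₂ = (a₁ * (a₁ * a₁)) * (a₂ * (a₂ * a₂)) := by group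
    rw [e3, h13, h23, one_mul]
  have k3 : ∀ x, x + ρ (a₁ * a₂) x + ρ (a₁ * a₂) (ρ (a₁ * a₂) x) = 0 := by
    intro x
    by_contra h0
    apply (hcon _ h0).2.2
    rw [map_add, map_add]
    have : ρ (a₁ * a₂) (ρ (a₁ * a₂) (ρ (a₁ * a₂) x)) = x := by
      simp only [← hρ]; rw [h123, rho_one]
    rw [this]; abel
  have hcomm : ∀ x, ρ a₂ (ρ a₁ x) = ρ a₁ (ρ a₂ x) := by
    intro x; simp only [← hρ]; rw [h12]
  -- all x : ρ a₁ x = ρ a₂ x
  have hall : ∀ x, ρ a₁ x = ρ a₂ x := by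
    intro x
    have e2 : ρ a₂ (ρ a₂ x) = x + ρ a₂ x := by
      linear_combination (norm := module) k2 x - add_self_zmod2 x - add_self_zmod2 (ρ a₂ x)
    have e1 : ρ a₁ (ρ a₁ (x + ρ a₂ x)) = (x + ρ a₂ x) + ρ a₁ (x + ρ a₂ x) := by
      linear_combination (norm := module) k1 (x + ρ a₂ x) - add_self_zmod2 (x + ρ a₂ x)
        - add_self_zmod2 (ρ a₁ (x + ρ a₂ x))
    have e3 := k3 x
    simp only [hρ] at e3
    rw [hcomm (ρ a₂ x), e2, e1, map_add] at e3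
    linear_combination (norm := module) e3 - add_self_zmod2 x
      - add_self_zmod2 (ρ a₁ (ρ a₂ x)) - add_self_zmod2 (ρ a₂ x)
  apply hne
  apply hfaith
  exact LinearMap.ext hall

end Cfsg.Agent.Lib.Helper22.D8Glue
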