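import Mathlib
import Cfsg.Prelude.Def_Transfer
import Cfsg.Agent.Lib.Helper22.D8Glue
import Cfsg.Agent.Lib.Helper22.D8Four

/-!
# The faithful irreducible `F₂`-module of `3² : D₈`: final assembly
-/

set_option autoImplicit false

namespace Cfsg.Agent.Lib.Helper22.D8Main

open Cfsg.Agent.Lib.Helper22.D8Mod Cfsg.Agent.Lib.Helper22.D8Glue Cfsg.Agent.Lib.Helper22
open DihedralGroup

theorem final {S : Type*} [Group S] [Finite S]
    (A : Subgroup S) [hAn : A.Normal] (hA : Cfsg.IsElementaryAbelian 3 A)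
    (hA9 : Nat.card ↥A = 9)
    (hAC : Subgroup.centralizer (A : Set S) = A) (X : Subgroup S)
    (hX : Nonempty (↥X ≃* DihedralGroup 4)) (hAX : A ⊔ X = ⊤)
    {M : Type*} [AddCommGroup M] [Module (ZMod 2) M] [Finite M]
    (ρ : Representation (ZMod 2) S M)
    (hfaith : Function.Injective ρ)
    (hirr : ∀ N : Submodule (ZMod 2) M, (∀ s : S, ∀ m ∈ N, ρ s m ∈ N) → N = ⊥ ∨ N = ⊤)
    (hM : Nontrivial M) :
    Nat.card M = 16 ∧
      ∃! B : Subgroup S, B ≤ X ∧ Nat.card ↥B = 4 ∧ (∀ b ∈ B, b ^ 2 = 1) ∧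
        Nat.card {m : M // ∀ b ∈ B, ρ b m = m} = 2 := by
  classical
  obtain ⟨e⟩ := hX
  obtain ⟨hAcomm', hA3⟩ := hA
  have hAcomm : ∀ x ∈ A, ∀ y ∈ A, x * y = y * x := by
    intro x hx y hy
    have := hAcomm'.is_comm.comm ⟨x, hx⟩ ⟨y, hy⟩
    exact congrArg Subtype.val this
  have hρ := rho_mul ρ
  -- the embedding of D₈
  obtain ⟨φ, hφdef⟩ : ∃ φ : DihedralGroup 4 →* S, φ = X.subtype.comp e.symm.toMonoidHom :=
    ⟨_, rfl⟩
  have hφinj : Function.Injective φ := by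
    rw [hφdef]; exact X.subtype_injective.comp e.symm.injective
  have hφX : ∀ d, φ d ∈ X := fun d => by rw [hφdef]; exact (e.symm d).2
  have hφsurj : ∀ x ∈ X, ∃ d, φ d = x := fun x hx => ⟨e ⟨x, hx⟩, by rw [hφdef]; simp⟩
  have hφrange : φ.range = X := by
    ext x
    constructor
    · rintro ⟨d, rfl⟩; exact hφX d
    · intro hx; obtain ⟨d, rfl⟩ := hφsurj x hx; exact ⟨d, rfl⟩
  obtain ⟨r, hrdef⟩ : ∃ r, r = φ (DihedralGroup.r 1) := ⟨_, rfl⟩
  obtain ⟨u, hudef⟩ : ∃ u, u = φ (DihedralGroup.sr 0) := ⟨_, rfl⟩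
  have hrX : r ∈ X := by rw [hrdef]; exact hφX _
  have huX : u ∈ X := by rw [hudef]; exact hφX _
  have hr4 : r * r * r * r = 1 := by
    rw [hrdef, ← map_mul, ← map_mul, ← map_mul, D8Four.rel_r4, map_one]
  have hu2 : u * u = 1 := by rw [hudef, ← map_mul, D8Four.rel_s2, map_one]
  have hur : u * r = r⁻¹ * u := by
    rw [hudef, hrdef, ← map_mul, ← map_inv, ← map_mul, D8Four.rel_sr]
  have hXel : ∀ x ∈ X, ∃ k : ℕ, x = r ^ k ∨ x = u * r ^ k := by
    intro x hx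
    obtain ⟨d, rfl⟩ := hφsurj x hx
    obtain ⟨k, _, h | h⟩ := D8Four.elems d
    · exact ⟨k, Or.inl (by rw [h, map_pow, hrdef])⟩
    · exact ⟨k, Or.inr (by rw [h, map_mul, map_pow, hrdef, hudef])⟩
  have hX8 : Nat.card X = 8 := by rw [Nat.card_congr e.toEquiv, DihedralGroup.nat_card]
  have hfaithX : ∀ x ∈ X, x ≠ 1 → ∃ a ∈ A, x * a * x⁻¹ ≠ a := by
    intro x hx hx1
    by_contra hcon
    push Not at hcon
    apply hx1
    have hxC : x ∈ Subgroup.centralizer (A : Set S) := by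
      rw [Subgroup.mem_centralizer_iff]
      intro a ha
      have := hcon a ha
      calc a * x = (x * a * x⁻¹) * x := by rw [this]
        _ = x * a := by group
    rw [hAC] at hxC
    have hmem : x ∈ A ⊓ X := ⟨hxC, hx⟩
    rw [Subgroup.inf_eq_bot_of_coprime (by rw [hA9, hX8]; norm_num)] at hmem
    exact Subgroup.mem_bot.mp hmem
  have hzX : r * r ∈ X := X.mul_mem hrX hrX
  have hz1 : r * r ≠ 1 := by
    intro h
    apply D8Four.rel_z_ne
    apply hφinj
    rw [map_mul, ← hrdef, h, map_one]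
  have hz := z_inverts A hAcomm hA3 hA9 r hr4 (hfaithX (r * r) hzX hz1)
  have huz1 : u * (r * r) ≠ 1 := by
    intro h
    apply D8Four.rel_sz_ne
    apply hφinj
    rw [map_mul, map_mul, ← hrdef, ← hudef, h, map_one]
  obtain ⟨a₁, ha₁, ha₁1, hua⟩ := exists_fixed_A A hAcomm u (r * r) hu2 hz
    (hfaithX (u * (r * r)) (X.mul_mem huX hzX) huz1)
  obtain ⟨a₂, ha₂def⟩ : ∃ a₂, a₂ = r * a₁ * r⁻¹ := ⟨_, rfl⟩
  have ha₂ : a₂ ∈ A := by rw [ha₂def]; exact hAn.conj_mem a₁ ha₁ r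
  have h13 : a₁ * (a₁ * a₁) = 1 := by
    rw [← hA3 a₁ ha₁, pow_succ, pow_succ, pow_one, mul_assoc]
  have h23 : a₂ * (a₂ * a₂) = 1 := by
    rw [← hA3 a₂ ha₂, pow_succ, pow_succ, pow_one, mul_assoc]
  have h12 : a₁ * a₂ = a₂ * a₁ := hAcomm a₁ ha₁ a₂ ha₂
  have ha₁inv_ne : a₁⁻¹ ≠ a₁ := by
    intro h
    apply ha₁1
    apply eq_one_of_cube_sq a₁ (hA3 a₁ ha₁)
    calc a₁ * a₁ = a₁⁻¹ * a₁ := by rw [h]
      _ = 1 := inv_mul_cancel a₁
  have hr2 : r * a₂ * r⁻¹ = a₁⁻¹ := by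
    rw [← hz a₁ ha₁, ha₂def]; group
  have hne12 : a₁ ≠ a₂ := by
    intro h
    apply ha₁inv_ne
    rw [← hr2, ← h, ← ha₂def, ← h]
  have hne12' : a₁ * a₂ ≠ 1 := by
    intro h
    apply ha₁inv_ne
    have h2 : a₂ = a₁⁻¹ := (eq_inv_of_mul_eq_one_right h)
    have h3 : r * a₂ * r⁻¹ = a₁ := by
      rw [h2]
      have : r * a₁⁻¹ * r⁻¹ = (r * a₁ * r⁻¹)⁻¹ := by group
      rw [this, ← ha₂def, h2, inv_inv]
    rw [← hr2, h3]
  -- C_M(A) = 0
  have hCA : ∀ m, (∀ a ∈ A, ρ a m = m) → m = 0 := by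
    let N : Submodule (ZMod 2) M :=
      { carrier := {m | ∀ a ∈ A, ρ a m = m}
        add_mem' := by
          intro x y hx hy a ha
          rw [map_add, hx a ha, hy a ha]
        zero_mem' := by
          intro a _
          exact map_zero _
        smul_mem' := by
          intro c x hx a ha
          rw [map_smul, hx a ha] }
    have hN : ∀ s : S, ∀ m ∈ N, ρ s m ∈ N := by
      intro s m hm a ha
      have h1 : s⁻¹ * a * s⁻¹⁻¹ ∈ A := hAn.conj_mem a ha s⁻¹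
      have h2 : a * s = s * (s⁻¹ * a * s⁻¹⁻¹) := by group
      rw [← hρ, h2, hρ, hm _ h1]
    rcases hirr N hN with h | h
    · intro m hm
      have : m ∈ N := hm
      rw [h] at this
      exact (Submodule.mem_bot _).mp this
    · exfalso
      apply ha₁1
      apply hfaith
      apply LinearMap.ext
      intro m
      have : m ∈ N := by rw [h]; trivial
      rw [this a₁ ha₁, map_one]; rfl
  -- the two counts
  have hcounts : Nat.card M = 16 ∧
      ((Nat.card {m : M // ρ u m = m ∧ ρ (r * r) m = m} = 4 ∧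
        Nat.card {m : M // ρ (r * u) m = m ∧ ρ (r * r) m = m} = 2) ∨
      (Nat.card {m : M // ρ u m = m ∧ ρ (r * r) m = m} = 2 ∧
        Nat.card {m : M // ρ (r * u) m = m ∧ ρ (r * r) m = m} = 4)) := by
    obtain ⟨m, hm0, hcase⟩ := exists_case ρ hfaith a₁ a₂ h13 h23 h12 hne12
    have app1 : (ρ a₁ m = m ∨ ρ a₂ m = m) → _ := fun hc =>
      L4 A X hAcomm hA3 hA9 hAX r u hXel hr4 hu2 hur hz a₁ ha₁ ha₁1 hua ρ hirr hCA
        ⟨m, hm0, by rw [← ha₂def]; exact hc⟩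
    rcases hcase with hc | hc | hc
    · obtain ⟨c1, c2, c3⟩ := app1 (Or.inl hc)
      exact ⟨c1, Or.inl ⟨c2, c3⟩⟩
    · obtain ⟨c1, c2, c3⟩ := app1 (Or.inr hc)
      exact ⟨c1, Or.inl ⟨c2, c3⟩⟩
    · -- second configuration
      have hXel' : ∀ x ∈ X, ∃ k : ℕ, x = r ^ k ∨ x = (r * u) * r ^ k := by
        intro x hx
        obtain ⟨k, h | h⟩ := hXel x hx
        · exact ⟨k, Or.inl h⟩
        · refine ⟨k + 1, Or.inr ?_⟩
          rw [h, pow_succ']
          calc u * r ^ k = r * (r⁻¹ * u) * r ^ k := by group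
            _ = r * u * (r * r ^ k) := by rw [← hur]; group
      have hu2' : (r * u) * (r * u) = 1 := by
        calc (r * u) * (r * u) = r * (u * r) * u := by group
          _ = u * u := by rw [hur]; group
          _ = 1 := hu2
      have hur' : (r * u) * r = r⁻¹ * (r * u) := by
        calc (r * u) * r = r * (u * r) := by group
          _ = r⁻¹ * (r * u) := by rw [hur]; group
      have hua2 : u * a₂ = a₂⁻¹ * u := by
        have hur'' : u * r⁻¹ = r * u := by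
          have : u * r⁻¹ = r * (r⁻¹ * u) * r⁻¹ := by group
          rw [this, ← hur]; group
        have e1 : u * a₂ = (r⁻¹ * a₁ * r) * u := by
          calc u * a₂ = (u * r) * a₁ * r⁻¹ := by rw [ha₂def]; group
            _ = r⁻¹ * (u * a₁) * r⁻¹ := by rw [hur]; group
            _ = r⁻¹ * a₁ * (u * r⁻¹) := by rw [hua]; group
            _ = (r⁻¹ * a₁ * r) * u := by rw [hur'']; group
        have e2 : r⁻¹ * a₁ * r = a₂⁻¹ := by
          rw [← hz a₂ ha₂, ha₂def]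
          have : (r * r)⁻¹ = r * r := by
            apply inv_eq_of_mul_eq_one_right
            rw [← hr4]; group
          rw [this]
          calc r⁻¹ * a₁ * r = (r * r * r * r) * r⁻¹ * a₁ * r := by rw [hr4]; group
            _ = r * r * (r * a₁ * r⁻¹) * (r * r) := by group
        rw [e1, e2]
      have hua' : (r * u) * (a₁ * a₂) = (a₁ * a₂) * (r * u) := by
        calc (r * u) * (a₁ * a₂) = r * (u * a₁) * a₂ := by group
          _ = r * a₁ * (u * a₂) := by rw [hua]; group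
          _ = r * a₁ * a₂⁻¹ * u := by rw [hua2]; group
          _ = (r * a₁ * r⁻¹) * (r * a₂ * r⁻¹)⁻¹ * r * u := by group
          _ = a₂ * a₁ * r * u := by rw [hr2, ← ha₂def, inv_inv]
          _ = (a₁ * a₂) * (r * u) := by rw [← h12]; group
      obtain ⟨c1, c2, c3⟩ := L4 A X hAcomm hA3 hA9 hAX r (r * u) hXel' hr4 hu2' hur' hz
        (a₁ * a₂) (A.mul_mem ha₁ ha₂) hne12' hua' ρ hirr hCA ⟨m, hm0, Or.inl hc⟩
      refine ⟨c1, Or.inr ⟨?_, c2⟩⟩
      refine Eq.trans ?_ c3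
      apply Nat.card_congr
      apply Equiv.subtypeEquivRight
      intro x
      have hzz : (r * r) * (r * r) = 1 := by rw [← hr4]; group
      constructor
      · rintro ⟨h1, h2⟩
        refine ⟨?_, h2⟩
        rw [← mul_assoc, hρ, h1, h2]
      · rintro ⟨h1, h2⟩
        refine ⟨?_, h2⟩
        have : ρ u x = ρ (r * r) (ρ (r * (r * u)) x) := by
          rw [← hρ, ← mul_assoc r r u, ← mul_assoc, hzz, one_mul]
        rw [this, h1, h2]
  obtain ⟨hc16, hc⟩ := hcounts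
  refine ⟨hc16, ?_⟩
  -- the two four-subgroups
  obtain ⟨B0S, hB0S⟩ : ∃ B0S, B0S = D8Four.B0.map φ := ⟨_, rfl⟩
  obtain ⟨B1S, hB1S⟩ : ∃ B1S, B1S = D8Four.B1.map φ := ⟨_, rfl⟩
  have hB0X : B0S ≤ X := by
    rw [hB0S]; rintro _ ⟨d, _, rfl⟩; exact hφX d
  have hB1X : B1S ≤ X := by
    rw [hB1S]; rintro _ ⟨d, _, rfl⟩; exact hφX d
  have hB0c : Nat.card B0S = 4 := by
    rw [hB0S, Subgroup.card_map_of_injective hφinj, D8Four.card_B0]
  have hB1c : Nat.card B1S = 4 := by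
    rw [hB1S, Subgroup.card_map_of_injective hφinj, D8Four.card_B1]
  have hB0sq : ∀ b ∈ B0S, b ^ 2 = 1 := by
    rw [hB0S]; rintro _ ⟨d, hd, rfl⟩
    rw [pow_two, ← map_mul, D8Four.sq_B0 d hd, map_one]
  have hB1sq : ∀ b ∈ B1S, b ^ 2 = 1 := by
    rw [hB1S]; rintro _ ⟨d, hd, rfl⟩
    rw [pow_two, ← map_mul, D8Four.sq_B1 d hd, map_one]
  have hφz : φ (DihedralGroup.r 2) = r * r := by
    rw [hrdef, ← map_mul, D8Four.rel_z]
  have hB0fix : ∀ m : M, (∀ b ∈ B0S, ρ b m = m) ↔ (ρ u m = m ∧ ρ (r * r) m = m) := by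
    intro m
    constructor
    · intro h
      refine ⟨h u ?_, h (r * r) ?_⟩
      · rw [hB0S, hudef]; exact ⟨_, Or.inr (Or.inr (Or.inl rfl)), rfl⟩
      · rw [hB0S, ← hφz]; exact ⟨_, Or.inr (Or.inl rfl), rfl⟩
    · rintro ⟨h1, h2⟩ b hb
      rw [hB0S] at hb
      obtain ⟨d, hd, rfl⟩ := hb
      rcases hd with rfl | rfl | rfl | rfl
      · rw [← DihedralGroup.one_def, map_one, rho_one]
      · rw [hφz]; exact h2
      · rw [← hudef]; exact h1
      · have e2 : φ (DihedralGroup.sr 2) = u * (r * r) := by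
          rw [D8Four.rel_s2', map_mul, map_mul, ← hrdef, ← hudef]
        rw [e2, hρ, h2, h1]
  have hB1fix : ∀ m : M, (∀ b ∈ B1S, ρ b m = m) ↔ (ρ (r * u) m = m ∧ ρ (r * r) m = m) := by
    intro m
    have hru : φ (DihedralGroup.sr 3) = r * u := by rw [← D8Four.rel_rs, map_mul, ← hrdef, ← hudef]
    constructor
    · intro h
      refine ⟨h (r * u) ?_, h (r * r) ?_⟩
      · rw [hB1S, ← hru]; exact ⟨_, Or.inr (Or.inr (Or.inr rfl)), rfl⟩
      · rw [hB1S, ← hφz]; exact ⟨_, Or.inr (Or.inl rfl), rfl⟩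
    · rintro ⟨h1, h2⟩ b hb
      rw [hB1S] at hb
      obtain ⟨d, hd, rfl⟩ := hb
      rcases hd with rfl | rfl | rfl | rfl
      · rw [← DihedralGroup.one_def, map_one, rho_one]
      · rw [hφz]; exact h2
      · have e2 : φ (DihedralGroup.sr 1) = (r * u) * (r * r) := by
          rw [D8Four.rel_s1, map_mul, map_mul, map_mul, ← hrdef, ← hudef]
        rw [e2, hρ, h2, h1]
      · rw [hru]; exact h1
  have hF0 : Nat.card {m : M // ∀ b ∈ B0S, ρ b m = m} =
      Nat.card {m : M // ρ u m = m ∧ ρ (r * r) m = m} :=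
    Nat.card_congr (Equiv.subtypeEquivRight hB0fix)
  have hF1 : Nat.card {m : M // ∀ b ∈ B1S, ρ b m = m} =
      Nat.card {m : M // ρ (r * u) m = m ∧ ρ (r * r) m = m} :=
    Nat.card_congr (Equiv.subtypeEquivRight hB1fix)
  -- classification
  have hclass : ∀ B : Subgroup S, B ≤ X → Nat.card B = 4 → (∀ b ∈ B, b ^ 2 = 1) →
      B = B0S ∨ B = B1S := by
    intro B hBX hB4 hBsq
    have hBr : B ≤ φ.range := by rw [hφrange]; exact hBX
    have hmap : (B.comap φ).map φ = B := Subgroup.map_comap_eq_self hBr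
    have hc4 : Nat.card (B.comap φ) = 4 := by
      rw [← Subgroup.card_map_of_injective hφinj, hmap, hB4]
    have hsq : ∀ b ∈ B.comap φ, b * b = 1 := by
      intro b hb
      apply hφinj
      rw [map_mul, map_one, ← pow_two]
      exact hBsq _ hb
    rcases D8Four.four_classify (B.comap φ) hc4 hsq with h | h
    · left; rw [hB0S, ← h, hmap]
    · right; rw [hB1S, ← h, hmap]
  rcases hc with ⟨hc0, hc1⟩ | ⟨hc0, hc1⟩
  · refine ⟨B1S, ⟨hB1X, hB1c, hB1sq, by rw [hF1, hc1]⟩, ?_⟩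
    rintro B ⟨hBX, hB4, hBsq, hBfix⟩
    rcases hclass B hBX hB4 hBsq with h | h
    · exfalso
      rw [h, hF0, hc0] at hBfix
      omega
    · exact h
  · refine ⟨B0S, ⟨hB0X, hB0c, hB0sq, by rw [hF0, hc0]⟩, ?_⟩
    rintro B ⟨hBX, hB4, hBsq, hBfix⟩
    rcases hclass B hBX hB4 hBsq with h | h
    · exact h
    · exfalso
      rw [h, hF1, hc1] at hBfix
      omega

end Cfsg.Agent.Lib.Helper22.D8Main
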