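import Mathlib
import Cfsg.Agent.Lib.Helper11.PGroupFrattini

/-! The extraspecial group `2^{1+4}_-`: its outer automorphism group is `S₅`. -/

set_option autoImplicit false

namespace Cfsg.Agent.Lib.Helper22.ES32

open Finset

variable {P : Type*} [Group P]

/-- Abstract data of a group with centre `{1, z}` containing all squares and commutators. -/
structure ESData (P : Type*) [Group P] (z : P) : Prop where
  z_ne : z ≠ 1
  z_sq : z * z = 1
  z_central : ∀ x : P, x * z = z * x
  center : ∀ x : P, (∀ y : P, x * y = y * x) → x = 1 ∨ x = z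
  sq : ∀ x : P, x * x = 1 ∨ x * x = z
  comm : ∀ x y : P, x * y = y * x ∨ x * y = y * x * z

section calculus

variable (z : P)

/-- the embedding of `ZMod 2` onto `{1, z}` -/
noncomputable def ζ (e : ZMod 2) : P := if e = 0 then 1 else z

open Classical in
/-- the quadratic form -/
noncomputable def q (x : P) : ZMod 2 := if x * x = 1 then 0 else 1

open Classical in
/-- the commutator form -/
noncomputable def β (x y : P) : ZMod 2 := if x * y = y * x then 0 else 1

theorem zmod2_cases (e : ZMod 2) : e = 0 ∨ e = 1 := by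
  revert e; decide

variable {z}

theorem ζ_zero : ζ z 0 = 1 := by simp [ζ]
theorem ζ_one : ζ z 1 = z := by simp [ζ]

variable (h : ESData P z)
include h

theorem ζ_central (e : ZMod 2) (x : P) : x * ζ z e = ζ z e * x := by
  rcases zmod2_cases e with rfl | rfl
  · simp [ζ_zero]
  · rw [ζ_one]; exact h.z_central x

theorem ζ_add (a b : ZMod 2) : ζ z (a + b) = ζ z a * ζ z b := by
  rcases zmod2_cases a with rfl | rfl <;> rcases zmod2_cases b with rfl | rfl
  · simp [ζ_zero]
  · simp [ζ_zero, ζ_one]
  · simp [ζ_zero, ζ_one]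
  · have : (1 : ZMod 2) + 1 = 0 := by decide
    rw [this, ζ_zero, ζ_one, h.z_sq]

theorem ζ_inj {a b : ZMod 2} (hab : ζ z a = ζ z b) : a = b := by
  rcases zmod2_cases a with rfl | rfl <;> rcases zmod2_cases b with rfl | rfl
  · rfl
  · rw [ζ_zero, ζ_one] at hab; exact absurd hab.symm h.z_ne
  · rw [ζ_zero, ζ_one] at hab; exact absurd hab h.z_ne
  · rfl

theorem sq_eq (x : P) : x * x = ζ z (q x) := by
  unfold q
  by_cases hx : x * x = 1
  · rw [if_pos hx, ζ_zero, hx]
  · rw [if_neg hx, ζ_one]
    rcases h.sq x with h1 | h1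
    · exact absurd h1 hx
    · exact h1

theorem comm_eq (x y : P) : x * y = y * x * ζ z (β x y) := by
  unfold β
  by_cases hx : x * y = y * x
  · rw [if_pos hx, ζ_zero, mul_one, hx]
  · rw [if_neg hx, ζ_one]
    rcases h.comm x y with h1 | h1
    · exact absurd h1 hx
    · exact h1

theorem q_eq_zero_iff (x : P) : q x = 0 ↔ x * x = 1 := by
  unfold q
  by_cases hx : x * x = 1
  · simp [hx]
  · simp [hx]

theorem β_eq_zero_iff (x y : P) : β x y = 0 ↔ x * y = y * x := by
  unfold β
  by_cases hx : x * y = y * x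
  · simp [hx]
  · simp [hx]

theorem q_of_sq (x : P) (e : ZMod 2) (hx : x * x = ζ z e) : q x = e := by
  apply ζ_inj h
  rw [← sq_eq h, hx]

theorem β_of_comm (x y : P) (e : ZMod 2) (hx : x * y = y * x * ζ z e) : β x y = e := by
  apply ζ_inj h
  have := comm_eq h x y
  rw [hx] at this
  exact (mul_left_cancel this).symm

theorem q_mul (x y : P) : q (x * y) = q x + q y + β x y := by
  apply q_of_sq h
  have h1 : x * y * (x * y) = x * (y * x) * y := by group
  have hyx := comm_eq h y x
  have hxy := comm_eq h x y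
  -- y * x = x * y * ζ (β y x); and β y x = β x y
  have hsymm : β y x = β x y := by
    apply β_of_comm h
    -- y * x = x * y * ζ (β x y)
    have : y * x * ζ z (β x y) * ζ z (β x y) = y * x := by
      rw [mul_assoc, ← ζ_add h]
      rcases zmod2_cases (β x y) with e | e <;> rw [e] <;> simp [ζ_zero, show (1 : ZMod 2) + 1 = 0 by decide]
    rw [← hxy] at this
    exact this.symm
  rw [h1, hyx, hsymm, ζ_add h, ζ_add h]
  have c1 := ζ_central h (β x y)
  calc x * (x * y * ζ z (β x y)) * y = (x * x) * (y * ζ z (β x y) * y) := by group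
    _ = (x * x) * (ζ z (β x y) * y * y) := by rw [c1 y]
    _ = (x * x) * (ζ z (β x y) * (y * y)) := by group
    _ = ζ z (q x) * (ζ z (β x y) * ζ z (q y)) := by rw [sq_eq h x, sq_eq h y]
    _ = ζ z (q x) * ζ z (q y) * ζ z (β x y) := by
        rw [ζ_central h (q y) (ζ z (β x y))]; group

theorem β_symm (x y : P) : β x y = β y x := by
  have : ∀ a b : P, a * b = b * a ↔ b * a = a * b := fun a b => eq_comm
  unfold β
  by_cases hx : x * y = y * x
  · rw [if_pos hx, if_pos hx.symm]
  · rw [if_neg hx, if_neg (fun h' => hx h'.symm)]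

theorem β_self (x : P) : β x x = 0 := by
  unfold β; simp

theorem β_mul_left (x y w : P) : β (x * y) w = β x w + β y w := by
  apply β_of_comm h
  have h1 := comm_eq h y w
  have h2 := comm_eq h x w
  calc x * y * w = x * (y * w) := by group
    _ = x * (w * y * ζ z (β y w)) := by rw [h1]
    _ = (x * w) * y * ζ z (β y w) := by group
    _ = w * x * ζ z (β x w) * y * ζ z (β y w) := by rw [h2]
    _ = w * x * (ζ z (β x w) * y) * ζ z (β y w) := by group
    _ = w * x * (y * ζ z (β x w)) * ζ z (β y w) := by rw [← ζ_central h (β x w) y]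
    _ = w * (x * y) * (ζ z (β x w) * ζ z (β y w)) := by group
    _ = w * (x * y) * ζ z (β x w + β y w) := by rw [ζ_add h]

theorem β_mul_right (w x y : P) : β w (x * y) = β w x + β w y := by
  rw [β_symm h, β_mul_left h, β_symm h x, β_symm h y]

theorem β_one_left (w : P) : β 1 w = 0 := by unfold β; simp
theorem β_one_right (w : P) : β w 1 = 0 := by unfold β; simp
theorem β_z_left (w : P) : β z w = 0 := by
  rw [β_eq_zero_iff h]; exact (h.z_central w).symm
theorem β_z_right (w : P) : β w z = 0 := by
  rw [β_eq_zero_iff h]; exact h.z_central w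
theorem q_one : q (1 : P) = 0 := by unfold q; simp
theorem q_z : q z = 0 := by rw [q_eq_zero_iff h]; exact h.z_sq

theorem q_mul_z (x : P) : q (x * z) = q x := by
  rw [q_mul h, q_z h, β_z_right h]; simp

theorem β_inv_left (x w : P) : β x⁻¹ w = β x w := by
  have := β_mul_left h x x⁻¹ w
  rw [mul_inv_cancel, β_one_left h] at this
  have key : ∀ a b : ZMod 2, 0 = a + b → b = a := by decide
  exact key _ _ this

theorem exists_β_ne (x : P) (hx1 : x ≠ 1) (hxz : x ≠ z) : ∃ w : P, β x w = 1 := by
  by_contra hcon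
  push Not at hcon
  have : ∀ y : P, x * y = y * x := by
    intro y
    rw [← β_eq_zero_iff h]
    rcases zmod2_cases (β x y) with e | e
    · exact e
    · exact absurd e (hcon y)
  rcases h.center x this with h1 | h1
  · exact hx1 h1
  · exact hxz h1

end calculus

section count

variable [Fintype P] {z : P} (h : ESData P z)
include h

/-- the sign character of `ZMod 2` -/
def sgn (e : ZMod 2) : ℤ := if e = 0 then 1 else -1

omit [Group P] [Fintype P] h in
theorem sgn_add (a b : ZMod 2) : sgn (a + b) = sgn a * sgn b := by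
  revert a b; decide

omit [Group P] [Fintype P] h in
theorem sgn_zero : sgn 0 = 1 := rfl

theorem sum_β_eq_zero (u : P) (hu1 : u ≠ 1) (huz : u ≠ z) : ∑ x : P, sgn (β x u) = 0 := by
  obtain ⟨w, hw⟩ := exists_β_ne h u hu1 huz
  have e : ∑ x : P, sgn (β (x * w) u) = ∑ x : P, sgn (β x u) :=
    Fintype.sum_equiv (Equiv.mulRight w) _ _ (fun x => rfl)
  have e2 : ∀ x : P, sgn (β (x * w) u) = - sgn (β x u) := by
    intro x
    rw [β_mul_left h, β_symm h w u, hw, sgn_add]
    simp [sgn]
  simp_rw [e2] at e
  rw [Finset.sum_neg_distrib] at e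
  linarith

theorem sum_β_central (u : P) (hu : u = 1 ∨ u = z) :
    ∑ x : P, sgn (β x u) = (Fintype.card P : ℤ) := by
  have : ∀ x : P, sgn (β x u) = 1 := by
    intro x
    rcases hu with rfl | rfl
    · rw [β_one_right h]; rfl
    · rw [β_z_right h]; rfl
  simp_rw [this]
  simp

theorem gauss : (∑ x : P, sgn (q x)) * (∑ x : P, sgn (q x)) = 2 * (Fintype.card P : ℤ) := by
  classical
  rw [Finset.sum_mul_sum]
  have e1 : ∀ x : P, ∑ y : P, sgn (q x) * sgn (q y) = ∑ u : P, sgn (q u) * sgn (β x u) := by
    intro x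
    have : ∑ u : P, sgn (q x) * sgn (q (x * u)) = ∑ y : P, sgn (q x) * sgn (q y) :=
      Fintype.sum_equiv (Equiv.mulLeft x) _ _ (fun u => rfl)
    rw [← this]
    apply Finset.sum_congr rfl
    intro u _
    rw [q_mul h, ← sgn_add, ← sgn_add]
    congr 1
    have : ∀ a b c : ZMod 2, a + (a + b + c) = b + c := by decide
    exact this _ _ _
  simp_rw [e1]
  rw [Finset.sum_comm]
  simp_rw [← Finset.mul_sum]
  have hz1 : (1 : P) ≠ z := fun e => h.z_ne e.symm
  rw [Finset.sum_eq_add (1 : P) z hz1]
  · rw [sum_β_central h 1 (Or.inl rfl), sum_β_central h z (Or.inr rfl), q_one h, q_z h, sgn_zero]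
    ring
  · intro c _ hc
    rw [sum_β_eq_zero h c hc.1 hc.2, mul_zero]
  · intro h'; exact absurd (Finset.mem_univ _) h'
  · intro h'; exact absurd (Finset.mem_univ _) h'

theorem sum_sgn_q : ∑ x : P, sgn (q x) =
    2 * ((Finset.univ.filter (fun x : P => q x = 0)).card : ℤ) - (Fintype.card P : ℤ) := by
  classical
  have : ∀ x : P, sgn (q x) = 2 * (if q x = 0 then 1 else 0) - 1 := by
    intro x
    unfold sgn
    by_cases hx : q x = 0
    · simp [hx]
    · simp [hx]
  simp_rw [this]
  rw [Finset.sum_sub_distrib, ← Finset.mul_sum, Finset.sum_boole]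
  simp

theorem card_q_zero (h32 : Fintype.card P = 32) :
    (Finset.univ.filter (fun x : P => q x = 0)).card = 12 ∨
      (Finset.univ.filter (fun x : P => q x = 0)).card = 20 := by
  have h1 := gauss h
  rw [sum_sgn_q h, h32] at h1
  set n : ℤ := ((Finset.univ.filter (fun x : P => q x = 0)).card : ℤ) with hn
  have h2 : (n - 12) * (n - 20) = 0 := by
    push_cast at h1
    nlinarith
  rcases mul_eq_zero.mp h2 with h3 | h3
  · left
    have : n = 12 := by linarith
    rw [hn] at this
    exact_mod_cast this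
  · right
    have : n = 20 := by linarith
    rw [hn] at this
    exact_mod_cast this

end count

section minus

variable {z : P} (h : ESData P z)
include h

/-- the form of the hypothesis "no elementary abelian subgroup of order 8" that we use -/
def NoE8 (P : Type*) [Group P] (z : P) : Prop :=
  ∀ a b : P, a * a = 1 → b * b = 1 → a * b = b * a → a ≠ 1 → a ≠ z →
    b = 1 ∨ b = z ∨ b = a ∨ b = a * z

theorem noE8_of_subgroups [Finite P]
    (hminus : ∀ A : Subgroup P, (∀ x ∈ A, ∀ y ∈ A, x * y = y * x) → (∀ x ∈ A, x * x = 1) →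
      Nat.card A ≤ 4) : NoE8 P z := by
  classical
  intro a b ha hb hab ha1 haz
  by_contra hcon
  push Not at hcon
  obtain ⟨hb1, hbz, hba, hbaz⟩ := hcon
  set A : Subgroup P := Subgroup.closure {a, b, z} with hA
  have qa : q a = 0 := (q_eq_zero_iff h a).mpr ha
  have qb : q b = 0 := (q_eq_zero_iff h b).mpr hb
  have βab : β a b = 0 := (β_eq_zero_iff h a b).mpr hab
  have βba : β b a = 0 := by rw [β_symm h]; exact βab
  have step1 : ∀ x ∈ A, β x a = 0 ∧ β x b = 0 := by
    intro x hx
    induction hx using Subgroup.closure_induction with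
    | mem x hx =>
      rcases hx with rfl | rfl | rfl
      · exact ⟨β_self h _, βab⟩
      · exact ⟨βba, β_self h _⟩
      · exact ⟨β_z_left h _, β_z_left h _⟩
    | one => exact ⟨β_one_left h _, β_one_left h _⟩
    | mul x y _ _ hx hy =>
      rw [β_mul_left h, β_mul_left h, hx.1, hx.2, hy.1, hy.2]; simp
    | inv x _ hx => rw [β_inv_left h, β_inv_left h]; exact hx
  have step2 : ∀ x ∈ A, ∀ y ∈ A, β x y = 0 := by
    intro x hx y hy
    induction hx using Subgroup.closure_induction with
    | mem x hx =>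
      rcases hx with rfl | rfl | rfl
      · rw [β_symm h]; exact (step1 y hy).1
      · rw [β_symm h]; exact (step1 y hy).2
      · exact β_z_left h _
    | one => exact β_one_left h _
    | mul x x' _ _ hx hx' => rw [β_mul_left h, hx, hx']; simp
    | inv x _ hx => rw [β_inv_left h]; exact hx
  have step3 : ∀ x ∈ A, q x = 0 := by
    intro x hx
    induction hx using Subgroup.closure_induction with
    | mem x hx =>
      rcases hx with rfl | rfl | rfl
      · exact qa
      · exact qb
      · exact q_z h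
    | one => exact q_one h
    | mul x y hx hy ihx ihy => rw [q_mul h, ihx, ihy, step2 x hx y hy]; simp
    | inv x _ ihx =>
      rw [q_eq_zero_iff h] at ihx ⊢
      have : x⁻¹ * x⁻¹ = (x * x)⁻¹ := by group
      rw [this, ihx, inv_one]
  have hcard := hminus A (fun x hx y hy => (β_eq_zero_iff h x y).mp (step2 x hx y hy))
    (fun x hx => (q_eq_zero_iff h x).mp (step3 x hx))
  -- five distinct elements
  have := Fintype.ofFinite P
  have memA : ∀ x ∈ ({1, a, b, z, a * z} : Finset P), x ∈ A := by
    intro x hx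
    simp only [Finset.mem_insert, Finset.mem_singleton] at hx
    have haA : a ∈ A := Subgroup.subset_closure (by simp)
    have hbA : b ∈ A := Subgroup.subset_closure (by simp)
    have hzA : z ∈ A := Subgroup.subset_closure (by simp)
    rcases hx with rfl | rfl | rfl | rfl | rfl
    · exact A.one_mem
    · exact haA
    · exact hbA
    · exact hzA
    · exact A.mul_mem haA hzA
  have hzne := h.z_ne
  have haz1 : a * z ≠ 1 := by
    intro e
    apply haz
    have : a = (a * z) * z := by rw [mul_assoc, h.z_sq, mul_one]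
    rw [this, e, one_mul]
  have hazz : a * z ≠ z := by
    intro e
    apply ha1
    have : a * z = 1 * z := by rw [e, one_mul]
    exact mul_right_cancel this
  have haza : a * z ≠ a := by
    intro e
    apply hzne
    have : a * z = a * 1 := by rw [e, mul_one]
    exact mul_left_cancel this
  have c5 : ({1, a, b, z, a * z} : Finset P).card = 5 := by
    rw [Finset.card_insert_of_notMem, Finset.card_insert_of_notMem, Finset.card_insert_of_notMem,
      Finset.card_insert_of_notMem, Finset.card_singleton]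
    · simp only [Finset.mem_singleton]; exact fun e => hazz e.symm
    · simp only [Finset.mem_insert, Finset.mem_singleton]
      rintro (e | e)
      · exact hbz e
      · exact hbaz e
    · simp only [Finset.mem_insert, Finset.mem_singleton]
      rintro (e | e | e)
      · exact hba e.symm
      · exact haz e
      · exact haza e.symm
    · simp only [Finset.mem_insert, Finset.mem_singleton]
      rintro (e | e | e | e)
      · exact ha1 e.symm
      · exact hb1 e.symm
      · exact hzne e.symm
      · exact haz1 e.symm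
  have : 5 ≤ Nat.card A := by
    rw [← c5, Nat.card_eq_fintype_card, ← Fintype.card_coe]
    apply Fintype.card_le_of_injective
      (fun x : ({1, a, b, z, a * z} : Finset P) => (⟨x.1, memA x.1 x.2⟩ : A))
    intro x y hxy
    exact Subtype.ext (congrArg (fun t : A => (t : P)) hxy)
  omega

end minus


section count2

variable [Fintype P] {z : P} (h : ESData P z)
include h

theorem card_q_zero_eq (h32 : Fintype.card P = 32) (hE : NoE8 P z) :
    (Finset.univ.filter (fun x : P => q x = 0)).card = 12 := by
  classical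
  rcases card_q_zero h h32 with h12 | h20
  · exact h12
  · exfalso
    have hex : ∃ a ∈ Finset.univ.filter (fun x : P => q x = 0), a ∉ ({1, z} : Finset P) := by
      apply Finset.exists_mem_notMem_of_card_lt_card
      calc ({1, z} : Finset P).card ≤ 2 := Finset.card_le_two
        _ < _ := by rw [h20]; norm_num
    obtain ⟨a, ha, ha'⟩ := hex
    simp only [Finset.mem_filter, Finset.mem_univ, true_and] at ha
    simp only [Finset.mem_insert, Finset.mem_singleton, not_or] at ha'
    obtain ⟨ha1, haz⟩ := ha'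
    have hT : ∑ x : P, sgn (q x) = 8 := by
      rw [sum_sgn_q h, h20, h32]; norm_num
    have hT2 : ∑ x : P, sgn (q x) * sgn (β x a) = 8 := by
      rw [← hT]
      have e : ∑ x : P, sgn (q (x * a)) = ∑ x : P, sgn (q x) :=
        Fintype.sum_equiv (Equiv.mulRight a) _ _ (fun x => rfl)
      rw [← e]
      apply Finset.sum_congr rfl
      intro x _
      rw [q_mul h, ha, ← sgn_add]
      congr 1
      ring
    have hS1 : ∑ x : P, (1 + sgn (q x)) * (1 + sgn (β x a)) = 48 := by
      have : ∀ x : P, (1 + sgn (q x)) * (1 + sgn (β x a)) =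
          1 + sgn (q x) + sgn (β x a) + sgn (q x) * sgn (β x a) := by
        intro x; ring
      simp_rw [this]
      rw [Finset.sum_add_distrib, Finset.sum_add_distrib, Finset.sum_add_distrib, hT, hT2,
        sum_β_eq_zero h a ha1 haz]
      simp [h32]
    have hS2 : ∑ x : P, (1 + sgn (q x)) * (1 + sgn (β x a)) =
        4 * ((Finset.univ.filter (fun x : P => q x = 0 ∧ β x a = 0)).card : ℤ) := by
      have : ∀ x : P, (1 + sgn (q x)) * (1 + sgn (β x a)) =
          if (q x = 0 ∧ β x a = 0) then 4 else 0 := by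
        intro x
        rcases zmod2_cases (q x) with e1 | e1 <;> rcases zmod2_cases (β x a) with e2 | e2 <;>
          rw [e1, e2] <;> simp [sgn]
      simp_rw [this]
      rw [Finset.sum_ite]
      simp [mul_comm]
    have hsub : Finset.univ.filter (fun x : P => q x = 0 ∧ β x a = 0) ⊆ {1, z, a, a * z} := by
      intro x hx
      simp only [Finset.mem_filter, Finset.mem_univ, true_and] at hx
      simp only [Finset.mem_insert, Finset.mem_singleton]
      have hxa : a * x = x * a := ((β_eq_zero_iff h x a).mp hx.2).symm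
      exact hE a x ((q_eq_zero_iff h a).mp ha) ((q_eq_zero_iff h x).mp hx.1) hxa ha1 haz
    have hle : (Finset.univ.filter (fun x : P => q x = 0 ∧ β x a = 0)).card ≤ 4 :=
      (Finset.card_le_card hsub).trans Finset.card_le_four
    have : ((Finset.univ.filter (fun x : P => q x = 0 ∧ β x a = 0)).card : ℤ) ≤ 4 := by
      exact_mod_cast hle
    rw [hS2] at hS1
    linarith

end count2


section frame

variable {z : P} (h : ESData P z)
include h

theorem β_ζ_left (e : ZMod 2) (w : P) : β (ζ z e) w = 0 := by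
  rcases zmod2_cases e with rfl | rfl
  · rw [ζ_zero]; exact β_one_left h w
  · rw [ζ_one]; exact β_z_left h w

theorem β_mul_ζ_left (x : P) (e : ZMod 2) (w : P) : β (x * ζ z e) w = β x w := by
  rw [β_mul_left h, β_ζ_left h]; simp

theorem β_mul_ζ_right (w x : P) (e : ZMod 2) : β w (x * ζ z e) = β w x := by
  rw [β_symm h, β_mul_ζ_left h, β_symm h]

theorem q_ζ (e : ZMod 2) : q (ζ z e) = 0 := by
  rcases zmod2_cases e with rfl | rfl
  · rw [ζ_zero]; exact q_one h
  · rw [ζ_one]; exact q_z h

theorem q_mul_ζ (x : P) (e : ZMod 2) : q (x * ζ z e) = q x := by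
  rw [q_mul h, q_ζ h, β_symm h, β_ζ_left h]; simp

theorem ζ_mul_self (e : ZMod 2) : ζ z e * ζ z e = 1 := by
  rw [← ζ_add h]
  have : e + e = 0 := by revert e; decide
  rw [this, ζ_zero]

theorem β_eq_one_of_ne (hE : NoE8 P z) (a b : P) (qa : q a = 0) (qb : q b = 0)
    (ha1 : a ≠ 1) (haz : a ≠ z) (hb1 : b ≠ 1) (hbz : b ≠ z) (hba : b ≠ a) (hbaz : b ≠ a * z) :
    β a b = 1 := by
  rcases zmod2_cases (β a b) with e | e
  · exfalso
    rcases hE a b ((q_eq_zero_iff h a).mp qa) ((q_eq_zero_iff h b).mp qb)
      ((β_eq_zero_iff h a b).mp e) ha1 haz with r | r | r | r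
    · exact hb1 r
    · exact hbz r
    · exact hba r
    · exact hbaz r
  · exact e

/-- A frame: five pairwise anticommuting involutions covering all noncentral involutions. -/
structure Frame (P : Type*) [Group P] (z : P) (a : Fin 5 → P) : Prop where
  qa : ∀ i, q (a i) = 0
  βa : ∀ i j, i ≠ j → β (a i) (a j) = 1
  cover : ∀ b : P, q b = 0 → b ≠ 1 → b ≠ z → ∃ i e, b = a i * ζ z e

theorem pre_noncentral {a : Fin 5 → P} (βa : ∀ i j, i ≠ j → β (a i) (a j) = 1)
    (i : Fin 5) (e : ZMod 2) : a i * ζ z e ≠ 1 ∧ a i * ζ z e ≠ z := by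
  obtain ⟨j, hj⟩ := exists_ne i
  have h1 : β (a i * ζ z e) (a j) = 1 := by
    rw [β_mul_ζ_left h]; exact βa i j hj.symm
  constructor
  · intro e1
    rw [e1, β_one_left h] at h1
    exact zero_ne_one h1
  · intro e1
    rw [e1, β_z_left h] at h1
    exact zero_ne_one h1

theorem pre_inj {a : Fin 5 → P} (βa : ∀ i j, i ≠ j → β (a i) (a j) = 1)
    {i j : Fin 5} {e e' : ZMod 2} (heq : a i * ζ z e = a j * ζ z e') : i = j ∧ e = e' := by
  have hij : i = j := by
    by_contra hij
    have h1 : β (a i * ζ z e) (a i) = 0 := by rw [β_mul_ζ_left h]; exact β_self h _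
    have h2 : β (a j * ζ z e') (a i) = 1 := by
      rw [β_mul_ζ_left h]; exact βa j i (fun e => hij e.symm)
    rw [heq, h2] at h1
    exact one_ne_zero h1
  subst hij
  exact ⟨rfl, ζ_inj h (mul_left_cancel heq)⟩

theorem exists_frame [Fintype P] (h32 : Fintype.card P = 32) (hE : NoE8 P z) :
    ∃ a : Fin 5 → P, Frame P z a := by
  classical
  set I : Finset P := Finset.univ.filter (fun x : P => q x = 0 ∧ x ≠ 1 ∧ x ≠ z) with hI
  have hIcard : I.card = 10 := by
    have e1 : I = (Finset.univ.filter (fun x : P => q x = 0)) \ {1, z} := by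
      ext x
      simp only [hI, Finset.mem_filter, Finset.mem_univ, true_and, Finset.mem_sdiff,
        Finset.mem_insert, Finset.mem_singleton, not_or]
    have hsub : ({1, z} : Finset P) ⊆ Finset.univ.filter (fun x : P => q x = 0) := by
      intro x hx
      simp only [Finset.mem_insert, Finset.mem_singleton] at hx
      simp only [Finset.mem_filter, Finset.mem_univ, true_and]
      rcases hx with rfl | rfl
      · exact q_one h
      · exact q_z h
    have hz1 : (1 : P) ≠ z := fun e => h.z_ne e.symm
    rw [e1, Finset.card_sdiff_of_subset hsub, card_q_zero_eq h h32 hE, Finset.card_pair hz1]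
  have memI : ∀ x, x ∈ I ↔ (q x = 0 ∧ x ≠ 1 ∧ x ≠ z) := by
    intro x; simp [hI]
  have key : ∀ x ∈ I, ∀ y ∈ I, y ≠ x → y ≠ x * z → β x y = 1 := by
    intro x hx y hy h1 h2
    rw [memI] at hx hy
    exact β_eq_one_of_ne h hE x y hx.1 hy.1 hx.2.1 hx.2.2 hy.2.1 hy.2.2 h1 h2
  have pick : ∀ l : List P, l.length < 10 → ∃ x ∈ I, x ∉ l.toFinset := by
    intro l hl
    apply Finset.exists_mem_notMem_of_card_lt_card
    calc l.toFinset.card ≤ l.length := List.toFinset_card_le l
      _ < I.card := by rw [hIcard]; exact hl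
  obtain ⟨a1, i1, -⟩ := pick [] (by simp)
  obtain ⟨a2, i2, n2⟩ := pick [a1, a1 * z] (by simp)
  obtain ⟨a3, i3, n3⟩ := pick [a1, a1 * z, a2, a2 * z] (by simp)
  obtain ⟨a4, i4, n4⟩ := pick [a1, a1 * z, a2, a2 * z, a3, a3 * z] (by simp)
  obtain ⟨a5, i5, n5⟩ := pick [a1, a1 * z, a2, a2 * z, a3, a3 * z, a4, a4 * z] (by simp)
  simp only [List.toFinset_cons, List.toFinset_nil, Finset.mem_insert, not_or,
    Finset.notMem_empty, not_false_eq_true, and_true] at n2 n3 n4 n5
  have h12 := key a1 i1 a2 i2 n2.1 n2.2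
  have h13 := key a1 i1 a3 i3 n3.1 n3.2.1
  have h23 := key a2 i2 a3 i3 n3.2.2.1 n3.2.2.2
  have h14 := key a1 i1 a4 i4 n4.1 n4.2.1
  have h24 := key a2 i2 a4 i4 n4.2.2.1 n4.2.2.2.1
  have h34 := key a3 i3 a4 i4 n4.2.2.2.2.1 n4.2.2.2.2.2
  have h15 := key a1 i1 a5 i5 n5.1 n5.2.1
  have h25 := key a2 i2 a5 i5 n5.2.2.1 n5.2.2.2.1
  have h35 := key a3 i3 a5 i5 n5.2.2.2.2.1 n5.2.2.2.2.2.1
  have h45 := key a4 i4 a5 i5 n5.2.2.2.2.2.2.1 n5.2.2.2.2.2.2.2
  have h21 : β a2 a1 = 1 := by rw [β_symm h]; exact h12
  have h31 : β a3 a1 = 1 := by rw [β_symm h]; exact h13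
  have h32' : β a3 a2 = 1 := by rw [β_symm h]; exact h23
  have h41 : β a4 a1 = 1 := by rw [β_symm h]; exact h14
  have h42 : β a4 a2 = 1 := by rw [β_symm h]; exact h24
  have h43 : β a4 a3 = 1 := by rw [β_symm h]; exact h34
  have h51 : β a5 a1 = 1 := by rw [β_symm h]; exact h15
  have h52 : β a5 a2 = 1 := by rw [β_symm h]; exact h25
  have h53 : β a5 a3 = 1 := by rw [β_symm h]; exact h35
  have h54 : β a5 a4 = 1 := by rw [β_symm h]; exact h45
  have qa : ∀ i : Fin 5, q (![a1, a2, a3, a4, a5] i) = 0 := by
    intro i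
    fin_cases i
    · exact ((memI a1).mp i1).1
    · exact ((memI a2).mp i2).1
    · exact ((memI a3).mp i3).1
    · exact ((memI a4).mp i4).1
    · exact ((memI a5).mp i5).1
  have βa : ∀ i j : Fin 5, i ≠ j →
      β (![a1, a2, a3, a4, a5] i) (![a1, a2, a3, a4, a5] j) = 1 := by
    intro i j hij
    fin_cases i <;> fin_cases j <;>
      first
      | exact absurd rfl hij
      | exact h12 | exact h13 | exact h14 | exact h15
      | exact h21 | exact h23 | exact h24 | exact h25
      | exact h31 | exact h32' | exact h34 | exact h35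
      | exact h41 | exact h42 | exact h43 | exact h45
      | exact h51 | exact h52 | exact h53 | exact h54
  refine ⟨![a1, a2, a3, a4, a5], qa, βa, ?_⟩
  set a : Fin 5 → P := ![a1, a2, a3, a4, a5] with ha
  set J : Finset P := Finset.image (fun p : Fin 5 × ZMod 2 => a p.1 * ζ z p.2) Finset.univ with hJ
  have hJI : J ⊆ I := by
    intro x hx
    rw [hJ, Finset.mem_image] at hx
    obtain ⟨⟨i, e⟩, -, rfl⟩ := hx
    rw [memI]
    refine ⟨?_, (pre_noncentral h βa i e).1, (pre_noncentral h βa i e).2⟩
    show q (a i * ζ z e) = 0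
    rw [q_mul_ζ h]; exact qa i
  have hJcard : J.card = 10 := by
    rw [hJ, Finset.card_image_of_injective]
    · simp
    · rintro ⟨i, e⟩ ⟨j, e'⟩ heq
      obtain ⟨r1, r2⟩ := pre_inj h βa heq
      exact Prod.ext r1 r2
  have hJeq : J = I := Finset.eq_of_subset_of_card_le hJI (by rw [hIcard, hJcard])
  intro b qb hb1 hbz
  have hbI : b ∈ I := (memI b).mpr ⟨qb, hb1, hbz⟩
  rw [← hJeq, hJ, Finset.mem_image] at hbI
  obtain ⟨⟨i, e⟩, -, rfl⟩ := hbI
  exact ⟨i, e, rfl⟩

end frame


section autbasic

theorem aut_q (φ : MulAut P) (x : P) : q (φ x) = q x := by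
  have : φ x * φ x = 1 ↔ x * x = 1 := by
    rw [← map_mul]; exact φ.map_eq_one_iff
  by_cases hx : x * x = 1
  · rw [q, q, if_pos hx, if_pos (this.mpr hx)]
  · rw [q, q, if_neg hx, if_neg (fun h' => hx (this.mp h'))]

theorem aut_β (φ : MulAut P) (x y : P) : β (φ x) (φ y) = β x y := by
  have : φ x * φ y = φ y * φ x ↔ x * y = y * x := by
    rw [← map_mul, ← map_mul]; exact φ.injective.eq_iff
  by_cases hx : x * y = y * x
  · rw [β, β, if_pos hx, if_pos (this.mpr hx)]
  · rw [β, β, if_neg hx, if_neg (fun h' => hx (this.mp h'))]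

variable {z : P} (h : ESData P z)
include h

theorem aut_z (φ : MulAut P) : φ z = z := by
  have hc : ∀ y, φ z * y = y * φ z := by
    intro y
    obtain ⟨y', rfl⟩ := φ.surjective y
    rw [← map_mul, ← map_mul, h.z_central y']
  rcases h.center _ hc with e | e
  · exfalso
    apply h.z_ne
    apply φ.injective
    rw [e, map_one]
  · exact e

theorem aut_ζ (φ : MulAut P) (e : ZMod 2) : φ (ζ z e) = ζ z e := by
  rcases zmod2_cases e with rfl | rfl
  · rw [ζ_zero, map_one]
  · rw [ζ_one]; exact aut_z h φ

theorem conj_apply_eq (g x : P) : MulAut.conj g x = x * ζ z (β g x) := by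
  rw [MulAut.conj_apply]
  have h1 := comm_eq h g x
  rw [h1]
  have h2 := ζ_central h (β g x) g⁻¹
  rw [mul_assoc, ← h2, ← mul_assoc, mul_assoc x, mul_inv_cancel, mul_one]

end autbasic

section action

variable {z : P} (h : ESData P z) {a : Fin 5 → P} (F : Frame P z a)
include h F

theorem image_point (φ : MulAut P) (i : Fin 5) : ∃ j e, φ (a i) = a j * ζ z e := by
  have hnc := pre_noncentral h F.βa i 0
  rw [ζ_zero, mul_one] at hnc
  apply F.cover
  · rw [aut_q]; exact F.qa i
  · intro e1
    apply hnc.1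
    apply φ.injective
    rw [e1, map_one]
  · intro e1
    apply hnc.2
    apply φ.injective
    rw [e1, aut_z h]

/-- the induced map on the five points -/
noncomputable def σ (φ : MulAut P) (i : Fin 5) : Fin 5 := Classical.choose (image_point h F φ i)

theorem σ_spec (φ : MulAut P) (i : Fin 5) : ∃ e, φ (a i) = a (σ h F φ i) * ζ z e :=
  Classical.choose_spec (image_point h F φ i)

theorem σ_unique (φ : MulAut P) (i j : Fin 5) (e : ZMod 2) (hj : φ (a i) = a j * ζ z e) :
    σ h F φ i = j := by
  obtain ⟨e', he'⟩ := σ_spec h F φ i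
  rw [hj] at he'
  exact (pre_inj h F.βa he').1.symm

theorem σ_one (i : Fin 5) : σ h F 1 i = i :=
  σ_unique h F 1 i i 0 (by simp [ζ_zero])

theorem σ_mul (φ ψ : MulAut P) (i : Fin 5) : σ h F (φ * ψ) i = σ h F φ (σ h F ψ i) := by
  obtain ⟨e1, h1⟩ := σ_spec h F ψ i
  obtain ⟨e2, h2⟩ := σ_spec h F φ (σ h F ψ i)
  apply σ_unique h F _ _ _ (e2 + e1)
  rw [MulAut.mul_apply, h1, map_mul, h2, aut_ζ h, ζ_add h, mul_assoc]

/-- the action of `Aut P` on the five points -/
@[reducible] noncomputable def act : MulAction (MulAut P) (Fin 5) where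
  smul := σ h F
  one_smul := σ_one h F
  mul_smul := σ_mul h F

/-- the permutation representation -/
noncomputable def ρ : MulAut P →* Equiv.Perm (Fin 5) :=
  @MulAction.toPermHom (MulAut P) (Fin 5) _ (act h F)

theorem ρ_apply (φ : MulAut P) (i : Fin 5) : ρ h F φ i = σ h F φ i := rfl

theorem σ_conj (g : P) (i : Fin 5) : σ h F (MulAut.conj g) i = i :=
  σ_unique h F _ i i (β g (a i)) (conj_apply_eq h g (a i))

end action


section kernel

variable {z : P} (h : ESData P z) {a : Fin 5 → P} (F : Frame P z a)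
include h F

theorem β_frame (i j : Fin 5) : β (a i) (a j) = if i = j then 0 else 1 := by
  by_cases hij : i = j
  · rw [if_pos hij, hij]; exact β_self h _
  · rw [if_neg hij]; exact F.βa i j hij

theorem w_eq : ∃ c : ZMod 2, a 4 = a 0 * a 1 * a 2 * a 3 * ζ z c := by
  have h11 : (1 : ZMod 2) + 1 = 0 := by decide
  have qw : q (a 0 * a 1 * a 2 * a 3) = 0 := by
    simp only [q_mul h, β_mul_left h, F.qa, β_frame h F]
    decide
  have βw : ∀ i : Fin 5, i ≠ 4 → β (a 0 * a 1 * a 2 * a 3) (a i) = 1 := by
    intro i hi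
    simp only [β_mul_left h, β_frame h F]
    fin_cases i
    · decide
    · decide
    · decide
    · decide
    · exact absurd rfl hi
  have hw1 : a 0 * a 1 * a 2 * a 3 ≠ 1 := by
    intro e
    have := βw 0 (by decide)
    rw [e, β_one_left h] at this
    exact zero_ne_one this
  have hwz : a 0 * a 1 * a 2 * a 3 ≠ z := by
    intro e
    have := βw 0 (by decide)
    rw [e, β_z_left h] at this
    exact zero_ne_one this
  obtain ⟨j, c, hj⟩ := F.cover _ qw hw1 hwz
  have hj4 : j = 4 := by
    by_contra hne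
    have h1 := βw j hne
    rw [hj, β_mul_ζ_left h, β_self h] at h1
    exact zero_ne_one h1
  refine ⟨c, ?_⟩
  rw [hj, hj4, mul_assoc, ζ_mul_self h, mul_one]

theorem eq_top_of_invol (H : Subgroup P) (hH : ∀ x : P, x * x = 1 → x ∈ H) : H = ⊤ := by
  by_contra hne
  rw [Subgroup.eq_top_iff'] at hne
  push Not at hne
  obtain ⟨y, hy⟩ := hne
  have claim1 : ∀ w : P, w ∉ H → ∀ t : P, q t = 0 → β w t = 0 := by
    intro w hw t ht
    have htH : t ∈ H := hH t ((q_eq_zero_iff h t).mp ht)
    have qw : q w = 1 := by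
      rcases zmod2_cases (q w) with e | e
      · exact absurd (hH w ((q_eq_zero_iff h w).mp e)) hw
      · exact e
    have hwt : w * t ∉ H := by
      intro hc
      apply hw
      have : w = w * t * t⁻¹ := by group
      rw [this]
      exact H.mul_mem hc (H.inv_mem htH)
    have qwt : q (w * t) = 1 := by
      rcases zmod2_cases (q (w * t)) with e | e
      · exact absurd (hH _ ((q_eq_zero_iff h _).mp e)) hwt
      · exact e
    rw [q_mul h, qw, ht] at qwt
    have key : ∀ b : ZMod 2, 1 + 0 + b = 1 → b = 0 := by decide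
    exact key _ qwt
  have claim2 : ∀ w t : P, q t = 0 → β w t = 0 := by
    intro w t ht
    by_cases hw : w ∈ H
    · have hwy : w * y ∉ H := by
        intro hc
        apply hy
        have : y = w⁻¹ * (w * y) := by group
        rw [this]
        exact H.mul_mem (H.inv_mem hw) hc
      have hyi : y⁻¹ ∉ H := fun hc => hy (by simpa using H.inv_mem hc)
      have : w = w * y * y⁻¹ := by group
      rw [this, β_mul_left h, claim1 _ hwy t ht, claim1 _ hyi t ht]
      simp
    · exact claim1 w hw t ht
  have := claim2 (a 1) (a 0) (F.qa 0)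
  rw [F.βa 1 0 (by decide)] at this
  exact one_ne_zero this

/-- `x ^ e` for `e : ZMod 2` -/
noncomputable def pw (x : P) (e : ZMod 2) : P := if e = 0 then 1 else x

omit F in
theorem β_pw (x : P) (e : ZMod 2) (w : P) : β (pw x e) w = e * β x w := by
  rcases zmod2_cases e with rfl | rfl
  · simp [pw, β_one_left h]
  · simp [pw]

theorem ker_le (φ : MulAut P) (hφ : ∀ i, σ h F φ i = i) : ∃ g : P, φ = MulAut.conj g := by
  have hφ' : ∀ i, ∃ e, φ (a i) = a i * ζ z e := by
    intro i
    obtain ⟨e, he⟩ := σ_spec h F φ i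
    rw [hφ i] at he
    exact ⟨e, he⟩
  choose e he using hφ'
  set g : P := pw (a 4 * a 0) (e 0) * pw (a 4 * a 1) (e 1) * pw (a 4 * a 2) (e 2) *
    pw (a 4 * a 3) (e 3) with hg
  have h11 : (1 : ZMod 2) + 1 = 0 := by decide
  have βg : ∀ i : Fin 5, i ≠ 4 → β g (a i) = e i := by
    intro i hi
    simp only [hg, β_mul_left h, β_pw h, β_frame h F]
    fin_cases i
    · simp [h11]
    · simp [h11]
    · simp [h11]
    · simp [h11]
    · exact absurd rfl hi
  let H : Subgroup P :=
    { carrier := {x | φ x = MulAut.conj g x}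
      mul_mem' := by
        intro x y hx hy
        simp only [Set.mem_ofPred_eq] at hx hy ⊢
        rw [map_mul, map_mul, hx, hy]
      one_mem' := by simp
      inv_mem' := by
        intro x hx
        simp only [Set.mem_ofPred_eq] at hx ⊢
        rw [map_inv, map_inv, hx] }
  have memH : ∀ x, x ∈ H ↔ φ x = MulAut.conj g x := fun x => Iff.rfl
  have haH : ∀ i : Fin 5, i ≠ 4 → a i ∈ H := by
    intro i hi
    rw [memH, he i, conj_apply_eq h, βg i hi]
  have hζH : ∀ c : ZMod 2, ζ z c ∈ H := by
    intro c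
    rw [memH, aut_ζ h, aut_ζ h]
  have ha4 : a 4 ∈ H := by
    obtain ⟨c, hc⟩ := w_eq h F
    rw [hc]
    exact H.mul_mem (H.mul_mem (H.mul_mem (H.mul_mem (haH 0 (by decide)) (haH 1 (by decide)))
      (haH 2 (by decide))) (haH 3 (by decide))) (hζH c)
  have haH' : ∀ i : Fin 5, a i ∈ H := by
    intro i
    by_cases hi : i = 4
    · rw [hi]; exact ha4
    · exact haH i hi
  have hall : ∀ x : P, x * x = 1 → x ∈ H := by
    intro x hx
    by_cases hx1 : x = 1
    · rw [hx1]; exact H.one_mem
    by_cases hxz : x = z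
    · rw [hxz]
      have := hζH 1
      rwa [ζ_one] at this
    obtain ⟨i, c, hic⟩ := F.cover x ((q_eq_zero_iff h x).mpr hx) hx1 hxz
    rw [hic]
    exact H.mul_mem (haH' i) (hζH c)
  have htop := eq_top_of_invol h F H hall
  refine ⟨g, ?_⟩
  apply MulEquiv.ext
  intro x
  have : x ∈ H := by rw [htop]; exact Subgroup.mem_top x
  exact (memH x).mp this

end kernel


section transvection

variable {z : P} (h : ESData P z)
include h

/-- the transvection attached to an element `u` of order four -/
noncomputable def τ (u : P) (x : P) : P := x * pw u (β x u)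

omit h in
theorem pw_zero (u : P) : pw u 0 = 1 := by simp [pw]
omit h in
theorem pw_one (u : P) : pw u 1 = u := by simp [pw]

theorem τ_mul (u : P) (hu : q u = 1) (x y : P) : τ u (x * y) = τ u x * τ u y := by
  unfold τ
  rw [β_mul_left h]
  have huu : u * u = z := by
    have := sq_eq h u
    rw [hu, ζ_one] at this
    exact this
  rcases zmod2_cases (β x u) with e1 | e1 <;> rcases zmod2_cases (β y u) with e2 | e2 <;>
    rw [e1, e2]
  · simp [pw_zero]
  · simp [pw_zero, pw_one, mul_assoc]
  · have hyu : y * u = u * y := (β_eq_zero_iff h y u).mp e2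
    simp only [add_zero, pw_zero, pw_one, mul_one]
    rw [mul_assoc, hyu, mul_assoc]
  · have h11 : (1 : ZMod 2) + 1 = 0 := by decide
    have hyu := comm_eq h y u
    rw [e2, ζ_one] at hyu
    simp only [h11, pw_zero, pw_one, mul_one]
    have : x * u * (y * u) = x * y * (u * u * z) := by
      rw [hyu]
      have c1 := h.z_central
      calc x * u * (u * y * z) = x * (u * u) * y * z := by group
        _ = x * z * y * z := by rw [huu]
        _ = x * (z * y) * z := by group
        _ = x * (y * z) * z := by rw [c1 y]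
        _ = x * y * (z * z) := by group
        _ = x * y * (u * u * z) := by rw [huu]
    rw [this, huu, h.z_sq, mul_one]

theorem τ_inj (u : P) (hu : q u = 1) : Function.Injective (τ u) := by
  have hone : ∀ x : P, τ u x = 1 → x = 1 := by
    intro x hx
    unfold τ at hx
    rcases zmod2_cases (β x u) with e1 | e1
    · rw [e1, pw_zero, mul_one] at hx; exact hx
    · exfalso
      rw [e1, pw_one] at hx
      have hxu : x = u⁻¹ := eq_inv_of_mul_eq_one_left hx
      rw [hxu, β_inv_left h, β_self h] at e1
      exact zero_ne_one e1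
  intro x y hxy
  have h1 : τ u (x * y⁻¹) = 1 := by
    have := τ_mul h u hu (x * y⁻¹) y
    rw [inv_mul_cancel_right, hxy] at this
    exact mul_right_cancel (this.symm.trans (one_mul _).symm)
  have := hone _ h1
  exact mul_inv_eq_one.mp this

/-- the transvection as an automorphism -/
noncomputable def τAut [Finite P] (u : P) (hu : q u = 1) : MulAut P :=
  MulEquiv.ofBijective (MonoidHom.mk' (τ u) (τ_mul h u hu))
    (Finite.injective_iff_bijective.mp (τ_inj h u hu))

theorem τAut_apply [Finite P] (u : P) (hu : q u = 1) (x : P) : τAut h u hu x = τ u x := rfl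

end transvection

section surj

variable {z : P} (h : ESData P z) {a : Fin 5 → P} (F : Frame P z a)
include h F

theorem q_pair (i j : Fin 5) (hij : i ≠ j) : q (a i * a j) = 1 := by
  rw [q_mul h, F.qa, F.qa, F.βa i j hij]; simp

theorem σ_τ [Finite P] (i j : Fin 5) (hij : i ≠ j) (k : Fin 5) :
    σ h F (τAut h (a i * a j) (q_pair h F i j hij)) k = Equiv.swap i j k := by
  have h11 : (1 : ZMod 2) + 1 = 0 := by decide
  have hji : j ≠ i := fun e => hij e.symm
  by_cases hki : k = i
  · subst hki
    rw [Equiv.swap_apply_left]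
    apply σ_unique h F _ _ _ 0
    rw [τAut_apply, τ, β_mul_right h, β_self h, F.βa k j hij, zero_add, pw_one, ζ_zero, mul_one,
      ← mul_assoc]
    have := sq_eq h (a k)
    rw [F.qa, ζ_zero] at this
    rw [this, one_mul]
  by_cases hkj : k = j
  · subst hkj
    rw [Equiv.swap_apply_right]
    apply σ_unique h F _ _ _ 1
    rw [τAut_apply, τ, β_mul_right h, β_self h, F.βa k i hji, add_zero, pw_one, ζ_one]
    have h1 := comm_eq h (a k) (a i)
    rw [F.βa k i hji, ζ_one] at h1
    have h2 := sq_eq h (a k)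
    rw [F.qa, ζ_zero] at h2
    have c1 := h.z_central (a k)
    calc a k * (a i * a k) = (a k * a i) * a k := by group
      _ = a i * a k * z * a k := by rw [h1]
      _ = a i * (a k * z) * a k := by group
      _ = a i * (z * a k) * a k := by rw [c1]
      _ = a i * z * (a k * a k) := by group
      _ = a i * z := by rw [h2, mul_one]
  · rw [Equiv.swap_apply_of_ne_of_ne hki hkj]
    apply σ_unique h F _ _ _ 0
    rw [τAut_apply, τ, β_mul_right h, F.βa k i hki, F.βa k j hkj, h11, pw_zero, ζ_zero]

theorem ρ_τ [Finite P] (i j : Fin 5) (hij : i ≠ j) :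
    ρ h F (τAut h (a i * a j) (q_pair h F i j hij)) = Equiv.swap i j := by
  apply Equiv.ext
  intro k
  rw [ρ_apply]
  exact σ_τ h F i j hij k

theorem ρ_surj [Finite P] : Function.Surjective (ρ h F) := by
  rw [← MonoidHom.range_eq_top, eq_top_iff, ← Equiv.Perm.closure_isSwap, Subgroup.closure_le]
  rintro s ⟨i, j, hij, rfl⟩
  exact ⟨_, ρ_τ h F i j hij⟩

theorem ρ_ker : (ρ h F).ker = (MulAut.conj : P →* MulAut P).range := by
  ext φ
  rw [MonoidHom.mem_ker, MonoidHom.mem_range]
  constructor
  · intro hφ
    have : ∀ i, σ h F φ i = i := by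
      intro i
      rw [← ρ_apply, hφ]; rfl
    obtain ⟨g, hg⟩ := ker_le h F φ this
    exact ⟨g, hg.symm⟩
  · rintro ⟨g, rfl⟩
    apply Equiv.ext
    intro i
    rw [ρ_apply, σ_conj h F]; rfl

end surj


section main

open scoped commutatorElement

theorem conj_ker_eq_center : (MulAut.conj : P →* MulAut P).ker = Subgroup.center P := by
  ext g
  rw [MonoidHom.mem_ker, Subgroup.mem_center_iff]
  constructor
  · intro hg x
    have h1 : MulAut.conj g x = x := by rw [hg]; rfl
    rw [MulAut.conj_apply] at h1
    calc x * g = g * x * g⁻¹ * g := by rw [h1]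
      _ = g * x := by group
  · intro hg
    apply MulEquiv.ext
    intro x
    rw [MulAut.conj_apply, MulAut.one_apply, ← hg x]
    group

theorem esData_of [Finite P] (hp : IsPGroup 2 P) (hfr : frattini P = Subgroup.center P)
    (hcm : commutator P = Subgroup.center P) (hZ : Nat.card (Subgroup.center P) = 2) :
    ∃ z : P, ESData P z := by
  haveI : Fact (Nat.Prime 2) := ⟨Nat.prime_two⟩
  obtain ⟨z', hz'⟩ := (Nat.card_eq_two_iff' (1 : Subgroup.center P)).mp hZ
  obtain ⟨hz1, hzu⟩ := hz'
  have hzc : ∀ x : P, x * z'.1 = z'.1 * x := fun x => Subgroup.mem_center_iff.mp z'.2 x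
  have hzne : z'.1 ≠ 1 := by
    intro e
    apply hz1
    exact Subtype.ext e
  have hcen : ∀ x : P, x ∈ Subgroup.center P → x = 1 ∨ x = z'.1 := by
    intro x hx
    by_cases hx1 : x = 1
    · exact Or.inl hx1
    · right
      have := hzu ⟨x, hx⟩ (fun e => hx1 (congrArg Subtype.val e))
      exact congrArg Subtype.val this
  have hsq : z'.1 * z'.1 = 1 := by
    rcases hcen (z'.1 * z'.1) ((Subgroup.center P).mul_mem z'.2 z'.2) with e | e
    · exact e
    · exfalso
      apply hzne
      have : z'.1 * z'.1 = z'.1 * 1 := by rw [e, mul_one]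
      exact mul_left_cancel this
  refine ⟨z'.1, hzne, hsq, hzc, ?_, ?_, ?_⟩
  · intro x hx
    apply hcen
    rw [Subgroup.mem_center_iff]
    intro y
    exact (hx y).symm
  · intro x
    have := Cfsg.Agent.Lib.Helper11.pow_mem_frattini_of_isPGroup hp x
    rw [hfr, pow_two] at this
    exact hcen _ this
  · intro x y
    have hmem : ⁅x, y⁆ ∈ commutator P := Subgroup.commutator_mem_commutator
      (Subgroup.mem_top x) (Subgroup.mem_top y)
    rw [hcm] at hmem
    rcases hcen _ hmem with e | e
    · left
      exact commutatorElement_eq_one_iff_mul_comm.mp e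
    · right
      rw [commutatorElement_def] at e
      have : x * y = (x * y * x⁻¹ * y⁻¹) * (y * x) := by group
      rw [this, e, ← hzc]

theorem main [Finite P] {z : P} (h : ESData P z) (h32 : Nat.card P = 32) (hE : NoE8 P z)
    (hZ : Nat.card (Subgroup.center P) = 2) [(MulAut.conj : P →* MulAut P).range.Normal] :
    Nat.card (MulAut.conj : P →* MulAut P).range = 16 ∧ Nat.card (MulAut P) = 1920 ∧
      Nonempty ((MulAut P ⧸ (MulAut.conj : P →* MulAut P).range) ≃* Equiv.Perm (Fin 5)) := by
  have := Fintype.ofFinite P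
  have h32' : Fintype.card P = 32 := by rw [← Nat.card_eq_fintype_card]; exact h32
  obtain ⟨a, F⟩ := exists_frame h h32' hE
  have hcard16 : Nat.card (MulAut.conj : P →* MulAut P).range = 16 := by
    rw [← Subgroup.index_ker, conj_ker_eq_center]
    have := Subgroup.card_mul_index (Subgroup.center P)
    rw [hZ, h32] at this
    omega
  have e : (MulAut P ⧸ (MulAut.conj : P →* MulAut P).range) ≃* Equiv.Perm (Fin 5) :=
    (QuotientGroup.quotientMulEquivOfEq (ρ_ker h F).symm).trans
      (QuotientGroup.quotientKerEquivOfSurjective (ρ h F) (ρ_surj h F))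
  refine ⟨hcard16, ?_, ⟨e⟩⟩
  rw [Subgroup.card_eq_card_quotient_mul_card_subgroup (MulAut.conj : P →* MulAut P).range,
    hcard16, Nat.card_congr e.toEquiv, Nat.card_eq_fintype_card, Fintype.card_perm,
    Fintype.card_fin]
  rfl

end main

end Cfsg.Agent.Lib.Helper22.ES32
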