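import Mathlib
import Cfsg.Agent.Lib.Helper22.ES32

/-! Symplectic-type bases of extraspecial 2-groups, by induction on the order. -/

set_option autoImplicit false

namespace Cfsg.Agent.Lib.Helper22.ESBasis

open Cfsg.Agent.Lib.Helper22.ES32

universe u

variable {P : Type u} [Group P] {z : P}

section coe

variable (H : Subgroup P)

theorem q_coe (x : H) : q (x : P) = q x := by
  have : (x : P) * (x : P) = 1 ↔ x * x = 1 := by
    rw [← Subgroup.coe_mul, OneMemClass.coe_eq_one]
  by_cases hx : x * x = 1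
  · rw [q, q, if_pos hx, if_pos (this.mpr hx)]
  · rw [q, q, if_neg hx, if_neg (fun h' => hx (this.mp h'))]

theorem β_coe (x y : H) : β (x : P) (y : P) = β x y := by
  have : (x : P) * (y : P) = (y : P) * (x : P) ↔ x * y = y * x := by
    rw [← Subgroup.coe_mul, ← Subgroup.coe_mul, Subtype.ext_iff]
  by_cases hx : x * y = y * x
  · rw [β, β, if_pos hx, if_pos (this.mpr hx)]
  · rw [β, β, if_neg hx, if_neg (fun h' => hx (this.mp h'))]

end coe

section pw

variable (h : ESData P z)
include h

theorem β_pw_right (w x : P) (e : ZMod 2) : β w (pw x e) = e * β w x := by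
  rw [β_symm h, β_pw h, β_symm h]

theorem q_pw (x : P) (e : ZMod 2) : q (pw x e) = e * q x := by
  rcases zmod2_cases e with rfl | rfl
  · rw [pw_zero, q_one h, zero_mul]
  · rw [pw_one, one_mul]

end pw

section split

variable (h : ESData P z) (u v : P) (huv : β u v = 1)

/-- the centralizer of the pair `u, v` -/
def cent (u v : P) : Subgroup P := Subgroup.centralizer ({u, v} : Set P)

include h in
theorem mem_cent (x : P) : x ∈ cent u v ↔ β x u = 0 ∧ β x v = 0 := by
  unfold cent
  rw [Subgroup.mem_centralizer_iff, β_eq_zero_iff h, β_eq_zero_iff h]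
  constructor
  · intro hx
    exact ⟨(hx u (by simp)).symm, (hx v (by simp)).symm⟩
  · rintro ⟨h1, h2⟩ y hy
    rcases hy with rfl | rfl
    · exact h1.symm
    · exact h2.symm

include h in
theorem z_mem_cent : z ∈ cent u v := by
  rw [mem_cent h]
  exact ⟨β_z_left h u, β_z_left h v⟩

include h huv

theorem βvu : β v u = 1 := by rw [β_symm h]; exact huv

/-- the `⟨u,v⟩`-part of an element -/
noncomputable def wpart (u v : P) (y : P) : P := pw u (β y v) * pw v (β y u)

theorem β_w_left (a b : ZMod 2) (g : P) :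
    β (pw u a * pw v b) g = a * β u g + b * β v g := by
  rw [β_mul_left h, β_pw h, β_pw h]

theorem decomp (y : P) : y * (wpart u v y)⁻¹ ∈ cent u v := by
  rw [mem_cent h]
  unfold wpart
  constructor
  · rw [β_mul_left h, β_inv_left h, β_w_left h u v huv, β_self h, βvu h u v huv]
    have : ∀ a b : ZMod 2, b + (a * 0 + b * 1) = 0 := by decide
    exact this _ _
  · rw [β_mul_left h, β_inv_left h, β_w_left h u v huv, β_self h, huv]
    have : ∀ a b : ZMod 2, a + (a * 1 + b * 0) = 0 := by decide
    exact this _ _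

theorem β_cent_w (x : P) (hx : x ∈ cent u v) (a b : ZMod 2) : β x (pw u a * pw v b) = 0 := by
  rw [mem_cent h] at hx
  rw [β_mul_right h, β_pw_right h, β_pw_right h, hx.1, hx.2]
  simp

theorem q_w (a b : ZMod 2) : q (pw u a * pw v b) = a * q u + b * q v + a * b := by
  rw [q_mul h, q_pw h, q_pw h, β_pw h, β_pw_right h, huv]
  ring

theorem q_split (x : P) (hx : x ∈ cent u v) (a b : ZMod 2) :
    q (x * (pw u a * pw v b)) = q x + (a * q u + b * q v + a * b) := by
  rw [q_mul h, β_cent_w h u v huv x hx, q_w h u v huv, add_zero]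

/-- the decomposition `P ≃ C(u,v) × F₂ × F₂` -/
noncomputable def Θ : (cent u v) × ZMod 2 × ZMod 2 ≃ P where
  toFun t := (t.1 : P) * (pw u t.2.1 * pw v t.2.2)
  invFun y := (⟨y * (wpart u v y)⁻¹, decomp h u v huv y⟩, β y v, β y u)
  left_inv := by
    rintro ⟨⟨x, hx⟩, a, b⟩
    have hx' := (mem_cent h u v x).mp hx
    have e1 : β (x * (pw u a * pw v b)) v = a := by
      rw [β_mul_left h, hx'.2, β_w_left h u v huv, huv, β_self h]
      ring
    have e2 : β (x * (pw u a * pw v b)) u = b := by
      rw [β_mul_left h, hx'.1, β_w_left h u v huv, βvu h u v huv, β_self h]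
      ring
    apply Prod.ext
    · apply Subtype.ext
      show x * (pw u a * pw v b) * (wpart u v (x * (pw u a * pw v b)))⁻¹ = x
      unfold wpart
      rw [e1, e2, mul_inv_cancel_right]
    · apply Prod.ext
      · exact e1
      · exact e2
  right_inv := by
    intro y
    show y * (wpart u v y)⁻¹ * (pw u (β y v) * pw v (β y u)) = y
    unfold wpart
    rw [inv_mul_cancel_right]

theorem Θ_apply (t : (cent u v) × ZMod 2 × ZMod 2) :
    Θ h u v huv t = (t.1 : P) * (pw u t.2.1 * pw v t.2.2) := rfl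

theorem card_split [Finite P] : Nat.card P = 4 * Nat.card (cent u v) := by
  rw [← Nat.card_congr (Θ h u v huv), Nat.card_prod, Nat.card_prod, Nat.card_zmod]
  ring

/-- ESData for the centralizer -/
theorem esData_cent : ESData (cent u v) ⟨z, z_mem_cent h u v⟩ := by
  refine ⟨?_, ?_, ?_, ?_, ?_, ?_⟩
  · intro e
    exact h.z_ne (congrArg Subtype.val e)
  · exact Subtype.ext h.z_sq
  · intro x
    exact Subtype.ext (h.z_central x.1)
  · intro x hx
    have hcen : ∀ y : P, x.1 * y = y * x.1 := by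
      intro y
      have hy := (Θ h u v huv).right_inv y
      have hxm := (mem_cent h u v x.1).mp x.2
      rw [← β_eq_zero_iff h]
      have : y = ((Θ h u v huv).invFun y).1.1 *
          (pw u ((Θ h u v huv).invFun y).2.1 * pw v ((Θ h u v huv).invFun y).2.2) := hy.symm
      rw [this, β_mul_right h, β_cent_w h u v huv x.1 x.2, add_zero, β_eq_zero_iff h]
      have := hx ((Θ h u v huv).invFun y).1
      exact congrArg Subtype.val this
    rcases h.center x.1 hcen with e | e
    · left; exact Subtype.ext e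
    · right; exact Subtype.ext e
  · intro x
    rcases h.sq x.1 with e | e
    · left; exact Subtype.ext e
    · right; exact Subtype.ext e
  · intro x y
    rcases h.comm x.1 y.1 with e | e
    · left; exact Subtype.ext e
    · right; exact Subtype.ext e

end split


section tsum

/-- the Gauss sum of the squaring map -/
noncomputable def Tsum (P : Type u) [Group P] [Fintype P] : ℤ := ∑ x : P, sgn (q x)

theorem sum_zmod2 (f : ZMod 2 → ℤ) : ∑ a : ZMod 2, f a = f 0 + f 1 :=
  Fin.sum_univ_two f

variable (h : ESData P z) (u v : P) (huv : β u v = 1)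
include h huv

theorem Tsum_split [Fintype P] [Fintype (cent u v)] :
    Tsum P = Tsum (cent u v) * (sgn 0 + sgn (q v) + sgn (q u) + sgn (q u + q v + 1)) := by
  unfold Tsum
  rw [← Equiv.sum_comp (Θ h u v huv) (fun y => sgn (q y)), Fintype.sum_prod_type,
    Finset.sum_mul]
  apply Finset.sum_congr rfl
  intro x _
  rw [Fintype.sum_prod_type, sum_zmod2]
  rw [sum_zmod2, sum_zmod2]
  simp only [Θ_apply]
  rw [q_split h u v huv x.1 x.2, q_split h u v huv x.1 x.2, q_split h u v huv x.1 x.2,
    q_split h u v huv x.1 x.2, q_coe]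
  simp only [sgn_add, sgn_zero, zero_mul, mul_zero, add_zero, one_mul, mul_one, zero_add]
  ring

end tsum

section bases

/-- a hyperbolic basis -/
structure PlusBasis (P : Type u) [Group P] (n : ℕ) (e f : Fin n → P) : Prop where
  ef : ∀ i j, β (e i) (f j) = if i = j then 1 else 0
  ee : ∀ i j, β (e i) (e j) = 0
  ff : ∀ i j, β (f i) (f j) = 0
  quad : ∀ x, q x = ∑ i, β x (f i) * β x (e i)

/-- a basis of minus type -/
structure MinusBasis (P : Type u) [Group P] (m : ℕ) (e f : Fin m → P) (u v : P) : Prop where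
  ef : ∀ i j, β (e i) (f j) = if i = j then 1 else 0
  ee : ∀ i j, β (e i) (e j) = 0
  ff : ∀ i j, β (f i) (f j) = 0
  ue : ∀ i, β u (e i) = 0
  uf : ∀ i, β u (f i) = 0
  ve : ∀ i, β v (e i) = 0
  vf : ∀ i, β v (f i) = 0
  uv : β u v = 1
  quad : ∀ x, q x = (∑ i, β x (f i) * β x (e i)) + (β x v ^ 2 + β x v * β x u + β x u ^ 2)

variable (h : ESData P z) (e₀ f₀ : P) (hef : β e₀ f₀ = 1)
include h hef

/-- for `g` in the centralizer, `β x g` only depends on the centralizer part of `x` -/
theorem β_part (x g : P) (hg : g ∈ cent e₀ f₀) :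
    β (x * (wpart e₀ f₀ x)⁻¹) g = β x g := by
  have hg' := (mem_cent h e₀ f₀ g).mp hg
  unfold wpart
  rw [β_mul_left h, β_inv_left h, β_w_left h e₀ f₀ hef, β_symm h e₀ g, β_symm h f₀ g, hg'.1, hg'.2]
  simp

theorem x_eq_split (x : P) :
    x = (x * (wpart e₀ f₀ x)⁻¹) * (pw e₀ (β x f₀) * pw f₀ (β x e₀)) := by
  unfold wpart
  rw [inv_mul_cancel_right]

theorem lift_plus (qe : q e₀ = 0) (qf : q f₀ = 0) (n : ℕ) (e' f' : Fin n → cent e₀ f₀)
    (B : PlusBasis (cent e₀ f₀) n e' f') :
    PlusBasis P (n + 1) (Fin.cons e₀ (fun i => (e' i : P))) (Fin.cons f₀ (fun i => (f' i : P))) := by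
  have mem_e : ∀ i, β (e' i : P) e₀ = 0 ∧ β (e' i : P) f₀ = 0 :=
    fun i => (mem_cent h e₀ f₀ _).mp (e' i).2
  have mem_f : ∀ i, β (f' i : P) e₀ = 0 ∧ β (f' i : P) f₀ = 0 :=
    fun i => (mem_cent h e₀ f₀ _).mp (f' i).2
  refine ⟨?_, ?_, ?_, ?_⟩
  · intro i j
    refine Fin.cases ?_ (fun i => ?_) i <;> refine Fin.cases ?_ (fun j => ?_) j
    · simp only [Fin.cons_zero]; rw [hef]; simp
    · simp only [Fin.cons_zero, Fin.cons_succ]
      rw [β_symm h, (mem_f j).1, if_neg (Fin.succ_ne_zero j).symm]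
    · simp only [Fin.cons_zero, Fin.cons_succ]
      rw [(mem_e i).2, if_neg (Fin.succ_ne_zero i)]
    · simp only [Fin.cons_succ]
      rw [β_coe, B.ef i j]
      simp only [Fin.succ_inj]
  · intro i j
    refine Fin.cases ?_ (fun i => ?_) i <;> refine Fin.cases ?_ (fun j => ?_) j
    · simp only [Fin.cons_zero]; exact β_self h _
    · simp only [Fin.cons_zero, Fin.cons_succ]
      rw [β_symm h, (mem_e j).1]
    · simp only [Fin.cons_zero, Fin.cons_succ]
      rw [(mem_e i).1]
    · simp only [Fin.cons_succ]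
      rw [β_coe, B.ee i j]
  · intro i j
    refine Fin.cases ?_ (fun i => ?_) i <;> refine Fin.cases ?_ (fun j => ?_) j
    · simp only [Fin.cons_zero]; exact β_self h _
    · simp only [Fin.cons_zero, Fin.cons_succ]
      rw [β_symm h, (mem_f j).2]
    · simp only [Fin.cons_zero, Fin.cons_succ]
      rw [(mem_f i).2]
    · simp only [Fin.cons_succ]
      rw [β_coe, B.ff i j]
  · intro x
    rw [Fin.sum_univ_succ]
    simp only [Fin.cons_zero, Fin.cons_succ]
    have hx := x_eq_split h e₀ f₀ hef x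
    have hmem := decomp h e₀ f₀ hef x
    have h1 : q x = q (x * (wpart e₀ f₀ x)⁻¹) + β x f₀ * β x e₀ := by
      conv_lhs => rw [hx]
      rw [q_split h e₀ f₀ hef _ hmem, qe, qf]
      ring
    rw [h1]
    have h2 := B.quad ⟨_, hmem⟩
    rw [← q_coe] at h2
    rw [h2, add_comm]
    congr 1
    apply Finset.sum_congr rfl
    intro i _
    rw [← β_coe, ← β_coe]
    show β (x * (wpart e₀ f₀ x)⁻¹) (f' i : P) * β (x * (wpart e₀ f₀ x)⁻¹) (e' i : P) = _
    rw [β_part h e₀ f₀ hef x _ (f' i).2, β_part h e₀ f₀ hef x _ (e' i).2]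

end bases


section bases2

variable (h : ESData P z) (e₀ f₀ : P) (hef : β e₀ f₀ = 1)
include h hef

theorem lift_minus (qe : q e₀ = 0) (qf : q f₀ = 0) (m : ℕ) (e' f' : Fin m → cent e₀ f₀)
    (u' v' : cent e₀ f₀) (B : MinusBasis (cent e₀ f₀) m e' f' u' v') :
    MinusBasis P (m + 1) (Fin.cons e₀ (fun i => (e' i : P))) (Fin.cons f₀ (fun i => (f' i : P)))
      (u' : P) (v' : P) := by
  have mem_e : ∀ i, β (e' i : P) e₀ = 0 ∧ β (e' i : P) f₀ = 0 :=
    fun i => (mem_cent h e₀ f₀ _).mp (e' i).2
  have mem_f : ∀ i, β (f' i : P) e₀ = 0 ∧ β (f' i : P) f₀ = 0 :=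
    fun i => (mem_cent h e₀ f₀ _).mp (f' i).2
  have mem_u : β (u' : P) e₀ = 0 ∧ β (u' : P) f₀ = 0 := (mem_cent h e₀ f₀ _).mp u'.2
  have mem_v : β (v' : P) e₀ = 0 ∧ β (v' : P) f₀ = 0 := (mem_cent h e₀ f₀ _).mp v'.2
  refine ⟨?_, ?_, ?_, ?_, ?_, ?_, ?_, ?_, ?_⟩
  · intro i j
    refine Fin.cases ?_ (fun i => ?_) i <;> refine Fin.cases ?_ (fun j => ?_) j
    · simp only [Fin.cons_zero]; rw [hef]; simp
    · simp only [Fin.cons_zero, Fin.cons_succ]
      rw [β_symm h, (mem_f j).1, if_neg (Fin.succ_ne_zero j).symm]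
    · simp only [Fin.cons_zero, Fin.cons_succ]
      rw [(mem_e i).2, if_neg (Fin.succ_ne_zero i)]
    · simp only [Fin.cons_succ]
      rw [β_coe, B.ef i j]
      simp only [Fin.succ_inj]
  · intro i j
    refine Fin.cases ?_ (fun i => ?_) i <;> refine Fin.cases ?_ (fun j => ?_) j
    · simp only [Fin.cons_zero]; exact β_self h _
    · simp only [Fin.cons_zero, Fin.cons_succ]
      rw [β_symm h, (mem_e j).1]
    · simp only [Fin.cons_zero, Fin.cons_succ]
      rw [(mem_e i).1]
    · simp only [Fin.cons_succ]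
      rw [β_coe, B.ee i j]
  · intro i j
    refine Fin.cases ?_ (fun i => ?_) i <;> refine Fin.cases ?_ (fun j => ?_) j
    · simp only [Fin.cons_zero]; exact β_self h _
    · simp only [Fin.cons_zero, Fin.cons_succ]
      rw [β_symm h, (mem_f j).2]
    · simp only [Fin.cons_zero, Fin.cons_succ]
      rw [(mem_f i).2]
    · simp only [Fin.cons_succ]
      rw [β_coe, B.ff i j]
  · intro i
    refine Fin.cases ?_ (fun i => ?_) i
    · simp only [Fin.cons_zero]; exact mem_u.1
    · simp only [Fin.cons_succ]; rw [β_coe, B.ue i]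
  · intro i
    refine Fin.cases ?_ (fun i => ?_) i
    · simp only [Fin.cons_zero]; exact mem_u.2
    · simp only [Fin.cons_succ]; rw [β_coe, B.uf i]
  · intro i
    refine Fin.cases ?_ (fun i => ?_) i
    · simp only [Fin.cons_zero]; exact mem_v.1
    · simp only [Fin.cons_succ]; rw [β_coe, B.ve i]
  · intro i
    refine Fin.cases ?_ (fun i => ?_) i
    · simp only [Fin.cons_zero]; exact mem_v.2
    · simp only [Fin.cons_succ]; rw [β_coe, B.vf i]
  · rw [β_coe, B.uv]
  · intro x
    rw [Fin.sum_univ_succ]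
    simp only [Fin.cons_zero, Fin.cons_succ]
    have hx := x_eq_split h e₀ f₀ hef x
    have hmem := decomp h e₀ f₀ hef x
    have h1 : q x = q (x * (wpart e₀ f₀ x)⁻¹) + β x f₀ * β x e₀ := by
      conv_lhs => rw [hx]
      rw [q_split h e₀ f₀ hef _ hmem, qe, qf]
      ring
    rw [h1]
    have h2 := B.quad ⟨_, hmem⟩
    rw [← q_coe] at h2
    rw [h2]
    have e1 : ∀ g : cent e₀ f₀, β (⟨x * (wpart e₀ f₀ x)⁻¹, hmem⟩ : cent e₀ f₀) g = β x (g : P) := by
      intro g
      rw [← β_coe]
      exact β_part h e₀ f₀ hef x _ g.2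
    simp only [e1]
    ring

end bases2

section base

variable (h : ESData P z)
include h

theorem plus_zero [Fintype P] (hc : Fintype.card P = 2) :
    PlusBasis P 0 Fin.elim0 Fin.elim0 ∧ 0 < Tsum P := by
  classical
  have hz1 : (1 : P) ≠ z := fun e => h.z_ne e.symm
  have hall : ∀ x : P, x = 1 ∨ x = z := by
    intro x
    have : ({1, z} : Finset P) = Finset.univ := by
      apply Finset.eq_univ_of_card
      rw [Finset.card_pair hz1, hc]
    have hx : x ∈ ({1, z} : Finset P) := by rw [this]; exact Finset.mem_univ x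
    simpa using hx
  have hq : ∀ x : P, q x = 0 := by
    intro x
    rcases hall x with rfl | rfl
    · exact q_one h
    · exact q_z h
  refine ⟨⟨fun i => i.elim0, fun i => i.elim0, fun i => i.elim0, ?_⟩, ?_⟩
  · intro x
    rw [hq x]
    simp
  · unfold Tsum
    simp only [hq, sgn_zero]
    simp [hc]

theorem no_invol [Fintype P] (hq : ∀ x : P, q x = 0 → x = 1 ∨ x = z)
    (hc : 8 ≤ Fintype.card P) : Fintype.card P = 8 ∧ Tsum P = -4 := by
  classical
  have hz1 : (1 : P) ≠ z := fun e => h.z_ne e.symm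
  have hfil : Finset.univ.filter (fun x : P => q x = 0) = {1, z} := by
    ext x
    simp only [Finset.mem_filter, Finset.mem_univ, true_and, Finset.mem_insert,
      Finset.mem_singleton]
    constructor
    · exact hq x
    · rintro (rfl | rfl)
      · exact q_one h
      · exact q_z h
  have hT : Tsum P = 4 - (Fintype.card P : ℤ) := by
    unfold Tsum
    rw [sum_sgn_q h, hfil, Finset.card_pair hz1]
    norm_num
  have hg := gauss h
  change Tsum P * Tsum P = _ at hg
  rw [hT] at hg
  have hN : (8 : ℤ) ≤ (Fintype.card P : ℤ) := by exact_mod_cast hc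
  have h2 : ((Fintype.card P : ℤ) - 2) * ((Fintype.card P : ℤ) - 8) = 0 := by nlinarith
  have h8 : (Fintype.card P : ℤ) = 8 := by
    rcases mul_eq_zero.mp h2 with e | e
    · linarith
    · linarith
  constructor
  · exact_mod_cast h8
  · rw [hT, h8]; norm_num

theorem minus_base [Fintype P] (hc : Fintype.card P = 8)
    (hq : ∀ x : P, q x = 0 → x = 1 ∨ x = z) :
    ∃ u v : P, MinusBasis P 0 Fin.elim0 Fin.elim0 u v := by
  classical
  have hz1 : (1 : P) ≠ z := fun e => h.z_ne e.symm
  have hex : ∃ u ∈ (Finset.univ : Finset P), u ∉ ({1, z} : Finset P) := by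
    apply Finset.exists_mem_notMem_of_card_lt_card
    rw [Finset.card_pair hz1, Finset.card_univ, hc]
    norm_num
  obtain ⟨u, -, hu⟩ := hex
  simp only [Finset.mem_insert, Finset.mem_singleton, not_or] at hu
  obtain ⟨v, huv⟩ := exists_β_ne h u hu.1 hu.2
  have qu : q u = 1 := by
    rcases zmod2_cases (q u) with e | e
    · rcases hq u e with r | r
      · exact absurd r hu.1
      · exact absurd r hu.2
    · exact e
  have qv : q v = 1 := by
    rcases zmod2_cases (q v) with e | e
    · exfalso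
      rcases hq v e with r | r
      · rw [r, β_one_right h] at huv; exact zero_ne_one huv
      · rw [r, β_z_right h] at huv; exact zero_ne_one huv
    · exact e
  have hc2 : Nat.card (cent u v) = 2 := by
    have := card_split h u v huv
    rw [Nat.card_eq_fintype_card, hc] at this
    omega
  have hcent : ∀ x : P, x ∈ cent u v → q x = 0 := by
    intro x hx
    have hES := esData_cent h u v huv
    haveI : Fintype (cent u v) := Fintype.ofFinite _
    have hc2' : Fintype.card (cent u v) = 2 := by rw [← Nat.card_eq_fintype_card]; exact hc2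
    have := (plus_zero hES hc2').1.quad ⟨x, hx⟩
    rw [← q_coe] at this
    rw [this]
    simp
  refine ⟨u, v, ⟨fun i => i.elim0, fun i => i.elim0, fun i => i.elim0, fun i => i.elim0,
    fun i => i.elim0, fun i => i.elim0, fun i => i.elim0, huv, ?_⟩⟩
  intro x
  have hx := x_eq_split h u v huv x
  have hmem := decomp h u v huv x
  conv_lhs => rw [hx]
  rw [q_split h u v huv _ hmem, hcent _ hmem, qu, qv]
  simp only [Finset.univ_eq_empty, Finset.sum_empty]
  have : ∀ a b : ZMod 2, 0 + (a * 1 + b * 1 + a * b) = 0 + (a ^ 2 + a * b + b ^ 2) := by decide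
  exact this _ _

end base

section induction

theorem exists_basis : ∀ (n : ℕ) (P : Type u) [Group P] [Fintype P] (z : P), ESData P z →
    Fintype.card P = 2 ^ (2 * n + 1) →
    (∃ e f : Fin n → P, PlusBasis P n e f ∧ 0 < Tsum P) ∨
    (∃ (m : ℕ) (e f : Fin m → P) (u v : P), n = m + 1 ∧ MinusBasis P m e f u v ∧ Tsum P < 0) := by
  intro n
  induction n with
  | zero =>
    intro P _ _ z h hc
    left
    exact ⟨Fin.elim0, Fin.elim0, plus_zero h (by simpa using hc)⟩
  | succ n ih =>
    intro P _ _ z h hc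
    classical
    by_cases hex : ∃ e₀ : P, q e₀ = 0 ∧ e₀ ≠ 1 ∧ e₀ ≠ z
    · obtain ⟨e₀, qe, e1, ez⟩ := hex
      obtain ⟨f₁, hf₁⟩ := exists_β_ne h e₀ e1 ez
      obtain ⟨f₀, hef, qf⟩ : ∃ f₀, β e₀ f₀ = 1 ∧ q f₀ = 0 := by
        rcases zmod2_cases (q f₁) with e | e
        · exact ⟨f₁, hf₁, e⟩
        · refine ⟨f₁ * e₀, ?_, ?_⟩
          · rw [β_mul_right h, hf₁, β_self h, add_zero]
          · rw [q_mul h, e, qe, β_symm h, hf₁]; decide
      haveI : Fintype (cent e₀ f₀) := Fintype.ofFinite _
      have hc' : Fintype.card (cent e₀ f₀) = 2 ^ (2 * n + 1) := by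
        have := card_split h e₀ f₀ hef
        rw [Nat.card_eq_fintype_card, Nat.card_eq_fintype_card, hc] at this
        have e : 2 ^ (2 * (n + 1) + 1) = 4 * 2 ^ (2 * n + 1) := by ring
        omega
      have hT := Tsum_split h e₀ f₀ hef
      rw [qe, qf] at hT
      have hT' : Tsum P = Tsum (cent e₀ f₀) * 2 := by
        rw [hT]
        simp [sgn]
      rcases ih (cent e₀ f₀) ⟨z, z_mem_cent h e₀ f₀⟩ (esData_cent h e₀ f₀ hef) hc' with
        ⟨e', f', B, hpos⟩ | ⟨m, e', f', u', v', hnm, B, hneg⟩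
      · left
        exact ⟨_, _, lift_plus h e₀ f₀ hef qe qf n e' f' B, by rw [hT']; linarith⟩
      · right
        exact ⟨m + 1, _, _, u', v', by rw [hnm], lift_minus h e₀ f₀ hef qe qf m e' f' u' v' B,
          by rw [hT']; linarith⟩
    · push Not at hex
      have hq : ∀ x : P, q x = 0 → x = 1 ∨ x = z := by
        intro x hx
        by_cases hx1 : x = 1
        · exact Or.inl hx1
        · exact Or.inr (hex x hx hx1)
      have h8 : 8 ≤ Fintype.card P := by
        rw [hc]
        have : 2 ^ (2 * (n + 1) + 1) = 8 * 4 ^ n := by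
          rw [show 2 * (n + 1) + 1 = 3 + 2 * n by ring, pow_add, pow_mul]; norm_num
        rw [this]
        have : 1 ≤ 4 ^ n := Nat.one_le_pow _ _ (by norm_num)
        omega
      obtain ⟨hc8, hT⟩ := no_invol h hq h8
      have hn0 : n = 0 := by
        rw [hc] at hc8
        have : 2 ^ (2 * (n + 1) + 1) = 2 ^ 3 := by rw [hc8]; norm_num
        have := Nat.pow_right_injective (le_refl 2) this
        omega
      subst hn0
      obtain ⟨u, v, B⟩ := minus_base h hc8 hq
      right
      exact ⟨0, Fin.elim0, Fin.elim0, u, v, rfl, B, by rw [hT]; norm_num⟩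

end induction

end Cfsg.Agent.Lib.Helper22.ESBasis
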