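import Mathlib
import Cfsg.Agent.Lib.Helper22.ES32

/-! Extraspecial 2-groups with a coordinate system: the outer automorphism group is the
isometry group of the quadratic form. -/

set_option autoImplicit false

namespace Cfsg.Agent.Lib.Helper22.ESCoord

open Cfsg.Agent.Lib.Helper22.ES32
open Matrix

variable {P : Type*} [Group P] {z : P} {ι : Type} [Fintype ι] [DecidableEq ι]

/-- A coordinate system on `P`: a surjective additive map to `ZMod 2 ^ ι` with kernel `{1, z}`
along which the squaring map becomes `Q`. -/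
structure Coords (P : Type*) [Group P] (z : P) (ι : Type) (Q : (ι → ZMod 2) → ZMod 2)
    (κ : P → ι → ZMod 2) : Prop where
  add : ∀ x y, κ (x * y) = κ x + κ y
  kz : κ z = 0
  surj : Function.Surjective κ
  ker : ∀ x, κ x = 0 → x = 1 ∨ x = z
  quad : ∀ x, q x = Q (κ x)

section basic

variable {Q : (ι → ZMod 2) → ZMod 2} {κ : P → ι → ZMod 2} (h : ESData P z)
  (C : Coords P z ι Q κ)
include h C

theorem κ_one : κ 1 = 0 := by
  have := C.add 1 1
  rw [mul_one] at this
  have h2 : κ 1 + κ 1 = κ 1 + 0 := by rw [← this, add_zero]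
  exact (add_left_cancel h2)

theorem κ_ζ (e : ZMod 2) : κ (ζ z e) = 0 := by
  rcases zmod2_cases e with rfl | rfl
  · rw [ζ_zero]; exact κ_one h C
  · rw [ζ_one]; exact C.kz

theorem vec_add_self (v : ι → ZMod 2) : v + v = 0 := by
  funext i
  have : ∀ a : ZMod 2, a + a = 0 := by decide
  exact this _

theorem vec_neg (v : ι → ZMod 2) : -v = v := by
  have := vec_add_self h C v
  exact (eq_neg_of_add_eq_zero_left this).symm

theorem κ_inv (x : P) : κ x⁻¹ = κ x := by
  have := C.add x x⁻¹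
  rw [mul_inv_cancel, κ_one h C] at this
  have h2 : κ x⁻¹ = -κ x := (neg_eq_of_add_eq_zero_right this.symm).symm
  rw [h2, vec_neg h C]

theorem eq_mul_ζ_of_κ_eq (x y : P) (hxy : κ x = κ y) : ∃ c : ZMod 2, y = x * ζ z c := by
  have h1 : κ (x⁻¹ * y) = 0 := by
    rw [C.add, κ_inv h C, hxy, vec_add_self h C]
  rcases C.ker _ h1 with e | e
  · refine ⟨0, ?_⟩
    rw [ζ_zero, mul_one]
    exact (inv_mul_eq_one.mp e).symm
  · refine ⟨1, ?_⟩
    rw [ζ_one, ← e, mul_inv_cancel_left]

theorem κ_aut (φ : MulAut P) (x y : P) (hxy : κ x = κ y) : κ (φ x) = κ (φ y) := by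
  obtain ⟨c, rfl⟩ := eq_mul_ζ_of_κ_eq h C x y hxy
  rw [map_mul, aut_ζ h, C.add, κ_ζ h C, add_zero]

/-- generation: a subgroup containing `z` and preimages of the standard basis is everything -/
theorem gen (H : Subgroup P) (hz : z ∈ H) (hb : ∀ j : ι, ∃ y ∈ H, κ y = Pi.single j 1) :
    H = ⊤ := by
  classical
  have claim : ∀ (v : ι → ZMod 2) (s : Finset ι), ∃ y ∈ H, κ y = ∑ j ∈ s, Pi.single j (v j) := by
    intro v s
    induction s using Finset.induction_on with
    | empty => exact ⟨1, H.one_mem, by rw [κ_one h C, Finset.sum_empty]⟩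
    | insert a s ha ih =>
      obtain ⟨y, hy, hκ⟩ := ih
      rw [Finset.sum_insert ha]
      rcases zmod2_cases (v a) with e | e
      · refine ⟨y, hy, ?_⟩
        rw [e, Pi.single_zero, zero_add, hκ]
      · obtain ⟨w, hw, hκw⟩ := hb a
        refine ⟨w * y, H.mul_mem hw hy, ?_⟩
        rw [C.add, hκw, hκ, e]
  rw [Subgroup.eq_top_iff']
  intro x
  obtain ⟨y, hy, hκ⟩ := claim (κ x) Finset.univ
  rw [Finset.univ_sum_single] at hκ
  obtain ⟨c, rfl⟩ := eq_mul_ζ_of_κ_eq h C y x hκ
  apply H.mul_mem hy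
  rcases zmod2_cases c with rfl | rfl
  · rw [ζ_zero]; exact H.one_mem
  · rw [ζ_one]; exact hz

end basic


section matrix

variable {Q : (ι → ZMod 2) → ZMod 2} {κ : P → ι → ZMod 2} (h : ESData P z)
  (C : Coords P z ι Q κ)
include h C

/-- a set-theoretic section of `κ` -/
noncomputable def sec (v : ι → ZMod 2) : P := Function.surjInv C.surj v

theorem κ_sec (v : ι → ZMod 2) : κ (sec C v) = v := Function.surjInv_eq C.surj v

/-- the matrix of an automorphism -/
noncomputable def M (φ : MulAut P) : Matrix ι ι (ZMod 2) :=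
  Matrix.of fun i j => κ (φ (sec C (Pi.single j 1))) i

theorem M_mulVec (φ : MulAut P) (x : P) : M C φ *ᵥ κ x = κ (φ x) := by
  let H : Subgroup P :=
    { carrier := {x | M C φ *ᵥ κ x = κ (φ x)}
      mul_mem' := by
        intro x y hx hy
        simp only [Set.mem_ofPred_eq] at hx hy ⊢
        rw [C.add, Matrix.mulVec_add, hx, hy, map_mul, C.add]
      one_mem' := by
        simp only [Set.mem_ofPred_eq]
        rw [map_one, κ_one h C, Matrix.mulVec_zero]
      inv_mem' := by
        intro x hx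
        simp only [Set.mem_ofPred_eq] at hx ⊢
        rw [map_inv, κ_inv h C, κ_inv h C, hx] }
  have hH : H = ⊤ := by
    apply gen h C H
    · show M C φ *ᵥ κ z = κ (φ z)
      rw [aut_z h, C.kz, Matrix.mulVec_zero]
    · intro j
      refine ⟨sec C (Pi.single j 1), ?_, κ_sec h C _⟩
      show M C φ *ᵥ κ (sec C (Pi.single j 1)) = κ (φ (sec C (Pi.single j 1)))
      rw [κ_sec h C, Matrix.mulVec_single_one]
      funext i
      rfl
  have : x ∈ H := by rw [hH]; exact Subgroup.mem_top x
  exact this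

omit h C in
theorem mat_ext (A B : Matrix ι ι (ZMod 2)) (hAB : ∀ v, A *ᵥ v = B *ᵥ v) : A = B := by
  apply Matrix.toLin'.injective
  apply LinearMap.ext
  intro v
  rw [Matrix.toLin'_apply, Matrix.toLin'_apply, hAB]

theorem M_eq_of (φ : MulAut P) (A : Matrix ι ι (ZMod 2)) (hA : ∀ x, κ (φ x) = A *ᵥ κ x) :
    M C φ = A := by
  apply mat_ext
  intro v
  obtain ⟨x, rfl⟩ := C.surj v
  rw [M_mulVec h C, hA]

theorem M_one : M C 1 = 1 := by
  apply M_eq_of h C
  intro x
  rw [Matrix.one_mulVec]; rfl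

theorem M_mul (φ ψ : MulAut P) : M C (φ * ψ) = M C φ * M C ψ := by
  apply M_eq_of h C
  intro x
  rw [MulAut.mul_apply, ← Matrix.mulVec_mulVec, M_mulVec h C, M_mulVec h C]

/-- the matrix representation as a monoid hom -/
noncomputable def Mhom : MulAut P →* Matrix ι ι (ZMod 2) where
  toFun := M C
  map_one' := M_one h C
  map_mul' := M_mul h C

theorem Mhom_apply (φ : MulAut P) : Mhom h C φ = M C φ := rfl

theorem M_isom (φ : MulAut P) (v : ι → ZMod 2) : Q (M C φ *ᵥ v) = Q v := by
  obtain ⟨x, rfl⟩ := C.surj v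
  rw [M_mulVec h C, ← C.quad, ← C.quad, aut_q]

variable (O : Subgroup (Matrix.GeneralLinearGroup ι (ZMod 2)))
  (hO : ∀ g : Matrix.GeneralLinearGroup ι (ZMod 2),
    g ∈ O ↔ ∀ v, Q ((g : Matrix ι ι (ZMod 2)) *ᵥ v) = Q v)

/-- the representation into the isometry group -/
noncomputable def Φ : MulAut P →* O :=
  (Mhom h C).toHomUnits.codRestrict O (fun φ => by
    rw [hO]
    intro v
    rw [MonoidHom.coe_toHomUnits, Mhom_apply]
    exact M_isom h C φ v)

theorem Φ_coe (φ : MulAut P) :
    (((Φ h C O hO φ : O) : Matrix.GeneralLinearGroup ι (ZMod 2)) : Matrix ι ι (ZMod 2)) =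
      M C φ := rfl

theorem mem_ker_Φ (φ : MulAut P) : φ ∈ (Φ h C O hO).ker ↔ ∀ x, κ (φ x) = κ x := by
  rw [MonoidHom.mem_ker]
  constructor
  · intro hφ x
    have h1 : M C φ = 1 := by
      rw [← Φ_coe h C O hO, hφ]; rfl
    rw [← M_mulVec h C, h1, Matrix.one_mulVec]
  · intro hφ
    apply Subtype.ext
    apply Units.ext
    rw [Φ_coe]
    apply M_eq_of h C
    intro x
    rw [hφ]
    show κ x = (1 : Matrix ι ι (ZMod 2)) *ᵥ κ x
    rw [Matrix.one_mulVec]

theorem inn_le_ker : (MulAut.conj : P →* MulAut P).range ≤ (Φ h C O hO).ker := by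
  rintro φ ⟨g, rfl⟩
  rw [mem_ker_Φ]
  intro x
  rw [conj_apply_eq h, C.add, κ_ζ h C, add_zero]

end matrix


section kernel

variable {Q : (ι → ZMod 2) → ZMod 2} {κ : P → ι → ZMod 2} (h : ESData P z)
  (C : Coords P z ι Q κ)
  (O : Subgroup (Matrix.GeneralLinearGroup ι (ZMod 2)))
  (hO : ∀ g : Matrix.GeneralLinearGroup ι (ZMod 2),
    g ∈ O ↔ ∀ v, Q ((g : Matrix ι ι (ZMod 2)) *ᵥ v) = Q v)
include h C

theorem ker_apply (φ : MulAut P) (hφ : ∀ x, κ (φ x) = κ x) (x : P) :
    φ x = x ∨ φ x = x * z := by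
  obtain ⟨c, hc⟩ := eq_mul_ζ_of_κ_eq h C x (φ x) (hφ x).symm
  rcases zmod2_cases c with rfl | rfl
  · left; rw [hc, ζ_zero, mul_one]
  · right; rw [hc, ζ_one]

theorem card_ker_le [Finite P] : Nat.card (Φ h C O hO).ker ≤ Nat.card (ι → ZMod 2) := by
  classical
  let c : (Φ h C O hO).ker → (ι → ZMod 2) := fun φ j =>
    if φ.1 (sec C (Pi.single j 1)) = sec C (Pi.single j 1) then 0 else 1
  apply Nat.card_le_card_of_injective c
  intro φ ψ hc
  apply Subtype.ext
  have hφ := (mem_ker_Φ h C O hO φ.1).mp φ.2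
  have hψ := (mem_ker_Φ h C O hO ψ.1).mp ψ.2
  let H : Subgroup P :=
    { carrier := {x | φ.1 x = ψ.1 x}
      mul_mem' := by
        intro x y hx hy
        simp only [Set.mem_ofPred_eq] at hx hy ⊢
        rw [map_mul, map_mul, hx, hy]
      one_mem' := by simp
      inv_mem' := by
        intro x hx
        simp only [Set.mem_ofPred_eq] at hx ⊢
        rw [map_inv, map_inv, hx] }
  have hH : H = ⊤ := by
    apply gen h C H
    · show φ.1 z = ψ.1 z
      rw [aut_z h, aut_z h]
    · intro j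
      refine ⟨sec C (Pi.single j 1), ?_, κ_sec h C _⟩
      show φ.1 (sec C (Pi.single j 1)) = ψ.1 (sec C (Pi.single j 1))
      have hj := congrFun hc j
      simp only [c] at hj
      have hne : ∀ s : P, s * z ≠ s := by
        intro s e
        apply h.z_ne
        have : s * z = s * 1 := by rw [e, mul_one]
        exact mul_left_cancel this
      rcases ker_apply h C φ.1 hφ (sec C (Pi.single j 1)) with e1 | e1 <;>
        rcases ker_apply h C ψ.1 hψ (sec C (Pi.single j 1)) with e2 | e2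
      · rw [e1, e2]
      · exfalso
        rw [if_pos e1, e2, if_neg (hne _)] at hj
        exact zero_ne_one hj
      · exfalso
        rw [if_pos e2, e1, if_neg (hne _)] at hj
        exact one_ne_zero hj
      · rw [e1, e2]
  apply MulEquiv.ext
  intro x
  have : x ∈ H := by rw [hH]; exact Subgroup.mem_top x
  exact this

theorem ker_eq_inn [Finite P] (hZ : Nat.card (Subgroup.center P) = 2)
    (hPV : Nat.card P = 2 * Nat.card (ι → ZMod 2)) :
    (Φ h C O hO).ker = (MulAut.conj : P →* MulAut P).range := by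
  symm
  apply Subgroup.eq_of_le_of_card_ge (inn_le_ker h C O hO)
  have h1 : Nat.card (MulAut.conj : P →* MulAut P).range = Nat.card (ι → ZMod 2) := by
    rw [← Subgroup.index_ker, conj_ker_eq_center]
    have := Subgroup.card_mul_index (Subgroup.center P)
    rw [hZ, hPV] at this
    omega
  rw [h1]
  exact card_ker_le h C O hO

end kernel

section surj

variable {Q : (ι → ZMod 2) → ZMod 2} {κ : P → ι → ZMod 2} (h : ESData P z)
  (C : Coords P z ι Q κ)
include h C

theorem exists_lift [Finite P] (A : Matrix ι ι (ZMod 2)) (hA : ∀ v, Q (A *ᵥ v) = Q v) :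
    ∃ φ : MulAut P, ∀ x, κ (φ x) = A *ᵥ κ x := by
  classical
  let Γ : Subgroup (P × P) :=
    { carrier := {p | κ p.2 = A *ᵥ κ p.1}
      mul_mem' := by
        intro p p' hp hp'
        simp only [Set.mem_ofPred_eq, Prod.fst_mul, Prod.snd_mul] at hp hp' ⊢
        rw [C.add, C.add, Matrix.mulVec_add, hp, hp']
      one_mem' := by
        simp only [Set.mem_ofPred_eq, Prod.fst_one, Prod.snd_one]
        rw [κ_one h C, Matrix.mulVec_zero]
      inv_mem' := by
        intro p hp
        simp only [Set.mem_ofPred_eq, Prod.fst_inv, Prod.snd_inv] at hp ⊢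
        rw [κ_inv h C, κ_inv h C, hp] }
  have memΓ : ∀ p : P × P, p ∈ Γ ↔ κ p.2 = A *ᵥ κ p.1 := fun p => Iff.rfl
  have Γq : ∀ p ∈ Γ, q p.2 = q p.1 := by
    intro p hp
    rw [C.quad, C.quad, (memΓ p).mp hp, hA]
  have Γβ : ∀ p ∈ Γ, ∀ p' ∈ Γ, β p.2 p'.2 = β p.1 p'.1 := by
    intro p hp p' hp'
    have h1 := q_mul h p.1 p'.1
    have h2 := q_mul h p.2 p'.2
    have h3 := Γq (p * p') (Γ.mul_mem hp hp')
    rw [Prod.snd_mul, Prod.fst_mul, h1, h2, Γq p hp, Γq p' hp'] at h3
    exact add_left_cancel h3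
  have htΓ : ((1, z) : P × P) ∈ Γ := by
    rw [memΓ]
    show κ z = A *ᵥ κ 1
    rw [C.kz, κ_one h C, Matrix.mulVec_zero]
  have hnΓ : ((z, z) : P × P) ∈ Γ := by
    rw [memΓ]
    show κ z = A *ᵥ κ z
    rw [C.kz, Matrix.mulVec_zero]
  have wmem : ∀ H : Subgroup (P × P), ((z, z) : P × P) ∈ H → ∀ c, (ζ z c, ζ z c) ∈ H := by
    intro H hn c
    rcases zmod2_cases c with rfl | rfl
    · rw [ζ_zero]; exact H.one_mem
    · rw [ζ_one]; exact hn
  let 𝓕 : Set (Subgroup (P × P)) := {H | H ≤ Γ ∧ ((z, z) : P × P) ∈ H ∧ ((1, z) : P × P) ∉ H}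
  have hne : Nonempty 𝓕 := by
    refine ⟨⟨Subgroup.zpowers ((z, z) : P × P), ?_, ?_, ?_⟩⟩
    · exact (Subgroup.zpowers_le).mpr hnΓ
    · exact Subgroup.mem_zpowers _
    · intro ht
      rw [Subgroup.mem_zpowers_iff] at ht
      obtain ⟨k, hk⟩ := ht
      have e1 := congrArg Prod.fst hk
      have e2 := congrArg Prod.snd hk
      simp only [Prod.pow_fst, Prod.pow_snd] at e1 e2
      exact h.z_ne (e2.symm.trans e1)
  obtain ⟨⟨H, hHΓ, hnH, htH⟩, hmax⟩ := Finite.exists_max (fun H : 𝓕 => Nat.card H.1)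
  have N1 : ∀ p ∈ Γ, p * p ∈ H := by
    intro p hp
    have : p * p = (ζ z (q p.1), ζ z (q p.1)) := by
      apply Prod.ext
      · simp only [Prod.fst_mul]; exact sq_eq h p.1
      · simp only [Prod.snd_mul]; rw [sq_eq h p.2, Γq p hp]
    rw [this]; exact wmem H hnH _
  have N2 : ∀ p ∈ Γ, ∀ a ∈ H, p⁻¹ * a * p ∈ H := by
    intro p hp a ha
    have haΓ := hHΓ ha
    have : p⁻¹ * a * p = a * (ζ z (β a.1 p.1), ζ z (β a.1 p.1)) := by
      apply Prod.ext
      · simp only [Prod.fst_mul, Prod.fst_inv]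
        have := comm_eq h a.1 p.1
        rw [mul_assoc, this]
        group
      · simp only [Prod.snd_mul, Prod.snd_inv]
        have := comm_eq h a.2 p.2
        rw [Γβ a haΓ p hp] at this
        rw [mul_assoc, this]
        group
    rw [this]; exact H.mul_mem ha (wmem H hnH _)
  have tcomm : ∀ p : P × P, ((1, z) : P × P) * p = p * (1, z) := by
    intro p
    apply Prod.ext
    · simp
    · simp only [Prod.snd_mul]; exact (h.z_central p.2).symm
  have tinv : ((1, z) : P × P)⁻¹ = (1, z) := by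
    apply Prod.ext
    · simp
    · simp only [Prod.snd_inv]
      exact inv_eq_of_mul_eq_one_right h.z_sq
  have key : ∀ p ∈ Γ, p ∈ H ∨ ((1, z) : P × P) * p ∈ H := by
    intro p hp
    by_contra hcon
    push Not at hcon
    obtain ⟨hpH, htpH⟩ := hcon
    let H' : Subgroup (P × P) :=
      { carrier := {w | w ∈ H ∨ p⁻¹ * w ∈ H}
        mul_mem' := by
          intro w₁ w₂ h1 h2
          simp only [Set.mem_ofPred_eq] at h1 h2 ⊢
          rcases h1 with h1 | h1 <;> rcases h2 with h2 | h2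
          · exact Or.inl (H.mul_mem h1 h2)
          · right
            have : p⁻¹ * (w₁ * w₂) = (p⁻¹ * w₁ * p) * (p⁻¹ * w₂) := by group
            rw [this]
            exact H.mul_mem (N2 p hp w₁ h1) h2
          · right
            have : p⁻¹ * (w₁ * w₂) = (p⁻¹ * w₁) * w₂ := by group
            rw [this]
            exact H.mul_mem h1 h2
          · left
            have : w₁ * w₂ = (p * p) * (p⁻¹ * (p⁻¹ * w₁) * p) * (p⁻¹ * w₂) := by group
            rw [this]
            exact H.mul_mem (H.mul_mem (N1 p hp) (N2 p hp _ h1)) h2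
        one_mem' := Or.inl H.one_mem
        inv_mem' := by
          intro w h1
          simp only [Set.mem_ofPred_eq] at h1 ⊢
          rcases h1 with h1 | h1
          · exact Or.inl (H.inv_mem h1)
          · right
            have : p⁻¹ * w⁻¹ = (p⁻¹ * (p⁻¹ * w)⁻¹ * p) * (p * p)⁻¹ := by group
            rw [this]
            exact H.mul_mem (N2 p hp _ (H.inv_mem h1)) (H.inv_mem (N1 p hp)) }
    have memH' : ∀ w, w ∈ H' ↔ (w ∈ H ∨ p⁻¹ * w ∈ H) := fun w => Iff.rfl
    have hHH' : H ≤ H' := fun w hw => Or.inl hw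
    have hH'Γ : H' ≤ Γ := by
      intro w hw
      rcases (memH' w).mp hw with h1 | h1
      · exact hHΓ h1
      · have : w = p * (p⁻¹ * w) := by group
        rw [this]
        exact Γ.mul_mem hp (hHΓ h1)
    have hpH' : p ∈ H' := by
      rw [memH']
      right
      rw [inv_mul_cancel]
      exact H.one_mem
    have htH' : ((1, z) : P × P) ∉ H' := by
      intro ht
      rcases (memH' _).mp ht with h1 | h1
      · exact htH h1
      · apply htpH
        have h2 := H.inv_mem h1
        have : (p⁻¹ * ((1, z) : P × P))⁻¹ = (1, z) * p := by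
          rw [_root_.mul_inv_rev, inv_inv, tinv]
        rw [this] at h2
        exact h2
    have hle := hmax ⟨H', hH'Γ, hHH' hnH, htH'⟩
    have heq : H = H' := Subgroup.eq_of_le_of_card_ge hHH' hle
    apply hpH
    rw [heq]
    exact hpH'
  have ex : ∀ x : P, ∃ y, ((x, y) : P × P) ∈ H := by
    intro x
    obtain ⟨y₀, hy₀⟩ := C.surj (A *ᵥ κ x)
    have hmem : ((x, y₀) : P × P) ∈ Γ := hy₀
    rcases key _ hmem with h1 | h1
    · exact ⟨y₀, h1⟩
    · refine ⟨z * y₀, ?_⟩
      have : ((1, z) : P × P) * (x, y₀) = (x, z * y₀) := by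
        apply Prod.ext
        · simp
        · simp
      rw [this] at h1
      exact h1
  have uniq : ∀ x y y', ((x, y) : P × P) ∈ H → ((x, y') : P × P) ∈ H → y = y' := by
    intro x y y' hy hy'
    have h1 : ((x, y) : P × P)⁻¹ * (x, y') ∈ H := H.mul_mem (H.inv_mem hy) hy'
    have h2 : ((x, y) : P × P)⁻¹ * (x, y') = (1, y⁻¹ * y') := by
      apply Prod.ext
      · simp
      · simp
    rw [h2] at h1
    have h3 := (memΓ _).mp (hHΓ h1)
    have h4 : κ (y⁻¹ * y') = 0 := by
      rw [h3]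
      show A *ᵥ κ 1 = 0
      rw [κ_one h C, Matrix.mulVec_zero]
    rcases C.ker _ h4 with e | e
    · exact inv_mul_eq_one.mp e
    · exfalso
      rw [e] at h1
      exact htH h1
  choose f hf using ex
  have f_mul : ∀ x y, f (x * y) = f x * f y := by
    intro x y
    apply uniq (x * y) _ _ (hf (x * y))
    have := H.mul_mem (hf x) (hf y)
    exact this
  have f_one : ∀ x, f x = 1 → x = 1 := by
    intro x hx
    have h1 : ((x, 1) : P × P) ∈ H := by
      have := hf x
      rw [hx] at this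
      exact this
    have hcen : ∀ y : P, x * y = y * x := by
      intro y
      have h2 := Γβ _ (hHΓ h1) _ (hHΓ (hf y))
      simp only at h2
      rw [β_one_left h] at h2
      exact (β_eq_zero_iff h x y).mp h2.symm
    rcases h.center x hcen with e | e
    · exact e
    · exfalso
      rw [e] at h1
      have h3 : ((z, 1) : P × P)⁻¹ * (z, z) ∈ H := H.mul_mem (H.inv_mem h1) hnH
      have h4 : ((z, 1) : P × P)⁻¹ * (z, z) = (1, z) := by
        apply Prod.ext
        · simp
        · simp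
      rw [h4] at h3
      exact htH h3
  have f_inj : Function.Injective f := by
    intro x y hxy
    have h1 : f (x * y⁻¹) = 1 := by
      have := f_mul (x * y⁻¹) y
      rw [inv_mul_cancel_right, hxy] at this
      exact mul_right_cancel (this.symm.trans (one_mul _).symm)
    exact mul_inv_eq_one.mp (f_one _ h1)
  refine ⟨MulEquiv.ofBijective (MonoidHom.mk' f f_mul)
    (Finite.injective_iff_bijective.mp f_inj), fun x => ?_⟩
  exact (memΓ _).mp (hHΓ (hf x))

variable (O : Subgroup (Matrix.GeneralLinearGroup ι (ZMod 2)))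
  (hO : ∀ g : Matrix.GeneralLinearGroup ι (ZMod 2),
    g ∈ O ↔ ∀ v, Q ((g : Matrix ι ι (ZMod 2)) *ᵥ v) = Q v)
include hO

theorem Φ_surj [Finite P] : Function.Surjective (Φ h C O hO) := by
  rintro ⟨g, hg⟩
  obtain ⟨φ, hφ⟩ := exists_lift h C (g : Matrix ι ι (ZMod 2)) ((hO g).mp hg)
  refine ⟨φ, ?_⟩
  apply Subtype.ext
  apply Units.ext
  rw [Φ_coe]
  exact M_eq_of h C φ _ hφ

theorem out_iso [Finite P] (hZ : Nat.card (Subgroup.center P) = 2)
    (hPV : Nat.card P = 2 * Nat.card (ι → ZMod 2))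
    [(MulAut.conj : P →* MulAut P).range.Normal] :
    Nonempty ((MulAut P ⧸ (MulAut.conj : P →* MulAut P).range) ≃* O) :=
  ⟨(QuotientGroup.quotientMulEquivOfEq (ker_eq_inn h C O hO hZ hPV).symm).trans
    (QuotientGroup.quotientKerEquivOfSurjective (Φ h C O hO) (Φ_surj h C O hO))⟩

end surj

end Cfsg.Agent.Lib.Helper22.ESCoord
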