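import Mathlib
import Cfsg.Agent.Lib.Helper22.ES32
import Cfsg.Agent.Lib.Helper22.ESCoord
import Cfsg.Agent.Lib.Helper22.ESBasis

/-! Plus/minus type of an extraspecial 2-group and the coordinates attached to a basis. -/

set_option autoImplicit false

namespace Cfsg.Agent.Lib.Helper22.ESType

open Cfsg.Agent.Lib.Helper22.ES32 Cfsg.Agent.Lib.Helper22.ESCoord Cfsg.Agent.Lib.Helper22.ESBasis

universe u

variable {P : Type u} [Group P] {z : P}

section general

variable {ι : Type} [Fintype ι] [DecidableEq ι]

theorem surj_of_single (r : P → ι → ZMod 2) (radd : ∀ x y, r (x * y) = r x + r y)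
    (r1 : r 1 = 0) (hb : ∀ j : ι, ∃ y, r y = Pi.single j 1) : Function.Surjective r := by
  classical
  have claim : ∀ (v : ι → ZMod 2) (s : Finset ι), ∃ y, r y = ∑ j ∈ s, Pi.single j (v j) := by
    intro v s
    induction s using Finset.induction_on with
    | empty => exact ⟨1, by rw [r1, Finset.sum_empty]⟩
    | insert a s ha ih =>
      obtain ⟨y, hκ⟩ := ih
      rw [Finset.sum_insert ha]
      rcases zmod2_cases (v a) with e | e
      · refine ⟨y, ?_⟩
        rw [e, Pi.single_zero, zero_add, hκ]
      · obtain ⟨w, hκw⟩ := hb a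
        refine ⟨w * y, ?_⟩
        rw [radd, hκw, hκ, e]
  intro v
  obtain ⟨y, hy⟩ := claim v Finset.univ
  rw [Finset.univ_sum_single] at hy
  exact ⟨y, hy⟩

theorem ker_of_quad (h : ESData P z) (Q : (ι → ZMod 2) → ZMod 2) (κ : P → ι → ZMod 2)
    (add : ∀ x y, κ (x * y) = κ x + κ y) (quad : ∀ x, q x = Q (κ x)) (x : P) (hx : κ x = 0) :
    x = 1 ∨ x = z := by
  apply h.center
  intro y
  rw [← β_eq_zero_iff h]
  have h1 := q_mul h x y
  have h2 : q (x * y) = q y := by rw [quad, add, hx, zero_add, ← quad]
  have κ1 : κ (1 : P) = 0 := by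
    have := add 1 1
    rw [mul_one] at this
    have h2 : κ (1 : P) + κ 1 = κ 1 + 0 := by rw [← this, add_zero]
    exact add_left_cancel h2
  have h3 : q x = 0 := by
    rw [quad, hx, ← κ1, ← quad, q_one h]
  rw [h2, h3, zero_add] at h1
  have key : ∀ a b : ZMod 2, a = a + b → b = 0 := by decide
  exact key _ _ h1

end general

section elemab

variable (h : ESData P z)
include h

theorem Tsum_pos_of_elemAb [Fintype P] (n : ℕ) (hc : Fintype.card P = 2 ^ (2 * n + 1))
    (A : Subgroup P) (hAc : ∀ x ∈ A, ∀ y ∈ A, x * y = y * x) (hA2 : ∀ x ∈ A, x * x = 1)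
    (hAn : Nat.card A = 2 ^ (n + 1)) : 0 < Tsum P := by
  classical
  haveI : Fintype A := Fintype.ofFinite _
  have hAn' : Fintype.card A = 2 ^ (n + 1) := by rw [← Nat.card_eq_fintype_card]; exact hAn
  set Cs : Finset P := Finset.univ.filter (fun x : P => ∀ a : A, β x a = 0) with hCs
  have memC : ∀ x, x ∈ Cs ↔ ∀ a : A, β x a = 0 := by intro x; simp [hCs]
  have fact1 : ∀ x : P, ∑ a : A, sgn (β x a) = if x ∈ Cs then (Fintype.card A : ℤ) else 0 := by
    intro x
    by_cases hx : x ∈ Cs
    · rw [if_pos hx]
      have := (memC x).mp hx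
      simp only [this, sgn_zero]
      simp
    · rw [if_neg hx]
      rw [memC] at hx
      push Not at hx
      obtain ⟨a₀, ha₀⟩ := hx
      have ha₀' : β x a₀ = 1 := by
        rcases zmod2_cases (β x a₀) with e | e
        · exact absurd e ha₀
        · exact e
      have e1 : ∑ a : A, sgn (β x ((a * a₀ : A) : P)) = ∑ a : A, sgn (β x a) :=
        Fintype.sum_equiv (Equiv.mulRight a₀) _ _ (fun a => rfl)
      have e2 : ∀ a : A, sgn (β x ((a * a₀ : A) : P)) = - sgn (β x a) := by
        intro a
        rw [Subgroup.coe_mul, β_mul_right h, ha₀', sgn_add]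
        simp [sgn]
      simp_rw [e2] at e1
      rw [Finset.sum_neg_distrib] at e1
      linarith
  have qA : ∀ a : A, q (a : P) = 0 := fun a => (q_eq_zero_iff h _).mpr (hA2 a a.2)
  have fact2 : Tsum P * (Fintype.card A : ℤ) =
      (Fintype.card A : ℤ) * ∑ x ∈ Cs, sgn (q x) := by
    have e1 : Tsum P * (Fintype.card A : ℤ) = ∑ a : A, ∑ x : P, sgn (q (x * (a : P))) := by
      have : ∀ a : A, ∑ x : P, sgn (q (x * (a : P))) = Tsum P := by
        intro a
        exact Fintype.sum_equiv (Equiv.mulRight (a : P)) _ _ (fun x => rfl)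
      simp_rw [this]
      simp [mul_comm]
    rw [e1, Finset.sum_comm]
    have e2 : ∀ x : P, ∑ a : A, sgn (q (x * (a : P))) = sgn (q x) * ∑ a : A, sgn (β x a) := by
      intro x
      rw [Finset.mul_sum]
      apply Finset.sum_congr rfl
      intro a _
      rw [q_mul h, qA, add_zero, sgn_add]
    simp_rw [e2, fact1]
    rw [Finset.mul_sum, Finset.sum_filter]
    apply Finset.sum_congr rfl
    intro x _
    by_cases hx : x ∈ Cs
    · have hx' := (memC x).mp hx
      rw [if_pos hx, if_pos hx']; ring
    · have hx' : ¬ ∀ a : A, β x a = 0 := fun hh => hx ((memC x).mpr hh)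
      rw [if_neg hx, if_neg hx']; ring
  have fact3 : (Fintype.card A : ℤ) * (Cs.card : ℤ) ≤ 2 * (Fintype.card P : ℤ) := by
    have e1 : (Fintype.card A : ℤ) * (Cs.card : ℤ) = ∑ x : P, ∑ a : A, sgn (β x a) := by
      simp_rw [fact1]
      rw [Finset.sum_ite]
      simp [hCs, mul_comm]
    rw [e1, Finset.sum_comm]
    have e2 : ∀ a : A, ∑ x : P, sgn (β x a) =
        if ((a : P) = 1 ∨ (a : P) = z) then (Fintype.card P : ℤ) else 0 := by
      intro a
      by_cases ha : (a : P) = 1 ∨ (a : P) = z
      · rw [if_pos ha]; exact sum_β_central h _ ha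
      · rw [if_neg ha]
        push Not at ha
        exact sum_β_eq_zero h _ ha.1 ha.2
    simp_rw [e2]
    rw [Finset.sum_ite]
    simp only [Finset.sum_const, Finset.sum_const_zero, add_zero, nsmul_eq_mul]
    have hle : (Finset.univ.filter (fun a : A => (a : P) = 1 ∨ (a : P) = z)).card ≤ 2 := by
      have : (Finset.univ.filter (fun a : A => (a : P) = 1 ∨ (a : P) = z)).card ≤
          ({1, z} : Finset P).card := by
        apply Finset.card_le_card_of_injOn (fun a : A => (a : P))
        · intro a ha
          simp only [Finset.coe_filter, Finset.mem_univ, true_and, Set.mem_ofPred_eq] at ha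
          simpa using ha
        · intro a _ b _ hab
          exact Subtype.ext hab
      exact this.trans Finset.card_le_two
    have hle' : ((Finset.univ.filter (fun a : A => (a : P) = 1 ∨ (a : P) = z)).card : ℤ) ≤ 2 := by
      exact_mod_cast hle
    have hPpos : (0 : ℤ) ≤ (Fintype.card P : ℤ) := by positivity
    nlinarith
  -- the image of A in P
  set A' : Finset P := Finset.univ.image (fun a : A => (a : P)) with hA'
  have hA'card : A'.card = Fintype.card A := by
    rw [hA', Finset.card_image_of_injective _ Subtype.val_injective, Finset.card_univ]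
  have hA'C : A' ⊆ Cs := by
    intro x hx
    rw [hA', Finset.mem_image] at hx
    obtain ⟨a, -, rfl⟩ := hx
    rw [memC]
    intro b
    exact (β_eq_zero_iff h _ _).mpr (hAc a a.2 b b.2)
  have hCle : Cs.card ≤ A'.card := by
    rw [hA'card, hAn']
    rw [hAn', hc] at fact3
    have e : (2 : ℤ) ^ (2 * n + 1) = 2 ^ n * 2 ^ (n + 1) := by ring
    have hpos : (0 : ℤ) < 2 ^ (n + 1) := by positivity
    have : ((Cs.card : ℕ) : ℤ) ≤ 2 ^ (n + 1) := by
      by_contra hcon
      push Not at hcon
      have h1 : (2 : ℤ) ^ (n + 1) + 1 ≤ (Cs.card : ℤ) := by linarith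
      have h2 : ((2 : ℕ) ^ (n + 1) : ℕ) = (2 : ℤ) ^ (n + 1) := by push_cast; rfl
      have h3 : ((2 : ℕ) ^ (2 * n + 1) : ℕ) = (2 : ℤ) ^ (2 * n + 1) := by push_cast; rfl
      rw [h2, h3] at fact3
      have h4 : (2 : ℤ) ^ (2 * n + 1) * 2 = 2 ^ (n + 1) * 2 ^ (n + 1) := by ring
      nlinarith
    exact_mod_cast this
  have hCeq : A' = Cs := Finset.eq_of_subset_of_card_le hA'C hCle
  have hsum : ∑ x ∈ Cs, sgn (q x) = (Fintype.card A : ℤ) := by
    rw [← hCeq, hA', Finset.sum_image (fun a _ b _ hab => Subtype.ext hab)]
    simp only [qA, sgn_zero]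
    simp
  rw [hsum] at fact2
  have hApos : (0 : ℤ) < (Fintype.card A : ℤ) := by
    rw [hAn']; positivity
  have : Tsum P = (Fintype.card A : ℤ) := by
    exact mul_right_cancel₀ (ne_of_gt hApos) fact2
  rw [this]; exact hApos

end elemab


section coords

/-- the plus-type form -/
def QP (n : ℕ) (v : Fin n ⊕ Fin n → ZMod 2) : ZMod 2 :=
  ∑ i : Fin n, v (.inl i) * v (.inr i)

/-- the minus-type form -/
def QM (m : ℕ) (v : (Fin m ⊕ Fin m) ⊕ Fin 2 → ZMod 2) : ZMod 2 :=
  (∑ i : Fin m, v (.inl (.inl i)) * v (.inl (.inr i)))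
    + (v (.inr 0) ^ 2 + 1 * v (.inr 0) * v (.inr 1) + 1 * v (.inr 1) ^ 2)

variable (h : ESData P z)
include h

/-- coordinates from a hyperbolic basis -/
noncomputable def κP (n : ℕ) (e f : Fin n → P) (x : P) : Fin n ⊕ Fin n → ZMod 2 :=
  Sum.elim (fun i => β x (f i)) (fun i => β x (e i))

theorem coords_plus (n : ℕ) (e f : Fin n → P) (B : PlusBasis P n e f) :
    Coords P z (Fin n ⊕ Fin n) (QP n) (κP n e f) := by
  have add : ∀ x y, κP n e f (x * y) = κP n e f x + κP n e f y := by
    intro x y
    funext k
    rcases k with i | i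
    · simp only [κP, Sum.elim_inl, Pi.add_apply]; exact β_mul_left h x y _
    · simp only [κP, Sum.elim_inr, Pi.add_apply]; exact β_mul_left h x y _
  have quad : ∀ x, q x = QP n (κP n e f x) := by
    intro x
    rw [B.quad x]
    rfl
  refine ⟨add, ?_, ?_, ker_of_quad h (QP n) (κP n e f) add quad, quad⟩
  · funext k
    rcases k with i | i
    · simp only [κP, Sum.elim_inl]; exact β_z_left h _
    · simp only [κP, Sum.elim_inr]; exact β_z_left h _
  · apply surj_of_single _ add
    · funext k
      rcases k with i | i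
      · simp only [κP, Sum.elim_inl]; exact β_one_left h _
      · simp only [κP, Sum.elim_inr]; exact β_one_left h _
    · intro j
      rcases j with j | j
      · refine ⟨e j, ?_⟩
        funext k
        rcases k with i | i
        · simp only [κP, Sum.elim_inl, Pi.single_apply, Sum.inl.injEq]
          rw [B.ef j i]
          by_cases hij : i = j
          · rw [if_pos hij, if_pos hij.symm]
          · rw [if_neg hij, if_neg (fun e => hij e.symm)]
        · simp only [κP, Sum.elim_inr, Pi.single_apply, reduceCtorEq, if_false]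
          exact B.ee j i
      · refine ⟨f j, ?_⟩
        funext k
        rcases k with i | i
        · simp only [κP, Sum.elim_inl, Pi.single_apply, reduceCtorEq, if_false]
          exact B.ff j i
        · simp only [κP, Sum.elim_inr, Pi.single_apply, Sum.inr.injEq]
          rw [β_symm h, B.ef i j]

/-- coordinates from a basis of minus type -/
noncomputable def κM (m : ℕ) (e f : Fin m → P) (u v : P) (x : P) :
    (Fin m ⊕ Fin m) ⊕ Fin 2 → ZMod 2 :=
  Sum.elim (Sum.elim (fun i => β x (f i)) (fun i => β x (e i))) (fun k => if k = 0 then β x v else β x u)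

theorem coords_minus (m : ℕ) (e f : Fin m → P) (u v : P) (B : MinusBasis P m e f u v) :
    Coords P z ((Fin m ⊕ Fin m) ⊕ Fin 2) (QM m) (κM m e f u v) := by
  have add : ∀ x y, κM m e f u v (x * y) = κM m e f u v x + κM m e f u v y := by
    intro x y
    funext k
    rcases k with (i | i) | k
    · simp only [κM, Sum.elim_inl, Pi.add_apply]; exact β_mul_left h x y _
    · simp only [κM, Sum.elim_inl, Sum.elim_inr, Pi.add_apply]; exact β_mul_left h x y _
    · simp only [κM, Sum.elim_inr, Pi.add_apply]
      by_cases hk : k = 0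
      · simp only [hk, if_true]; exact β_mul_left h x y _
      · simp only [hk, if_false]; exact β_mul_left h x y _
  have quad : ∀ x, q x = QM m (κM m e f u v x) := by
    intro x
    rw [B.quad x]
    simp only [QM, κM, Sum.elim_inl, Sum.elim_inr, if_true, one_mul]
    have : ((1 : Fin 2) = 0) = False := by simp
    simp only [this, if_false]
  have k1 : κM m e f u v 1 = 0 := by
    funext k
    rcases k with (i | i) | k
    · simp only [κM, Sum.elim_inl]; exact β_one_left h _
    · simp only [κM, Sum.elim_inl, Sum.elim_inr]; exact β_one_left h _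
    · simp only [κM, Sum.elim_inr, β_one_left h]; simp
  refine ⟨add, ?_, ?_, ker_of_quad h (QM m) (κM m e f u v) add quad, quad⟩
  · funext k
    rcases k with (i | i) | k
    · simp only [κM, Sum.elim_inl]; exact β_z_left h _
    · simp only [κM, Sum.elim_inl, Sum.elim_inr]; exact β_z_left h _
    · simp only [κM, Sum.elim_inr, β_z_left h]; simp
  · apply surj_of_single _ add k1
    intro j
    rcases j with (j | j) | j
    · refine ⟨e j, ?_⟩
      funext k
      rcases k with (i | i) | k
      · simp only [κM, Sum.elim_inl, Pi.single_apply, Sum.inl.injEq]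
        rw [B.ef j i]
        by_cases hij : i = j
        · rw [if_pos hij, if_pos hij.symm]
        · rw [if_neg hij, if_neg (fun e => hij e.symm)]
      · simp only [κM, Sum.elim_inl, Sum.elim_inr, Pi.single_apply, Sum.inl.injEq, reduceCtorEq,
          if_false]
        exact B.ee j i
      · simp only [κM, Sum.elim_inr, Pi.single_apply, reduceCtorEq, if_false]
        rw [β_symm h _ v, β_symm h _ u, B.ve, B.ue]; simp
    · refine ⟨f j, ?_⟩
      funext k
      rcases k with (i | i) | k
      · simp only [κM, Sum.elim_inl, Pi.single_apply, Sum.inl.injEq, reduceCtorEq, if_false]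
        exact B.ff j i
      · simp only [κM, Sum.elim_inl, Sum.elim_inr, Pi.single_apply, Sum.inl.injEq, Sum.inr.injEq]
        rw [β_symm h, B.ef i j]
      · simp only [κM, Sum.elim_inr, Pi.single_apply, reduceCtorEq, if_false]
        rw [β_symm h _ v, β_symm h _ u, B.vf, B.uf]; simp
    · by_cases hj : j = 0
      · refine ⟨u, ?_⟩
        funext k
        rcases k with (i | i) | k
        · simp only [κM, Sum.elim_inl, Pi.single_apply, reduceCtorEq, if_false]
          exact B.uf i
        · simp only [κM, Sum.elim_inl, Sum.elim_inr, Pi.single_apply, reduceCtorEq, if_false]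
          exact B.ue i
        · simp only [κM, Sum.elim_inr, Pi.single_apply, Sum.inr.injEq, B.uv, β_self h, hj]
      · have hj1 : j = 1 := by
          fin_cases j
          · exact absurd rfl hj
          · rfl
        refine ⟨v, ?_⟩
        funext k
        rcases k with (i | i) | k
        · simp only [κM, Sum.elim_inl, Pi.single_apply, reduceCtorEq, if_false]
          exact B.vf i
        · simp only [κM, Sum.elim_inl, Sum.elim_inr, Pi.single_apply, reduceCtorEq, if_false]
          exact B.ve i
        · have hvu : β v u = 1 := by rw [β_symm h]; exact B.uv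
          simp only [κM, Sum.elim_inr, Pi.single_apply, Sum.inr.injEq, hvu, β_self h, hj1]
          fin_cases k
          · simp
          · simp

end coords

section plusA

variable (h : ESData P z)
include h

theorem exists_elemAb_of_plus [Finite P] (n : ℕ) (hc : Nat.card P = 2 ^ (2 * n + 1))
    (e f : Fin n → P) (B : PlusBasis P n e f) :
    ∃ A : Subgroup P, (∀ x ∈ A, ∀ y ∈ A, x * y = y * x) ∧ (∀ x ∈ A, x * x = 1) ∧
      Nat.card A = 2 ^ (n + 1) := by
  classical
  let r0 : P → Fin n → ZMod 2 := fun x i => β x (e i)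
  have r0add : ∀ x y, r0 (x * y) = r0 x + r0 y := by
    intro x y
    funext i
    exact β_mul_left h x y _
  have r01 : r0 1 = 0 := by
    funext i
    exact β_one_left h _
  let r : P →* Multiplicative (Fin n → ZMod 2) :=
    { toFun := fun x => Multiplicative.ofAdd (r0 x)
      map_one' := by rw [r01]; rfl
      map_mul' := by intro x y; rw [r0add]; rfl }
  have rsurj : Function.Surjective r := by
    have hs : Function.Surjective r0 := by
      apply surj_of_single r0 r0add r01
      intro j
      refine ⟨f j, ?_⟩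
      funext i
      show β (f j) (e i) = _
      rw [β_symm h, B.ef i j, Pi.single_apply]
    intro v
    obtain ⟨x, hx⟩ := hs (Multiplicative.toAdd v)
    exact ⟨x, by show Multiplicative.ofAdd (r0 x) = v; rw [hx]; rfl⟩
  have memker : ∀ x, x ∈ r.ker ↔ ∀ i, β x (e i) = 0 := by
    intro x
    rw [MonoidHom.mem_ker]
    constructor
    · intro hx i
      have : r0 x = 0 := by
        have := congrArg Multiplicative.toAdd hx
        exact this
      exact congrFun this i
    · intro hx
      show Multiplicative.ofAdd (r0 x) = 1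
      have : r0 x = 0 := by funext i; exact hx i
      rw [this]; rfl
  have qker : ∀ x ∈ r.ker, q x = 0 := by
    intro x hx
    rw [B.quad x]
    apply Finset.sum_eq_zero
    intro i _
    rw [(memker x).mp hx i, mul_zero]
  refine ⟨r.ker, ?_, ?_, ?_⟩
  · intro x hx y hy
    rw [← β_eq_zero_iff h]
    have h1 := q_mul h x y
    rw [qker _ (r.ker.mul_mem hx hy), qker x hx, qker y hy] at h1
    simpa using h1.symm
  · intro x hx
    exact (q_eq_zero_iff h x).mp (qker x hx)
  · have h1 := Subgroup.card_eq_card_quotient_mul_card_subgroup r.ker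
    have h2 : Nat.card (P ⧸ r.ker) = 2 ^ n := by
      rw [Nat.card_congr (QuotientGroup.quotientKerEquivOfSurjective r rsurj).toEquiv,
        Nat.card_congr Multiplicative.toAdd, Nat.card_fun, Nat.card_zmod, Nat.card_fin]
    rw [h2, hc] at h1
    have e1 : 2 ^ (2 * n + 1) = 2 ^ n * 2 ^ (n + 1) := by ring
    rw [e1] at h1
    exact (Nat.eq_of_mul_eq_mul_left (by positivity) h1).symm

end plusA

end Cfsg.Agent.Lib.Helper22.ESType
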