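import Mathlib
import Cfsg.Agent.S0040
import Cfsg.Agent.S0041
import Cfsg.Agent.S0042
import Cfsg.Agent.Lib.Helper13.FrobStruct

set_option autoImplicit false

namespace Cfsg.Agent.Lib.Helper22.FCa

open Subgroup Cfsg

/-- The properties of a Frobenius complement we use. -/
structure FCProps (G : Type*) [Group G] : Prop where
  sylow : ∀ (p : ℕ) [Fact p.Prime] (P : Sylow p G),
    IsCyclic P ∨ ∃ n : ℕ, Nonempty (P ≃* QuaternionGroup (2 ^ n))
  pq : ∀ A : Subgroup G, (∃ p q : ℕ, p.Prime ∧ q.Prime ∧ Nat.card A = p * q) → IsCyclic A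

theorem fcProps_of_complement {G : Type*} [Group G] [Finite G]
    (hFC : ∃ (L : Type) (_ : Group L) (_ : Finite L) (H : Subgroup L),
      Cfsg.IsFrobeniusComplement H ∧ Nonempty (G ≃* H)) : FCProps G := by
  obtain ⟨L, _, _, H, hH, ⟨e⟩⟩ := hFC
  obtain ⟨N, hF⟩ := Cfsg.Agent.Lib.Helper13.exists_frobData H hH
  haveI hNn : N.Normal := hF.normal
  have hNbot : N ≠ ⊥ := by
    intro hb
    have := hF.isCompl
    rw [hb, Subgroup.isComplement'_bot_left] at this
    exact hH.2.1 this
  have hfpf := hF.fpf
  constructor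
  · intro p _ P
    let P' : Sylow p H := P.mapSurjective (f := e.toMonoidHom) e.surjective
    have e2 : (P : Subgroup G) ≃* (P' : Subgroup H) :=
      Subgroup.equivMapOfInjective (P : Subgroup G) e.toMonoidHom e.injective
    rcases Cfsg.Agent.S0040.result N H hF.isCompl hNbot hfpf p P' with hc | ⟨n, ⟨e3⟩⟩
    · left
      exact e2.symm.isCyclic.mp hc
    · right
      exact ⟨n, ⟨e2.trans e3⟩⟩
  · intro A hA
    -- nilpotent kernel
    obtain ⟨N', hN'1, hN'2, hN'3⟩ := Cfsg.Agent.S0042.result H hH
    have hNN' : N' = N := by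
      apply SetLike.coe_injective
      rw [hN'1]
      ext x
      rw [SetLike.mem_coe, hF.mem x]
      rfl
    subst hNN'
    haveI : Nontrivial N' := (Subgroup.nontrivial_iff_ne_bot N').mpr hNbot
    haveI := hN'3
    have hcb := Group.IsNilpotent.center_ne_bot (G := N')
    set V : Subgroup L := (Subgroup.center N').map N'.subtype with hV
    haveI : V.Normal := ConjAct.normal_of_characteristic_of_normal
    haveI : IsMulCommutative V := inferInstance
    have hVb : V ≠ ⊥ := by
      intro hb
      apply hcb
      rw [hV] at hb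
      exact (Subgroup.map_eq_bot_iff_of_injective _ N'.subtype_injective).mp hb
    have hVN : V ≤ N' := Subgroup.map_subtype_le _
    set A' : Subgroup L := (A.map e.toMonoidHom).map H.subtype with hA'
    have hA'H : A' ≤ H := Subgroup.map_subtype_le _
    have e2 : A ≃* A' :=
      (Subgroup.equivMapOfInjective A e.toMonoidHom e.injective).trans
        (Subgroup.equivMapOfInjective _ H.subtype H.subtype_injective)
    have hcard : Nat.card A' = Nat.card A := (Nat.card_congr e2.toEquiv).symm
    have hcyc : IsCyclic A' := by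
      apply Cfsg.Agent.S0041.result A' V hVb
      · rw [Subgroup.normalizer_eq_top]; exact le_top
      · intro a ha ha1
        rw [eq_bot_iff]
        calc V ⊓ Subgroup.centralizer {a} ≤ N' ⊓ Subgroup.centralizer {a} := inf_le_inf_right _ hVN
          _ = ⊥ := hfpf a (hA'H ha) ha1
      · right
        obtain ⟨p, q, hp, hq, hpq⟩ := hA
        exact ⟨p, q, hp, hq, hcard.trans hpq⟩
    exact e2.isCyclic.mpr hcyc

end Cfsg.Agent.Lib.Helper22.FCa
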