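import Mathlib

set_option autoImplicit false

namespace Cfsg.Agent.Lib.Helper22.FCq

open Subgroup

/-- cyclic-or-quaternion structure on a group. -/
def CQ (Q : Type*) [Group Q] : Prop :=
  ∃ A : Subgroup Q, IsCyclic A ∧ (A = ⊤ ∨ A.index = 2) ∧
    ∀ u, u ∉ A → (u ^ 2 ≠ 1 ∧ u ^ 4 = 1 ∧ ∀ a ∈ A, u * a * u⁻¹ = a⁻¹)

theorem cq_of_isCyclic (Q : Type*) [Group Q] [IsCyclic Q] : CQ Q := by
  refine ⟨⊤, ?_, Or.inl rfl, fun u hu => absurd (Subgroup.mem_top u) hu⟩
  exact (Subgroup.topEquiv (G := Q)).symm.isCyclic.mp inferInstance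

namespace Quat

open QuaternionGroup

variable {n : ℕ}

def aSub (n : ℕ) : Subgroup (QuaternionGroup n) where
  carrier := {g | ∃ i, g = a i}
  mul_mem' := by
    rintro _ _ ⟨i, rfl⟩ ⟨j, rfl⟩
    exact ⟨i + j, a_mul_a i j⟩
  one_mem' := ⟨0, one_def⟩
  inv_mem' := by
    rintro _ ⟨i, rfl⟩
    refine ⟨-i, ?_⟩
    apply inv_eq_of_mul_eq_one_left
    rw [a_mul_a, neg_add_cancel, a_zero]

theorem a_mem (i : ZMod (2 * n)) : a i ∈ aSub n := ⟨i, rfl⟩

theorem xa_not_mem (i : ZMod (2 * n)) : xa i ∉ aSub n := by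
  rintro ⟨j, hj⟩
  cases hj

theorem aSub_isCyclic [NeZero n] : IsCyclic (aSub n) := by
  refine ⟨⟨⟨a 1, a_mem 1⟩, ?_⟩⟩
  rintro ⟨g, i, rfl⟩
  refine Subgroup.mem_zpowers_iff.mpr ⟨(i.val : ℤ), ?_⟩
  apply Subtype.ext
  rw [zpow_natCast, Subgroup.coe_pow]
  simp only
  rw [a_one_pow, ZMod.natCast_zmod_val]

theorem aSub_index [NeZero n] : (aSub n).index = 2 := by
  rw [Subgroup.index_eq_two_iff]
  refine ⟨xa 0, ?_⟩
  intro b
  cases b with
  | a i =>
    rw [a_mul_xa]
    exact Or.inr ⟨a_mem i, xa_not_mem _⟩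
  | xa i =>
    rw [xa_mul_xa]
    exact Or.inl ⟨a_mem _, xa_not_mem i⟩

theorem n_ne_zero [NeZero n] : ((n : ℕ) : ZMod (2 * n)) ≠ 0 := by
  intro h
  rw [ZMod.natCast_eq_zero_iff] at h
  have hn : 0 < n := Nat.pos_of_ne_zero (NeZero.ne n)
  have := Nat.le_of_dvd hn h
  omega

theorem two_n_zero : ((n : ℕ) : ZMod (2 * n)) + n = 0 := by
  have : ((2 * n : ℕ) : ZMod (2 * n)) = 0 := ZMod.natCast_self _
  rw [← this]; push_cast; ring

theorem cq_quaternion [NeZero n] : CQ (QuaternionGroup n) := by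
  refine ⟨aSub n, aSub_isCyclic, Or.inr aSub_index, ?_⟩
  intro u hu
  cases u with
  | a i => exact absurd (a_mem i) hu
  | xa i =>
    refine ⟨?_, xa_pow_four i, ?_⟩
    · rw [xa_sq, one_def]
      intro h
      injection h with h
      exact n_ne_zero h
    · rintro _ ⟨j, rfl⟩
      have hinv : (xa i : QuaternionGroup n)⁻¹ = xa ((n : ZMod (2 * n)) + i) := by
        apply inv_eq_of_mul_eq_one_left
        rw [xa_mul_xa, one_def]
        congr 1
        ring
      have hainv : (a j : QuaternionGroup n)⁻¹ = a (-j) := by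
        apply inv_eq_of_mul_eq_one_left
        rw [a_mul_a, neg_add_cancel, a_zero]
      rw [hinv, hainv, xa_mul_a, xa_mul_xa]
      congr 1
      have := two_n_zero (n := n)
      linear_combination this

end Quat

theorem cq_of_mulEquiv {Q Q' : Type*} [Group Q] [Group Q'] (e : Q ≃* Q') (h : CQ Q') : CQ Q := by
  obtain ⟨A, hAc, hAi, hA⟩ := h
  refine ⟨A.comap e.toMonoidHom, ?_, ?_, ?_⟩
  · apply isCyclic_of_injective (e.toMonoidHom.subgroupComap A)
    intro x y hxy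
    apply Subtype.ext
    apply e.injective
    exact congrArg Subtype.val hxy
  · rcases hAi with h | h
    · left; rw [h, Subgroup.comap_top]
    · right
      rw [Subgroup.index_comap_of_surjective _ e.surjective]
      exact h
  · intro u hu
    have hu' : e u ∉ A := hu
    obtain ⟨h1, h2, h3⟩ := hA (e u) hu'
    refine ⟨?_, ?_, ?_⟩
    · intro h
      apply h1
      rw [← map_pow, h, map_one]
    · apply e.injective
      rw [map_pow, h2, map_one]
    · intro a ha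
      apply e.injective
      rw [map_mul, map_mul, map_inv, map_inv]
      exact h3 (e a) ha

/-- subgroup-level structure -/
def CQs {X : Type*} [Group X] (T : Subgroup X) : Prop :=
  ∃ A : Subgroup X, A ≤ T ∧ IsCyclic A ∧ (A = T ∨ A.relIndex T = 2) ∧
    ∀ u ∈ T, u ∉ A → (u ^ 2 ≠ 1 ∧ u ^ 4 = 1 ∧ ∀ a ∈ A, u * a * u⁻¹ = a⁻¹)

theorem cqs_of_cq {X : Type*} [Group X] (T : Subgroup X) (h : CQ T) : CQs T := by
  obtain ⟨A, hAc, hAi, hA⟩ := h
  refine ⟨A.map T.subtype, Subgroup.map_subtype_le _, ?_, ?_, ?_⟩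
  · exact (Subgroup.equivMapOfInjective A T.subtype T.subtype_injective).isCyclic.mp hAc
  · rcases hAi with h | h
    · left
      rw [h, ← MonoidHom.range_eq_map, Subgroup.range_subtype]
    · right
      rw [Subgroup.relIndex, Subgroup.subgroupOf, Subgroup.comap_map_eq_self_of_injective T.subtype_injective]
      exact h
  · intro u hu huA
    have hu' : (⟨u, hu⟩ : T) ∉ A := by
      intro hh
      exact huA ⟨⟨u, hu⟩, hh, rfl⟩
    obtain ⟨h1, h2, h3⟩ := hA ⟨u, hu⟩ hu'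
    refine ⟨?_, ?_, ?_⟩
    · intro hh
      apply h1
      apply Subtype.ext
      rw [Subgroup.coe_pow]
      exact hh
    · have := congrArg Subtype.val h2
      rwa [Subgroup.coe_pow] at this
    · rintro _ ⟨a, ha, rfl⟩
      have := congrArg Subtype.val (h3 a ha)
      simpa using this

theorem cyc_aut {X : Type*} [Group X] [Finite X] {g c : X} {k j : ℕ} (hk : Odd k) (hgk : g ^ k = 1)
    (hc : c ^ (2 ^ j) = 1) (hgc : g * c * g⁻¹ ∈ zpowers c) : g * c * g⁻¹ = c := by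
  set N := zpowers c with hN
  have hgN : g ∈ normalizer (N : Set X) := by
    apply Subgroup.mem_normalizer_fintype
    intro w hw
    obtain ⟨i, rfl⟩ := mem_zpowers_iff.mp hw
    rw [← conj_zpow]
    exact N.zpow_mem hgc i
  obtain ⟨t, -, ht⟩ := (Nat.dvd_prime_pow Nat.prime_two).mp (orderOf_dvd_of_pow_eq_one hc)
  have hcN : Nat.card N = 2 ^ t := by rw [hN, Nat.card_zpowers]; exact ht
  have hAut : ∃ t', Nat.card (MulAut N) = 2 ^ t' := by
    rw [IsCyclic.card_mulAut, hcN]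
    rcases Nat.eq_zero_or_pos t with rfl | htpos
    · exact ⟨0, by simp⟩
    · exact ⟨t - 1, by rw [Nat.totient_prime_pow Nat.prime_two htpos]; simp⟩
  obtain ⟨t', ht'⟩ := hAut
  set σ := N.normalizerMonoidHom ⟨g, hgN⟩ with hσ
  have h1 : σ ^ k = 1 := by
    rw [hσ, ← map_pow]
    have : (⟨g, hgN⟩ : normalizer (N : Set X)) ^ k = 1 := by
      apply Subtype.ext
      rw [Subgroup.coe_pow]
      exact hgk
    rw [this, map_one]
  have h2 : σ ^ (2 ^ t') = 1 := by
    rw [← ht']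
    exact pow_card_eq_one'
  have hcop : Nat.Coprime k (2 ^ t') := Nat.Coprime.pow_right _ (Nat.coprime_two_right.mpr hk)
  have h3 : σ = 1 := by
    have := pow_gcd_eq_one.mpr ⟨h1, h2⟩
    rwa [hcop, pow_one] at this
  have h4 : (⟨g, hgN⟩ : normalizer (N : Set X)) ∈ N.normalizerMonoidHom.ker := h3
  rw [normalizerMonoidHom_ker, mem_subgroupOf, mem_centralizer_iff] at h4
  have := h4 c (mem_zpowers c)
  simp only at this
  rw [← this]; group

theorem stab {X : Type*} [Group X] {g u d : X} {k j : ℕ} (hk : Odd k) (hgk : g ^ k = 1)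
    (hd : d ^ (2 ^ j) = 1) (hgd : g * d = d * g) (hgu : g * u * g⁻¹ = d * u) : d = 1 := by
  have hiter : ∀ i : ℕ, g ^ i * u * (g ^ i)⁻¹ = d ^ i * u := by
    intro i
    induction i with
    | zero => simp
    | succ i ih =>
      have hc : Commute g (d ^ i) := (show Commute g d from hgd).pow_right i
      calc g ^ (i + 1) * u * (g ^ (i + 1))⁻¹ = g * (g ^ i * u * (g ^ i)⁻¹) * g⁻¹ := by
            rw [pow_succ']; group
        _ = g * d ^ i * u * g⁻¹ := by rw [ih]; group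
        _ = d ^ i * (g * u * g⁻¹) := by rw [hc.eq]; group
        _ = d ^ (i + 1) * u := by rw [hgu, pow_succ]; group
  have h1 := hiter k
  rw [hgk] at h1
  simp only [inv_one, one_mul, mul_one] at h1
  have h2 : d ^ k = 1 := by
    have := h1.symm
    rwa [mul_eq_right] at this
  have hcop : Nat.Coprime k (2 ^ j) := Nat.Coprime.pow_right _ (Nat.coprime_two_right.mpr hk)
  have := pow_gcd_eq_one.mpr ⟨h2, hd⟩
  rwa [hcop, pow_one] at this

theorem involution_unique {A : Type*} [Group A] [Finite A] [IsCyclic A] {b z : A}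
    (hb : b ^ 2 = 1) (hb1 : b ≠ 1) (hz : z ^ 2 = 1) (hz1 : z ≠ 1) : b = z := by
  classical
  haveI := Fintype.ofFinite A
  by_contra hne
  have h := IsCyclic.card_pow_eq_one_le (α := A) (n := 2) (by norm_num)
  have hsub : ({1, b, z} : Finset A) ⊆ Finset.univ.filter (fun a => a ^ 2 = 1) := by
    intro w hw
    simp only [Finset.mem_insert, Finset.mem_singleton] at hw
    simp only [Finset.mem_filter, Finset.mem_univ, true_and]
    rcases hw with rfl | rfl | rfl
    · simp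
    · exact hb
    · exact hz
  have hcard : ({1, b, z} : Finset A).card = 3 := by
    rw [Finset.card_eq_three]
    exact ⟨1, b, z, Ne.symm hb1, Ne.symm hz1, hne, rfl⟩
  have := Finset.card_le_card hsub
  omega

section cqs

variable {X : Type*} [Group X] [Finite X] {T A : Subgroup X}

theorem cqs_mul_mem (hAi : A = T ∨ A.relIndex T = 2) {u v : X} (hu : u ∈ T) (hv : v ∈ T)
    (huA : u ∉ A) (hvA : v ∉ A) : u * v ∈ A := by
  rcases hAi with h | h
  · exact absurd (h ▸ hu) huA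
  · have := Subgroup.mul_mem_iff_of_index_two (H := A.subgroupOf T) h (a := ⟨u, hu⟩) (b := ⟨v, hv⟩)
    simp only [mem_subgroupOf] at this
    exact this.mpr ⟨fun h => absurd h huA, fun h => absurd h hvA⟩

theorem centralizes_of_gen {P : Subgroup X} {g c : X} (hc : ∀ v ∈ P, v ∈ zpowers c)
    (hgc : g * c * g⁻¹ = c) : ∀ v ∈ P, g * v * g⁻¹ = v := by
  intro v hv
  obtain ⟨i, rfl⟩ := mem_zpowers_iff.mp (hc v hv)
  rw [← conj_zpow, hgc]

theorem exists_gen_of_isCyclic (P : Subgroup X) [hP : IsCyclic P] :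
    ∃ c ∈ P, ∀ v ∈ P, v ∈ zpowers c := by
  obtain ⟨⟨c, hcP⟩, hc⟩ := hP.exists_generator
  refine ⟨c, hcP, ?_⟩
  intro v hv
  obtain ⟨i, hi⟩ := mem_zpowers_iff.mp (hc ⟨v, hv⟩)
  have := congrArg Subtype.val hi
  rw [Subgroup.coe_zpow] at this
  exact mem_zpowers_iff.mpr ⟨i, this⟩

theorem cqs_abelian_cyclic (hAT : A ≤ T) (hAc : IsCyclic A) (hAi : A = T ∨ A.relIndex T = 2)
    (hA : ∀ u ∈ T, u ∉ A → (u ^ 2 ≠ 1 ∧ u ^ 4 = 1 ∧ ∀ a ∈ A, u * a * u⁻¹ = a⁻¹))
    {B : Subgroup X} (hBT : B ≤ T) (hB : ∀ b ∈ B, ∀ b' ∈ B, b * b' = b' * b) : IsCyclic B := by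
  by_cases hBA : B ≤ A
  · exact Subgroup.isCyclic_of_le hBA
  obtain ⟨u, huB, huA⟩ := SetLike.not_le_iff_exists.mp hBA
  have huT := hBT huB
  obtain ⟨hu1, hu2, hu3⟩ := hA u huT huA
  have hzA : u ^ 2 ∈ A := by rw [pow_two]; exact cqs_mul_mem hAi huT huT huA huA
  have hz2 : (u ^ 2) ^ 2 = 1 := by rw [← pow_mul]; exact hu2
  have key : ∀ b ∈ B, b ∈ A → b = 1 ∨ b = u ^ 2 := by
    intro b hbB hbA
    by_cases hb1 : b = 1
    · exact Or.inl hb1
    right
    have h1 := hu3 b hbA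
    have h2 : u * b * u⁻¹ = b := by rw [hB u huB b hbB]; group
    have h3 : b ^ 2 = 1 := by
      rw [pow_two]
      nth_rewrite 1 [← h2]
      rw [h1, inv_mul_cancel]
    have := involution_unique (A := A) (b := ⟨b, hbA⟩) (z := ⟨u ^ 2, hzA⟩)
      (by apply Subtype.ext; rw [Subgroup.coe_pow]; exact h3)
      (by intro h; exact hb1 (congrArg Subtype.val h))
      (by apply Subtype.ext; rw [Subgroup.coe_pow]; exact hz2)
      (by intro h; exact hu1 (congrArg Subtype.val h))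
    exact congrArg Subtype.val this
  have hle : B ≤ zpowers u := by
    intro b hbB
    by_cases hbA : b ∈ A
    · rcases key b hbB hbA with rfl | rfl
      · exact one_mem _
      · exact (zpowers u).pow_mem (mem_zpowers u) 2
    · have huinv : u⁻¹ ∉ A := fun h => huA (by simpa using A.inv_mem h)
      have h1 : b * u⁻¹ ∈ A := cqs_mul_mem hAi (hBT hbB) (T.inv_mem huT) hbA huinv
      have h2 : b * u⁻¹ ∈ B := B.mul_mem hbB (B.inv_mem huB)
      rcases key _ h2 h1 with h | h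
      · have : b = u := by rw [mul_inv_eq_one] at h; exact h
        rw [this]; exact mem_zpowers u
      · have : b = u ^ 3 := by
          rw [mul_inv_eq_iff_eq_mul] at h
          rw [h, ← pow_succ]
        rw [this]; exact (zpowers u).pow_mem (mem_zpowers u) 3
  have : B = zpowers u := le_antisymm hle (zpowers_le.mpr huB)
  rw [this]
  infer_instance

theorem cqs_odd_centralizes (hAT : A ≤ T) (hAc : IsCyclic A) (hAi : A = T ∨ A.relIndex T = 2)
    (hA : ∀ u ∈ T, u ∉ A → (u ^ 2 ≠ 1 ∧ u ^ 4 = 1 ∧ ∀ a ∈ A, u * a * u⁻¹ = a⁻¹))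
    {P : Subgroup X} (hPT : P ≤ T) (hP2 : ∀ v ∈ P, ∃ j : ℕ, v ^ (2 ^ j) = 1)
    {g : X} {k : ℕ} (hk : Odd k) (hgk : g ^ k = 1) (hgP : ∀ v ∈ P, g * v * g⁻¹ ∈ P)
    (hcase : (∀ v ∈ P, ∀ w ∈ P, v * w = w * v) ∨ 16 ≤ Nat.card P) :
    ∀ v ∈ P, g * v * g⁻¹ = v := by
  rcases hcase with hab | h16
  · haveI : IsCyclic P := cqs_abelian_cyclic hAT hAc hAi hA hPT hab
    obtain ⟨c, hcP, hc⟩ := exists_gen_of_isCyclic P
    obtain ⟨j, hj⟩ := hP2 c hcP
    exact centralizes_of_gen hc (cyc_aut hk hgk hj (hc _ (hgP c hcP)))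
  · set C := A ⊓ P with hC
    haveI : IsCyclic C := Subgroup.isCyclic_of_le (inf_le_left : C ≤ A)
    have hrel : A.relIndex P ≤ 2 := by
      rcases hAi with h | h
      · have : A.relIndex P = 1 := Subgroup.relIndex_eq_one.mpr (h ▸ hPT)
        omega
      · have := Subgroup.relIndex_le_of_le_right (H := A) hPT (by rw [h]; norm_num)
        rwa [h] at this
    have hcard : Nat.card C * A.relIndex P = Nat.card P := by
      have h1 := Subgroup.relIndex_mul_relIndex (⊥ : Subgroup X) C P bot_le inf_le_right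
      rw [Subgroup.relIndex_bot_left, Subgroup.relIndex_bot_left, hC, Subgroup.inf_relIndex_right] at h1
      exact h1
    have hC8 : 8 ≤ Nat.card C := by nlinarith
    obtain ⟨c, hcC, hc⟩ := exists_gen_of_isCyclic C
    have hcP : c ∈ P := hcC.2
    have hoc : orderOf c = Nat.card C := by
      have : C = zpowers c := le_antisymm hc (zpowers_le.mpr hcC)
      rw [this, Nat.card_zpowers]
    have hc4 : c ^ 4 ≠ 1 := by
      intro h
      have := Nat.le_of_dvd (by norm_num) (orderOf_dvd_of_pow_eq_one h)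
      omega
    have hgcP := hgP c hcP
    have hgcA : g * c * g⁻¹ ∈ A := by
      by_contra hn
      obtain ⟨-, h4, -⟩ := hA _ (hPT hgcP) hn
      rw [conj_pow] at h4
      apply hc4
      have : c ^ 4 = g⁻¹ * (g * c ^ 4 * g⁻¹) * g := by group
      rw [this, h4]; group
    obtain ⟨j, hj⟩ := hP2 c hcP
    have hgc : g * c * g⁻¹ = c := cyc_aut hk hgk hj (hc _ ⟨hgcA, hgcP⟩)
    have hCc := centralizes_of_gen hc hgc
    intro v hv
    by_cases hvA : v ∈ A
    · exact hCc v ⟨hvA, hv⟩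
    · have hw := hgP v hv
      have hwA : g * v * g⁻¹ ∉ A := by
        intro hh
        have h1 := hCc _ ⟨hh, hw⟩
        have h2 : g * v * g⁻¹ = v := by
          have : g * v * g⁻¹ = g⁻¹ * (g * (g * v * g⁻¹) * g⁻¹) * g := by group
          rw [this, h1]; group
        exact hvA (h2 ▸ hh)
      have hvinv : v⁻¹ ∉ A := fun h => hvA (by simpa using A.inv_mem h)
      have hdA : g * v * g⁻¹ * v⁻¹ ∈ A :=
        cqs_mul_mem hAi (hPT hw) (T.inv_mem (hPT hv)) hwA hvinv
      have hdP : g * v * g⁻¹ * v⁻¹ ∈ P := P.mul_mem hw (P.inv_mem hv)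
      have hd := hCc _ ⟨hdA, hdP⟩
      obtain ⟨j', hj'⟩ := hP2 _ hdP
      have hgd : g * (g * v * g⁻¹ * v⁻¹) = (g * v * g⁻¹ * v⁻¹) * g := by
        nth_rewrite 2 [← hd]; group
      have := stab hk hgk hj' hgd (u := v) (by group)
      rw [mul_inv_eq_one] at this
      exact this

theorem cqs_card_dvd (hAT : A ≤ T) (hAc : IsCyclic A) (hAi : A = T ∨ A.relIndex T = 2)
    (hA : ∀ u ∈ T, u ∉ A → (u ^ 2 ≠ 1 ∧ u ^ 4 = 1 ∧ ∀ a ∈ A, u * a * u⁻¹ = a⁻¹))
    {P : Subgroup X} (hPT : P ≤ T) (hP8 : Nat.card P = 8)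
    (hna : ∃ v ∈ P, ∃ w ∈ P, v * w ≠ w * v) (hTP : ∀ t ∈ T, ∀ v ∈ P, t * v * t⁻¹ ∈ P) :
    Nat.card T ∣ 16 := by
  have hPA : ¬ P ≤ A := by
    intro h
    obtain ⟨v, hv, w, hw, hvw⟩ := hna
    apply hvw
    have := (IsCyclic.isMulCommutative (α := A)).is_comm.comm ⟨v, h hv⟩ ⟨w, h hw⟩
    exact congrArg Subtype.val this
  obtain ⟨u, huP, huA⟩ := SetLike.not_le_iff_exists.mp hPA
  have huT := hPT huP
  have hrel : A.relIndex T = 2 := by
    rcases hAi with h | h
    · exact absurd (h ▸ huT) huA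
    · exact h
  have hcardT : Nat.card A * 2 = Nat.card T := by
    have h1 := Subgroup.relIndex_mul_relIndex (⊥ : Subgroup X) A T bot_le hAT
    rwa [Subgroup.relIndex_bot_left, Subgroup.relIndex_bot_left, hrel] at h1
  obtain ⟨a, haA, ha⟩ := exists_gen_of_isCyclic A
  have hoa : orderOf a = Nat.card A := by
    have : A = zpowers a := le_antisymm ha (zpowers_le.mpr haA)
    rw [this, Nat.card_zpowers]
  obtain ⟨-, -, hu3⟩ := hA u huT huA
  have h1 : a * u * a⁻¹ ∈ P := hTP a (hAT haA) u huP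
  have h2 : a * u * a⁻¹ * u⁻¹ = a ^ 2 := by
    have := hu3 a⁻¹ (A.inv_mem haA)
    rw [inv_inv] at this
    calc a * u * a⁻¹ * u⁻¹ = a * (u * a⁻¹ * u⁻¹) := by group
      _ = a ^ 2 := by rw [this, pow_two]
  have h3 : a ^ 2 ∈ A ⊓ P := ⟨A.pow_mem haA 2, h2 ▸ P.mul_mem h1 (P.inv_mem huP)⟩
  have hCd : Nat.card (A ⊓ P : Subgroup X) ∣ 8 := hP8 ▸ Subgroup.card_dvd_of_le inf_le_right
  have hCne : Nat.card (A ⊓ P : Subgroup X) ≠ 8 := by
    intro h
    have : (A ⊓ P : Subgroup X) = P :=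
      Subgroup.eq_of_le_of_card_ge inf_le_right (by rw [h, hP8])
    have hu' : u ∈ (A ⊓ P : Subgroup X) := by rw [this]; exact huP
    exact huA hu'.1
  have hC4 : Nat.card (A ⊓ P : Subgroup X) ∣ 4 := by
    have : Nat.card (A ⊓ P : Subgroup X) ∈ Nat.divisors 8 := Nat.mem_divisors.mpr ⟨hCd, by norm_num⟩
    have hd : Nat.divisors 8 = {1, 2, 4, 8} := by decide
    rw [hd] at this
    simp only [Finset.mem_insert, Finset.mem_singleton] at this
    rcases this with h | h | h | h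
    · rw [h]; norm_num
    · rw [h]; norm_num
    · rw [h]
    · exact absurd h hCne
  have h4 : (a ^ 2) ^ 4 = 1 := by
    have h5 : (⟨a ^ 2, h3⟩ : (A ⊓ P : Subgroup X)) ^ Nat.card (A ⊓ P : Subgroup X) = 1 := pow_card_eq_one'
    obtain ⟨e, he⟩ := hC4
    have h6 : (⟨a ^ 2, h3⟩ : (A ⊓ P : Subgroup X)) ^ 4 = 1 := by rw [he, pow_mul, h5, one_pow]
    have := congrArg Subtype.val h6
    rwa [Subgroup.coe_pow] at this
  have h8 : orderOf a ∣ 8 := by
    apply orderOf_dvd_of_pow_eq_one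
    rw [← h4, ← pow_mul]
  rw [← hcardT, ← hoa]
  exact Nat.mul_dvd_mul h8 (dvd_refl 2)

end cqs

end Cfsg.Agent.Lib.Helper22.FCq
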