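import Mathlib

set_option autoImplicit false

namespace Cfsg.Agent.Lib.Helper22.FCu

open Subgroup

theorem hom_fin4 {G α : Type*} [Group G] [Finite α] (hα : Nat.card α ≤ 4)
    (φ : G →* Equiv.Perm α) : ∃ f : G →* Equiv.Perm (Fin 4), f.ker = φ.ker := by
  classical
  haveI := Fintype.ofFinite α
  have hc : Fintype.card α ≤ Fintype.card (Fin 4) := by
    rw [Fintype.card_fin, ← Nat.card_eq_fintype_card]; exact hα
  obtain ⟨ι⟩ := Function.Embedding.nonempty_of_card_le hc
  refine ⟨(Equiv.Perm.viaEmbeddingHom ι).comp φ, ?_⟩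
  ext g
  rw [MonoidHom.mem_ker, MonoidHom.mem_ker, MonoidHom.comp_apply]
  constructor
  · intro h
    apply Equiv.Perm.viaEmbeddingHom_injective ι
    rw [h, map_one]
  · intro h
    rw [h, map_one]

theorem eq_of_card_two {Z : Type*} [Group Z] (h : Nat.card Z = 2) {a b : Z} (ha : a ≠ 1)
    (hb : b ≠ 1) : a = b := by
  classical
  haveI : Finite Z := Nat.finite_of_card_ne_zero (by rw [h]; norm_num)
  haveI := Fintype.ofFinite Z
  by_contra hne
  have hcard : ({1, a, b} : Finset Z).card = 3 := by
    rw [Finset.card_eq_three]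
    exact ⟨1, a, b, Ne.symm ha, Ne.symm hb, hne, rfl⟩
  have := Finset.card_le_univ ({1, a, b} : Finset Z)
  rw [← Nat.card_eq_fintype_card, h, hcard] at this
  omega

theorem card_center_eq_two {P : Type*} [Group P] [Finite P] (h8 : Nat.card P = 8)
    (hna : ∃ v w : P, v * w ≠ w * v) : Nat.card (Subgroup.center P) = 2 := by
  have hP : IsPGroup 2 P := IsPGroup.of_card (n := 3) (by rw [h8]; norm_num)
  haveI : Fact (Nat.Prime 2) := ⟨Nat.prime_two⟩
  haveI : Nontrivial P := by
    apply (Finite.one_lt_card_iff_nontrivial).mp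
    rw [h8]; norm_num
  haveI := hP.center_nontrivial
  have h1 : Nat.card (Subgroup.center P) ∣ 8 := h8 ▸ Subgroup.card_subgroup_dvd_card _
  have h2 : 1 < Nat.card (Subgroup.center P) := Finite.one_lt_card_iff_nontrivial.mpr inferInstance
  have hmem : Nat.card (Subgroup.center P) ∈ Nat.divisors 8 := Nat.mem_divisors.mpr ⟨h1, by norm_num⟩
  have hd : Nat.divisors 8 = {1, 2, 4, 8} := by decide
  rw [hd] at hmem
  simp only [Finset.mem_insert, Finset.mem_singleton] at hmem
  obtain ⟨v, w, hvw⟩ := hna
  rcases hmem with h | h | h | h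
  · omega
  · exact h
  · exfalso
    have hidx : (Subgroup.center P).index = 2 := by
      have := Subgroup.card_mul_index (Subgroup.center P)
      rw [h, h8] at this
      omega
    haveI : Fact (Nat.Prime 2) := ⟨Nat.prime_two⟩
    haveI : IsCyclic (P ⧸ Subgroup.center P) := by
      apply isCyclic_of_prime_card (p := 2)
      rw [← hidx]; rfl
    exact hvw (commutative_of_cyclic_center_quotient (QuotientGroup.mk' (Subgroup.center P))
      (by rw [QuotientGroup.ker_mk']) v w)
  · exfalso
    have : Subgroup.center P = ⊤ := Subgroup.eq_top_of_card_eq _ (by rw [h, h8])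
    have hw : w ∈ Subgroup.center P := by rw [this]; exact Subgroup.mem_top w
    exact hvw ((Subgroup.mem_center_iff.mp hw v))

theorem card_dvd_of_sylow {X : Type*} [Group X] [Finite X] (N : ℕ) (hN : N ≠ 0)
    (h : ∀ (p : ℕ) [Fact p.Prime], ∃ S : Sylow p X, Nat.card S ∣ N) : Nat.card X ∣ N := by
  have hX : Nat.card X ≠ 0 := Nat.card_pos.ne'
  rw [← Nat.factorization_le_iff_dvd hX hN]
  intro p
  by_cases hp : p.Prime
  · haveI := Fact.mk hp
    obtain ⟨S, hS⟩ := h p
    rw [Sylow.card_eq_multiplicity] at hS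
    exact (hp.pow_dvd_iff_le_factorization hN).mp hS
  · rw [Nat.factorization_eq_zero_of_not_prime _ hp]
    exact Nat.zero_le _

end Cfsg.Agent.Lib.Helper22.FCu
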