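import Mathlib
import Cfsg.Agent.Lib.Helper22.FCq
import Cfsg.Agent.Lib.Helper22.FCu

set_option autoImplicit false

namespace Cfsg.Agent.Lib.Helper22.FCs

open Subgroup Cfsg.Agent.Lib.Helper22.FCq Cfsg.Agent.Lib.Helper22.FCu

section q8

variable {X : Type*} [Group X] [Finite X] {P : Subgroup X}

structure Q8Data (P : Subgroup X) : Prop where
  normal : P.Normal
  card : Nat.card P = 8
  nonab : ∃ v ∈ P, ∃ w ∈ P, v * w ≠ w * v
  cent : centralizer (P : Set X) ≤ P
  fit : ∀ N : Subgroup X, N.Normal → Group.IsNilpotent N → N ≤ P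

theorem Q8Data.card_Z (h : Q8Data P) : Nat.card (centralizer (P : Set X)) = 2 := by
  have hZ : centralizer (P : Set X) = (Subgroup.center P).map P.subtype := by
    ext x
    rw [Subgroup.mem_map]
    constructor
    · intro hx
      have hxP := h.cent hx
      refine ⟨⟨x, hxP⟩, ?_, rfl⟩
      rw [Subgroup.mem_center_iff]
      intro w
      apply Subtype.ext
      have := (Subgroup.mem_centralizer_iff.mp hx) w w.2
      simpa using this
    · rintro ⟨y, hy, rfl⟩
      rw [Subgroup.mem_centralizer_iff]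
      intro w hw
      have := Subgroup.mem_center_iff.mp hy ⟨w, hw⟩
      exact congrArg Subtype.val this
  rw [hZ, Subgroup.card_map_of_injective P.subtype_injective]
  apply card_center_eq_two h.card
  obtain ⟨v, hv, w, hw, hvw⟩ := h.nonab
  exact ⟨⟨v, hv⟩, ⟨w, hw⟩, fun hh => hvw (congrArg Subtype.val hh)⟩

theorem Q8Data.Z_central (h : Q8Data P) : ∀ z ∈ centralizer (P : Set X), ∀ g : X,
    g * z * g⁻¹ = z := by
  haveI := h.normal
  haveI hZn : (centralizer (P : Set X)).Normal := inferInstance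
  intro z hz g
  by_cases hz1 : z = 1
  · rw [hz1]; group
  have h1 : g * z * g⁻¹ ∈ centralizer (P : Set X) := hZn.conj_mem z hz g
  have h2 : g * z * g⁻¹ ≠ 1 := by
    intro hh
    apply hz1
    have : z = g⁻¹ * (g * z * g⁻¹) * g := by group
    rw [this, hh]; group
  have := eq_of_card_two h.card_Z (a := ⟨g * z * g⁻¹, h1⟩) (b := ⟨z, hz⟩)
    (fun hh => h2 (congrArg Subtype.val hh)) (fun hh => hz1 (congrArg Subtype.val hh))
  exact congrArg Subtype.val this

theorem Q8Data.pow_eight (h : Q8Data P) {v : X} (hv : v ∈ P) : v ^ (2 ^ 3) = 1 := by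
  have : (⟨v, hv⟩ : P) ^ Nat.card P = 1 := pow_card_eq_one'
  rw [h.card] at this
  have := congrArg Subtype.val this
  rw [Subgroup.coe_pow] at this
  exact this

theorem Q8Data.semireg (h : Q8Data P) {g w : X} {k : ℕ} (hk : Odd k) (hgk : g ^ k = 1)
    (hwP : w ∈ P) (hwZ : w ∉ centralizer (P : Set X)) (hgw : g * w * g⁻¹ = w) : g = 1 := by
  haveI := h.normal
  have hZ2 := h.card_Z
  have hcen := h.Z_central
  set B := P ⊓ centralizer ({g} : Set X) with hB
  have hmemB : ∀ v, v ∈ B ↔ v ∈ P ∧ g * v * g⁻¹ = v := by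
    intro v
    rw [hB, Subgroup.mem_inf, Subgroup.mem_centralizer_iff]
    simp only [Set.mem_singleton_iff, forall_eq]
    constructor
    · rintro ⟨h1, h2⟩
      exact ⟨h1, by rw [h2]; group⟩
    · rintro ⟨h1, h2⟩
      refine ⟨h1, ?_⟩
      calc g * v = (g * v * g⁻¹) * g := by group
        _ = v * g := by rw [h2]
  have hZB : centralizer (P : Set X) ≤ B := by
    intro z hz
    exact (hmemB z).mpr ⟨h.cent hz, hcen z hz g⟩
  have hwB : w ∈ B := (hmemB w).mpr ⟨hwP, hgw⟩
  have hBP : B ≤ P := inf_le_left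
  have hcardB : 4 ≤ Nat.card B := by
    have h1 : Nat.card (centralizer (P : Set X)) ∣ Nat.card B := Subgroup.card_dvd_of_le hZB
    rw [hZ2] at h1
    obtain ⟨m, hm⟩ := h1
    have hpos : 0 < Nat.card B := Nat.card_pos
    have hne : Nat.card B ≠ 2 := by
      intro h2
      have : centralizer (P : Set X) = B := Subgroup.eq_of_le_of_card_ge hZB (by rw [h2, hZ2])
      exact hwZ (this ▸ hwB)
    omega
  have hrel : B.relIndex P * Nat.card B = 8 := by
    have h1 := Subgroup.relIndex_mul_relIndex (⊥ : Subgroup X) B P bot_le hBP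
    rw [Subgroup.relIndex_bot_left, Subgroup.relIndex_bot_left, h.card] at h1
    rw [mul_comm]; exact h1
  have hrel2 : B.relIndex P = 1 ∨ B.relIndex P = 2 := by
    have : B.relIndex P ≤ 2 := by nlinarith
    have hpos : B.relIndex P ≠ 0 := by
      intro h0
      rw [h0] at hrel
      omega
    omega
  have hPB : P ≤ B := by
    rcases hrel2 with h1 | h2
    · exact Subgroup.relIndex_eq_one.mp h1
    · intro v hv
      by_contra hvB
      have hw' : g * v * g⁻¹ ∈ P := h.normal.conj_mem v hv g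
      have hw'B : g * v * g⁻¹ ∉ B := by
        intro hh
        have h3 := ((hmemB _).mp hh).2
        have : g * v * g⁻¹ = v := by
          have e : g * v * g⁻¹ = g⁻¹ * (g * (g * v * g⁻¹) * g⁻¹) * g := by group
          rw [e, h3]; group
        exact hvB (this ▸ hh)
      have hvinv : v⁻¹ ∉ B := fun hh => hvB (by simpa using B.inv_mem hh)
      have hd : g * v * g⁻¹ * v⁻¹ ∈ B := by
        have := Subgroup.mul_mem_iff_of_index_two (H := B.subgroupOf P) h2
          (a := ⟨g * v * g⁻¹, hw'⟩) (b := ⟨v⁻¹, P.inv_mem hv⟩)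
        simp only [mem_subgroupOf] at this
        exact this.mpr ⟨fun hh => absurd hh hw'B, fun hh => absurd hh hvinv⟩
      obtain ⟨hdP, hdg⟩ := (hmemB _).mp hd
      have hd8 := h.pow_eight hdP
      have hgd : g * (g * v * g⁻¹ * v⁻¹) = (g * v * g⁻¹ * v⁻¹) * g := by
        nth_rewrite 2 [← hdg]; group
      have := stab hk hgk hd8 hgd (u := v) (by group)
      rw [mul_inv_eq_one] at this
      exact hvB ((hmemB v).mpr ⟨hv, this⟩)
  have hgZ : g ∈ centralizer (P : Set X) := by
    rw [Subgroup.mem_centralizer_iff]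
    intro v hv
    have := ((hmemB v).mp (hPB hv)).2
    calc v * g = (g * v * g⁻¹) * g := by rw [this]
      _ = g * v := by group
  have hgP : g ∈ P := h.cent hgZ
  have hg8 := h.pow_eight hgP
  have hcop : Nat.Coprime k (2 ^ 3) := Nat.Coprime.pow_right _ (Nat.coprime_two_right.mpr hk)
  have := pow_gcd_eq_one.mpr ⟨hgk, hg8⟩
  rwa [hcop, pow_one] at this

theorem Q8Data.exists_sq_ne (h : Q8Data P) : ∃ w ∈ P, w ^ 2 ≠ 1 := by
  by_contra hcon
  push Not at hcon
  obtain ⟨v, hv, w, hw, hvw⟩ := h.nonab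
  apply hvw
  have h1 := hcon v hv
  have h2 := hcon w hw
  have h3 := hcon (v * w) (P.mul_mem hv hw)
  have hv' : v⁻¹ = v := by
    rw [inv_eq_iff_mul_eq_one, ← pow_two]; exact h1
  have hw' : w⁻¹ = w := by
    rw [inv_eq_iff_mul_eq_one, ← pow_two]; exact h2
  have h4 : (v * w)⁻¹ = v * w := by
    rw [inv_eq_iff_mul_eq_one, ← pow_two]; exact h3
  rw [mul_inv_rev, hv', hw'] at h4
  exact h4.symm

theorem Q8Data.sq_of_mem_Z (h : Q8Data P) {z : X} (hz : z ∈ centralizer (P : Set X)) :
    z ^ 2 = 1 := by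
  have : (⟨z, hz⟩ : centralizer (P : Set X)) ^ Nat.card (centralizer (P : Set X)) = 1 :=
    pow_card_eq_one'
  rw [h.card_Z] at this
  have := congrArg Subtype.val this
  rw [Subgroup.coe_pow] at this
  exact this

theorem Q8Data.card_odd_sylow (h : Q8Data P) {q : ℕ} [hqp : Fact q.Prime] (hq : q ≠ 2)
    (Q : Sylow q X) : Nat.card Q ∣ 3 := by
  obtain ⟨w, hwP, hw2⟩ := h.exists_sq_ne
  obtain ⟨j, hj⟩ := IsPGroup.iff_card.mp Q.isPGroup'
  have hqodd : Odd q := hqp.out.odd_of_ne_two hq
  have hodd : Odd (Nat.card Q) := by rw [hj]; exact hqodd.pow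
  have hpowQ : ∀ e ∈ (Q : Subgroup X), e ^ Nat.card Q = 1 := by
    intro e he
    have : (⟨e, he⟩ : (Q : Subgroup X)) ^ Nat.card Q = 1 := pow_card_eq_one'
    have := congrArg Subtype.val this
    rwa [Subgroup.coe_pow] at this
  have hwZ : w ∉ centralizer (P : Set X) := fun hh => hw2 (h.sq_of_mem_Z hh)
  have hwinvP : w⁻¹ ∈ P := P.inv_mem hwP
  have hwinvZ : w⁻¹ ∉ centralizer (P : Set X) := fun hh => hwZ (by simpa using Subgroup.inv_mem _ hh)
  -- the map
  let f : ↥(Q : Subgroup X) × Bool → X := fun x => (x.1 : X) * (if x.2 then w else w⁻¹) * (x.1 : X)⁻¹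
  have hfP : ∀ x, f x ∈ ((P : Set X) \ (centralizer (P : Set X) : Set X)) := by
    rintro ⟨e, b⟩
    haveI := h.normal
    haveI hZn : (centralizer (P : Set X)).Normal := inferInstance
    constructor
    · cases b
      · exact h.normal.conj_mem _ hwinvP _
      · exact h.normal.conj_mem _ hwP _
    · intro hh
      have hh' : (e : X) * (if b then w else w⁻¹) * (e : X)⁻¹ ∈ centralizer (P : Set X) := hh
      have := hZn.conj_mem _ hh' (e : X)⁻¹
      have e2 : (e : X)⁻¹ * ((e : X) * (if b then w else w⁻¹) * (e : X)⁻¹) * ((e : X)⁻¹)⁻¹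
          = (if b then w else w⁻¹) := by group
      rw [e2] at this
      cases b
      · exact hwinvZ this
      · exact hwZ this
  -- key cancellation
  have hkey1 : ∀ e ∈ (Q : Subgroup X), ∀ v ∈ P, v ∉ centralizer (P : Set X) → e * v * e⁻¹ = v →
      e = 1 := fun e he v hv hvZ hev => h.semireg hodd (hpowQ e he) hv hvZ hev
  have hkey2 : ∀ e ∈ (Q : Subgroup X), e * w * e⁻¹ ≠ w⁻¹ := by
    intro e he hew
    have h2 : (e ^ 2) * w * (e ^ 2)⁻¹ = w := by
      calc (e ^ 2) * w * (e ^ 2)⁻¹ = e * (e * w * e⁻¹) * e⁻¹ := by rw [pow_two]; group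
        _ = e * w⁻¹ * e⁻¹ := by rw [hew]
        _ = (e * w * e⁻¹)⁻¹ := by group
        _ = w := by rw [hew, inv_inv]
    have h3 : e ^ 2 = 1 := hkey1 _ ((Q : Subgroup X).pow_mem he 2) w hwP hwZ h2
    have hcop : Nat.Coprime (Nat.card Q) 2 := Nat.coprime_two_right.mpr hodd
    have h4 := pow_gcd_eq_one.mpr ⟨hpowQ e he, h3⟩
    rw [hcop, pow_one] at h4
    rw [h4] at hew
    simp only [one_mul, inv_one, mul_one] at hew
    apply hw2
    rw [pow_two]
    nth_rewrite 1 [hew]
    exact inv_mul_cancel w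
  have hinj : Function.Injective f := by
    rintro ⟨⟨e, he⟩, b⟩ ⟨⟨e', he'⟩, b'⟩ hee
    simp only [f] at hee
    have hmem : e'⁻¹ * e ∈ (Q : Subgroup X) := (Q : Subgroup X).mul_mem ((Q : Subgroup X).inv_mem he') he
    have hconj : (e'⁻¹ * e) * (if b then w else w⁻¹) * (e'⁻¹ * e)⁻¹ = (if b' then w else w⁻¹) := by
      calc (e'⁻¹ * e) * (if b then w else w⁻¹) * (e'⁻¹ * e)⁻¹
          = e'⁻¹ * (e * (if b then w else w⁻¹) * e⁻¹) * e' := by group
        _ = e'⁻¹ * (e' * (if b' then w else w⁻¹) * e'⁻¹) * e' := by rw [hee]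
        _ = (if b' then w else w⁻¹) := by group
    have hbb : b = b' := by
      cases b <;> cases b'
      · rfl
      · exfalso
        simp only [Bool.false_eq_true, if_false, if_true] at hconj
        apply hkey2 _ hmem
        have : (e'⁻¹ * e) * w * (e'⁻¹ * e)⁻¹ = ((e'⁻¹ * e) * w⁻¹ * (e'⁻¹ * e)⁻¹)⁻¹ := by group
        rw [this, hconj]
      · exfalso
        simp only [Bool.false_eq_true, if_false, if_true] at hconj
        exact hkey2 _ hmem hconj
      · rfl
    subst hbb
    have h1 : e'⁻¹ * e = 1 := by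
      cases b
      · exact hkey1 _ hmem _ hwinvP hwinvZ (by simpa using hconj)
      · exact hkey1 _ hmem _ hwP hwZ (by simpa using hconj)
    have : e = e' := by
      rw [inv_mul_eq_one] at h1
      exact h1.symm
    subst this
    rfl
  -- counting
  have hfin : ((P : Set X) \ (centralizer (P : Set X) : Set X)).Finite := Set.toFinite _
  have hc1 : (Set.range f).ncard = Nat.card (↥(Q : Subgroup X) × Bool) := by
    rw [← Set.image_univ, Set.ncard_image_of_injective _ hinj, Set.ncard_univ]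
  have hc2 : (Set.range f).ncard ≤ ((P : Set X) \ (centralizer (P : Set X) : Set X)).ncard := by
    apply Set.ncard_le_ncard _ hfin
    rintro _ ⟨x, rfl⟩
    exact hfP x
  have hc3 : ((P : Set X) \ (centralizer (P : Set X) : Set X)).ncard = 6 := by
    rw [Set.ncard_sdiff (fun x hx => h.cent hx) (Set.toFinite _)]
    have h1 : (P : Set X).ncard = 8 := by
      rw [← h.card]; exact (Nat.card_coe_set_eq _).symm
    have h2 : (centralizer (P : Set X) : Set X).ncard = 2 := by
      rw [← h.card_Z]; exact (Nat.card_coe_set_eq _).symm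
    rw [h1, h2]
  have hc4 : Nat.card (↥(Q : Subgroup X) × Bool) = Nat.card Q * 2 := by
    rw [Nat.card_prod]; simp
  have hle : Nat.card Q ≤ 3 := by
    rw [hc1, hc3, hc4] at hc2
    omega
  -- conclude
  rcases Nat.eq_zero_or_pos j with rfl | hjpos
  · rw [hj, pow_zero]; exact one_dvd 3
  · have hq3 : 3 ≤ q := by
      have := hqp.out.two_le
      omega
    have : q ≤ Nat.card Q := by
      rw [hj]
      calc q = q ^ 1 := (pow_one q).symm
        _ ≤ q ^ j := Nat.pow_le_pow_right (by omega) hjpos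
    have h3 : Nat.card Q = 3 := by omega
    rw [h3]

theorem Q8Data.exists_hom (h : Q8Data P) (T : Sylow 2 X) (hT16 : Nat.card T ∣ 16)
    (h2 : ¬ IsPGroup 2 X) :
    ∃ f : X →* Equiv.Perm (Fin 4), IsCyclic f.ker ∧ IsPGroup 2 f.ker := by
  haveI hPn := h.normal
  haveI : Fact (Nat.Prime 3) := ⟨Nat.prime_three⟩
  haveI : Fact (Nat.Prime 2) := ⟨Nat.prime_two⟩
  have hZ2 := h.card_Z
  have hcen := h.Z_central
  -- order of X
  have hX48 : Nat.card X ∣ 48 := by
    apply card_dvd_of_sylow 48 (by norm_num)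
    intro p hp
    by_cases hp2 : p = 2
    · subst hp2
      exact ⟨T, hT16.trans (by norm_num)⟩
    · exact ⟨default, (h.card_odd_sylow hp2 default).trans (by norm_num)⟩
  have h8X : 8 ∣ Nat.card X := h.card ▸ Subgroup.card_subgroup_dvd_card P
  have hXcases : Nat.card X = 24 ∨ Nat.card X = 48 := by
    have hmem : Nat.card X ∈ Nat.divisors 48 := Nat.mem_divisors.mpr ⟨hX48, by norm_num⟩
    have hd : Nat.divisors 48 = {1, 2, 3, 4, 6, 8, 12, 16, 24, 48} := by decide
    rw [hd] at hmem
    simp only [Finset.mem_insert, Finset.mem_singleton] at hmem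
    rcases hmem with e | e | e | e | e | e | e | e | e | e
    · rw [e] at h8X; omega
    · rw [e] at h8X; omega
    · rw [e] at h8X; omega
    · rw [e] at h8X; omega
    · rw [e] at h8X; omega
    · exact absurd (IsPGroup.of_card (n := 3) (by rw [e]; norm_num)) h2
    · rw [e] at h8X; omega
    · exact absurd (IsPGroup.of_card (n := 4) (by rw [e]; norm_num)) h2
    · exact Or.inl e
    · exact Or.inr e
  have h3X : 3 ∣ Nat.card X := by
    rcases hXcases with e | e <;> rw [e] <;> norm_num
  -- the Sylow 3-subgroups have order 3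
  have hR3 : ∀ R : Sylow 3 X, Nat.card R = 3 := by
    intro R
    have h1 := h.card_odd_sylow (q := 3) (by norm_num) R
    have h2' := R.ne_bot_of_dvd_card h3X
    have h3 : Nat.card R ≠ 1 := by
      intro e
      exact h2' (Subgroup.card_eq_one.mp e)
    have := Nat.le_of_dvd (by norm_num) h1
    have hpos : 0 < Nat.card R := Nat.card_pos
    have hne2 : Nat.card R ≠ 2 := by
      intro e; rw [e] at h1; omega
    omega
  let R : Sylow 3 X := default
  -- number of Sylow 3-subgroups
  have hn3 : Nat.card (Sylow 3 X) ≤ 4 := by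
    have h1 : Nat.card (Sylow 3 X) = (normalizer ((R : Subgroup X) : Set X)).index :=
      R.card_eq_index_normalizer
    have h2' : Nat.card (Sylow 3 X) ≡ 1 [MOD 3] := card_sylow_modEq_one 3 X
    have hRN : (R : Subgroup X) ≤ normalizer ((R : Subgroup X) : Set X) := Subgroup.le_normalizer
    have hZN : centralizer (P : Set X) ≤ normalizer ((R : Subgroup X) : Set X) := by
      intro z hz
      rw [Subgroup.mem_normalizer_iff]
      intro r
      have hc : z * r * z⁻¹ = r := by
        have := hcen z hz r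
        calc z * r * z⁻¹ = (r * z * r⁻¹) * r * z⁻¹ := by rw [this]
          _ = r := by group
      rw [hc]
    have hd3 : 3 ∣ Nat.card (normalizer ((R : Subgroup X) : Set X)) := by
      have := Subgroup.card_dvd_of_le hRN
      rwa [hR3 R] at this
    have hd2 : 2 ∣ Nat.card (normalizer ((R : Subgroup X) : Set X)) := by
      have := Subgroup.card_dvd_of_le hZN
      rwa [hZ2] at this
    have hd6 : 6 ∣ Nat.card (normalizer ((R : Subgroup X) : Set X)) :=
      (by norm_num : Nat.Coprime 2 3).mul_dvd_of_dvd_of_dvd hd2 hd3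
    obtain ⟨m, hm⟩ := hd6
    have hmul := Subgroup.card_mul_index (normalizer ((R : Subgroup X) : Set X))
    rw [hm, ← h1] at hmul
    have hdvd8 : Nat.card (Sylow 3 X) ∣ 8 := by
      rcases hXcases with e | e
      · rw [e] at hmul
        have : m * Nat.card (Sylow 3 X) = 4 := by nlinarith
        exact (Dvd.intro_left m this).trans (by norm_num)
      · rw [e] at hmul
        have : m * Nat.card (Sylow 3 X) = 8 := by nlinarith
        exact Dvd.intro_left m this
    have hmem : Nat.card (Sylow 3 X) ∈ Nat.divisors 8 := Nat.mem_divisors.mpr ⟨hdvd8, by norm_num⟩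
    have hd : Nat.divisors 8 = {1, 2, 4, 8} := by decide
    rw [hd] at hmem
    simp only [Finset.mem_insert, Finset.mem_singleton] at hmem
    unfold Nat.ModEq at h2'
    rcases hmem with e | e | e | e <;> rw [e] at h2' ⊢ <;> omega
  -- the hom
  obtain ⟨f, hf⟩ := hom_fin4 hn3 (MulAction.toPermHom X (Sylow 3 X))
  refine ⟨f, ?_⟩
  rw [hf]
  set K := (MulAction.toPermHom X (Sylow 3 X)).ker with hK
  have hKN : ∀ g ∈ K, ∀ R' : Sylow 3 X, g ∈ normalizer ((R' : Subgroup X) : Set X) := by
    intro g hg R'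
    have : MulAction.toPermHom X (Sylow 3 X) g = 1 := hg
    have := DFunLike.congr_fun this R'
    have h5 : g • R' = R' := by simpa using this
    exact Sylow.smul_eq_iff_mem_normalizer.mp h5
  have hK3 : ∀ g ∈ K, g ^ 3 = 1 → g = 1 := by
    intro g hg hg3
    by_contra hg1
    have hog : orderOf g = 3 := orderOf_eq_prime hg3 hg1
    have hzp : IsPGroup 3 (zpowers g) := IsPGroup.of_card (n := 1) (by rw [Nat.card_zpowers, hog]; norm_num)
    have hall : ∀ R' : Sylow 3 X, (R' : Subgroup X) = zpowers g := by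
      intro R'
      have h1 := hzp.inf_normalizer_sylow R'
      have h2' : zpowers g ≤ normalizer (R' : Set X) := zpowers_le.mpr (hKN g hg R')
      rw [inf_eq_left.mpr h2'] at h1
      have h3 : zpowers g ≤ (R' : Subgroup X) := inf_eq_left.mp h1.symm
      exact (Subgroup.eq_of_le_of_card_ge h3 (by rw [hR3 R', Nat.card_zpowers, hog])).symm
    haveI : Subsingleton (Sylow 3 X) := ⟨fun a b => Sylow.ext ((hall a).trans (hall b).symm)⟩
    have hRn : (R : Subgroup X).Normal := R.normal_of_subsingleton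
    have hRnil : Group.IsNilpotent (R : Subgroup X) := R.isPGroup'.isNilpotent
    have hRP : (R : Subgroup X) ≤ P := h.fit _ hRn hRnil
    have := Subgroup.card_dvd_of_le hRP
    rw [hR3 R, h.card] at this
    omega
  have hKX : Nat.card K ∣ 48 := (Subgroup.card_subgroup_dvd_card K).trans hX48
  have hK3' : ¬ 3 ∣ Nat.card K := by
    intro hd
    obtain ⟨g, hg⟩ := exists_prime_orderOf_dvd_card' 3 hd
    have hg3 : (g : X) ^ 3 = 1 := by
      have : g ^ 3 = 1 := by rw [← hg]; exact pow_orderOf_eq_one g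
      have := congrArg Subtype.val this
      rwa [Subgroup.coe_pow] at this
    have := hK3 g g.2 hg3
    have hg1 : g = 1 := Subtype.ext this
    rw [hg1, orderOf_one] at hg
    omega
  have hK16 : Nat.card K ∣ 16 := by
    have hcop : Nat.Coprime (Nat.card K) 3 := (Nat.Coprime.symm ((Nat.Prime.coprime_iff_not_dvd Nat.prime_three).mpr hK3'))
    exact hcop.dvd_of_dvd_mul_right (by norm_num at hKX ⊢; exact hKX)
  have hK2 : IsPGroup 2 K := by
    obtain ⟨i, -, hi⟩ := (Nat.dvd_prime_pow Nat.prime_two).mp (by norm_num at hK16 ⊢; exact hK16 : Nat.card K ∣ 2 ^ 4)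
    exact IsPGroup.of_card hi
  have hKP : K ≤ P := h.fit K (MonoidHom.normal_ker _) hK2.isNilpotent
  have hKZ : K ≤ centralizer (P : Set X) := by
    intro k hk
    by_contra hkZ
    have hRne : (R : Subgroup X) ≠ ⊥ := R.ne_bot_of_dvd_card h3X
    obtain ⟨⟨r, hr⟩, hr1⟩ := Subgroup.ne_bot_iff_exists_ne_one.mp hRne
    have hr1' : r ≠ 1 := fun e => hr1 (Subtype.ext e)
    have hkn := hKN k hk R
    have h1 : k * r * k⁻¹ ∈ (R : Subgroup X) := (Subgroup.mem_normalizer_iff.mp hkn r).mp hr
    have hcR : k * r * k⁻¹ * r⁻¹ ∈ (R : Subgroup X) := (R : Subgroup X).mul_mem h1 ((R : Subgroup X).inv_mem hr)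
    have hcP : k * r * k⁻¹ * r⁻¹ ∈ P := by
      have h3 : r * k⁻¹ * r⁻¹ ∈ P := hPn.conj_mem _ (P.inv_mem (hKP hk)) r
      have : k * r * k⁻¹ * r⁻¹ = k * (r * k⁻¹ * r⁻¹) := by group
      rw [this]
      exact P.mul_mem (hKP hk) h3
    have hbot : (R : Subgroup X) ⊓ P = ⊥ :=
      Subgroup.inf_eq_bot_of_coprime (by rw [hR3 R, h.card]; norm_num)
    have hc1 : k * r * k⁻¹ * r⁻¹ = 1 := by
      have : k * r * k⁻¹ * r⁻¹ ∈ (R : Subgroup X) ⊓ P := ⟨hcR, hcP⟩
      rwa [hbot, Subgroup.mem_bot] at this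
    have hrk : r * k * r⁻¹ = k := by
      have e1 : k * r * k⁻¹ = r := by rw [mul_inv_eq_one] at hc1; exact hc1
      calc r * k * r⁻¹ = (k * r * k⁻¹) * k * r⁻¹ := by rw [e1]
        _ = k * (r * r⁻¹) := by group
        _ = k := by rw [mul_inv_cancel, mul_one]
    have hr3 : r ^ 3 = 1 := by
      have : (⟨r, hr⟩ : (R : Subgroup X)) ^ Nat.card (R : Subgroup X) = 1 := pow_card_eq_one'
      rw [hR3 R] at this
      have := congrArg Subtype.val this
      rwa [Subgroup.coe_pow] at this
    exact hr1' (h.semireg (by decide : Odd 3) hr3 (hKP hk) hkZ hrk)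
  haveI : IsCyclic (centralizer (P : Set X)) := isCyclic_of_prime_card (p := 2) hZ2
  exact ⟨Subgroup.isCyclic_of_le hKZ, hK2⟩

end q8

end Cfsg.Agent.Lib.Helper22.FCs
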