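import Mathlib
import Cfsg.Agent.Lib.Helper22.FCs
import Cfsg.Agent.Lib.Helper2.Cores
import Cfsg.Agent.Lib.Helper20.Cores
import Cfsg.Agent.Lib.Helper20.Fitting
import Cfsg.Agent.Lib.Helper13.BenderA

set_option autoImplicit false

namespace Cfsg.Agent.Lib.Helper22.FCm

open Subgroup Cfsg Cfsg.Agent.Lib.Helper22.FCq Cfsg.Agent.Lib.Helper22.FCu Cfsg.Agent.Lib.Helper22.FCs

theorem fitting_le_pCore_two {X : Type*} [Group X] [Finite X] (hO : Cfsg.pPrimeCore 2 X = ⊥) :
    Cfsg.fittingSubgroup X ≤ Cfsg.pCore 2 X := by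
  rw [Cfsg.Agent.Lib.Helper20.fittingSubgroup_eq_iSup_pCore']
  apply iSup_le
  intro p
  by_cases hp2 : (p : ℕ) = 2
  · rw [hp2]
  · have hn : (Cfsg.pCore (p : ℕ) X).Normal := Cfsg.Agent.Lib.Helper2.pCore_normal _
    have hpg : IsPGroup (p : ℕ) (Cfsg.pCore (p : ℕ) X) := Cfsg.Agent.Lib.Helper2.pCore_isPGroup _
    haveI : Fact (p : ℕ).Prime := ⟨p.2⟩
    obtain ⟨j, hj⟩ := IsPGroup.iff_card.mp hpg
    have hcop : (Nat.card (Cfsg.pCore (p : ℕ) X)).Coprime 2 := by
      rw [hj]
      apply Nat.Coprime.pow_left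
      exact (Nat.coprime_primes p.2 Nat.prime_two).mpr hp2
    have := Cfsg.Agent.Lib.Helper20.le_pPrimeCore' hn hcop
    rw [hO] at this
    exact this.trans bot_le

theorem isPGroup_two_of_no_odd {X : Type*} [Group X] [Finite X]
    (h : ∀ (g : X) (k : ℕ), Odd k → g ^ k = 1 → g = 1) : IsPGroup 2 X := by
  intro g
  have hpos : orderOf g ≠ 0 := (orderOf_pos g).ne'
  obtain ⟨a, b, hb, hab⟩ := Nat.exists_eq_two_pow_mul_odd hpos
  refine ⟨a, ?_⟩
  apply h (g ^ (2 ^ a)) b hb
  rw [← pow_mul, ← hab]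
  exact pow_orderOf_eq_one g

theorem exists_hom_of_core_free {X : Type*} [Group X] [Finite X] [hs : Group.IsSolvable X]
    (hO : Cfsg.pPrimeCore 2 X = ⊥) (T : Sylow 2 X) (hT : CQs (T : Subgroup X)) :
    ∃ f : X →* Equiv.Perm (Fin 4), IsCyclic f.ker ∧ IsPGroup 2 f.ker := by
  haveI : Fact (Nat.Prime 2) := ⟨Nat.prime_two⟩
  by_cases h2 : IsPGroup 2 X
  · -- the 2-group case
    have hT' : (T : Subgroup X) = ⊤ := by
      have h1 : IsPGroup 2 (⊤ : Subgroup X) := h2.to_subgroup _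
      exact (T.is_maximal' h1 le_top).symm
    obtain ⟨A, hAT, hAc, hAi, hA⟩ := hT
    rw [hT', Subgroup.relIndex_top_right] at hAi
    haveI hAn : A.Normal := by
      rcases hAi with h | h
      · rw [h]; infer_instance
      · exact Subgroup.normal_of_index_eq_two h
    have hcard : Nat.card (X ⧸ A) ≤ 4 := by
      rw [← Subgroup.index_eq_card]
      rcases hAi with h | h
      · rw [h, Subgroup.index_top]; norm_num
      · rw [h]; norm_num
    obtain ⟨f, hf⟩ := hom_fin4 hcard (MulAction.toPermHom X (X ⧸ A))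
    refine ⟨f, ?_⟩
    rw [hf, ← Subgroup.normalCore_eq_ker, Subgroup.normalCore_eq_self]
    exact ⟨hAc, h2.to_subgroup A⟩
  · -- X is not a 2-group
    set P := Cfsg.fittingSubgroup X with hP
    haveI hPn : P.Normal := Cfsg.Agent.Lib.Helper20.fittingSubgroup_normal'
    have hPle : P ≤ Cfsg.pCore 2 X := fitting_le_pCore_two hO
    have hP2 : IsPGroup 2 P := (Cfsg.Agent.Lib.Helper2.pCore_isPGroup (G := X) 2).to_le hPle
    have hPT : P ≤ (T : Subgroup X) := hPle.trans (Cfsg.Agent.Lib.Helper2.pCore_le_sylow 2 T)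
    have hcent : centralizer (P : Set X) ≤ P := Cfsg.Agent.Lib.Helper13.BenderA.centralizer_fitting_le
    have hfit : ∀ N : Subgroup X, N.Normal → Group.IsNilpotent N → N ≤ P :=
      fun N hN hn => Cfsg.Agent.Lib.Helper20.le_fittingSubgroup' hN hn
    have hP2e : ∀ v ∈ P, ∃ j : ℕ, v ^ (2 ^ j) = 1 := by
      intro v hv
      obtain ⟨j, hj⟩ := hP2 ⟨v, hv⟩
      refine ⟨j, ?_⟩
      have := congrArg Subtype.val hj
      rwa [Subgroup.coe_pow] at this
    obtain ⟨A, hAT, hAc, hAi, hA⟩ := hT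
    have hcase : ¬ ((∀ v ∈ P, ∀ w ∈ P, v * w = w * v) ∨ 16 ≤ Nat.card P) := by
      intro hcase
      apply h2
      apply isPGroup_two_of_no_odd
      intro g k hk hgk
      have hgP : ∀ v ∈ P, g * v * g⁻¹ ∈ P := fun v hv => hPn.conj_mem v hv g
      have hc := cqs_odd_centralizes hAT hAc hAi hA hPT hP2e hk hgk hgP hcase
      have hgZ : g ∈ centralizer (P : Set X) := by
        rw [Subgroup.mem_centralizer_iff]
        intro v hv
        have := hc v hv
        calc v * g = (g * v * g⁻¹) * g := by rw [this]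
          _ = g * v := by group
      obtain ⟨j, hj⟩ := hP2e g (hcent hgZ)
      have hcop : Nat.Coprime k (2 ^ j) := Nat.Coprime.pow_right _ (Nat.coprime_two_right.mpr hk)
      have := pow_gcd_eq_one.mpr ⟨hgk, hj⟩
      rwa [hcop, pow_one] at this
    push Not at hcase
    obtain ⟨⟨v, hv, w, hw, hvw⟩, hlt⟩ := hcase
    obtain ⟨i, hi⟩ := IsPGroup.iff_card.mp hP2
    have hi3 : i = 3 := by
      have hile : i ≤ 3 := by
        by_contra hcon
        push Not at hcon
        have : 2 ^ 4 ≤ 2 ^ i := Nat.pow_le_pow_right (by norm_num) hcon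
        omega
      by_contra hne
      have hi2 : i ≤ 2 := by omega
      apply hvw
      rcases Nat.lt_or_ge i 2 with hlt2 | hge2
      · have hd : Nat.card P ∣ 2 := by
          rw [hi]
          calc 2 ^ i ∣ 2 ^ 1 := pow_dvd_pow 2 (by omega)
            _ = 2 := pow_one 2
        haveI : IsCyclic P := isCyclic_of_card_dvd_prime (p := 2) hd
        have := (IsCyclic.isMulCommutative (α := P)).is_comm.comm ⟨v, hv⟩ ⟨w, hw⟩
        exact congrArg Subtype.val this
      · have hi2' : i = 2 := by omega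
        rw [hi2'] at hi
        have := IsPGroup.commutative_of_card_eq_prime_sq hi ⟨v, hv⟩ ⟨w, hw⟩
        exact congrArg Subtype.val this
    have hP8 : Nat.card P = 8 := by rw [hi, hi3]; norm_num
    have hq8 : Q8Data P := ⟨hPn, hP8, ⟨v, hv, w, hw, hvw⟩, hcent, hfit⟩
    have hT16 : Nat.card (T : Subgroup X) ∣ 16 :=
      cqs_card_dvd hAT hAc hAi hA hPT hP8 ⟨v, hv, w, hw, hvw⟩
        (fun t _ v hv => hPn.conj_mem v hv t)
    exact hq8.exists_hom T hT16 h2

end Cfsg.Agent.Lib.Helper22.FCm
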