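import Mathlib

set_option autoImplicit false

namespace Cfsg.Agent.Lib.Helper22.FCz

open Subgroup

section conj
variable {G : Type*} [Group G]

theorem conj_pow_one {x y : G} {r : ℕ} (h : x⁻¹ * y * x = y ^ r) (k : ℕ) :
    x⁻¹ * y ^ k * x = y ^ (r * k) := by
  rw [pow_mul, ← h]
  induction k with
  | zero => simp
  | succ k ihk => rw [pow_succ, pow_succ, ← ihk]; group

theorem conj_pow_formula {x y : G} {r : ℕ} (h : x⁻¹ * y * x = y ^ r) (i j : ℕ) :
    (x ^ i)⁻¹ * y ^ j * x ^ i = y ^ (j * r ^ i) := by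
  induction i with
  | zero => simp
  | succ i ih =>
    calc (x ^ (i+1))⁻¹ * y ^ j * x ^ (i+1) = x⁻¹ * ((x ^ i)⁻¹ * y ^ j * x ^ i) * x := by
          rw [pow_succ]; group
      _ = y ^ (j * r ^ (i+1)) := by rw [ih, conj_pow_one h]; congr 1; ring

theorem swap_formula {x y : G} {r : ℕ} (h : x⁻¹ * y * x = y ^ r) (i j : ℕ) :
    y ^ j * x ^ i = x ^ i * y ^ (j * r ^ i) := by
  rw [← conj_pow_formula h i j]; group

end conj

section pres

/-- every element of the presented group is `X^i Y^j`. -/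
theorem pres_form (n m r : ℕ) (hn : 0 < n) (hm : 0 < m) :
    ∀ (g : PresentedGroup
          ({FreeGroup.of (0 : Fin 2) ^ n, FreeGroup.of (1 : Fin 2) ^ m,
            (FreeGroup.of (0 : Fin 2))⁻¹ * FreeGroup.of 1 * FreeGroup.of 0 * (FreeGroup.of (1 : Fin 2) ^ r)⁻¹} :
            Set (FreeGroup (Fin 2)))),
    ∃ i j : ℕ, g = (PresentedGroup.of 0) ^ i * (PresentedGroup.of 1) ^ j := by
  set rels : Set (FreeGroup (Fin 2)) := ({FreeGroup.of (0 : Fin 2) ^ n, FreeGroup.of (1 : Fin 2) ^ m,
            (FreeGroup.of (0 : Fin 2))⁻¹ * FreeGroup.of 1 * FreeGroup.of 0 * (FreeGroup.of (1 : Fin 2) ^ r)⁻¹} :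
            Set (FreeGroup (Fin 2))) with hrels
  set X : PresentedGroup rels := PresentedGroup.of 0 with hX
  set Y : PresentedGroup rels := PresentedGroup.of 1 with hY
  have hXn : X ^ n = 1 := by
    have : PresentedGroup.mk rels (FreeGroup.of (0 : Fin 2) ^ n) = 1 :=
      PresentedGroup.one_of_mem (by rw [hrels]; simp)
    rwa [map_pow] at this
  have hYm : Y ^ m = 1 := by
    have : PresentedGroup.mk rels (FreeGroup.of (1 : Fin 2) ^ m) = 1 :=
      PresentedGroup.one_of_mem (by rw [hrels]; simp)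
    rwa [map_pow] at this
  have hXY : X⁻¹ * Y * X = Y ^ r := by
    have : PresentedGroup.mk rels ((FreeGroup.of (0 : Fin 2))⁻¹ * FreeGroup.of 1 * FreeGroup.of 0 * (FreeGroup.of (1 : Fin 2) ^ r)⁻¹) = 1 :=
      PresentedGroup.one_of_mem (by rw [hrels]; simp)
    rw [map_mul, map_mul, map_mul, map_inv, map_inv, map_pow] at this
    exact mul_inv_eq_one.mp this
  have hXinv : X⁻¹ = X ^ (n - 1) := by
    apply inv_eq_of_mul_eq_one_left
    rw [← pow_succ]
    rw [Nat.sub_add_cancel hn, hXn]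
  have hYinv : Y⁻¹ = Y ^ (m - 1) := by
    apply inv_eq_of_mul_eq_one_left
    rw [← pow_succ]
    rw [Nat.sub_add_cancel hm, hYm]
  have hmul : ∀ a b : PresentedGroup rels, (∃ i j : ℕ, a = X ^ i * Y ^ j) → (∃ i j : ℕ, b = X ^ i * Y ^ j) →
      ∃ i j : ℕ, a * b = X ^ i * Y ^ j := by
    rintro a b ⟨i, j, rfl⟩ ⟨i', j', rfl⟩
    refine ⟨i + i', j * r ^ i' + j', ?_⟩
    calc X ^ i * Y ^ j * (X ^ i' * Y ^ j') = X ^ i * (Y ^ j * X ^ i') * Y ^ j' := by group
      _ = X ^ i * (X ^ i' * Y ^ (j * r ^ i')) * Y ^ j' := by rw [swap_formula hXY]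
      _ = X ^ (i + i') * Y ^ (j * r ^ i' + j') := by rw [pow_add, pow_add]; group
  let H : Subgroup (PresentedGroup rels) :=
    { carrier := {a | ∃ i j : ℕ, a = X ^ i * Y ^ j}
      mul_mem' := fun {a b} ha hb => hmul a b ha hb
      one_mem' := ⟨0, 0, by simp⟩
      inv_mem' := by
        rintro a ⟨i, j, rfl⟩
        have : (X ^ i * Y ^ j)⁻¹ = (X ^ 0 * Y ^ ((m - 1) * j)) * (X ^ ((n - 1) * i) * Y ^ 0) := by
          rw [mul_inv_rev, ← inv_pow, ← inv_pow, hXinv, hYinv, ← pow_mul, ← pow_mul]; simp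
        rw [this]
        exact hmul _ _ ⟨_, _, rfl⟩ ⟨_, _, rfl⟩ }
  intro g
  have := PresentedGroup.generated_by rels H (by
    intro j
    fin_cases j
    · exact ⟨1, 0, by simp [hX]⟩
    · exact ⟨0, 1, by simp [hY]⟩) g
  exact this

theorem pres_iso {G : Type*} [Group G] [Finite G] (x y : G) (n m r : ℕ) (hn : 0 < n) (hm : 0 < m)
    (hxn : x ^ n = 1) (hym : y ^ m = 1) (hxy : x⁻¹ * y * x = y ^ r)
    (hgen : ∀ g : G, ∃ i j : ℕ, g = x ^ i * y ^ j) (hcard : n * m ≤ Nat.card G) :
    Nonempty (G ≃* PresentedGroup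
          ({FreeGroup.of (0 : Fin 2) ^ n, FreeGroup.of (1 : Fin 2) ^ m,
            (FreeGroup.of (0 : Fin 2))⁻¹ * FreeGroup.of 1 * FreeGroup.of 0 * (FreeGroup.of (1 : Fin 2) ^ r)⁻¹} :
            Set (FreeGroup (Fin 2)))) := by
  have hform := pres_form n m r hn hm
  set rels : Set (FreeGroup (Fin 2)) := ({FreeGroup.of (0 : Fin 2) ^ n, FreeGroup.of (1 : Fin 2) ^ m,
            (FreeGroup.of (0 : Fin 2))⁻¹ * FreeGroup.of 1 * FreeGroup.of 0 * (FreeGroup.of (1 : Fin 2) ^ r)⁻¹} :
            Set (FreeGroup (Fin 2))) with hrels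
  set X : PresentedGroup rels := PresentedGroup.of 0 with hX
  set Y : PresentedGroup rels := PresentedGroup.of 1 with hY
  have hXn : X ^ n = 1 := by
    have : PresentedGroup.mk rels (FreeGroup.of (0 : Fin 2) ^ n) = 1 :=
      PresentedGroup.one_of_mem (by rw [hrels]; simp)
    rwa [map_pow] at this
  have hYm : Y ^ m = 1 := by
    have : PresentedGroup.mk rels (FreeGroup.of (1 : Fin 2) ^ m) = 1 :=
      PresentedGroup.one_of_mem (by rw [hrels]; simp)
    rwa [map_pow] at this
  -- the hom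
  have hf : ∀ w ∈ rels, FreeGroup.lift (fun i : Fin 2 => if i = 0 then x else y) w = 1 := by
    intro w hw
    rw [hrels] at hw
    rcases hw with rfl | rfl | hw
    · simp [hxn]
    · simp [hym]
    · rw [Set.mem_singleton_iff] at hw
      subst hw
      simp only [map_mul, map_inv, map_pow, FreeGroup.lift_apply_of]
      simp [hxy]
  let φ : PresentedGroup rels →* G := PresentedGroup.toGroup hf
  have hφX : φ X = x := by
    have := PresentedGroup.toGroup.of hf (x := (0 : Fin 2))
    rw [hX]; exact this.trans (by simp)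
  have hφY : φ Y = y := by
    have := PresentedGroup.toGroup.of hf (x := (1 : Fin 2))
    rw [hY]; exact this.trans (by simp)
  have hsurj : Function.Surjective φ := by
    intro g
    obtain ⟨i, j, rfl⟩ := hgen g
    exact ⟨X ^ i * Y ^ j, by rw [map_mul, map_pow, map_pow, hφX, hφY]⟩
  -- counting
  have hs2 : Function.Surjective (fun ij : Fin n × Fin m => X ^ (ij.1 : ℕ) * Y ^ (ij.2 : ℕ)) := by
    intro g
    obtain ⟨i, j, rfl⟩ := hform g
    refine ⟨(⟨i % n, Nat.mod_lt _ hn⟩, ⟨j % m, Nat.mod_lt _ hm⟩), ?_⟩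
    simp only
    rw [← pow_eq_pow_mod i hXn, ← pow_eq_pow_mod j hYm]
  haveI : Finite (PresentedGroup rels) := Finite.of_surjective _ hs2
  have hc : Nat.card (PresentedGroup rels) ≤ n * m := by
    have := Nat.card_le_card_of_surjective _ hs2
    simpa using this
  have hbij : Function.Bijective φ :=
    Function.Surjective.bijective_of_nat_card_le hsurj (hc.trans hcard)
  exact ⟨(MulEquiv.ofBijective φ hbij).symm⟩

end pres

section cyc

variable {G : Type*} [Group G]

/-- conjugation acts as a power map on a normal cyclic subgroup -/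
theorem conj_zpowers {y : G} (hN : (zpowers y).Normal) (g : G) :
    ∃ s : ℤ, ∀ v ∈ zpowers y, g * v * g⁻¹ = v ^ s := by
  have h1 : g * y * g⁻¹ ∈ zpowers y := hN.conj_mem y (mem_zpowers y) g
  obtain ⟨s, hs⟩ := mem_zpowers_iff.mp h1
  refine ⟨s, ?_⟩
  intro v hv
  obtain ⟨k, rfl⟩ := mem_zpowers_iff.mp hv
  rw [← conj_zpow, ← hs, ← zpow_mul, ← zpow_mul, mul_comm]

theorem normal_of_le_zpowers {y : G} (hN : (zpowers y).Normal) (M : Subgroup G)
    (hM : M ≤ zpowers y) : M.Normal := by
  constructor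
  intro w hw g
  obtain ⟨s, hs⟩ := conj_zpowers hN g
  rw [hs w (hM hw)]
  exact M.zpow_mem hw s

/-- Claim A' -/
theorem commute_of_prime_fixed [Finite G] {h y : G} (hN : (zpowers y).Normal)
    (hp : (orderOf h).Prime) (hpy : ¬ orderOf h ∣ orderOf y)
    (hfix : ∀ u ∈ zpowers y, (orderOf u).Prime → Commute h u) : Commute h y := by
  obtain ⟨s, hs⟩ := conj_zpowers hN h⁻¹
  simp only [inv_inv] at hs
  have key : ∀ k : ℕ, ∀ v ∈ zpowers y, orderOf v = k → Commute h v := by
    intro k
    induction k using Nat.strong_induction_on with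
    | _ k ih =>
      intro v hv hvk
      by_cases hv1 : v = 1
      · rw [hv1]; exact Commute.one_right h
      have hk1 : orderOf v ≠ 1 := fun h1 => hv1 (orderOf_eq_one_iff.mp h1)
      obtain ⟨q, hq, hqv⟩ := Nat.exists_prime_and_dvd hk1
      have hvq : v ^ q ∈ zpowers y := (zpowers y).pow_mem hv q
      have hord : orderOf (v ^ q) = orderOf v / q := orderOf_pow_of_dvd hq.ne_zero hqv
      have hvpos : 0 < orderOf v := orderOf_pos v
      have hlt : orderOf (v ^ q) < k := by
        rw [hord, ← hvk]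
        exact Nat.div_lt_self hvpos hq.one_lt
      have hc1 : Commute h (v ^ q) := ih _ hlt _ hvq rfl
      set u := v⁻¹ * v ^ s with hu
      have huN : u ∈ zpowers y := (zpowers y).mul_mem ((zpowers y).inv_mem hv) ((zpowers y).zpow_mem hv s)
      have hconj : h⁻¹ * v * h = v * u := by rw [hs v hv, hu]; group
      have huq : u ^ q = 1 := by
        have h2 : u = v ^ (s - 1) := by rw [hu, zpow_sub, zpow_one]; 
                                        exact ((Commute.refl v).zpow_right s).inv_left.eq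
        have h3 : (v ^ q)⁻¹ * (v ^ q) ^ s = 1 := by
          rw [← hs (v ^ q) hvq]
          have := hc1.eq
          rw [mul_assoc, ← this]; group
        rw [h2, ← zpow_natCast, ← zpow_mul, mul_comm, zpow_mul, zpow_natCast, zpow_sub, zpow_one]
        rw [← h3]
        exact (((Commute.refl (v ^ q)).zpow_right s).inv_left.eq).symm
      by_cases hu1 : u = 1
      · rw [hu1, mul_one] at hconj
        have : v * h = h * v := by
          calc v * h = h * (h⁻¹ * v * h) := by group
            _ = h * v := by rw [hconj]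
        exact this.symm
      have huo : orderOf u = q := by
        haveI := Fact.mk hq
        exact orderOf_eq_prime huq hu1
      have hcu : Commute h u := hfix u huN (huo ▸ hq)
      have hiter : ∀ i : ℕ, (h ^ i)⁻¹ * v * h ^ i = v * u ^ i := by
        intro i
        induction i with
        | zero => simp
        | succ i ihi =>
          calc (h ^ (i + 1))⁻¹ * v * h ^ (i + 1) = h⁻¹ * ((h ^ i)⁻¹ * v * h ^ i) * h := by
                rw [pow_succ]; group
            _ = (h⁻¹ * v * h) * (h⁻¹ * u ^ i * h) := by rw [ihi]; group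
            _ = v * u * u ^ i := by
                rw [hconj]
                have : h⁻¹ * u ^ i * h = u ^ i := by
                  have := (hcu.pow_right i).eq
                  rw [mul_assoc, ← this]; group
                rw [this]
            _ = v * u ^ (i + 1) := by rw [pow_succ']; group
      have hfin := hiter (orderOf h)
      rw [pow_orderOf_eq_one] at hfin
      simp only [inv_one, one_mul, mul_one] at hfin
      have hup : u ^ orderOf h = 1 := by
        have := hfin.symm
        rwa [mul_eq_left] at this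
      have hqp : q ∣ orderOf h := huo ▸ orderOf_dvd_of_pow_eq_one hup
      have hqeq : q = orderOf h := (Nat.prime_dvd_prime_iff_eq hq hp).mp hqp
      exfalso
      apply hpy
      rw [← hqeq]
      exact hqv.trans (orderOf_dvd_of_mem_zpowers hv)
  exact key _ y (mem_zpowers y) rfl

theorem card_sup_dvd (H K : Subgroup G) [K.Normal] :
    Nat.card (H ⊔ K : Subgroup G) ∣ Nat.card H * Nat.card K := by
  have h1 : (⊥ : Subgroup G).relIndex K * K.relIndex (H ⊔ K) = (⊥ : Subgroup G).relIndex (H ⊔ K) :=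
    Subgroup.relIndex_mul_relIndex _ _ _ bot_le le_sup_right
  rw [Subgroup.relIndex_bot_left, Subgroup.relIndex_bot_left, Subgroup.relIndex_sup_right] at h1
  rw [← h1, mul_comm]
  exact Nat.mul_dvd_mul_right (Subgroup.relIndex_dvd_card _ _) _

theorem commute_of_pq [Finite G]
    (hpq : ∀ A : Subgroup G, (∃ p q : ℕ, p.Prime ∧ q.Prime ∧ Nat.card A = p * q) → IsCyclic A)
    {h u : G} (hK : (zpowers u).Normal) (hp : (orderOf h).Prime) (hq : (orderOf u).Prime)
    (hne : orderOf h ≠ orderOf u) : Commute h u := by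
  haveI := hK
  have h1 : Nat.card (zpowers h ⊔ zpowers u : Subgroup G) ∣ orderOf h * orderOf u := by
    have := card_sup_dvd (zpowers h) (zpowers u)
    rwa [Nat.card_zpowers, Nat.card_zpowers] at this
  have h2 : orderOf h ∣ Nat.card (zpowers h ⊔ zpowers u : Subgroup G) := by
    rw [← Nat.card_zpowers]; exact Subgroup.card_dvd_of_le le_sup_left
  have h3 : orderOf u ∣ Nat.card (zpowers h ⊔ zpowers u : Subgroup G) := by
    rw [← Nat.card_zpowers]; exact Subgroup.card_dvd_of_le le_sup_right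
  have hcop : Nat.Coprime (orderOf h) (orderOf u) := (Nat.coprime_primes hp hq).mpr hne
  have h4 : Nat.card (zpowers h ⊔ zpowers u : Subgroup G) = orderOf h * orderOf u :=
    Nat.dvd_antisymm h1 (hcop.mul_dvd_of_dvd_of_dvd h2 h3)
  haveI : IsCyclic (zpowers h ⊔ zpowers u : Subgroup G) := hpq _ ⟨_, _, hp, hq, h4⟩
  have hh : h ∈ (zpowers h ⊔ zpowers u : Subgroup G) :=
    (le_sup_left : zpowers h ≤ zpowers h ⊔ zpowers u) (mem_zpowers h)
  have hu : u ∈ (zpowers h ⊔ zpowers u : Subgroup G) :=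
    (le_sup_right : zpowers u ≤ zpowers h ⊔ zpowers u) (mem_zpowers u)
  have := (IsCyclic.isMulCommutative (α := (zpowers h ⊔ zpowers u : Subgroup G))).is_comm.comm
    ⟨h, hh⟩ ⟨u, hu⟩
  exact congrArg Subtype.val this

theorem commute_of_squarefree [Finite G] {x y : G}
    (hA : ∀ h ∈ zpowers x, (orderOf h).Prime → Commute h y) :
    ∀ k : ℕ, ∀ h ∈ zpowers x, orderOf h = k → Squarefree k → Commute h y := by
  intro k
  induction k using Nat.strong_induction_on with
  | _ k ih =>
    intro h hh hk hsq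
    by_cases h1 : h = 1
    · rw [h1]; exact Commute.one_left y
    have hk1 : orderOf h ≠ 1 := fun e => h1 (orderOf_eq_one_iff.mp e)
    obtain ⟨p, hp, hpk⟩ := Nat.exists_prime_and_dvd hk1
    have hpos : 0 < orderOf h := orderOf_pos h
    set R := orderOf h / p with hR
    have hRmul : p * R = orderOf h := Nat.mul_div_cancel' hpk
    have hsq' : Squarefree (p * R) := by rw [hRmul, hk]; exact hsq
    have hcop : Nat.Coprime p R := Nat.coprime_of_squarefree_mul hsq'
    have ho1 : orderOf (h ^ p) = R := orderOf_pow_of_dvd hp.ne_zero hpk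
    have ho2 : orderOf (h ^ R) = p := orderOf_pow_orderOf_div hpos.ne' hpk
    have hRlt : R < k := by
      rw [← hk, hR]; exact Nat.div_lt_self hpos hp.one_lt
    have hc1 : Commute (h ^ p) y :=
      ih R hRlt (h ^ p) ((zpowers x).pow_mem hh p) ho1 (hsq'.squarefree_of_dvd (Dvd.intro_left p rfl))
    have hc2 : Commute (h ^ R) y := hA (h ^ R) ((zpowers x).pow_mem hh R) (ho2 ▸ hp)
    have hb := Nat.gcd_eq_gcd_ab p R
    rw [hcop.gcd_eq_one] at hb
    have : h = (h ^ p) ^ (Nat.gcdA p R) * (h ^ R) ^ (Nat.gcdB p R) := by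
      rw [← zpow_natCast, ← zpow_natCast, ← zpow_mul, ← zpow_mul, ← zpow_add, ← hb]
      simp
    rw [this]
    exact (hc1.zpow_left _).mul_left (hc2.zpow_left _)

theorem coprime_of_commutator [Finite G] {x y : G} {r : ℕ} (hr : 1 ≤ r) (hxy : x⁻¹ * y * x = y ^ r)
    (hN : commutator G = zpowers y) (hgen : ∀ g : G, ∃ i j : ℕ, g = x ^ i * y ^ j) :
    Nat.Coprime (r - 1) (orderOf y) := by
  have hNn : (zpowers y).Normal := hN ▸ (inferInstance : (commutator G).Normal)
  set M := zpowers (y ^ (r - 1)) with hM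
  haveI hMn : M.Normal := normal_of_le_zpowers hNn M
    (zpowers_le.mpr ((zpowers y).pow_mem (mem_zpowers y) _))
  have hYM : ((y ^ (r - 1) : G) : G ⧸ M) = 1 := (QuotientGroup.eq_one_iff _).mpr (mem_zpowers _)
  have hcomm0 : Commute ((x : G) : G ⧸ M) ((y : G) : G ⧸ M) := by
    have h1 : ((x⁻¹ * y * x : G) : G ⧸ M) = ((y : G) : G ⧸ M) := by
      rw [hxy]
      have : y ^ r = y * y ^ (r - 1) := by rw [← pow_succ', Nat.sub_add_cancel hr]
      rw [this, QuotientGroup.mk_mul, hYM, mul_one]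
    rw [QuotientGroup.mk_mul, QuotientGroup.mk_mul, QuotientGroup.mk_inv] at h1
    have : ((y : G) : G ⧸ M) * ((x : G) : G ⧸ M) = ((x : G) : G ⧸ M) * ((y : G) : G ⧸ M) := by
      calc ((y : G) : G ⧸ M) * ((x : G) : G ⧸ M)
          = ((x : G) : G ⧸ M) * ((((x : G) : G ⧸ M))⁻¹ * ((y : G) : G ⧸ M) * ((x : G) : G ⧸ M)) := by group
        _ = ((x : G) : G ⧸ M) * ((y : G) : G ⧸ M) := by rw [h1]
    exact this.symm
  have hcomm : ∀ a b : G ⧸ M, Commute a b := by
    intro a b
    obtain ⟨g, rfl⟩ := QuotientGroup.mk_surjective a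
    obtain ⟨g', rfl⟩ := QuotientGroup.mk_surjective b
    obtain ⟨i, j, rfl⟩ := hgen g
    obtain ⟨i', j', rfl⟩ := hgen g'
    simp only [QuotientGroup.mk_mul, QuotientGroup.mk_pow]
    have c1 : Commute (((x : G) : G ⧸ M) ^ i) (((x : G) : G ⧸ M) ^ i') :=
      ((Commute.refl _).pow_left i).pow_right i'
    have c2 : Commute (((x : G) : G ⧸ M) ^ i) (((y : G) : G ⧸ M) ^ j') :=
      (hcomm0.pow_left i).pow_right j'
    have c3 : Commute (((y : G) : G ⧸ M) ^ j) (((x : G) : G ⧸ M) ^ i') :=
      (hcomm0.symm.pow_left j).pow_right i'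
    have c4 : Commute (((y : G) : G ⧸ M) ^ j) (((y : G) : G ⧸ M) ^ j') :=
      ((Commute.refl _).pow_left j).pow_right j'
    exact (c1.mul_right c2).mul_left (c3.mul_right c4)
  have hle : commutator G ≤ M := by
    rw [_root_.commutator_def, Subgroup.commutator_le]
    intro g₁ _ g₂ _
    rw [← QuotientGroup.eq_one_iff, ← QuotientGroup.mk'_apply, map_commutatorElement,
      commutatorElement_eq_one_iff_commute]
    exact hcomm _ _
  have hyM : y ∈ M := hle (hN ▸ mem_zpowers y)
  obtain ⟨k, hk⟩ := mem_zpowers_iff.mp hyM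
  have h1 : y ^ (((r - 1 : ℕ) : ℤ) * k - 1) = 1 := by
    rw [zpow_sub, zpow_mul, zpow_natCast, hk, zpow_one, mul_inv_cancel]
  have h2 : (orderOf y : ℤ) ∣ ((r - 1 : ℕ) : ℤ) * k - 1 := orderOf_dvd_iff_zpow_eq_one.mpr h1
  obtain ⟨c, hc⟩ := h2
  rw [← Nat.isCoprime_iff_coprime]
  refine ⟨k, -c, ?_⟩
  linarith

end cyc

section main

theorem exists_npow_of_mem_zpowers {G : Type*} [Group G] [Finite G] {y v : G} (hv : v ∈ zpowers y) :
    ∃ k : ℕ, y ^ k = v :=
  (Submonoid.mem_powers_iff _ _).mp (mem_powers_iff_mem_zpowers.mpr hv)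

theorem zgroup_presentation {G : Type*} [Group G] [Finite G] [IsZGroup G]
    (hpq : ∀ A : Subgroup G, (∃ p q : ℕ, p.Prime ∧ q.Prime ∧ Nat.card A = p * q) → IsCyclic A) :
    ∃ n m r : ℕ, 0 < n ∧ 0 < m ∧ Nat.Coprime (r - 1) m ∧ Nat.Coprime n m ∧ 1 ≤ r ∧
        r ^ (n / ∏ p ∈ n.primeFactors, p) % m = 1 % m ∧
        Nonempty (G ≃* PresentedGroup
          ({FreeGroup.of (0 : Fin 2) ^ n, FreeGroup.of (1 : Fin 2) ^ m,
            (FreeGroup.of (0 : Fin 2))⁻¹ * FreeGroup.of 1 * FreeGroup.of 0 * (FreeGroup.of (1 : Fin 2) ^ r)⁻¹} :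
            Set (FreeGroup (Fin 2)))) := by
  have hcopr := IsZGroup.coprime_commutator_index G
  obtain ⟨H, hH⟩ := Subgroup.exists_right_complement'_of_coprime hcopr
  haveI hNc : IsCyclic (commutator G) := IsZGroup.isCyclic_commutator G
  have e1 : Abelianization G ≃* H := hH.symm.QuotientMulEquiv
  haveI hHc : IsCyclic H := isCyclic_of_surjective _ e1.surjective
  obtain ⟨⟨y, hyN⟩, hy⟩ := hNc.exists_generator
  obtain ⟨⟨x, hxH⟩, hx⟩ := hHc.exists_generator
  have hN : commutator G = zpowers y := by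
    apply le_antisymm
    · intro v hv
      obtain ⟨k, hk⟩ := mem_zpowers_iff.mp (hy ⟨v, hv⟩)
      have := congrArg Subtype.val hk
      rw [Subgroup.coe_zpow] at this
      exact mem_zpowers_iff.mpr ⟨k, this⟩
    · exact zpowers_le.mpr hyN
  have hHx : H = zpowers x := by
    apply le_antisymm
    · intro v hv
      obtain ⟨k, hk⟩ := mem_zpowers_iff.mp (hx ⟨v, hv⟩)
      have := congrArg Subtype.val hk
      rw [Subgroup.coe_zpow] at this
      exact mem_zpowers_iff.mpr ⟨k, this⟩
    · exact zpowers_le.mpr hxH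
  have hNn : (zpowers y).Normal := hN ▸ (inferInstance : (commutator G).Normal)
  have hcN : Nat.card (commutator G) = orderOf y := by rw [hN, Nat.card_zpowers]
  have hcH : Nat.card H = orderOf x := by rw [hHx, Nat.card_zpowers]
  have hcard : orderOf x * orderOf y = Nat.card G := by
    rw [← hcN, ← hcH, mul_comm]; exact hH.card_mul_card
  have hcop : Nat.Coprime (orderOf x) (orderOf y) := by
    rw [← hcN, ← hcH, ← hH.symm.index_eq_card]; exact hcopr.symm
  have hgen : ∀ g : G, ∃ i j : ℕ, g = x ^ i * y ^ j := by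
    intro g
    obtain ⟨⟨⟨a, ha⟩, ⟨b, hb⟩⟩, hab, -⟩ := (Subgroup.isComplement_iff_existsUnique.mp hH.symm) g
    simp only at hab
    rw [hHx] at ha
    rw [hN] at hb
    obtain ⟨i, rfl⟩ := exists_npow_of_mem_zpowers ha
    obtain ⟨j, rfl⟩ := exists_npow_of_mem_zpowers hb
    exact ⟨i, j, hab.symm⟩
  -- the exponent r
  have hconj : x⁻¹ * y * x ∈ zpowers y := by
    have := hNn.conj_mem y (mem_zpowers y) x⁻¹
    rwa [inv_inv] at this
  obtain ⟨r₀, hr₀⟩ := exists_npow_of_mem_zpowers hconj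
  set m := orderOf y with hm
  set n := orderOf x with hn
  have hmpos : 0 < m := orderOf_pos y
  have hnpos : 0 < n := orderOf_pos x
  set r := r₀ + m with hr
  have hr1 : 1 ≤ r := by omega
  have hxy : x⁻¹ * y * x = y ^ r := by
    rw [hr, pow_add, hm, pow_orderOf_eq_one, mul_one, hr₀]
  refine ⟨n, m, r, hnpos, hmpos, coprime_of_commutator hr1 hxy hN hgen, hcop, hr1, ?_,
    pres_iso x y n m r hnpos hmpos (pow_orderOf_eq_one x) (pow_orderOf_eq_one y) hxy hgen hcard.le⟩
  -- the congruence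
  have hA : ∀ h ∈ zpowers x, (orderOf h).Prime → Commute h y := by
    intro h hh hp
    have hdvd : orderOf h ∣ n := orderOf_dvd_of_mem_zpowers hh
    have hnd : ¬ orderOf h ∣ orderOf y := by
      intro hd
      have := Nat.eq_one_of_dvd_coprimes hcop hdvd hd
      exact hp.ne_one this
    apply commute_of_prime_fixed hNn hp hnd
    intro u hu hq
    have hun : (zpowers u).Normal := normal_of_le_zpowers hNn _ (zpowers_le.mpr hu)
    apply commute_of_pq hpq hun hp hq
    intro he
    apply hnd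
    rw [he]
    exact orderOf_dvd_of_mem_zpowers hu
  set R := ∏ p ∈ n.primeFactors, p with hR
  have hRd : R ∣ n := Nat.prod_primeFactors_dvd n
  have hRsq : Squarefree R := by
    rw [hR, ← Nat.radical_eq_prod_primeFactors]
    exact UniqueFactorizationMonoid.squarefree_radical
  have hox : orderOf (x ^ (n / R)) = R := orderOf_pow_orderOf_div hnpos.ne' hRd
  have hcomm : Commute (x ^ (n / R)) y :=
    commute_of_squarefree hA R (x ^ (n / R)) ((zpowers x).pow_mem (mem_zpowers x) _) hox hRsq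
  have h1 := conj_pow_formula hxy (n / R) 1
  rw [pow_one, one_mul] at h1
  have h2 : (x ^ (n / R))⁻¹ * y * x ^ (n / R) = y := by
    rw [mul_assoc, ← hcomm.eq]; group
  rw [h2] at h1
  have h3 : y ^ 1 = y ^ (r ^ (n / R)) := by rw [pow_one]; exact h1
  have := pow_eq_pow_iff_modEq.mp h3
  exact this.symm

end main

end Cfsg.Agent.Lib.Helper22.FCz
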