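import Mathlib

set_option autoImplicit false

namespace Cfsg.Agent.Lib.Helper22.FieldAut

open Module

/-- A finite field with a ring automorphism of prime order `p` whose only fixed points are `0`
and `1` has `2 ^ p` elements. -/
theorem card_of_aut {F : Type*} [Field F] [Finite F] (φ : F ≃+* F) (p : ℕ)
    (hord : orderOf φ = p) (hfix : ∀ x, φ x = x → x = 0 ∨ x = 1) :
    Nat.card F = 2 ^ p := by
  classical
  haveI : Fintype F := Fintype.ofFinite F
  haveI : Finite (F ≃+* F) := Finite.of_injective (fun e => (e : F → F)) DFunLike.coe_injective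
  let Γ : Subgroup (F ≃+* F) := Subgroup.zpowers φ
  haveI : Fintype Γ := Fintype.ofFinite _
  have h1 := FixedPoints.finrank_eq_card Γ F
  have h2 : Fintype.card Γ = p := by
    rw [← hord, ← Nat.card_eq_fintype_card]
    exact Nat.card_zpowers φ
  have hmem : ∀ x : FixedPoints.subfield Γ F, (x : F) = 0 ∨ (x : F) = 1 := by
    intro x
    apply hfix
    have := x.2 ⟨φ, Subgroup.mem_zpowers φ⟩
    exact this
  have h3 : Nat.card (FixedPoints.subfield Γ F) = 2 := by
    rw [Nat.card_eq_two_iff]
    refine ⟨0, 1, zero_ne_one, ?_⟩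
    ext x
    simp only [Set.mem_insert_iff, Set.mem_singleton_iff, Set.mem_univ, iff_true]
    rcases hmem x with h | h
    · left; exact Subtype.ext h
    · right; exact Subtype.ext h
  have h4 := Module.natCard_eq_pow_finrank (K := FixedPoints.subfield Γ F) (V := F)
  rw [h4, h3, h1, h2]

/-- A finite additive group with a commuting set `A` of endomorphisms transitive on nonzero
elements, normalised by an automorphism `σ` of prime order `p` fixing only `0` and `v₀`, has
`2 ^ p` elements. -/
theorem card_eq_two_pow {V : Type*} [AddCommGroup V] [Finite V] (A : Set (AddMonoid.End V))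
    (hcomm : ∀ x ∈ A, ∀ y ∈ A, x * y = y * x)
    (htrans : ∀ u w : V, u ≠ 0 → w ≠ 0 → ∃ x ∈ A, x u = w)
    (σ : AddMonoid.End V) (p : ℕ) (hp : p.Prime) (hσp : σ ^ p = 1) (hσ1 : σ ≠ 1)
    (hnorm : ∀ x ∈ A, ∃ y ∈ A, σ * x = y * σ)
    (v₀ : V) (hv₀ : v₀ ≠ 0) (hfix : σ v₀ = v₀) (hfixonly : ∀ w, σ w = w → w = 0 ∨ w = v₀) :
    Nat.card V = 2 ^ p := by
  classical
  have mulap : ∀ (f g : AddMonoid.End V) (v : V), (f * g) v = f (g v) := fun _ _ _ => rfl
  obtain ⟨τ, hτ⟩ : ∃ τ : AddMonoid.End V, τ = σ ^ (p - 1) := ⟨_, rfl⟩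
  have hστ : σ * τ = 1 := by
    rw [hτ, ← pow_succ', Nat.sub_add_cancel hp.one_le, hσp]
  have hτσ : τ * σ = 1 := by
    rw [hτ, ← pow_succ, Nat.sub_add_cancel hp.one_le, hσp]
  have hτv : τ v₀ = v₀ := by
    have h1 : (τ * σ) v₀ = v₀ := by rw [hτσ]; rfl
    rw [mulap, hfix] at h1
    exact h1
  -- the commutative ring generated by A
  let R : Subring (AddMonoid.End V) := Subring.closure A
  letI : CommRing R := Subring.closureCommRingOfComm hcomm
  have hAR : ∀ x ∈ A, x ∈ R := fun x hx => Subring.subset_closure hx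
  have hRcomm : ∀ (r : R) (x : AddMonoid.End V), x ∈ A → (r : AddMonoid.End V) * x = x * r := by
    intro r x hx
    have := mul_comm r ⟨x, hAR x hx⟩
    exact congrArg Subtype.val this
  -- (i)
  have hinj : ∀ (r : R) (v : V), v ≠ 0 → (r : AddMonoid.End V) v = 0 → r = 0 := by
    intro r v hv hrv
    apply Subtype.ext
    apply AddMonoidHom.ext
    intro w
    show (r : AddMonoid.End V) w = 0
    by_cases hw : w = 0
    · rw [hw, map_zero]
    · obtain ⟨x, hx, hxv⟩ := htrans v w hv hw
      rw [← hxv, ← mulap, hRcomm r x hx, mulap, hrv, map_zero]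
  haveI : Nontrivial R := by
    refine ⟨⟨0, 1, ?_⟩⟩
    intro h
    have h1 : ((0 : R) : AddMonoid.End V) v₀ = ((1 : R) : AddMonoid.End V) v₀ := by rw [h]
    exact hv₀ h1.symm
  haveI : NoZeroDivisors R := by
    refine ⟨?_⟩
    intro a b hab
    by_cases hb : b = 0
    · exact Or.inr hb
    · left
      have : ∃ v, (b : AddMonoid.End V) v ≠ 0 := by
        by_contra hcon
        push Not at hcon
        apply hb
        apply Subtype.ext
        apply AddMonoidHom.ext
        intro w
        exact hcon w
      obtain ⟨v, hv⟩ := this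
      apply hinj a _ hv
      have h1 : ((a * b : R) : AddMonoid.End V) v = 0 := by rw [hab]; rfl
      exact h1
  haveI : IsDomain R := NoZeroDivisors.to_isDomain R
  haveI : Finite (AddMonoid.End V) :=
    Finite.of_injective (fun e => (e : V → V)) DFunLike.coe_injective
  haveI : Finite R := inferInstance
  haveI : Fintype R := Fintype.ofFinite R
  letI : Field R := Fintype.fieldOfDomain R
  -- evaluation
  have hev_inj : ∀ r r' : R, (r : AddMonoid.End V) v₀ = (r' : AddMonoid.End V) v₀ → r = r' := by
    intro r r' h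
    have : r - r' = 0 := by
      apply hinj _ v₀ hv₀
      show (r : AddMonoid.End V) v₀ - (r' : AddMonoid.End V) v₀ = 0
      rw [h, sub_self]
    exact sub_eq_zero.mp this
  have hev_surj : ∀ w : V, ∃ r : R, (r : AddMonoid.End V) v₀ = w := by
    intro w
    by_cases hw : w = 0
    · exact ⟨0, by rw [hw]; rfl⟩
    · obtain ⟨x, hx, hxv⟩ := htrans v₀ w hv₀ hw
      exact ⟨⟨x, hAR x hx⟩, hxv⟩
  -- conjugation by σ
  let c : AddMonoid.End V →+* AddMonoid.End V :=
    { toFun := fun x => σ * x * τ
      map_one' := by rw [mul_one, hστ]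
      map_mul' := fun x y => by
        calc σ * (x * y) * τ = σ * x * (1 * y) * τ := by rw [one_mul, mul_assoc σ x y]
          _ = σ * x * (τ * σ * y) * τ := by rw [hτσ]
          _ = σ * x * τ * (σ * y * τ) := by simp only [mul_assoc]
      map_zero' := by rw [mul_zero, zero_mul]
      map_add' := fun x y => by rw [mul_add, add_mul] }
  have hcA : ∀ x ∈ A, c x ∈ R := by
    intro x hx
    obtain ⟨y, hy, hxy⟩ := hnorm x hx
    have : c x = y := by
      show σ * x * τ = y
      rw [hxy, mul_assoc, hστ, mul_one]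
    rw [this]
    exact hAR y hy
  have hcR : ∀ r : R, c r ∈ R := by
    intro r
    have h1 : R ≤ R.comap c := by
      apply Subring.closure_le.mpr
      intro x hx
      exact hcA x hx
    exact h1 r.2
  let f : R →+* R := (c.comp R.subtype).codRestrict R hcR
  have hf_apply : ∀ r : R, ((f r : R) : AddMonoid.End V) = σ * r * τ := fun r => rfl
  have hf_ev : ∀ r : R, ((f r : R) : AddMonoid.End V) v₀ = σ ((r : AddMonoid.End V) v₀) := by
    intro r
    rw [hf_apply, mulap, mulap, hτv]
  have hf_inj : Function.Injective f := by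
    intro r r' h
    apply hev_inj
    have h1 := hf_ev r
    have h2 := hf_ev r'
    rw [h] at h1
    have h3 : σ ((r : AddMonoid.End V) v₀) = σ ((r' : AddMonoid.End V) v₀) := by rw [← h1, ← h2]
    have h4 := congrArg (fun w => τ w) h3
    have h5 : ∀ w : V, τ (σ w) = w := by
      intro w
      rw [← mulap, hτσ]
      rfl
    simp only [h5] at h4
    exact h4
  have hf_bij : Function.Bijective f := Finite.injective_iff_bijective.mp hf_inj
  let φ : R ≃+* R := RingEquiv.ofBijective f hf_bij
  have hφ_ev : ∀ (k : ℕ) (r : R),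
      (((φ ^ k) r : R) : AddMonoid.End V) v₀ = (σ ^ k) ((r : AddMonoid.End V) v₀) := by
    intro k
    induction k with
    | zero => intro r; rfl
    | succ k ih =>
      intro r
      rw [pow_succ', RingAut.mul_apply]
      show ((f ((φ ^ k) r) : R) : AddMonoid.End V) v₀ = _
      rw [hf_ev, ih, pow_succ', mulap]
  have hφord : orderOf φ = p := by
    haveI : Fact p.Prime := ⟨hp⟩
    apply orderOf_eq_prime
    · apply RingEquiv.ext
      intro r
      apply hev_inj
      rw [hφ_ev, hσp]
      rfl
    · intro h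
      apply hσ1
      apply AddMonoidHom.ext
      intro w
      obtain ⟨r, hr⟩ := hev_surj w
      have h1 := hf_ev r
      have h2 : f r = r := by
        have : φ r = r := by rw [h]; rfl
        exact this
      rw [h2, hr] at h1
      exact h1.symm
  have hφfix : ∀ r : R, φ r = r → r = 0 ∨ r = 1 := by
    intro r hr
    have h1 := hf_ev r
    have h2 : f r = r := hr
    rw [h2] at h1
    rcases hfixonly _ h1.symm with h | h
    · left
      exact hev_inj r 0 h
    · right
      exact hev_inj r 1 h
  have hcard := card_of_aut φ p hφord hφfix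
  rw [← hcard]
  apply Nat.card_congr
  refine (Equiv.ofBijective (fun r : R => (r : AddMonoid.End V) v₀) ⟨?_, ?_⟩).symm
  · intro r r' h
    exact hev_inj r r' h
  · intro w
    exact hev_surj w

end Cfsg.Agent.Lib.Helper22.FieldAut
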