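import Mathlib

set_option autoImplicit false

namespace Cfsg.Agent.Lib.Helper22

open scoped commutatorElement

variable {G : Type*} [Group G]

/-- forward difference of a sequence in a group -/
def seqD (g : ℕ → G) : ℕ → G := fun n => g (n + 1) * (g n)⁻¹

theorem seqD_apply (g : ℕ → G) (n : ℕ) : seqD g n = g (n + 1) * (g n)⁻¹ := rfl

/-- `IsPolyUpTo Γ k a g`: the `j`-th difference of `g` takes values in `Γ (a + j)` for `j ≤ k`. -/
def IsPolyUpTo (Γ : ℕ → Subgroup G) : ℕ → ℕ → (ℕ → G) → Prop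
  | 0, a, g => ∀ n, g n ∈ Γ a
  | k + 1, a, g => (∀ n, g n ∈ Γ a) ∧ IsPolyUpTo Γ k (a + 1) (seqD g)

theorem isPolyUpTo_zero (Γ : ℕ → Subgroup G) (a : ℕ) (g : ℕ → G) :
    IsPolyUpTo Γ 0 a g ↔ ∀ n, g n ∈ Γ a := Iff.rfl

theorem isPolyUpTo_succ (Γ : ℕ → Subgroup G) (k a : ℕ) (g : ℕ → G) :
    IsPolyUpTo Γ (k + 1) a g ↔ (∀ n, g n ∈ Γ a) ∧ IsPolyUpTo Γ k (a + 1) (seqD g) := Iff.rfl

theorem IsPolyUpTo.values {Γ : ℕ → Subgroup G} {k a : ℕ} {g : ℕ → G} (h : IsPolyUpTo Γ k a g) :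
    ∀ n, g n ∈ Γ a := by
  cases k with
  | zero => exact h
  | succ k => exact h.1

theorem IsPolyUpTo.mono_a {Γ : ℕ → Subgroup G} (hΓ : Antitone Γ) :
    ∀ (k a a' : ℕ) (g : ℕ → G), a' ≤ a → IsPolyUpTo Γ k a g → IsPolyUpTo Γ k a' g := by
  intro k
  induction k with
  | zero => intro a a' g h hg n; exact hΓ h (hg n)
  | succ k ih =>
    intro a a' g h hg
    exact ⟨fun n => hΓ h (hg.1 n), ih (a + 1) (a' + 1) _ (by omega) hg.2⟩

theorem IsPolyUpTo.mono_k {Γ : ℕ → Subgroup G} :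
    ∀ (k a : ℕ) (g : ℕ → G), IsPolyUpTo Γ (k + 1) a g → IsPolyUpTo Γ k a g := by
  intro k
  induction k with
  | zero => intro a g h; exact h.1
  | succ k ih => intro a g h; exact ⟨h.1, ih (a + 1) (seqD g) h.2⟩

theorem IsPolyUpTo.shift {Γ : ℕ → Subgroup G} :
    ∀ (k a : ℕ) (g : ℕ → G), IsPolyUpTo Γ k a g → IsPolyUpTo Γ k a (fun n => g (n + 1)) := by
  intro k
  induction k with
  | zero => intro a g h n; exact h (n + 1)
  | succ k ih =>
    intro a g h
    refine ⟨fun n => h.1 (n + 1), ?_⟩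
    exact ih (a + 1) (seqD g) h.2

theorem isPolyUpTo_one (Γ : ℕ → Subgroup G) : ∀ (k a : ℕ), IsPolyUpTo Γ k a (fun _ => (1 : G)) := by
  intro k
  induction k with
  | zero => intro a n; exact one_mem _
  | succ k ih =>
    intro a
    refine ⟨fun n => one_mem _, ?_⟩
    have : seqD (fun _ : ℕ => (1 : G)) = fun _ => 1 := by
      funext n; simp [seqD]
    rw [this]
    exact ih (a + 1)

/-- The classes of filtered polynomial sequences are closed under products, inverses and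
commutators (Lazard–Leibman), for a filtration with `⁅Γ a, Γ b⁆ ≤ Γ (a + b)`. -/
theorem isPolyUpTo_closed {Γ : ℕ → Subgroup G} (hΓ : Antitone Γ)
    (hcomm : ∀ a b, ⁅Γ a, Γ b⁆ ≤ Γ (a + b)) :
    ∀ k, (∀ (a : ℕ) (g g' : ℕ → G), IsPolyUpTo Γ k a g → IsPolyUpTo Γ k a g' →
        IsPolyUpTo Γ k a (fun n => g n * g' n)) ∧
      (∀ (a : ℕ) (g : ℕ → G), IsPolyUpTo Γ k a g → IsPolyUpTo Γ k a (fun n => (g n)⁻¹)) ∧
      (∀ (a b : ℕ) (g g' : ℕ → G), IsPolyUpTo Γ k a g → IsPolyUpTo Γ k b g' →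
        IsPolyUpTo Γ k (a + b) (fun n => ⁅g n, g' n⁆)) := by
  intro k
  induction k with
  | zero =>
    refine ⟨?_, ?_, ?_⟩
    · intro a g g' h h' n; exact mul_mem (h n) (h' n)
    · intro a g h n; exact inv_mem (h n)
    · intro a b g g' h h' n
      exact hcomm a b (Subgroup.commutator_mem_commutator (h n) (h' n))
  | succ k ih =>
    obtain ⟨ihm, ihi, ihc⟩ := ih
    have commP : ∀ {a b c : ℕ} {g g' : ℕ → G}, IsPolyUpTo Γ k a g → IsPolyUpTo Γ k b g' →
        c ≤ a + b → IsPolyUpTo Γ k c (fun n => ⁅g n, g' n⁆) :=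
      fun h h' hc => IsPolyUpTo.mono_a hΓ _ _ _ _ hc (ihc _ _ _ _ h h')
    refine ⟨?_, ?_, ?_⟩
    · intro a g g' hg hg'
      refine ⟨fun n => mul_mem (hg.1 n) (hg'.1 n), ?_⟩
      have e : seqD (fun n => g n * g' n) =
          fun n => (⁅g (n + 1), seqD g' n⁆ * seqD g' n) * seqD g n := by
        funext n
        simp only [seqD, commutatorElement_def]
        group
      rw [e]
      have hs : IsPolyUpTo Γ k a (fun n => g (n + 1)) :=
        IsPolyUpTo.shift _ _ _ (IsPolyUpTo.mono_k _ _ _ hg)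
      exact ihm _ _ _ (ihm _ _ _ (commP hs hg'.2 (by omega)) hg'.2) hg.2
    · intro a g hg
      refine ⟨fun n => inv_mem (hg.1 n), ?_⟩
      have e : seqD (fun n => (g n)⁻¹) =
          fun n => ⁅(g (n + 1))⁻¹, (seqD g n)⁻¹⁆ * (seqD g n)⁻¹ := by
        funext n
        simp only [seqD, commutatorElement_def]
        group
      rw [e]
      have hs : IsPolyUpTo Γ k a (fun n => g (n + 1)) :=
        IsPolyUpTo.shift _ _ _ (IsPolyUpTo.mono_k _ _ _ hg)
      have hsi := ihi _ _ hs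
      have hdi := ihi _ _ hg.2
      exact ihm _ _ _ (commP hsi hdi (by omega)) hdi
    · intro a b g g' hg hg'
      refine ⟨fun n => hcomm a b (Subgroup.commutator_mem_commutator (hg.1 n) (hg'.1 n)), ?_⟩
      have ha : IsPolyUpTo Γ k a g := IsPolyUpTo.mono_k _ _ _ hg
      have hb : IsPolyUpTo Γ k b g' := IsPolyUpTo.mono_k _ _ _ hg'
      have hu : IsPolyUpTo Γ k (a + 1) (seqD g) := hg.2
      have hv : IsPolyUpTo Γ k (b + 1) (seqD g') := hg'.2
      -- the pieces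
      have hT1 : IsPolyUpTo Γ k (a + b + 1) (fun n => ⁅g n, seqD g' n⁆) := commP ha hv (by omega)
      have hT1' : IsPolyUpTo Γ k (a + b + 1)
          (fun n => ⁅seqD g n, ⁅g n, seqD g' n⁆⁆ * ⁅g n, seqD g' n⁆) :=
        ihm _ _ _ (commP hu hT1 (by omega)) hT1
      have hc : IsPolyUpTo Γ k (a + b) (fun n => ⁅g n, g' n⁆) := ihc _ _ _ _ ha hb
      have huv : IsPolyUpTo Γ k 1 (fun n => seqD g n * seqD g' n) :=
        ihm _ _ _ (IsPolyUpTo.mono_a hΓ _ _ _ _ (by omega) hu)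
          (IsPolyUpTo.mono_a hΓ _ _ _ _ (by omega) hv)
      have hT2 : IsPolyUpTo Γ k (a + b + 1) (fun n => ⁅seqD g n * seqD g' n, ⁅g n, g' n⁆⁆) :=
        commP huv hc (by omega)
      have hT3 : IsPolyUpTo Γ k (a + b + 1) (fun n => ⁅seqD g n, seqD g' n⁆) :=
        commP hu hv (by omega)
      have hT4 : IsPolyUpTo Γ k (a + b + 1) (fun n => ⁅seqD g n, g' n⁆) := commP hu hb (by omega)
      have hT4' : IsPolyUpTo Γ k (a + b + 1)
          (fun n => ⁅seqD g' n, ⁅seqD g n, g' n⁆⁆ * ⁅seqD g n, g' n⁆) :=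
        ihm _ _ _ (commP hv hT4 (by omega)) hT4
      have hT5 := ihm _ _ _ hT3 hT4'
      have hT5' := ihm _ _ _ (commP hc hT5 (by omega : a + b + 1 ≤ (a + b) + (a + b + 1))) hT5
      have e : seqD (fun n => ⁅g n, g' n⁆) = fun n =>
          (⁅seqD g n, ⁅g n, seqD g' n⁆⁆ * ⁅g n, seqD g' n⁆) *
            ⁅seqD g n * seqD g' n, ⁅g n, g' n⁆⁆ *
            (⁅⁅g n, g' n⁆, ⁅seqD g n, seqD g' n⁆ *
                (⁅seqD g' n, ⁅seqD g n, g' n⁆⁆ * ⁅seqD g n, g' n⁆)⁆ *
              (⁅seqD g n, seqD g' n⁆ * (⁅seqD g' n, ⁅seqD g n, g' n⁆⁆ * ⁅seqD g n, g' n⁆))) := by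
        funext n
        simp only [seqD, commutatorElement_def]
        group
      rw [e]
      exact ihm _ _ _ (ihm _ _ _ hT1' hT2) hT5'

/-- polynomial sequences of all orders -/
def IsPoly (Γ : ℕ → Subgroup G) (a : ℕ) (g : ℕ → G) : Prop := ∀ k, IsPolyUpTo Γ k a g

theorem IsPoly.mul {Γ : ℕ → Subgroup G} (hΓ : Antitone Γ)
    (hcomm : ∀ a b, ⁅Γ a, Γ b⁆ ≤ Γ (a + b)) {a : ℕ} {g g' : ℕ → G}
    (h : IsPoly Γ a g) (h' : IsPoly Γ a g') : IsPoly Γ a (fun n => g n * g' n) :=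
  fun k => (isPolyUpTo_closed hΓ hcomm k).1 a g g' (h k) (h' k)

theorem IsPoly.inv {Γ : ℕ → Subgroup G} (hΓ : Antitone Γ)
    (hcomm : ∀ a b, ⁅Γ a, Γ b⁆ ≤ Γ (a + b)) {a : ℕ} {g : ℕ → G}
    (h : IsPoly Γ a g) : IsPoly Γ a (fun n => (g n)⁻¹) :=
  fun k => (isPolyUpTo_closed hΓ hcomm k).2.1 a g (h k)

theorem IsPoly.diff {Γ : ℕ → Subgroup G} {a : ℕ} {g : ℕ → G} (h : IsPoly Γ a g) :
    IsPoly Γ (a + 1) (seqD g) := fun k => (h (k + 1)).2

/-- binomial sequences `n ↦ t ^ (n choose k)` are polynomial -/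
theorem isPolyUpTo_binom {Γ : ℕ → Subgroup G} (hΓ : Antitone Γ) :
    ∀ (K a k m : ℕ) (t : G), t ∈ Γ m → a + k ≤ m →
      IsPolyUpTo Γ K a (fun n => t ^ (n.choose k)) := by
  intro K
  induction K with
  | zero =>
    intro a k m t ht h n
    exact hΓ (by omega : a ≤ m) (pow_mem ht _)
  | succ K ih =>
    intro a k m t ht h
    refine ⟨fun n => hΓ (by omega : a ≤ m) (pow_mem ht _), ?_⟩
    cases k with
    | zero =>
      have : seqD (fun n : ℕ => t ^ (n.choose 0)) = fun _ => 1 := by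
        funext n; simp [seqD]
      rw [this]
      exact isPolyUpTo_one Γ K (a + 1)
    | succ k =>
      have : seqD (fun n : ℕ => t ^ (n.choose (k + 1))) = fun n => t ^ (n.choose k) := by
        funext n
        simp only [seqD]
        rw [Nat.choose_succ_succ, pow_add, mul_inv_cancel_right]
      rw [this]
      exact ih (a + 1) k m t ht (by omega)

theorem isPoly_binom {Γ : ℕ → Subgroup G} (hΓ : Antitone Γ) (a k m : ℕ) (t : G)
    (ht : t ∈ Γ m) (h : a + k ≤ m) : IsPoly Γ a (fun n => t ^ (n.choose k)) :=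
  fun K => isPolyUpTo_binom hΓ K a k m t ht h

theorem isPoly_pow {Γ : ℕ → Subgroup G} (hΓ : Antitone Γ) (x : G) (hx : x ∈ Γ 1) :
    IsPoly Γ 0 (fun n => x ^ n) := by
  have := isPoly_binom hΓ 0 1 1 x hx (by omega)
  simpa using this

/-- a polynomial sequence vanishing at `0, …, k-1` has `g k ∈ Γ (a + k)` -/
theorem IsPolyUpTo.vanish {Γ : ℕ → Subgroup G} :
    ∀ (k a : ℕ) (g : ℕ → G), IsPolyUpTo Γ k a g → (∀ m < k, g m = 1) → g k ∈ Γ (a + k) := by
  intro k
  induction k with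
  | zero => intro a g h _; exact h 0
  | succ k ih =>
    intro a g h hv
    have h1 : ∀ m < k, seqD g m = 1 := by
      intro m hm
      rw [seqD_apply, hv m (by omega), hv (m + 1) (by omega), inv_one, mul_one]
    have h2 := ih (a + 1) (seqD g) h.2 h1
    rw [seqD_apply, hv k (by omega), inv_one, mul_one] at h2
    have e : a + 1 + k = a + (k + 1) := by omega
    rwa [e] at h2

/-- rigidity: a polynomial sequence with enough zeros is trivial -/
theorem IsPoly.eq_one_of_vanish {Γ : ℕ → Subgroup G} :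
    ∀ (k0 a : ℕ) (g : ℕ → G), IsPoly Γ a g → Γ (a + k0) = ⊥ → (∀ m < k0, g m = 1) →
      ∀ n, g n = 1 := by
  intro k0
  induction k0 with
  | zero =>
    intro a g h hbot _ n
    have := (h 0) n
    rw [Nat.add_zero] at hbot
    rwa [hbot, Subgroup.mem_bot] at this
  | succ k0 ih =>
    intro a g h hbot hv
    have h1 : ∀ m < k0, seqD g m = 1 := by
      intro m hm
      rw [seqD_apply, hv m (by omega), hv (m + 1) (by omega), inv_one, mul_one]
    have e : a + 1 + k0 = a + (k0 + 1) := by omega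
    have h2 := ih (a + 1) (seqD g) h.diff (by rw [e]; exact hbot) h1
    intro n
    induction n with
    | zero => exact hv 0 (by omega)
    | succ n ihn =>
      have := h2 n
      rw [seqD_apply, ihn, inv_one, mul_one] at this
      exact this

/-- Taylor expansion (weak form): a polynomial sequence vanishing at `0, …, k-1` takes values in
the subgroup generated by the `t ^ (n choose j)`, `t ∈ Γ j`, `k ≤ j ≤ c`. -/
theorem IsPoly.taylor_mem {Γ : ℕ → Subgroup G} (hΓ : Antitone Γ)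
    (hcomm : ∀ a b, ⁅Γ a, Γ b⁆ ≤ Γ (a + b)) (c : ℕ) (hc : Γ (c + 1) = ⊥) :
    ∀ (d k : ℕ), k + d = c + 1 → ∀ g : ℕ → G, IsPoly Γ 0 g → (∀ m < k, g m = 1) →
      ∀ n, g n ∈ Subgroup.closure
        {z : G | ∃ j t, k ≤ j ∧ j ≤ c ∧ t ∈ Γ j ∧ z = t ^ (n.choose j)} := by
  intro d
  induction d with
  | zero =>
    intro k hk g hg hv n
    have h0 : Γ (0 + k) = ⊥ := by
      have : 0 + k = c + 1 := by omega
      rw [this]; exact hc
    rw [IsPoly.eq_one_of_vanish k 0 g hg h0 hv n]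
    exact one_mem _
  | succ d ih =>
    intro k hk g hg hv n
    have ht : g k ∈ Γ k := by
      have := IsPolyUpTo.vanish k 0 g (hg k) hv
      rwa [Nat.zero_add] at this
    have hb : IsPoly Γ 0 (fun n => (g k) ^ (n.choose k)) :=
      isPoly_binom hΓ 0 k k (g k) ht (by omega)
    have hg' : IsPoly Γ 0 (fun n => g n * ((g k) ^ (n.choose k))⁻¹) :=
      hg.mul hΓ hcomm (hb.inv hΓ hcomm)
    have hv' : ∀ m < k + 1, g m * ((g k) ^ (m.choose k))⁻¹ = 1 := by
      intro m hm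
      rcases Nat.lt_succ_iff_lt_or_eq.mp hm with h1 | h1
      · rw [hv m h1, Nat.choose_eq_zero_of_lt h1, pow_zero, inv_one, mul_one]
      · rw [h1, Nat.choose_self, pow_one, mul_inv_cancel]
    have h3 := ih (k + 1) (by omega) _ hg' hv' n
    have hsub : Subgroup.closure
        {z : G | ∃ j t, k + 1 ≤ j ∧ j ≤ c ∧ t ∈ Γ j ∧ z = t ^ (n.choose j)} ≤
        Subgroup.closure {z : G | ∃ j t, k ≤ j ∧ j ≤ c ∧ t ∈ Γ j ∧ z = t ^ (n.choose j)} := by
      apply Subgroup.closure_mono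
      rintro z ⟨j, t, h1, h2, h3, h4⟩
      exact ⟨j, t, by omega, h2, h3, h4⟩
    have h4 : (g k) ^ (n.choose k) ∈ Subgroup.closure
        {z : G | ∃ j t, k ≤ j ∧ j ≤ c ∧ t ∈ Γ j ∧ z = t ^ (n.choose j)} :=
      Subgroup.subset_closure ⟨k, g k, le_refl k, by omega, ht, rfl⟩
    have h5 := mul_mem (hsub h3) h4
    rwa [inv_mul_cancel_right] at h5

/-- three subgroups lemma modulo a normal subgroup -/
theorem three_subgroups_le (N : Subgroup G) [N.Normal] (A B C : Subgroup G)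
    (h1 : ⁅⁅B, C⁆, A⁆ ≤ N) (h2 : ⁅⁅C, A⁆, B⁆ ≤ N) : ⁅⁅A, B⁆, C⁆ ≤ N := by
  have hk : ∀ X : Subgroup G, X ≤ N → X.map (QuotientGroup.mk' N) = ⊥ := by
    intro X hX
    rw [Subgroup.map_eq_bot_iff, QuotientGroup.ker_mk']
    exact hX
  have e1 : ⁅⁅B.map (QuotientGroup.mk' N), C.map (QuotientGroup.mk' N)⁆,
      A.map (QuotientGroup.mk' N)⁆ = ⊥ := by
    rw [← Subgroup.map_commutator, ← Subgroup.map_commutator]
    exact hk _ h1
  have e2 : ⁅⁅C.map (QuotientGroup.mk' N), A.map (QuotientGroup.mk' N)⁆,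
      B.map (QuotientGroup.mk' N)⁆ = ⊥ := by
    rw [← Subgroup.map_commutator, ← Subgroup.map_commutator]
    exact hk _ h2
  have e3 := Subgroup.commutator_commutator_eq_bot_of_rotate e1 e2
  rw [← Subgroup.map_commutator, ← Subgroup.map_commutator, Subgroup.map_eq_bot_iff,
    QuotientGroup.ker_mk'] at e3
  exact e3

/-- `⁅γ_{i+1}, γ_{j+1}⁆ ≤ γ_{i+j+2}` for the lower central series -/
theorem lcs_commutator_le (K : Type*) [Group K] : ∀ (j i : ℕ),
    ⁅(⊤ : Subgroup K).lowerCentralSeries i, (⊤ : Subgroup K).lowerCentralSeries j⁆ ≤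
      (⊤ : Subgroup K).lowerCentralSeries (i + j + 1) := by
  intro j
  induction j with
  | zero =>
    intro i
    exact le_of_eq rfl
  | succ j ih =>
    intro i
    rw [Subgroup.commutator_comm]
    show ⁅⁅(⊤ : Subgroup K).lowerCentralSeries j, (⊤ : Subgroup K)⁆,
      (⊤ : Subgroup K).lowerCentralSeries i⁆ ≤ _
    haveI : ((⊤ : Subgroup K).lowerCentralSeries (i + (j + 1) + 1)).Normal :=
      Subgroup.normal_of_characteristic _
    apply three_subgroups_le
    · -- ⁅⁅⊤, lcs i⁆, lcs j⁆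
      rw [Subgroup.commutator_comm (⊤ : Subgroup K)]
      have := ih (i + 1)
      have e : i + 1 + j + 1 = i + (j + 1) + 1 := by omega
      rw [e] at this
      exact this
    · -- ⁅⁅lcs i, lcs j⁆, ⊤⁆
      have h1 := ih i
      have h2 : ⁅⁅(⊤ : Subgroup K).lowerCentralSeries i, (⊤ : Subgroup K).lowerCentralSeries j⁆,
          (⊤ : Subgroup K)⁆ ≤ ⁅(⊤ : Subgroup K).lowerCentralSeries (i + j + 1), (⊤ : Subgroup K)⁆ :=
        Subgroup.commutator_mono h1 le_rfl
      have e : i + (j + 1) + 1 = (i + j + 1) + 1 := by omega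
      rw [e]
      exact h2

/-- the lower central filtration, indexed so that `Γ 0 = Γ 1 = ⊤` and `Γ (a+1) = γ_{a+1}` -/
def lcsFilt (K : Type*) [Group K] : ℕ → Subgroup K
  | 0 => ⊤
  | a + 1 => (⊤ : Subgroup K).lowerCentralSeries a

theorem lcsFilt_zero (K : Type*) [Group K] : lcsFilt K 0 = ⊤ := rfl

theorem lcsFilt_succ (K : Type*) [Group K] (a : ℕ) :
    lcsFilt K (a + 1) = (⊤ : Subgroup K).lowerCentralSeries a := rfl

theorem lcsFilt_antitone (K : Type*) [Group K] : Antitone (lcsFilt K) := by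
  intro a b hab
  cases a with
  | zero => exact le_top
  | succ a =>
    cases b with
    | zero => omega
    | succ b =>
      exact Subgroup.lowerCentralSeries_antitone _ (by omega : a ≤ b)

theorem lcsFilt_comm (K : Type*) [Group K] (a b : ℕ) :
    ⁅lcsFilt K a, lcsFilt K b⁆ ≤ lcsFilt K (a + b) := by
  cases a with
  | zero =>
    rw [Nat.zero_add]
    cases b with
    | zero => exact le_top
    | succ b =>
      haveI : ((⊤ : Subgroup K).lowerCentralSeries b).Normal := Subgroup.normal_of_characteristic _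
      show ⁅(⊤ : Subgroup K), (⊤ : Subgroup K).lowerCentralSeries b⁆ ≤
        (⊤ : Subgroup K).lowerCentralSeries b
      exact Subgroup.commutator_le_right _ _
  | succ a =>
    cases b with
    | zero =>
      haveI : ((⊤ : Subgroup K).lowerCentralSeries a).Normal := Subgroup.normal_of_characteristic _
      show ⁅(⊤ : Subgroup K).lowerCentralSeries a, (⊤ : Subgroup K)⁆ ≤
        (⊤ : Subgroup K).lowerCentralSeries a
      exact Subgroup.commutator_le_left _ _
    | succ b =>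
      have e : a + 1 + (b + 1) = (a + b + 1) + 1 := by omega
      rw [e]
      exact lcs_commutator_le K b a

/-- **Hall–Petrescu formula** (weak form): if `γ_{c+1}(K) = 1` then
`(x y)^n = x^n y^n w` where `w` is a product of elements `t ^ (n choose j)` with `t ∈ γ_j(K)`,
`2 ≤ j ≤ c`. -/
theorem hall_petrescu (K : Type*) [Group K] (c : ℕ)
    (hc : (⊤ : Subgroup K).lowerCentralSeries c = ⊥) (x y : K) (n : ℕ) :
    (y ^ n)⁻¹ * (x ^ n)⁻¹ * (x * y) ^ n ∈ Subgroup.closure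
      {z : K | ∃ j t, 2 ≤ j ∧ j ≤ c ∧ t ∈ (⊤ : Subgroup K).lowerCentralSeries (j - 1) ∧
        z = t ^ (n.choose j)} := by
  have hΓ := lcsFilt_antitone K
  have hcomm := lcsFilt_comm K
  have hx : IsPoly (lcsFilt K) 0 (fun n => x ^ n) := isPoly_pow hΓ x (Subgroup.mem_top x)
  have hy : IsPoly (lcsFilt K) 0 (fun n => y ^ n) := isPoly_pow hΓ y (Subgroup.mem_top y)
  have hxy : IsPoly (lcsFilt K) 0 (fun n => (x * y) ^ n) :=
    isPoly_pow hΓ (x * y) (Subgroup.mem_top _)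
  have hq : IsPoly (lcsFilt K) 0 (fun n => (y ^ n)⁻¹ * (x ^ n)⁻¹ * (x * y) ^ n) :=
    ((hy.inv hΓ hcomm).mul hΓ hcomm (hx.inv hΓ hcomm)).mul hΓ hcomm hxy
  have hv : ∀ m < 2, (y ^ m)⁻¹ * (x ^ m)⁻¹ * (x * y) ^ m = 1 := by
    intro m hm
    interval_cases m
    · simp
    · simp only [pow_one]; group
  by_cases hc2 : 2 ≤ c + 1
  · have h' := IsPoly.taylor_mem hΓ hcomm c hc (c + 1 - 2) 2 (by omega) _ hq hv n
    refine Subgroup.closure_mono ?_ h'
    rintro z ⟨j, t, h1, h2, h3, h4⟩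
    refine ⟨j, t, h1, h2, ?_, h4⟩
    obtain ⟨j', rfl⟩ : ∃ j', j = j' + 1 := ⟨j - 1, by omega⟩
    exact h3
  · -- c = 0: the group is trivial
    have hc0 : c = 0 := by omega
    subst hc0
    have htriv : ∀ z : K, z = 1 := by
      intro z
      have : z ∈ (⊤ : Subgroup K).lowerCentralSeries 0 := Subgroup.mem_top z
      rwa [hc, Subgroup.mem_bot] at this
    rw [htriv ((y ^ n)⁻¹ * (x ^ n)⁻¹ * (x * y) ^ n)]
    exact one_mem _

/-- `p ^ n ∣ (p ^ n).choose j` for `0 < j < p` -/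
theorem prime_pow_dvd_choose {p : ℕ} (hp : p.Prime) (n j : ℕ) (hj0 : 0 < j) (hjp : j < p) :
    p ^ n ∣ (p ^ n).choose j := by
  obtain ⟨k, rfl⟩ : ∃ k, j = k + 1 := ⟨j - 1, by omega⟩
  have hpos : 0 < p ^ n := pow_pos hp.pos n
  obtain ⟨N, hN⟩ : ∃ N, p ^ n = N + 1 := ⟨p ^ n - 1, by omega⟩
  have h1 := Nat.add_one_mul_choose_eq N k
  have h2 : p ^ n ∣ (p ^ n).choose (k + 1) * (k + 1) := by
    rw [hN]
    exact Dvd.intro _ h1
  have hcop : Nat.Coprime (p ^ n) (k + 1) := by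
    apply Nat.Coprime.pow_left
    rw [Nat.Prime.coprime_iff_not_dvd hp]
    exact Nat.not_dvd_of_pos_of_lt (by omega) hjp
  exact hcop.dvd_of_dvd_mul_right h2

end Cfsg.Agent.Lib.Helper22
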