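import Mathlib
import Cfsg.Prelude.Def_PLocal
import Cfsg.Prelude.Def_OddOrderLocal
import Cfsg.Agent.Lib.Helper14.Metacyclic
import Cfsg.Agent.Lib.Helper14.FrattiniQuot
import Cfsg.Agent.Lib.Lead.UniqueOrderP
import Cfsg.Agent.S3872

/-! Huppert's criterion: an odd-order `p`-group with `|G : ℧₁(G)| ≤ p²` is metacyclic. -/

set_option autoImplicit false
set_option maxHeartbeats 400000
namespace Cfsg.Agent.Lib.Helper22
open Cfsg
open scoped commutatorElement

universe u

/-- If `G` is generated by `S`, the subgroup `D` is normalised by `S` and contains the commutators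
of the elements of `S`, then `G' ≤ D`. -/
theorem commutator_le_of_gens {G : Type*} [Group G] (S : Set G) (hS : Subgroup.closure S = ⊤)
    (D : Subgroup G) (hD : ∀ s ∈ S, s ∈ Subgroup.normalizer (D : Set G))
    (hc : ∀ s ∈ S, ∀ t ∈ S, ⁅s, t⁆ ∈ D) : commutator G ≤ D := by
  have hDn : D.Normal := by
    rw [← Subgroup.normalizer_eq_top_iff, eq_top_iff, ← hS, Subgroup.closure_le]
    exact hD
  rw [← Subgroup.Normal.quotient_commutative_iff_commutator_le]
  have hgen : Subgroup.closure ((QuotientGroup.mk' D) '' S) = ⊤ := by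
    rw [← MonoidHom.map_closure, hS, ← MonoidHom.range_eq_map, MonoidHom.range_eq_top]
    exact QuotientGroup.mk'_surjective D
  have hcomm : IsMulCommutative ↥(Subgroup.closure ((QuotientGroup.mk' D) '' S)) := by
    apply Subgroup.isMulCommutative_closure
    rintro _ ⟨s, hs, rfl⟩ _ ⟨t, ht, rfl⟩
    have h1 := hc s hs t ht
    have h2 : (QuotientGroup.mk' D) ⁅s, t⁆ = 1 := by
      rw [QuotientGroup.mk'_apply, QuotientGroup.eq_one_iff]
      exact h1
    rw [map_commutatorElement, commutatorElement_eq_one_iff_mul_comm] at h2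
    exact h2
  refine ⟨⟨fun a b => ?_⟩⟩
  have ha : a ∈ Subgroup.closure ((QuotientGroup.mk' D) '' S) := hgen ▸ Subgroup.mem_top a
  have hb : b ∈ Subgroup.closure ((QuotientGroup.mk' D) '' S) := hgen ▸ Subgroup.mem_top b
  exact Subgroup.mul_comm_of_mem_isMulCommutative _ ha hb


/-- a power-of-`p`-order element `c` lies in `⟨c ^ t⟩` when `p ∤ t`. -/
theorem mem_zpowers_zpow_of_not_dvd {G : Type*} [Group G] {p : ℕ} [hp : Fact p.Prime]
    (c : G) (e : ℕ) (hc : c ^ p ^ e = 1) (t : ℤ) (ht : ¬ (p : ℤ) ∣ t) :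
    c ∈ Subgroup.zpowers (c ^ t) := by
  have hcop : IsCoprime t ((p : ℤ) ^ e) := by
    apply IsCoprime.pow_right
    rw [isCoprime_comm]
    exact (Prime.coprime_iff_not_dvd (Nat.prime_iff_prime_int.mp hp.out)).mpr ht
  obtain ⟨a, b, hab⟩ := hcop
  rw [Subgroup.mem_zpowers_iff]
  refine ⟨a, ?_⟩
  have h1 : c ^ ((p : ℤ) ^ e) = 1 := by
    have : ((p : ℤ) ^ e) = ((p ^ e : ℕ) : ℤ) := by push_cast; rfl
    rw [this, zpow_natCast, hc]
  calc (c ^ t) ^ a = c ^ (a * t) := by rw [← zpow_mul, mul_comm]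
    _ = c ^ (a * t) * (c ^ ((p : ℤ) ^ e)) ^ b := by rw [h1, one_zpow, mul_one]
    _ = c ^ (a * t + b * (p : ℤ) ^ e) := by rw [← zpow_mul, ← zpow_add, mul_comm b]
    _ = c := by rw [hab, zpow_one]

/-- Lifting metacyclicity through a central subgroup of order `p` contained in `G'`. -/
theorem lift_metacyclic {G : Type u} [Group G] [Finite G] {p : ℕ} [hp : Fact p.Prime]
    (hG : IsPGroup p G) (z : G) (hzc : z ∈ Subgroup.center G) (hzp : z ^ p = 1)
    (hzG : z ∈ commutator G) [hN : (Subgroup.zpowers z).Normal]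
    (hQ : IsMetacyclic (G ⧸ Subgroup.zpowers z)) :
    IsMetacyclic G ∨ commutator G ≤ Subgroup.zpowers z := by
  classical
  obtain ⟨A', hA'n, hA'c, hQc⟩ := hQ
  obtain ⟨x', b', hpair⟩ := Helper14.exists_isMetaPair A'
  obtain ⟨x, rfl⟩ := QuotientGroup.mk_surjective x'
  obtain ⟨b, rfl⟩ := QuotientGroup.mk_surjective b'
  have hzg : ∀ g : G, Commute g z := fun g => Subgroup.mem_center_iff.mp hzc g
  have hdecomp : ∀ g : G, ∃ k j i : ℤ, g = b ^ k * x ^ j * z ^ i := by
    intro g
    obtain ⟨k, y, hy, hg⟩ := hpair.hb (g : G ⧸ Subgroup.zpowers z)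
    rw [hpair.hN] at hy
    obtain ⟨j, rfl⟩ := Subgroup.mem_zpowers_iff.mp hy
    have h1 : ((b ^ k * x ^ j)⁻¹ * g : G) ∈ Subgroup.zpowers z := by
      rw [← QuotientGroup.eq, hg]
      simp
    obtain ⟨i, hi⟩ := Subgroup.mem_zpowers_iff.mp h1
    exact ⟨k, j, i, by rw [hi]; group⟩
  have hconj : ∃ m l : ℤ, b * x * b⁻¹ = x ^ m * z ^ l := by
    have h1 : (QuotientGroup.mk b : G ⧸ Subgroup.zpowers z) * QuotientGroup.mk x *
        (QuotientGroup.mk b)⁻¹ ∈ A' :=
      hA'n.conj_mem _ (by rw [hpair.hN]; exact Subgroup.mem_zpowers _) _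
    rw [hpair.hN] at h1
    obtain ⟨m, hm⟩ := Subgroup.mem_zpowers_iff.mp h1
    have h2 : ((x ^ m)⁻¹ * (b * x * b⁻¹) : G) ∈ Subgroup.zpowers z := by
      rw [← QuotientGroup.eq]
      simpa using hm
    obtain ⟨l, hl⟩ := Subgroup.mem_zpowers_iff.mp h2
    exact ⟨m, l, by rw [hl]; group⟩
  obtain ⟨m, l, hml⟩ := hconj
  have hxz : Commute x z := hzg x
  have hbz : Commute b z := hzg b
  set c : G := ⁅x, b⁆ with hcdef
  have hc_eq : c = x ^ (1 - m) * z ^ (-l) := by
    rw [hcdef, commutatorElement_def]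
    have h1 : x * b * x⁻¹ * b⁻¹ = x * (b * x * b⁻¹)⁻¹ := by group
    rw [h1, hml, mul_inv_rev, ← zpow_neg, ← zpow_neg]
    have h2 : z ^ (-l) * x ^ (-m) = x ^ (-m) * z ^ (-l) := ((hxz.zpow_zpow (-m) (-l)).eq).symm
    rw [h2, ← mul_assoc]
    congr 1
    rw [sub_eq_add_neg, zpow_add, zpow_one]
  have hxc : Commute x c := by
    rw [hc_eq]
    exact ((Commute.refl x).zpow_right _).mul_right (hxz.zpow_right _)
  have hzcc : Commute z c := (hzg c).symm
  have hbc : b * c * b⁻¹ = c ^ m := by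
    have h1 : b * c * b⁻¹ = (b * x * b⁻¹) ^ (1 - m) * z ^ (-l) := by
      rw [hc_eq, conj_zpow]
      have : b * (x ^ (1 - m) * z ^ (-l)) * b⁻¹ = b * x ^ (1 - m) * b⁻¹ * (b * z ^ (-l) * b⁻¹) := by
        group
      rw [this]
      congr 1
      have h3 : Commute b (z ^ (-l)) := hbz.zpow_right _
      rw [h3.eq, mul_assoc, mul_inv_cancel, mul_one]
    rw [h1, hml, (hxz.zpow_zpow m l).mul_zpow, hc_eq, (hxz.zpow_zpow (1 - m) (-l)).mul_zpow,
      ← zpow_mul, ← zpow_mul, ← zpow_mul, ← zpow_mul, mul_assoc, ← zpow_add]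
    congr 2 <;> ring
  set D : Subgroup G := Subgroup.zpowers c with hDdef
  have hfix : ∀ s : G, (∃ r : ℤ, s * c * s⁻¹ = c ^ r) → s ∈ Subgroup.normalizer (D : Set G) := by
    rintro s ⟨r, hr⟩
    apply Subgroup.mem_normalizer_fintype
    intro n hn
    obtain ⟨k, rfl⟩ := Subgroup.mem_zpowers_iff.mp hn
    rw [← conj_zpow, hr, ← zpow_mul]
    exact Subgroup.zpow_mem_zpowers _ _
  have hgenS : Subgroup.closure ({b, x, z} : Set G) = ⊤ := by
    rw [eq_top_iff]
    intro g _
    obtain ⟨k, j, i, rfl⟩ := hdecomp g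
    have hb' : b ∈ Subgroup.closure ({b, x, z} : Set G) := Subgroup.subset_closure (by simp)
    have hx' : x ∈ Subgroup.closure ({b, x, z} : Set G) := Subgroup.subset_closure (by simp)
    have hz' : z ∈ Subgroup.closure ({b, x, z} : Set G) := Subgroup.subset_closure (by simp)
    exact mul_mem (mul_mem (zpow_mem hb' _) (zpow_mem hx' _)) (zpow_mem hz' _)
  have hGD : commutator G ≤ D := by
    apply commutator_le_of_gens _ hgenS
    · rintro s (rfl | rfl | rfl)
      · exact hfix _ ⟨m, hbc⟩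
      · exact hfix _ ⟨1, by rw [hxc.eq, mul_assoc, mul_inv_cancel, mul_one, zpow_one]⟩
      · exact hfix _ ⟨1, by rw [hzcc.eq, mul_assoc, mul_inv_cancel, mul_one, zpow_one]⟩
    · have h1 : ∀ g : G, ⁅g, z⁆ = 1 := fun g => by
        rw [commutatorElement_eq_one_iff_mul_comm]; exact (hzg g).eq
      have h2 : ∀ g : G, ⁅z, g⁆ = 1 := fun g => by
        rw [commutatorElement_eq_one_iff_mul_comm]; exact (hzg g).eq.symm
      have h3 : ∀ g : G, ⁅g, g⁆ = 1 := fun g => commutatorElement_self g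
      have hcD : c ∈ D := Subgroup.mem_zpowers c
      have hcD' : ⁅b, x⁆ ∈ D := by
        rw [← commutatorElement_inv]
        exact D.inv_mem hcD
      rintro s (rfl | rfl | rfl) t (rfl | rfl | rfl)
      · rw [h3]; exact D.one_mem
      · exact hcD'
      · rw [h1]; exact D.one_mem
      · exact hcD
      · rw [h3]; exact D.one_mem
      · rw [h1]; exact D.one_mem
      · rw [h2]; exact D.one_mem
      · rw [h2]; exact D.one_mem
      · rw [h3]; exact D.one_mem
  obtain ⟨t, ht⟩ := Subgroup.mem_zpowers_iff.mp (hGD hzG)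
  by_cases hpt : (p : ℤ) ∣ t
  · -- `z ∈ ⟨x⟩`
    left
    obtain ⟨t', rfl⟩ := hpt
    have hcp : c ^ (p : ℤ) = x ^ ((1 - m) * p) := by
      rw [hc_eq, (hxz.zpow_zpow (1 - m) (-l)).mul_zpow, ← zpow_mul, ← zpow_mul]
      have : z ^ (-l * (p : ℤ)) = 1 := by
        rw [mul_comm, zpow_mul, zpow_natCast, hzp, one_zpow]
      rw [this, mul_one]
    have hzx : z ∈ Subgroup.zpowers x := by
      rw [← ht, zpow_mul, hcp, ← zpow_mul]
      exact Subgroup.zpow_mem_zpowers _ _
    have hnorm : (Subgroup.zpowers x).Normal := by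
      rw [← Subgroup.normalizer_eq_top_iff, eq_top_iff, ← hgenS, Subgroup.closure_le]
      have hfix' : ∀ s : G, s * x * s⁻¹ ∈ Subgroup.zpowers x →
          s ∈ Subgroup.normalizer ((Subgroup.zpowers x : Subgroup G) : Set G) := by
        intro s hs
        apply Subgroup.mem_normalizer_fintype
        intro n hn
        obtain ⟨k, rfl⟩ := Subgroup.mem_zpowers_iff.mp hn
        rw [← conj_zpow]
        exact zpow_mem hs _
      rintro s (rfl | rfl | rfl)
      · apply hfix'
        rw [hml]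
        exact mul_mem (Subgroup.zpow_mem_zpowers _ _) (zpow_mem hzx _)
      · apply hfix'
        rw [mul_assoc, mul_inv_cancel, mul_one]
        exact Subgroup.mem_zpowers _
      · apply hfix'
        rw [(hzg x).eq.symm, mul_assoc, mul_inv_cancel, mul_one]
        exact Subgroup.mem_zpowers _
    refine ⟨Subgroup.zpowers x, hnorm, inferInstance, ?_⟩
    refine ⟨⟨(QuotientGroup.mk b : G ⧸ Subgroup.zpowers x), fun q => ?_⟩⟩
    induction q using QuotientGroup.induction_on with
    | H g =>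
    obtain ⟨k, j, i, rfl⟩ := hdecomp g
    refine ⟨k, ?_⟩
    show (QuotientGroup.mk b : G ⧸ Subgroup.zpowers x) ^ k = _
    rw [← QuotientGroup.mk_zpow, QuotientGroup.eq]
    have : (b ^ k)⁻¹ * (b ^ k * x ^ j * z ^ i) = x ^ j * z ^ i := by group
    rw [this]
    exact mul_mem (Subgroup.zpow_mem_zpowers _ _) (zpow_mem hzx _)
  · right
    obtain ⟨e, he⟩ := hG c
    have hcz : c ∈ Subgroup.zpowers z := by
      rw [← ht]
      exact mem_zpowers_zpow_of_not_dvd c e he t hpt
    refine hGD.trans ?_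
    rw [hDdef, Subgroup.zpowers_le]
    exact hcz


theorem subsingleton_of_bot_eq_top' {G : Type*} [Group G] (h : (⊥ : Subgroup G) = ⊤) :
    Subsingleton G := by
  refine ⟨fun a b => ?_⟩
  have ha : a ∈ (⊥ : Subgroup G) := h ▸ Subgroup.mem_top a
  have hb : b ∈ (⊥ : Subgroup G) := h ▸ Subgroup.mem_top b
  rw [Subgroup.mem_bot] at ha hb
  rw [ha, hb]

theorem isMetacyclic_of_subsingleton (G : Type u) [Group G] [Subsingleton G] : IsMetacyclic G := by
  refine ⟨⊥, inferInstance, inferInstance, ?_⟩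
  haveI : Subsingleton (G ⧸ (⊥ : Subgroup G)) :=
    (QuotientGroup.mk_surjective (s := (⊥ : Subgroup G))).subsingleton
  infer_instance

/-- The class-two case of Huppert's criterion. -/
theorem metacyclic_of_class_two {G : Type u} [Group G] [Finite G] {p : ℕ} [hp : Fact p.Prime]
    (hp2 : p ≠ 2) (hG : IsPGroup p G) (z : G) (hzc : z ∈ Subgroup.center G) (hzp : z ^ p = 1)
    (hGz : commutator G ≤ Subgroup.zpowers z)
    (hidx : (powerClosure p 1 (⊤ : Subgroup G)).index ≤ p ^ 2) : IsMetacyclic G := by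
  classical
  have hzg : ∀ g : G, Commute g z := fun g => Subgroup.mem_center_iff.mp hzc g
  have hcm : ∀ X Y : G, ⁅Y, X⁆ ∈ Subgroup.zpowers z := fun X Y =>
    hGz (Subgroup.commutator_mem_commutator (Subgroup.mem_top Y) (Subgroup.mem_top X))
  have hmul : ∀ X Y : G, (X * Y) ^ p = X ^ p * Y ^ p := by
    intro X Y
    obtain ⟨k, hk⟩ := Subgroup.mem_zpowers_iff.mp (hcm X Y)
    apply Helper14.mul_pow_prime_of_central_commutator hp2 X Y
    · intro g
      rw [← hk]
      exact ((hzg g).zpow_right k).eq.symm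
    · rw [← hk, ← zpow_natCast, ← zpow_mul, mul_comm, zpow_mul, zpow_natCast, hzp, one_zpow]
  let φ : G →* G := { toFun := fun x => x ^ p, map_one' := one_pow p, map_mul' := hmul }
  set P : Subgroup G := φ.range with hPdef
  have hPmem : ∀ g, g ∈ P ↔ ∃ x, x ^ p = g := fun g => MonoidHom.mem_range
  have hPeq : powerClosure p 1 (⊤ : Subgroup G) = P := by
    unfold powerClosure
    apply le_antisymm
    · rw [Subgroup.closure_le]
      rintro y ⟨x, -, rfl⟩
      rw [pow_one]
      exact (hPmem _).mpr ⟨x, rfl⟩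
    · rintro y hy
      obtain ⟨x, rfl⟩ := (hPmem _).mp hy
      exact Subgroup.subset_closure ⟨x, Subgroup.mem_top x, by rw [pow_one]⟩
  rw [hPeq] at hidx
  have hPfr : P ≤ frattini G := by
    intro y hy
    obtain ⟨x, rfl⟩ := (hPmem _).mp hy
    exact Helper14.pow_mem_frattini_of_isPGroup' hG x
  have hkey : (∃ c : G, c ∉ P ∧ z ∈ Subgroup.zpowers c) ∨ Subsingleton G := by
    by_cases hz1 : z = 1
    · by_cases hPtop : P = ⊤
      · right
        have h1 : (⊥ : Subgroup G) ⊔ frattini G = ⊤ := by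
          rw [bot_sup_eq, eq_top_iff, ← hPtop]; exact hPfr
        exact subsingleton_of_bot_eq_top' (frattini_nongenerating h1)
      · left
        obtain ⟨c, -, hc⟩ := SetLike.exists_of_lt (lt_top_iff_ne_top.mpr hPtop)
        exact ⟨c, hc, by rw [hz1]; exact Subgroup.one_mem _⟩
    · left
      obtain ⟨k₀, hk₀⟩ := IsPGroup.iff_card.mp hG
      have hQ0 : ∃ k, ¬ ∃ c : G, c ^ p ^ k = z := by
        refine ⟨k₀, ?_⟩
        rintro ⟨c, hc⟩
        apply hz1
        rw [← hc, ← hk₀, pow_card_eq_one']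
      have hk1 := Nat.find_spec hQ0
      have hkmin : ∀ k, k < Nat.find hQ0 → ∃ c : G, c ^ p ^ k = z := fun k hk => by
        have := Nat.find_min hQ0 hk
        push Not at this
        exact this
      have hk1pos : Nat.find hQ0 ≠ 0 := by
        intro h
        apply hk1
        rw [h]
        exact ⟨z, by rw [pow_zero, pow_one]⟩
      obtain ⟨k, hk⟩ := Nat.exists_eq_succ_of_ne_zero hk1pos
      obtain ⟨c, hc⟩ := hkmin k (by omega)
      refine ⟨c, ?_, ?_⟩
      · intro hcP
        obtain ⟨d, rfl⟩ := (hPmem _).mp hcP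
        apply hk1
        rw [hk]
        exact ⟨d, by rw [← hc, ← pow_mul, Nat.succ_eq_add_one, pow_succ']⟩
      · rw [← hc]; exact Subgroup.npow_mem_zpowers c _
  rcases hkey with ⟨c, hcP, hzc'⟩ | hsub
  swap
  · exact isMetacyclic_of_subsingleton G
  set C : Subgroup G := Subgroup.zpowers c with hCdef
  have hGC : commutator G ≤ C := hGz.trans (by rw [Subgroup.zpowers_le]; exact hzc')
  have hCn : C.Normal := by
    refine ⟨fun n hn g => ?_⟩
    have h1 : g * n * g⁻¹ = ⁅g, n⁆ * n := by rw [commutatorElement_def]; group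
    rw [h1]
    exact C.mul_mem
      (hGC (Subgroup.commutator_mem_commutator (Subgroup.mem_top g) (Subgroup.mem_top n))) hn
  have hd : ∃ d : G, P ⊔ C ⊔ Subgroup.zpowers d = ⊤ := by
    by_cases hPC : P ⊔ C = ⊤
    · exact ⟨1, by rw [hPC, top_sup_eq]⟩
    · obtain ⟨d, -, hd⟩ := SetLike.exists_of_lt (lt_top_iff_ne_top.mpr hPC)
      refine ⟨d, ?_⟩
      have hlt1 : P < P ⊔ C := by
        apply lt_of_le_of_ne le_sup_left
        intro h
        apply hcP
        rw [h]
        exact (le_sup_right : C ≤ P ⊔ C) (Subgroup.mem_zpowers c)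
      have hlt2 : P ⊔ C < P ⊔ C ⊔ Subgroup.zpowers d := by
        apply lt_of_le_of_ne le_sup_left
        intro h
        apply hd
        rw [h]
        exact (le_sup_right : Subgroup.zpowers d ≤ _) (Subgroup.mem_zpowers d)
      have h1 := Cfsg.Agent.S3872.card_mul_le_of_lt hp.out hG _ _ hlt1
      have h2 := Cfsg.Agent.S3872.card_mul_le_of_lt hp.out hG _ _ hlt2
      have h3 := Subgroup.card_mul_index P
      apply Subgroup.eq_top_of_card_eq
      apply le_antisymm (Subgroup.card_le_card_group _)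
      calc Nat.card G = Nat.card P * P.index := h3.symm
        _ ≤ Nat.card P * p ^ 2 := Nat.mul_le_mul_left _ hidx
        _ = p * (p * Nat.card P) := by ring
        _ ≤ p * Nat.card ↥(P ⊔ C) := Nat.mul_le_mul_left _ h1
        _ ≤ _ := h2
  obtain ⟨d, hd⟩ := hd
  have hH : C ⊔ Subgroup.zpowers d = ⊤ := by
    apply frattini_nongenerating
    rw [eq_top_iff, ← hd]
    exact sup_le (sup_le (hPfr.trans le_sup_right) (le_sup_left.trans le_sup_left))
      (le_sup_right.trans le_sup_left)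
  refine ⟨C, hCn, inferInstance, ?_⟩
  refine ⟨⟨(QuotientGroup.mk d : G ⧸ C), fun q => ?_⟩⟩
  induction q using QuotientGroup.induction_on with
  | H g =>
  have hg : g ∈ ((C ⊔ Subgroup.zpowers d : Subgroup G) : Set G) := by
    rw [hH]; exact Set.mem_univ g
  rw [Subgroup.normal_mul] at hg
  obtain ⟨c', hc', e, he, rfl⟩ := Set.mem_mul.mp hg
  obtain ⟨k, rfl⟩ := Subgroup.mem_zpowers_iff.mp he
  refine ⟨k, ?_⟩
  show (QuotientGroup.mk d : G ⧸ C) ^ k = QuotientGroup.mk (c' * d ^ k)
  rw [QuotientGroup.mk_mul, (QuotientGroup.eq_one_iff c').mpr hc', one_mul, QuotientGroup.mk_zpow]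


/-- **Huppert's criterion** (agemo form): an odd-order `p`-group `G` with `|G : ℧₁(G)| ≤ p²` is
metacyclic. -/
theorem metacyclic_of_index_agemo {p : ℕ} [hp : Fact p.Prime] (hp2 : p ≠ 2) :
    ∀ n : ℕ, ∀ (G : Type u) [Group G] [Finite G], Nat.card G = n → IsPGroup p G →
      (powerClosure p 1 (⊤ : Subgroup G)).index ≤ p ^ 2 → IsMetacyclic G := by
  intro n
  induction n using Nat.strong_induction_on with
  | _ n ih =>
  intro G _ _ hcard hG hidx
  classical
  by_cases hab : commutator G = ⊥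
  · apply metacyclic_of_class_two hp2 hG 1 (Subgroup.one_mem _) (one_pow p) _ hidx
    rw [hab]; exact bot_le
  obtain ⟨z₀, hz₀N, hz₀1, hz₀c⟩ := Lead.UniqueOrderP.exists_central_of_normal hG (commutator G) hab
  obtain ⟨z, hzN, hz1, hzc, hzp⟩ :
      ∃ z ∈ commutator G, z ≠ 1 ∧ z ∈ Subgroup.center G ∧ z ^ p = 1 := by
    have hex : ∃ k, z₀ ^ p ^ k = 1 := hG z₀
    have hk1 := Nat.find_spec hex
    have hkpos : Nat.find hex ≠ 0 := by
      intro h
      rw [h, pow_zero, pow_one] at hk1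
      exact hz₀1 hk1
    obtain ⟨k, hk⟩ := Nat.exists_eq_succ_of_ne_zero hkpos
    refine ⟨z₀ ^ p ^ k, pow_mem hz₀N _, ?_, pow_mem hz₀c _, ?_⟩
    · exact Nat.find_min hex (by omega)
    · rw [← pow_mul, ← pow_succ, ← Nat.succ_eq_add_one, ← hk]; exact hk1
  haveI hNn : (Subgroup.zpowers z).Normal := by
    refine ⟨fun n hn g => ?_⟩
    obtain ⟨k, rfl⟩ := Subgroup.mem_zpowers_iff.mp hn
    have h0 : Commute g z := Subgroup.mem_center_iff.mp hzc g
    have : Commute g (z ^ k) := h0.zpow_right k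
    rw [this.eq, mul_assoc, mul_inv_cancel, mul_one]
    exact Subgroup.zpow_mem_zpowers _ _
  have hQ : IsMetacyclic (G ⧸ Subgroup.zpowers z) := by
    have hlt : Nat.card (G ⧸ Subgroup.zpowers z) < n := by
      rw [← hcard, Subgroup.card_eq_card_quotient_mul_card_subgroup (Subgroup.zpowers z)]
      have h2 : 1 < Nat.card (Subgroup.zpowers z) := by
        rw [Subgroup.one_lt_card_iff_ne_bot]
        exact Subgroup.zpowers_ne_bot.mpr hz1
      exact lt_mul_of_one_lt_right Nat.card_pos h2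
    have hQidx : (powerClosure p 1 (⊤ : Subgroup (G ⧸ Subgroup.zpowers z))).index ≤ p ^ 2 := by
      have h1 := Helper14.powerClosure_map (QuotientGroup.mk' (Subgroup.zpowers z)) p 1
        (⊤ : Subgroup G)
      rw [← MonoidHom.range_eq_map,
        MonoidHom.range_eq_top.mpr (QuotientGroup.mk'_surjective _)] at h1
      rw [h1]
      have h2 := Subgroup.index_map_dvd (powerClosure p 1 (⊤ : Subgroup G))
        (QuotientGroup.mk'_surjective (Subgroup.zpowers z))
      exact (Nat.le_of_dvd (Nat.pos_of_ne_zero Subgroup.index_ne_zero_of_finite) h2).trans hidx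
    exact ih _ hlt _ rfl (hG.to_quotient _) hQidx
  rcases lift_metacyclic hG z hzc hzp hzN hQ with h | h
  · exact h
  · exact metacyclic_of_class_two hp2 hG z hzc hzp h hidx

end Cfsg.Agent.Lib.Helper22
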