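import Mathlib
import Cfsg.Prelude.Def_PLocal
import Cfsg.Prelude.Def_OddOrderLocal
import Cfsg.Agent.Lib.Helper22.HuppertMeta
import Cfsg.Agent.Lib.Helper14.RegularMore
import Cfsg.Agent.S0128
import Cfsg.Agent.S4209

/-! Huppert's criterion, `Ω₁` form: for `p > 3`, a `p`-group with `|Ω₁(R)| ≤ p²` is metacyclic. -/

set_option autoImplicit false
set_option maxHeartbeats 400000
namespace Cfsg.Agent.Lib.Helper22
open Cfsg
open scoped commutatorElement

universe u

theorem card_le_sq_of_metacyclic_exp {Q : Type*} [Group Q] [Finite Q] {p : ℕ} [hp : Fact p.Prime]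
    (hmc : IsMetacyclic Q) (hexp : ∀ x : Q, x ^ p = 1) : Nat.card Q ≤ p ^ 2 := by
  obtain ⟨N, hN, hNc, hQc⟩ := hmc
  have h1 : Nat.card N ≤ p := by
    obtain ⟨g, hg⟩ := hNc.exists_generator
    rw [← orderOf_eq_card_of_forall_mem_zpowers hg]
    apply Nat.le_of_dvd hp.out.pos
    apply orderOf_dvd_of_pow_eq_one
    exact Subtype.ext (by simpa using hexp g.1)
  have h2 : Nat.card (Q ⧸ N) ≤ p := by
    obtain ⟨g, hg⟩ := hQc.exists_generator
    rw [← orderOf_eq_card_of_forall_mem_zpowers hg]
    apply Nat.le_of_dvd hp.out.pos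
    apply orderOf_dvd_of_pow_eq_one
    induction g using QuotientGroup.induction_on with
    | H g => rw [← QuotientGroup.mk_pow, hexp, QuotientGroup.mk_one]
  rw [Subgroup.card_eq_card_quotient_mul_card_subgroup N, pow_two]
  exact Nat.mul_le_mul h2 h1

theorem card_omegaOne_subgroup_le {R : Type*} [Group R] [Finite R] (p : ℕ) (M : Subgroup R) :
    Nat.card ↥(omegaOne p (⊤ : Subgroup ↥M)) ≤ Nat.card ↥(omegaOne p (⊤ : Subgroup R)) := by
  have h1 : (omegaOne p (⊤ : Subgroup ↥M)).map M.subtype ≤ omegaOne p (⊤ : Subgroup R) := by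
    unfold omegaOne
    rw [MonoidHom.map_closure, Subgroup.closure_le]
    rintro _ ⟨x, ⟨-, hx⟩, rfl⟩
    apply Subgroup.subset_closure
    refine ⟨Subgroup.mem_top _, ?_⟩
    have := congrArg (fun w : ↥M => (w : R)) hx
    simpa using this
  have h2 := Subgroup.card_le_of_le h1
  rwa [Subgroup.card_map_of_injective M.subtype_injective] at h2

/-- a nontrivial normal subgroup of a `p`-group contains a central element of order `p`. -/
theorem exists_central_order_p {G : Type*} [Group G] [Finite G] {p : ℕ} [hp : Fact p.Prime]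
    (hG : IsPGroup p G) (N : Subgroup G) [N.Normal] (hne : N ≠ ⊥) :
    ∃ z ∈ N, z ≠ 1 ∧ z ∈ Subgroup.center G ∧ z ^ p = 1 := by
  classical
  obtain ⟨z₀, hz₀N, hz₀1, hz₀c⟩ := Lead.UniqueOrderP.exists_central_of_normal hG N hne
  have hex : ∃ k, z₀ ^ p ^ k = 1 := hG z₀
  have hk1 := Nat.find_spec hex
  have hkpos : Nat.find hex ≠ 0 := by
    intro h
    rw [h, pow_zero, pow_one] at hk1
    exact hz₀1 hk1
  obtain ⟨k, hk⟩ := Nat.exists_eq_succ_of_ne_zero hkpos
  refine ⟨z₀ ^ p ^ k, pow_mem hz₀N _, ?_, pow_mem hz₀c _, ?_⟩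
  · exact Nat.find_min hex (by omega)
  · rw [← pow_mul, ← pow_succ, ← Nat.succ_eq_add_one, ← hk]; exact hk1

/-- a nontrivial normal subgroup `T` of a `p`-group `R` has a subgroup of index `p` normal in `R`. -/
theorem exists_normal_lt_index_p {R : Type u} [Group R] [Finite R] {p : ℕ} [hp : Fact p.Prime]
    (hR : IsPGroup p R) (T : Subgroup R) [hTn : T.Normal] (hT : T ≠ ⊥) :
    ∃ U : Subgroup R, U.Normal ∧ U ≤ T ∧ Nat.card T = p * Nat.card U := by
  classical
  let 𝒮 : Set (Subgroup R) := {V | V.Normal ∧ V < T}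
  have hfin : 𝒮.Finite := Set.toFinite 𝒮
  have hne : 𝒮.Nonempty := ⟨⊥, inferInstance, bot_lt_iff_ne_bot.mpr hT⟩
  obtain ⟨U, ⟨hUn, hUT⟩, hUmax⟩ := Set.exists_max_image 𝒮 (fun V => Nat.card V) hfin hne
  haveI := hUn
  refine ⟨U, hUn, hUT.le, ?_⟩
  set f := QuotientGroup.mk' U with hf
  have hfs : Function.Surjective f := QuotientGroup.mk'_surjective U
  have hT'ne : T.map f ≠ ⊥ := by
    intro h
    obtain ⟨t, htT, htU⟩ := SetLike.exists_of_lt hUT
    apply htU
    have h1 : f t ∈ T.map f := Subgroup.mem_map_of_mem f htT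
    rw [h, Subgroup.mem_bot] at h1
    exact (QuotientGroup.eq_one_iff t).mp h1
  haveI hT'n : (T.map f).Normal := Subgroup.Normal.map hTn f hfs
  obtain ⟨z, hzT, hz1, hzc, hzp⟩ := exists_central_order_p (hR.to_quotient U) (T.map f) hT'ne
  have hKn : (Subgroup.zpowers z).Normal := by
    refine ⟨fun n hn g => ?_⟩
    obtain ⟨k, rfl⟩ := Subgroup.mem_zpowers_iff.mp hn
    have h0 : Commute g z := Subgroup.mem_center_iff.mp hzc g
    have : Commute g (z ^ k) := h0.zpow_right k
    rw [this.eq, mul_assoc, mul_inv_cancel, mul_one]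
    exact Subgroup.zpow_mem_zpowers _ _
  set V : Subgroup R := (Subgroup.zpowers z).comap f with hV
  have hVn : V.Normal := hKn.comap f
  have hUV : U ≤ V := by
    intro u hu
    rw [hV, Subgroup.mem_comap]
    have : f u = 1 := (QuotientGroup.eq_one_iff u).mpr hu
    rw [this]
    exact Subgroup.one_mem _
  have hVT : V ≤ T := by
    intro v hv
    rw [hV, Subgroup.mem_comap] at hv
    have h1 : f v ∈ T.map f := (Subgroup.zpowers_le.mpr hzT) hv
    obtain ⟨t, ht, htv⟩ := h1
    have h2 : t⁻¹ * v ∈ U := QuotientGroup.eq.mp htv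
    have h3 : v = t * (t⁻¹ * v) := by group
    rw [h3]
    exact T.mul_mem ht (hUT.le h2)
  have hKcard : Nat.card (Subgroup.zpowers z) = p := by
    rw [Nat.card_zpowers]
    exact orderOf_eq_prime hzp hz1
  -- `|V| = p |U|`
  have hVcard : Nat.card V = p * Nat.card U := by
    have h1 : V.index = (Subgroup.zpowers z).index := Subgroup.index_comap_of_surjective _ hfs
    have h2 := Subgroup.card_mul_index V
    have h3 := Subgroup.card_mul_index (Subgroup.zpowers z)
    have h4 := Subgroup.card_eq_card_quotient_mul_card_subgroup U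
    have hpos : 0 < (Subgroup.zpowers z).index :=
      Nat.pos_of_ne_zero Subgroup.index_ne_zero_of_finite
    apply Nat.eq_of_mul_eq_mul_right hpos
    rw [← h1, h2, h4, ← h3, hKcard, h1]
    ring
  have hVeq : V = T := by
    by_contra hne'
    have hlt : V < T := lt_of_le_of_ne hVT hne'
    have := hUmax V ⟨hVn, hlt⟩
    rw [hVcard] at this
    have hUpos : 0 < Nat.card U := Nat.card_pos
    have := hp.out.two_le
    nlinarith
  rw [← hVeq, hVcard]


/-- **Huppert's criterion**: for `p > 3`, a `p`-group with `|Ω₁(R)| ≤ p²` is metacyclic. -/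
theorem metacyclic_of_card_omega_le {p : ℕ} [hp : Fact p.Prime] (hp3 : 3 < p) :
    ∀ n : ℕ, ∀ (R : Type u) [Group R] [Finite R], Nat.card R = n → IsPGroup p R →
      Nat.card ↥(omegaOne p (⊤ : Subgroup R)) ≤ p ^ 2 → IsMetacyclic R := by
  intro n
  induction n using Nat.strong_induction_on with
  | _ n ih =>
  intro R _ _ hcard hR hO
  classical
  have hp2 : p ≠ 2 := by omega
  have hp1 : 1 < p := hp.out.one_lt
  have hp5 : 5 ≤ p := by
    have h4 : p ≠ 4 := by
      intro h
      have := hp.out
      rw [h] at this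
      exact absurd this (by norm_num)
    omega
  have IH : ∀ M : Subgroup R, M ≠ ⊤ → IsMetacyclic ↥M := by
    intro M hM
    have hlt : Nat.card M < n := by
      rw [← hcard]
      have hle : Nat.card M ≤ Nat.card R := Subgroup.card_le_card_group M
      rcases Nat.lt_or_ge (Nat.card M) (Nat.card R) with h | h
      · exact h
      · exact absurd (Subgroup.eq_top_of_card_eq M (le_antisymm hle h)) hM
    exact ih _ hlt ↥M rfl (hR.to_subgroup M) ((card_omegaOne_subgroup_le p M).trans hO)
  set T := powerClosure p 1 (⊤ : Subgroup R) with hTdef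
  haveI hTn : T.Normal := Helper14.powerClosure_normal p 1 ⊤
  have hpowT : ∀ x : R, x ^ p ∈ T := fun x =>
    Subgroup.subset_closure ⟨x, Subgroup.mem_top x, by rw [pow_one]⟩
  by_cases hidx : T.index ≤ p ^ 2
  · exact metacyclic_of_index_agemo hp2 _ R rfl hR hidx
  exfalso
  push Not at hidx
  have hTtop : T ≠ ⊤ := by
    intro h
    rw [h, Subgroup.index_top] at hidx
    have : 1 ≤ p ^ 2 := Nat.one_le_pow _ _ hp.out.pos
    omega
  obtain ⟨M, hMco, hTM⟩ := (eq_top_or_exists_le_coatom T).resolve_left hTtop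
  have hMidx : M.index = p := Helper14.index_of_isCoatom_of_isPGroup' hR hMco
  have hMmc := IH M hMco.1
  have hrel : T.relIndex M ≤ p ^ 2 := by
    haveI : (T.subgroupOf M).Normal := inferInstance
    have hq := Helper14.isMetacyclic_quotient hMmc (T.subgroupOf M)
    have := card_le_sq_of_metacyclic_exp (p := p) hq (fun x => by
      induction x using QuotientGroup.induction_on with
      | H m =>
        rw [← QuotientGroup.mk_pow, QuotientGroup.eq_one_iff, Subgroup.mem_subgroupOf]
        simpa using hpowT (m : R))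
    rwa [Subgroup.relIndex, Subgroup.index_eq_card]
  have hTidx : T.index ≤ p ^ 3 := by
    rw [← Subgroup.relIndex_mul_index hTM, hMidx]
    calc _ ≤ p ^ 2 * p := Nat.mul_le_mul_right _ hrel
      _ = p ^ 3 := by ring
  have hTbot : T ≠ ⊥ := by
    intro h
    have hall : ∀ x : R, x ^ p = 1 := fun x => by
      have := hpowT x
      rwa [h, Subgroup.mem_bot] at this
    have h1 : omegaOne p (⊤ : Subgroup R) = ⊤ := by
      rw [eq_top_iff]
      intro x _
      exact Subgroup.subset_closure ⟨Subgroup.mem_top x, hall x⟩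
    rw [h1, Subgroup.card_top] at hO
    rw [h, Subgroup.index_bot] at hidx
    omega
  obtain ⟨U, hUn, hUT, hUcard⟩ := exists_normal_lt_index_p hR T hTbot
  haveI := hUn
  have hTpos : 0 < T.index := Nat.pos_of_ne_zero Subgroup.index_ne_zero_of_finite
  have hUidx : U.index = p * T.index := by
    have h1 := Subgroup.card_mul_index T
    have h2 := Subgroup.card_mul_index U
    rw [hUcard] at h1
    have hUpos : 0 < Nat.card U := Nat.card_pos
    apply Nat.eq_of_mul_eq_mul_left hUpos
    rw [h2, ← h1]; ring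
  have hQp : IsPGroup p (R ⧸ U) := hR.to_quotient U
  have hQcard : Nat.card (R ⧸ U) = p * T.index := by
    rw [← Subgroup.index_eq_card, hUidx]
  have hQcl : (⊤ : Subgroup (R ⧸ U)).lowerCentralSeries (p - 1) = ⊥ := by
    have h0 : Nat.card (⊤ : Subgroup (R ⧸ U)) ≤ p ^ 4 := by
      rw [Subgroup.card_top, hQcard]
      calc p * T.index ≤ p * p ^ 3 := Nat.mul_le_mul_left _ hTidx
        _ = p ^ 4 := by ring
    have h1 := Cfsg.Agent.S0128.normal_le_upperCentralSeries 4 (R ⧸ U) hQp ⊤ h0
    have h2 : Subgroup.upperCentralSeries (R ⧸ U) 4 = ⊤ := top_le_iff.mp h1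
    have h3 : (⊤ : Subgroup (R ⧸ U)).lowerCentralSeries 4 = ⊥ :=
      Subgroup.lowerCentralSeries_eq_bot_iff_upperCentralSeries_eq_top.mpr h2
    have h4le : 4 ≤ p - 1 := by omega
    have h4 := Subgroup.lowerCentralSeries_antitone (⊤ : Subgroup (R ⧸ U)) h4le
    rw [h3] at h4
    exact le_bot_iff.mp h4
  have hreg : IsRegularPGroup p (R ⧸ U) := Cfsg.Agent.S4209.result hQp hQcl
  set f := QuotientGroup.mk' U with hf
  have hfs : Function.Surjective f := QuotientGroup.mk'_surjective U
  have h5 := Helper14.card_regOmega_mul_card_regAgemo hreg 1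
  have hAg : Helper14.regAgemo hreg 1 ≤ T.map f := by
    rintro y ⟨q, rfl⟩
    induction q using QuotientGroup.induction_on with
    | H r =>
      refine ⟨r ^ p, hpowT r, ?_⟩
      rw [pow_one]
      rfl
  have hTmap : Nat.card (T.map f) = p := by
    have h1 : (T.map f).index = T.index := by
      apply Subgroup.index_map_eq T hfs
      rw [hf, QuotientGroup.ker_mk']
      exact hUT
    have h2 := Subgroup.card_mul_index (T.map f)
    rw [h1, hQcard] at h2
    exact Nat.eq_of_mul_eq_mul_right hTpos h2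
  have hAgcard : Nat.card (Helper14.regAgemo hreg 1) ≤ p :=
    (Subgroup.card_le_of_le hAg).trans hTmap.le
  set Ω := Helper14.regOmega hreg 1 with hΩ
  have hΩcard : T.index ≤ Nat.card Ω := by
    rw [hQcard] at h5
    have h6 : p * T.index ≤ Nat.card Ω * p := by
      rw [← h5]
      exact Nat.mul_le_mul_left _ hAgcard
    rw [mul_comm] at h6
    exact Nat.le_of_mul_le_mul_right h6 hp.out.pos
  set L : Subgroup R := Ω.comap f with hL
  have hUL : U ≤ L := by
    intro u hu
    rw [hL, Subgroup.mem_comap]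
    have : f u = 1 := (QuotientGroup.eq_one_iff u).mpr hu
    rw [this]
    exact Subgroup.one_mem _
  have hLpow : ∀ l ∈ L, l ^ p ∈ U := by
    intro l hl
    rw [hL, Subgroup.mem_comap, hΩ, Helper14.mem_regOmega, pow_one] at hl
    rw [← map_pow] at hl
    exact (QuotientGroup.eq_one_iff _).mp hl
  have hLtop : L ≠ ⊤ := by
    intro h
    have hTU : T ≤ U := by
      rw [hTdef]
      unfold powerClosure
      rw [Subgroup.closure_le]
      rintro y ⟨x, -, rfl⟩
      rw [pow_one]
      exact hLpow x (h ▸ Subgroup.mem_top x)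
    have := Subgroup.card_le_of_le hTU
    rw [hUcard] at this
    have hUpos : 0 < Nat.card U := Nat.card_pos
    nlinarith
  have hLmc := IH L hLtop
  have hrelL : U.relIndex L ≤ p ^ 2 := by
    haveI : (U.subgroupOf L).Normal := inferInstance
    have hq := Helper14.isMetacyclic_quotient hLmc (U.subgroupOf L)
    have := card_le_sq_of_metacyclic_exp (p := p) hq (fun x => by
      induction x using QuotientGroup.induction_on with
      | H m =>
        rw [← QuotientGroup.mk_pow, QuotientGroup.eq_one_iff, Subgroup.mem_subgroupOf]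
        simpa using hLpow (m : R) m.2)
    rwa [Subgroup.relIndex, Subgroup.index_eq_card]
  have hrelEq : U.relIndex L = Nat.card Ω := by
    have h1 := Subgroup.relIndex_mul_index hUL
    have h2 : L.index = Ω.index := Subgroup.index_comap_of_surjective _ hfs
    have h3 := Subgroup.card_mul_index Ω
    have hpos : 0 < Ω.index := Nat.pos_of_ne_zero Subgroup.index_ne_zero_of_finite
    apply Nat.eq_of_mul_eq_mul_right hpos
    rw [← h2, h1, h2, h3, Subgroup.index_eq_card]
  rw [hrelEq] at hrelL
  omega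

end Cfsg.Agent.Lib.Helper22
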