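import Mathlib

set_option autoImplicit false

namespace Cfsg.Agent.Lib.Helper22.LangGL

open Polynomial

variable {K : Type*} [Field K] [IsAlgClosed K]

/-- Artin–Schreier: `d - d ^ q = c` is solvable. -/
lemma exists_sub_pow (q : ℕ) (hq : 2 ≤ q) (c : K) : ∃ d : K, d - d ^ q = c := by
  have hdeg : (X ^ q - (X + C (-c)) : K[X]).degree ≠ 0 := by
    have h1 : (X + C (-c) : K[X]).natDegree < (X ^ q : K[X]).natDegree := by
      rw [natDegree_X_pow, natDegree_X_add_C]
      omega
    have h2 : (X ^ q - (X + C (-c)) : K[X]).natDegree = q := by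
      rw [natDegree_sub_eq_left_of_natDegree_lt h1, natDegree_X_pow]
    have h3 : (X ^ q - (X + C (-c)) : K[X]).natDegree ≠ 0 := by rw [h2]; omega
    exact fun h => h3 (natDegree_eq_zero_iff_degree_le_zero.mpr (le_of_eq h))
  obtain ⟨d, hd⟩ := IsAlgClosed.exists_root _ hdeg
  refine ⟨d, ?_⟩
  rw [IsRoot.def] at hd
  simp only [eval_sub, eval_pow, eval_X, eval_add, eval_C] at hd
  linear_combination -hd

section semilinear

variable {V : Type*} [AddCommGroup V] [Module K V]
variable (q : ℕ) (φ : V → V)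

/-- the hypotheses on a `q`-semilinear injective map -/
structure IsFrobSemilinear : Prop where
  add : ∀ x y, φ (x + y) = φ x + φ y
  smul : ∀ (c : K) x, φ (c • x) = c ^ q • φ x
  inj : Function.Injective φ

variable {q φ}

lemma IsFrobSemilinear.zero (h : IsFrobSemilinear (K := K) q φ) : φ 0 = 0 := by
  have := h.add 0 0
  rw [add_zero] at this
  exact left_eq_add.mp this

lemma IsFrobSemilinear.sum (h : IsFrobSemilinear (K := K) q φ) {ι : Type*} (s : Finset ι)
    (c : ι → K) (e : ι → V) : φ (∑ i ∈ s, c i • e i) = ∑ i ∈ s, c i ^ q • φ (e i) := by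
  classical
  induction s using Finset.induction_on with
  | empty => simp [h.zero]
  | insert a s ha ih => rw [Finset.sum_insert ha, Finset.sum_insert ha, h.add, h.smul, ih]

lemma IsFrobSemilinear.sub (h : IsFrobSemilinear (K := K) q φ) (x y : V) :
    φ (x - y) = φ x - φ y := by
  have := h.add (x - y) y
  rw [sub_add_cancel] at this
  rw [this, add_sub_cancel_right]

/-- the span of the fixed vectors -/
def fixSpan (K : Type*) [Field K] {V : Type*} [AddCommGroup V] [Module K V] (φ : V → V) :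
    Submodule K V := Submodule.span K {x | φ x = x}

/-- Lemma A: `1 - φ` is surjective on the span of fixed vectors. -/
lemma exists_sub_eq (h : IsFrobSemilinear (K := K) q φ) (hq : 2 ≤ q) {u : V}
    (hu : u ∈ fixSpan K φ) : ∃ w ∈ fixSpan K φ, w - φ w = u := by
  have key : ∀ c : K, ∃ w ∈ fixSpan K φ, w - φ w = c • u := by
    unfold fixSpan at hu ⊢
    induction hu using Submodule.span_induction with
    | mem x hx =>
      intro c
      obtain ⟨d, hd⟩ := exists_sub_pow (K := K) q hq c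
      refine ⟨d • x, Submodule.smul_mem _ _ (Submodule.subset_span hx), ?_⟩
      have hx' : φ x = x := hx
      rw [h.smul, hx', ← sub_smul, hd]
    | zero => intro c; exact ⟨0, Submodule.zero_mem _, by rw [h.zero, sub_zero, smul_zero]⟩
    | add x y _ _ hx hy =>
      intro c
      obtain ⟨w₁, hw₁, e₁⟩ := hx c
      obtain ⟨w₂, hw₂, e₂⟩ := hy c
      refine ⟨w₁ + w₂, Submodule.add_mem _ hw₁ hw₂, ?_⟩
      rw [h.add, smul_add, ← e₁, ← e₂]; abel
    | smul c' x _ hx =>
      intro c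
      obtain ⟨w, hw, e⟩ := hx (c * c')
      exact ⟨w, hw, by rw [e, mul_smul]⟩
  obtain ⟨w, hw, e⟩ := key 1
  exact ⟨w, hw, by rw [e, one_smul]⟩

/-- Lemma B: `φ` is surjective on the span of fixed vectors. -/
lemma exists_apply_eq (h : IsFrobSemilinear (K := K) q φ) (hq : 2 ≤ q) {u : V}
    (hu : u ∈ fixSpan K φ) : ∃ w ∈ fixSpan K φ, φ w = u := by
  have key : ∀ c : K, ∃ w ∈ fixSpan K φ, φ w = c • u := by
    unfold fixSpan at hu ⊢
    induction hu using Submodule.span_induction with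
    | mem x hx =>
      intro c
      obtain ⟨d, hd⟩ := IsAlgClosed.exists_pow_nat_eq c (n := q) (by omega)
      refine ⟨d • x, Submodule.smul_mem _ _ (Submodule.subset_span hx), ?_⟩
      have hx' : φ x = x := hx
      rw [h.smul, hx', hd]
    | zero => intro c; exact ⟨0, Submodule.zero_mem _, by rw [h.zero, smul_zero]⟩
    | add x y _ _ hx hy =>
      intro c
      obtain ⟨w₁, hw₁, e₁⟩ := hx c
      obtain ⟨w₂, hw₂, e₂⟩ := hy c
      refine ⟨w₁ + w₂, Submodule.add_mem _ hw₁ hw₂, ?_⟩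
      rw [h.add, smul_add, ← e₁, ← e₂]
    | smul c' x _ hx =>
      intro c
      obtain ⟨w, hw, e⟩ := hx (c * c')
      exact ⟨w, hw, by rw [e, mul_smul]⟩
  obtain ⟨w, hw, e⟩ := key 1
  exact ⟨w, hw, by rw [e, one_smul]⟩


/-- `U j = W + span {φ^i v : i < j}` -/
def U (K : Type*) [Field K] {V : Type*} [AddCommGroup V] [Module K V] (φ : V → V) (v : V)
    (j : ℕ) : Submodule K V :=
  fixSpan K φ ⊔ Submodule.span K (Set.range (fun i : Fin j => φ^[i] v))

omit [IsAlgClosed K] in
lemma U_mono (φ : V → V) (v : V) : Monotone (U K φ v) := by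
  intro i j hij
  apply sup_le_sup_left
  apply Submodule.span_mono
  rintro _ ⟨k, rfl⟩
  exact ⟨⟨k, lt_of_lt_of_le k.2 hij⟩, rfl⟩

omit [IsAlgClosed K] in
lemma mem_U_of_sum {φ : V → V} {v : V} {w : V} (hw : w ∈ fixSpan K φ) (b : ℕ → K) (j : ℕ) :
    w + ∑ i ∈ Finset.range j, b i • φ^[i] v ∈ U K φ v j := by
  refine Submodule.add_mem _ (Submodule.mem_sup_left hw) (Submodule.mem_sup_right ?_)
  refine Submodule.sum_mem _ (fun i hi => Submodule.smul_mem _ _ (Submodule.subset_span ?_))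
  exact ⟨⟨i, Finset.mem_range.mp hi⟩, rfl⟩

omit [IsAlgClosed K] in
lemma exists_of_mem_U {φ : V → V} {v : V} {j : ℕ} {x : V} (hx : x ∈ U K φ v j) :
    ∃ w ∈ fixSpan K φ, ∃ b : ℕ → K, x = w + ∑ i ∈ Finset.range j, b i • φ^[i] v := by
  unfold U at hx
  rw [Submodule.mem_sup] at hx
  obtain ⟨w, hw, z, hz, rfl⟩ := hx
  rw [Submodule.mem_span_range_iff_exists_fun] at hz
  obtain ⟨c, rfl⟩ := hz
  refine ⟨w, hw, fun i => if h : i < j then c ⟨i, h⟩ else 0, ?_⟩
  congr 1
  rw [← Fin.sum_univ_eq_sum_range (fun i => (if h : i < j then c ⟨i, h⟩ else 0) • φ^[i] v) j]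
  apply Finset.sum_congr rfl
  intro i _
  rw [dif_pos i.2]

omit [IsAlgClosed K] in
lemma exists_mem_U [FiniteDimensional K V] (φ : V → V) (v : V) : ∃ m, φ^[m] v ∈ U K φ v m := by
  obtain ⟨n, hn⟩ := monotone_stabilizes_iff_noetherian.mpr (inferInstance : IsNoetherian K V)
    ⟨U K φ v, U_mono φ v⟩
  refine ⟨n, ?_⟩
  have h1 : U K φ v n = U K φ v (n + 1) := hn (n + 1) (Nat.le_succ n)
  rw [h1]
  exact Submodule.mem_sup_right (Submodule.subset_span ⟨⟨n, Nat.lt_succ_self n⟩, rfl⟩)

end semilinear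


section poly

variable (q : ℕ) (a : ℕ → K)

/-- the additive polynomials giving the coefficients of a fixed vector -/
noncomputable def Cp : ℕ → K[X]
  | 0 => C (a 0) * X
  | (i + 1) => (Cp i) ^ q + C (a (i + 1)) * X

omit [IsAlgClosed K] in
lemma natDegree_Cp (hq : 2 ≤ q) (ha : a 0 ≠ 0) (i : ℕ) : (Cp q a i).natDegree = q ^ i := by
  induction i with
  | zero => rw [Cp, natDegree_C_mul_X _ ha, pow_zero]
  | succ i ih =>
    rw [Cp]
    have h1 : ((Cp q a i) ^ q).natDegree = q ^ (i + 1) := by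
      rw [natDegree_pow, ih, pow_succ, mul_comm]
    have h2 : (C (a (i + 1)) * X : K[X]).natDegree < ((Cp q a i) ^ q).natDegree := by
      rw [h1]
      calc (C (a (i + 1)) * X : K[X]).natDegree ≤ 1 :=
            (natDegree_C_mul_le _ _).trans (le_of_eq natDegree_X)
        _ < q ^ (i + 1) := Nat.one_lt_pow (by omega) (by omega)
    rw [natDegree_add_eq_left_of_natDegree_lt h2, h1]

omit [IsAlgClosed K] in
lemma X_dvd_Cp (hq : 2 ≤ q) (i : ℕ) : (X : K[X]) ∣ Cp q a i := by
  induction i with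
  | zero => rw [Cp]; exact dvd_mul_left _ _
  | succ i ih =>
    rw [Cp]
    exact dvd_add (dvd_pow ih (by omega)) (dvd_mul_left _ _)

lemma exists_root_Cp (hq : 2 ≤ q) (ha : a 0 ≠ 0) (m : ℕ) :
    ∃ t : K, t ≠ 0 ∧ (eval t (Cp q a m)) ^ q = t := by
  obtain ⟨S, hS⟩ := X_dvd_Cp q a hq m
  have hdeg := natDegree_Cp q a hq ha m
  have hqm : 1 ≤ q ^ m := Nat.one_le_pow _ _ (by omega)
  have hS0 : S ≠ 0 := by
    intro h
    rw [h, mul_zero] at hS
    rw [hS, natDegree_zero] at hdeg
    omega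
  have hSdeg : S.natDegree + 1 = q ^ m := by
    rw [hS, natDegree_mul X_ne_zero hS0, natDegree_X] at hdeg
    omega
  have hR1 : ((X : K[X]) ^ (q - 1) * S ^ q).natDegree = q ^ (m + 1) - 1 := by
    rw [natDegree_mul (pow_ne_zero _ X_ne_zero) (pow_ne_zero _ hS0), natDegree_X_pow,
      natDegree_pow]
    have : q * (S.natDegree + 1) = q ^ (m + 1) := by rw [hSdeg, pow_succ, mul_comm]
    have h2 : q * (S.natDegree + 1) = q * S.natDegree + q := by ring
    omega
  have hq2 : 2 ≤ q ^ (m + 1) := by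
    calc 2 ≤ q := hq
      _ = q ^ 1 := (pow_one q).symm
      _ ≤ q ^ (m + 1) := Nat.pow_le_pow_right (by omega) (by omega)
  have hR2 : ((X : K[X]) ^ (q - 1) * S ^ q - 1).natDegree = q ^ (m + 1) - 1 := by
    rw [natDegree_sub_eq_left_of_natDegree_lt, hR1]
    rw [hR1, natDegree_one]
    omega
  have hdeg0 : ((X : K[X]) ^ (q - 1) * S ^ q - 1).degree ≠ 0 := by
    have h3 : ((X : K[X]) ^ (q - 1) * S ^ q - 1).natDegree ≠ 0 := by rw [hR2]; omega
    exact fun h => h3 (natDegree_eq_zero_iff_degree_le_zero.mpr (le_of_eq h))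
  obtain ⟨t, ht⟩ := IsAlgClosed.exists_root _ hdeg0
  rw [IsRoot.def] at ht
  simp only [eval_sub, eval_mul, eval_pow, eval_X, eval_one] at ht
  have ht1 : t ^ (q - 1) * (eval t S) ^ q = 1 := by linear_combination ht
  have ht0 : t ≠ 0 := by
    intro h
    rw [h, zero_pow (by omega), zero_mul] at ht1
    exact zero_ne_one ht1
  refine ⟨t, ht0, ?_⟩
  rw [hS, eval_mul, eval_X, mul_pow]
  have : t ^ q = t * t ^ (q - 1) := by
    rw [← pow_succ']
    congr 1
    omega
  rw [this, mul_assoc, ht1, mul_one]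

omit [IsAlgClosed K] in
lemma eval_Cp_zero (t : K) : eval t (Cp q a 0) = a 0 * t := by
  rw [Cp]; simp

omit [IsAlgClosed K] in
lemma eval_Cp_succ (t : K) (i : ℕ) :
    eval t (Cp q a (i + 1)) = (eval t (Cp q a i)) ^ q + a (i + 1) * t := by
  rw [Cp]; simp

end poly


section main

variable {V : Type*} [AddCommGroup V] [Module K V] [FiniteDimensional K V]
variable {q : ℕ} {φ : V → V}

/-- **Lang's theorem for vector spaces**: the fixed vectors of an injective Frobenius-semilinear
map of a finite-dimensional space over an algebraically closed field span the space. -/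
theorem fixSpan_eq_top (h : IsFrobSemilinear (K := K) q φ) (hq : 2 ≤ q) : fixSpan K φ = ⊤ := by
  classical
  by_contra hne
  obtain ⟨v, -, hv⟩ := SetLike.exists_of_lt (lt_top_iff_ne_top.mpr hne)
  have hex := exists_mem_U (K := K) φ v
  have hm : φ^[Nat.find hex] v ∈ U K φ v (Nat.find hex) := Nat.find_spec hex
  have hmin : ∀ j < Nat.find hex, φ^[j] v ∉ U K φ v j := fun j hj => Nat.find_min hex hj
  have hU0 : U K φ v 0 = fixSpan K φ := by
    unfold U
    have : Set.range (fun i : Fin 0 => φ^[i] v) = ∅ := Set.range_eq_empty _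
    rw [this, Submodule.span_empty, sup_bot_eq]
  obtain ⟨m', hm'⟩ : ∃ m', Nat.find hex = m' + 1 := by
    rcases Nat.eq_zero_or_eq_succ_pred (Nat.find hex) with h0 | h0
    · exfalso
      rw [h0, hU0] at hm
      exact hv hm
    · exact ⟨_, h0⟩
  rw [hm'] at hm hmin
  obtain ⟨w, hw, a, ha⟩ := exists_of_mem_U hm
  have hnot : φ^[m'] v ∉ U K φ v m' := hmin m' (Nat.lt_succ_self m')
  -- rewrite the relation
  have hrel : φ (φ^[m'] v) = w + (∑ i ∈ Finset.range m', a (i + 1) • φ (φ^[i] v) + a 0 • v) := by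
    rw [← Function.iterate_succ_apply' φ m' v, ha, Finset.sum_range_succ']
    congr 2
    apply Finset.sum_congr rfl
    intro i _
    rw [Function.iterate_succ_apply']
  -- `a 0 ≠ 0`
  have ha0 : a 0 ≠ 0 := by
    intro h0
    rw [h0, zero_smul, add_zero] at hrel
    obtain ⟨w₀, hw₀, e₀⟩ := exists_apply_eq h hq hw
    have hb : ∀ i : ℕ, ∃ d : K, d ^ q = a (i + 1) :=
      fun i => IsAlgClosed.exists_pow_nat_eq _ (by omega)
    choose b hb using hb
    have e1 : φ (w₀ + ∑ i ∈ Finset.range m', b i • φ^[i] v) = φ (φ^[m'] v) := by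
      rw [h.add, h.sum, e₀, hrel]
      congr 1
      apply Finset.sum_congr rfl
      intro i _
      rw [hb]
    have e2 := h.inj e1
    apply hnot
    rw [← e2]
    exact mem_U_of_sum hw₀ b m'
  -- the coefficients
  obtain ⟨t, ht0, ht⟩ := exists_root_Cp q a hq ha0 m'
  obtain ⟨c, hc⟩ : ∃ c : ℕ → K, c = fun i => eval t (Cp q a i) := ⟨_, rfl⟩
  have hc0 : c 0 = a 0 * t := by rw [hc]; exact eval_Cp_zero q a t
  have hcs : ∀ i, c (i + 1) = (c i) ^ q + a (i + 1) * t := by
    intro i; rw [hc]; exact eval_Cp_succ q a t i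
  have hct : (c m') ^ q = t := by rw [hc]; exact ht
  have hcm : c m' ≠ 0 := by
    intro h0
    rw [h0, zero_pow (by omega)] at hct
    exact ht0 hct.symm
  have htw : t • w ∈ fixSpan K φ := Submodule.smul_mem _ _ hw
  obtain ⟨w', hw', ew'⟩ := exists_sub_eq h hq htw
  -- the fixed vector
  have hfix : φ (∑ i ∈ Finset.range (m' + 1), c i • φ^[i] v + w') =
      ∑ i ∈ Finset.range (m' + 1), c i • φ^[i] v + w' := by
    rw [h.add, h.sum, Finset.sum_range_succ, hct, hrel, Finset.sum_range_succ' (fun i => c i • φ^[i] v)]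
    have e3 : ∑ i ∈ Finset.range m', c (i + 1) • φ^[i + 1] v =
        ∑ i ∈ Finset.range m', (c i) ^ q • φ (φ^[i] v) +
          t • ∑ i ∈ Finset.range m', a (i + 1) • φ (φ^[i] v) := by
      rw [Finset.smul_sum, ← Finset.sum_add_distrib]
      apply Finset.sum_congr rfl
      intro i _
      rw [hcs, Function.iterate_succ_apply', add_smul, smul_smul, mul_comm]
    rw [e3, hc0]
    have e4 : φ w' = w' - t • w := by rw [← ew']; abel
    rw [e4, Function.iterate_zero, id_eq, smul_add, smul_add, smul_smul, mul_comm t (a 0)]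
    abel
  have hxW : ∑ i ∈ Finset.range (m' + 1), c i • φ^[i] v + w' ∈ fixSpan K φ :=
    Submodule.subset_span hfix
  have hyW : ∑ i ∈ Finset.range (m' + 1), c i • φ^[i] v ∈ fixSpan K φ := by
    have := Submodule.sub_mem _ hxW hw'
    rwa [add_sub_cancel_right] at this
  rw [Finset.sum_range_succ] at hyW
  apply hnot
  have e5 : φ^[m'] v = (c m')⁻¹ • (∑ i ∈ Finset.range m', c i • φ^[i] v + c m' • φ^[m'] v) +
      ∑ i ∈ Finset.range m', (-((c m')⁻¹ * c i)) • φ^[i] v := by
    rw [smul_add, smul_smul, inv_mul_cancel₀ hcm, one_smul, Finset.smul_sum]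
    have : ∑ i ∈ Finset.range m', (-((c m')⁻¹ * c i)) • φ^[i] v =
        - ∑ i ∈ Finset.range m', (c m')⁻¹ • c i • φ^[i] v := by
      rw [← Finset.sum_neg_distrib]
      apply Finset.sum_congr rfl
      intro i _
      rw [neg_smul, smul_smul]
    rw [this]; abel
  rw [e5]
  exact mem_U_of_sum (Submodule.smul_mem _ _ hyW) _ m'

end main

end Cfsg.Agent.Lib.Helper22.LangGL
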