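import Mathlib

/-! Marggraf-type theorem: a primitive group with a small Jordan set is 3-transitive. -/

namespace Cfsg.Agent.Lib.Helper22.Marggraf

open MulAction
open scoped Pointwise

variable {G Ω : Type*} [Group G] [MulAction G Ω]

/-- `Γ` is a Jordan set: the pointwise stabilizer of the complement is transitive on `Γ`. -/
def IsJ (G : Type*) {Ω : Type*} [Group G] [MulAction G Ω] (Γ : Set Ω) : Prop :=
  ∀ x ∈ Γ, ∀ y ∈ Γ, ∃ g : G, (∀ z ∉ Γ, g • z = z) ∧ g • x = y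

theorem IsJ.smul {Γ : Set Ω} (h : IsJ G Γ) (g : G) : IsJ G (g • Γ) := by
  intro x hx y hy
  obtain ⟨x', hx', rfl⟩ := hx
  obtain ⟨y', hy', rfl⟩ := hy
  obtain ⟨k, hk, hkx⟩ := h x' hx' y' hy'
  refine ⟨g * k * g⁻¹, ?_, ?_⟩
  · intro z hz
    have : g⁻¹ • z ∉ Γ := by
      intro hc
      exact hz ⟨g⁻¹ • z, hc, by simp⟩
    rw [mul_smul, mul_smul, hk _ this]
    simp
  · show (g * k * g⁻¹) • (g • x') = g • y'
    rw [mul_smul, mul_smul, inv_smul_smul, hkx]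

theorem IsJ.union {Γ₁ Γ₂ : Set Ω} (h1 : IsJ G Γ₁) (h2 : IsJ G Γ₂) (hc : (Γ₁ ∩ Γ₂).Nonempty) :
    IsJ G (Γ₁ ∪ Γ₂) := by
  obtain ⟨c, hc1, hc2⟩ := hc
  -- every point of the union can be moved to `c`
  have key : ∀ x ∈ Γ₁ ∪ Γ₂, ∃ g : G, (∀ z ∉ Γ₁ ∪ Γ₂, g • z = z) ∧ g • x = c := by
    intro x hx
    rcases hx with hx | hx
    · obtain ⟨g, hg, hgx⟩ := h1 x hx c hc1
      exact ⟨g, fun z hz => hg z (fun h => hz (Or.inl h)), hgx⟩
    · obtain ⟨g, hg, hgx⟩ := h2 x hx c hc2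
      exact ⟨g, fun z hz => hg z (fun h => hz (Or.inr h)), hgx⟩
  intro x hx y hy
  obtain ⟨g₁, hg₁, hg₁x⟩ := key x hx
  obtain ⟨g₂, hg₂, hg₂y⟩ := key y hy
  refine ⟨g₂⁻¹ * g₁, ?_, ?_⟩
  · intro z hz
    rw [mul_smul, hg₁ z hz, inv_smul_eq_iff, hg₂ z hz]
  · rw [mul_smul, hg₁x, inv_smul_eq_iff, hg₂y]

/-- Linear-space lemma: if the translates of `L₀` form a linear space with lines of size `≥ 3`,
there is no Jordan set of size between `2` and `n/2`. -/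
theorem linear_space_false [Finite Ω]
    (h2 : ∀ a b c d : Ω, a ≠ b → c ≠ d → ∃ g : G, g • a = c ∧ g • b = d)
    (L₀ : Set Ω) (hL3 : 2 < L₀.ncard) (hLne : L₀ ≠ Set.univ)
    (hL : ∀ g : G, g • L₀ = L₀ ∨ (L₀ ∩ g • L₀).Subsingleton)
    (Γ₀ : Set Ω) (hJ : IsJ G Γ₀) (h1 : 1 < Γ₀.ncard) (h2' : 2 * Γ₀.ncard ≤ Nat.card Ω) :
    False := by
  classical
  obtain ⟨p, q, r, hp, hq, hr, hpq, hpr, hqr⟩ := (Set.two_lt_ncard_iff).mp hL3
  obtain ⟨β₀, hβ₀⟩ := (Set.ne_univ_iff_exists_notMem _).mp hLne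
  -- lines
  let IsLine : Set Ω → Prop := fun L => ∃ g : G, L = g • L₀
  have L1 : ∀ a b : Ω, a ≠ b → ∃ L, IsLine L ∧ a ∈ L ∧ b ∈ L := by
    intro a b hab
    obtain ⟨g, hga, hgb⟩ := h2 p q a b hpq hab
    exact ⟨g • L₀, ⟨g, rfl⟩, ⟨p, hp, hga⟩, ⟨q, hq, hgb⟩⟩
  have L2 : ∀ L L' : Set Ω, IsLine L → IsLine L' → ∀ a b : Ω, a ≠ b → a ∈ L → b ∈ L →
      a ∈ L' → b ∈ L' → L = L' := by
    rintro L L' ⟨g, rfl⟩ ⟨g', rfl⟩ a b hab ha hb ha' hb'
    rcases hL (g⁻¹ * g') with h | h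
    · rw [mul_smul, inv_smul_eq_iff] at h
      exact h.symm
    · exfalso
      apply hab
      have ha1 : g⁻¹ • a ∈ L₀ ∩ (g⁻¹ * g') • L₀ := by
        refine ⟨Set.mem_smul_set_iff_inv_smul_mem.mp ha, ?_⟩
        rw [mul_smul]
        exact Set.smul_mem_smul_set ha'
      have hb1 : g⁻¹ • b ∈ L₀ ∩ (g⁻¹ * g') • L₀ := by
        refine ⟨Set.mem_smul_set_iff_inv_smul_mem.mp hb, ?_⟩
        rw [mul_smul]
        exact Set.smul_mem_smul_set hb'
      have := h ha1 hb1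
      exact (smul_left_cancel_iff _).mp this
  have L3 : ∀ L, IsLine L → ∀ a b : Ω, ∃ c ∈ L, c ≠ a ∧ c ≠ b := by
    rintro L ⟨g, rfl⟩ a b
    have hgpq : g • p ≠ g • q := fun h => hpq ((smul_left_cancel_iff _).mp h)
    have hgpr : g • p ≠ g • r := fun h => hpr ((smul_left_cancel_iff _).mp h)
    have hgqr : g • q ≠ g • r := fun h => hqr ((smul_left_cancel_iff _).mp h)
    by_cases h1 : g • p ≠ a ∧ g • p ≠ b
    · exact ⟨g • p, Set.smul_mem_smul_set hp, h1.1, h1.2⟩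
    by_cases h2 : g • q ≠ a ∧ g • q ≠ b
    · exact ⟨g • q, Set.smul_mem_smul_set hq, h2.1, h2.2⟩
    refine ⟨g • r, Set.smul_mem_smul_set hr, ?_, ?_⟩
    · rintro rfl
      rw [not_and_or, not_not, not_not] at h1 h2
      rcases h1 with h1 | h1 <;> rcases h2 with h2 | h2
      · exact hgpr h1
      · exact hgpr h1
      · exact hgqr h2
      · exact hgpq (h1.trans h2.symm)
    · rintro rfl
      rw [not_and_or, not_not, not_not] at h1 h2
      rcases h1 with h1 | h1 <;> rcases h2 with h2 | h2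
      · exact hgpq (h1.trans h2.symm)
      · exact hgqr h2
      · exact hgpr h1
      · exact hgpr h1
  have L4 : ∀ L, IsLine L → ∃ β, β ∉ L := by
    rintro L ⟨g, rfl⟩
    refine ⟨g • β₀, fun h => hβ₀ ?_⟩
    rwa [Set.smul_mem_smul_set_iff] at h
  have L5 : ∀ L, IsLine L → ∀ h : G, IsLine (h • L) := by
    rintro L ⟨g, rfl⟩ h
    exact ⟨h * g, by rw [mul_smul]⟩
  -- (i)
  have S1 : ∀ L, IsLine L → ∀ a b : Ω, a ≠ b → a ∈ L → b ∈ L → a ∉ Γ₀ → b ∉ Γ₀ →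
      ∀ x ∈ L, x ∈ Γ₀ → Γ₀ ⊆ L := by
    intro L hLl a b hab ha hb haΓ hbΓ x hxL hxΓ y hy
    obtain ⟨h, hh, hhx⟩ := hJ x hxΓ y hy
    have : h • L = L := by
      apply L2 _ _ (L5 L hLl h) hLl a b hab
      · rw [← hh a haΓ]; exact Set.smul_mem_smul_set ha
      · rw [← hh b hbΓ]; exact Set.smul_mem_smul_set hb
      · exact ha
      · exact hb
    rw [← this, ← hhx]
    exact Set.smul_mem_smul_set hxL
  obtain ⟨α, α', hα, hα', hαα'⟩ := (Set.one_lt_ncard_iff).mp h1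
  -- (ii)
  have S2 : ∀ L, IsLine L → ¬ Γ₀ ⊆ L := by
    intro L hLl hsub
    obtain ⟨β, hβ⟩ := L4 L hLl
    have hαβ : α ≠ β := fun h => hβ (h ▸ hsub hα)
    obtain ⟨L', hL', hαL', hβL'⟩ := L1 α β hαβ
    obtain ⟨γ, hγL', hγα, hγβ⟩ := L3 L' hL' α β
    have hLL' : L ≠ L' := fun h => hβ (h ▸ hβL')
    have hβΓ : β ∉ Γ₀ := fun h => hβ (hsub h)
    have hγΓ : γ ∉ Γ₀ := by
      intro h
      exact hLL' (L2 L L' hLl hL' α γ hγα.symm (hsub hα) (hsub h) hαL' hγL')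
    have := S1 L' hL' β γ hγβ.symm hβL' hγL' hβΓ hγΓ α hαL' hα
    exact hLL' (L2 L L' hLl hL' α α' hαα' (hsub hα) (hsub hα') hαL' (this hα'))
  -- (iii)
  have S3 : ∀ β, β ∈ Γ₀ᶜ → ∃ γ, γ ∈ Γ₀ \ {α} ∧ ∃ L, IsLine L ∧ α ∈ L ∧ β ∈ L ∧ γ ∈ L := by
    intro β hβ
    have hαβ : α ≠ β := fun h => hβ (h ▸ hα)
    obtain ⟨L, hLl, hαL, hβL⟩ := L1 α β hαβ
    obtain ⟨γ, hγL, hγα, hγβ⟩ := L3 L hLl α β
    refine ⟨γ, ⟨?_, hγα⟩, L, hLl, hαL, hβL, hγL⟩
    by_contra hγΓ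
    exact S2 L hLl (S1 L hLl β γ hγβ.symm hβL hγL hβ hγΓ α hαL hα)
  choose! f hf using S3
  have hinj : Set.InjOn f Γ₀ᶜ := by
    intro β hβ β' hβ' hff
    by_contra hne
    obtain ⟨hγ, L, hLl, hαL, hβL, hγL⟩ := hf β hβ
    obtain ⟨hγ', L', hLl', hαL', hβL', hγL'⟩ := hf β' hβ'
    rw [← hff] at hγL'
    have hαγ : α ≠ f β := fun h => hγ.2 h.symm
    have hLL' : L = L' := L2 L L' hLl hLl' α (f β) hαγ hαL hγL hαL' hγL'
    rw [← hLL'] at hβL'
    exact S2 L hLl (S1 L hLl β β' hne hβL hβL' hβ hβ' α hαL hα)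
  have hcard := Set.ncard_le_ncard_of_injOn f (fun a ha => (hf a ha).1) hinj (Set.toFinite _)
  have h3 : (Γ₀ \ {α}).ncard = Γ₀.ncard - 1 := Set.ncard_sdiff_singleton_of_mem hα
  have h4 := Set.ncard_add_ncard_compl Γ₀
  omega


theorem exists_jordan_compl_two [Finite Ω] (hprim : IsPreprimitive G Ω)
    (h2 : ∀ a b c d : Ω, a ≠ b → c ≠ d → ∃ g : G, g • a = c ∧ g • b = d)
    (Γ₀ : Set Ω) (hJ₀ : IsJ G Γ₀) (h1 : 1 < Γ₀.ncard) (h2' : 2 * Γ₀.ncard ≤ Nat.card Ω) :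
    ∀ k : ℕ, ∀ Γ : Set Ω, IsJ G Γ → Γ₀ ⊆ Γ → Γ.ncard + 2 + k = Nat.card Ω →
      ∃ Γ' : Set Ω, IsJ G Γ' ∧ Γ'.ncard + 2 = Nat.card Ω := by
  intro k
  induction k using Nat.strong_induction_on with
  | _ k ih =>
  intro Γ hJ hsub hcard
  rcases Nat.eq_zero_or_pos k with rfl | hk
  · exact ⟨Γ, hJ, by omega⟩
  by_contra hno
  have hm0 : Γ₀.ncard ≤ Γ.ncard := Set.ncard_le_ncard hsub (Set.toFinite _)
  have hsm : ∀ g : G, (g • Γ).ncard = Γ.ncard := fun g => Set.ncard_smul_set g Γ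
  have hui : ∀ g : G, (Γ ∪ g • Γ).ncard + (Γ ∩ g • Γ).ncard = 2 * Γ.ncard := by
    intro g
    rw [Set.ncard_union_add_ncard_inter, hsm]; ring
  -- (*)
  have star : ∀ g : G, g • Γ = Γ ∨ Disjoint (g • Γ) Γ ∨
      Nat.card Ω < (Γ ∪ g • Γ).ncard + 2 := by
    intro g
    by_contra hcon
    push Not at hcon
    obtain ⟨hne, hnd, hle⟩ := hcon
    have hJ' : IsJ G (Γ ∪ g • Γ) := hJ.union (hJ.smul g) (by
      rw [Set.not_disjoint_iff_nonempty_inter, Set.inter_comm] at hnd; exact hnd)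
    have hlt : Γ.ncard < (Γ ∪ g • Γ).ncard := by
      apply Set.ncard_lt_ncard _ (Set.toFinite _)
      rw [Set.ssubset_iff_subset_ne]
      refine ⟨Set.subset_union_left, ?_⟩
      intro h
      apply hne
      apply Set.eq_of_subset_of_ncard_le _ _ (Set.toFinite _)
      · intro z hz
        rw [h]
        exact Or.inr hz
      · rw [hsm]
    apply hno
    exact ih (Nat.card Ω - 2 - (Γ ∪ g • Γ).ncard) (by omega) _ hJ'
      (hsub.trans Set.subset_union_left) (by omega)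
  have hcompl := Set.ncard_add_ncard_compl Γ
  have hΓne : Γ ≠ Set.univ := by
    intro h
    rw [h, Set.ncard_univ] at hcard
    omega
  rcases lt_trichotomy (2 * Γ.ncard) (Nat.card Ω) with hlt | heq | hgt
  · -- Γ is a block
    have hblock : IsBlock G Γ := by
      rw [isBlock_iff_smul_eq_or_disjoint]
      intro g
      rcases star g with h | h | h
      · exact Or.inl h
      · exact Or.inr h
      · right
        rw [Set.disjoint_iff_inter_eq_empty, Set.inter_comm, ← Set.ncard_eq_zero (Set.toFinite _)]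
        have := hui g
        omega
    rcases hprim.isTrivialBlock_of_isBlock hblock with h | h
    · have := (Set.ncard_le_one_iff_subsingleton (s := Γ)).mpr h
      omega
    · exact hΓne h
  · -- lines are translates of Γ
    refine linear_space_false h2 Γ (by omega) hΓne ?_ Γ₀ hJ₀ h1 h2'
    intro g
    rcases star g with h | h | h
    · exact Or.inl h
    · right
      rw [Set.inter_comm, Set.disjoint_iff_inter_eq_empty.mp h]
      exact Set.subsingleton_empty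
    · right
      rw [← Set.ncard_le_one_iff_subsingleton]
      have := hui g
      omega
  · -- lines are translates of Γᶜ
    have hΓ0ne : Γ₀.Nonempty := by
      rw [← Set.ncard_pos (Set.toFinite _)]; omega
    obtain ⟨a0, ha0⟩ := hΓ0ne
    refine linear_space_false h2 Γᶜ (by omega) ?_ ?_ Γ₀ hJ₀ h1 h2'
    · intro h
      have : a0 ∈ Γᶜ := by rw [h]; trivial
      exact this (hsub ha0)
    intro g
    rw [Set.smul_set_compl]
    rcases star g with h | h | h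
    · left; rw [h]
    · exfalso
      have := Set.ncard_union_eq h
      rw [hsm] at this
      have h5 := Set.ncard_le_card (g • Γ ∪ Γ)
      omega
    · right
      rw [← Set.compl_union, ← Set.ncard_le_one_iff_subsingleton]
      have := Set.ncard_add_ncard_compl (Γ ∪ g • Γ)
      omega

theorem three_transitive [Finite Ω] (hprim : IsPreprimitive G Ω) (Γ : Set Ω)
    (h1 : 1 < Γ.ncard) (h2 : 2 * Γ.ncard ≤ Nat.card Ω) (htr : IsJ G Γ) :
    IsMultiplyPretransitive G Ω 3 := by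
  have hcompl := Set.ncard_add_ncard_compl Γ
  -- 2-transitivity via Jordan's theorem
  have h2t : IsMultiplyPretransitive G Ω 2 := by
    apply hprim.is_two_pretransitive (s := Γᶜ) (n := Γᶜ.ncard - 1) (by omega) (by omega)
    refine ⟨fun x y => ?_⟩
    have hx : (x : Ω) ∈ Γ := by
      have := x.2
      rw [SubMulAction.mem_ofFixingSubgroup_iff] at this
      simpa using this
    have hy : (y : Ω) ∈ Γ := by
      have := y.2
      rw [SubMulAction.mem_ofFixingSubgroup_iff] at this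
      simpa using this
    obtain ⟨g, hg, hgx⟩ := htr x hx y hy
    refine ⟨⟨g, ?_⟩, ?_⟩
    · rw [mem_fixingSubgroup_iff]
      intro z hz
      exact hg z hz
    · apply Subtype.ext
      exact hgx
  have h2'' : ∀ a b c d : Ω, a ≠ b → c ≠ d → ∃ g : G, g • a = c ∧ g • b = d :=
    fun a b c d hab hcd => is_two_pretransitive_iff.mp h2t hab hcd
  obtain ⟨Γ', hJ', hcard'⟩ := exists_jordan_compl_two hprim h2'' Γ htr h1 h2
    (Nat.card Ω - 2 - Γ.ncard) Γ htr subset_rfl (by omega)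
  have hc' := Set.ncard_add_ncard_compl Γ'
  have hc2 : Γ'ᶜ.ncard = 2 := by omega
  obtain ⟨α, β, hαβ, hΓ'c⟩ := Set.ncard_eq_two.mp hc2
  have hmem : ∀ z, z ∉ Γ' ↔ z = α ∨ z = β := by
    intro z
    rw [← Set.mem_compl_iff, hΓ'c]
    simp
  refine ⟨fun x y => ?_⟩
  have hx01 : x 0 ≠ x 1 := fun h => by simpa using x.injective h
  have hx02 : x 0 ≠ x 2 := fun h => by simpa using x.injective h
  have hx12 : x 1 ≠ x 2 := fun h => by simpa using x.injective h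
  have hy01 : y 0 ≠ y 1 := fun h => by simpa using y.injective h
  have hy02 : y 0 ≠ y 2 := fun h => by simpa using y.injective h
  have hy12 : y 1 ≠ y 2 := fun h => by simpa using y.injective h
  obtain ⟨g₁, hg₁0, hg₁1⟩ := h2'' (x 0) (x 1) α β hx01 hαβ
  obtain ⟨g₂, hg₂0, hg₂1⟩ := h2'' (y 0) (y 1) α β hy01 hαβ
  have hp : g₁ • x 2 ∈ Γ' := by
    by_contra h
    rcases (hmem _).mp h with h | h
    · rw [← hg₁0] at h; exact hx02 ((smul_left_cancel_iff _).mp h).symm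
    · rw [← hg₁1] at h; exact hx12 ((smul_left_cancel_iff _).mp h).symm
  have hq : g₂ • y 2 ∈ Γ' := by
    by_contra h
    rcases (hmem _).mp h with h | h
    · rw [← hg₂0] at h; exact hy02 ((smul_left_cancel_iff _).mp h).symm
    · rw [← hg₂1] at h; exact hy12 ((smul_left_cancel_iff _).mp h).symm
  obtain ⟨h, hh, hhp⟩ := hJ' _ hp _ hq
  have hhα : h • α = α := hh α ((hmem α).mpr (Or.inl rfl))
  have hhβ : h • β = β := hh β ((hmem β).mpr (Or.inr rfl))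
  refine ⟨g₂⁻¹ * h * g₁, ?_⟩
  ext i
  fin_cases i
  · show (g₂⁻¹ * h * g₁) • x 0 = y 0
    rw [mul_smul, mul_smul, hg₁0, hhα, inv_smul_eq_iff, hg₂0]
  · show (g₂⁻¹ * h * g₁) • x 1 = y 1
    rw [mul_smul, mul_smul, hg₁1, hhβ, inv_smul_eq_iff, hg₂1]
  · show (g₂⁻¹ * h * g₁) • x 2 = y 2
    rw [mul_smul, mul_smul, hhp, inv_smul_eq_iff]

end Cfsg.Agent.Lib.Helper22.Marggraf
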