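import Mathlib
import Cfsg.Agent.S5345
import Cfsg.Agent.Lib.Helper25.ThreeTrRankC

/-!
Maximal commuting sets of 3-transpositions (helper22, for S1612): the members of `D` in a
2-subgroup containing a commuting set `E` of largest size are exactly `E`; hence a Sylow
2-subgroup normalizes `E`, and a Sylow argument inside centralizers together with the rank three
property gives double transitivity of the normalizer on `E`.
-/

set_option autoImplicit false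
open Cfsg

namespace Cfsg.Agent.Lib.Helper22.MaxCommSet

open Cfsg.Agent.Lib.Helper25.ThreeTr Cfsg.Agent.Lib.Helper25.ThreeTrPrim

universe u
variable {G : Type u} [Group G]

/-- two `p`-subgroups can be brought into one Sylow subgroup -/
theorem exists_conj_le_sylow {H : Type*} [Group H] [Finite H] (p : ℕ) [Fact p.Prime]
    (Q₁ Q₂ : Subgroup H) (h₁ : IsPGroup p Q₁) (h₂ : IsPGroup p Q₂) :
    ∃ k : H, ∃ P : Sylow p H, Q₁ ≤ P ∧ ∀ x ∈ Q₂, k * x * k⁻¹ ∈ (P : Subgroup H) := by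
  obtain ⟨P₁, hP₁⟩ := h₁.exists_le_sylow
  obtain ⟨P₂, hP₂⟩ := h₂.exists_le_sylow
  obtain ⟨k, hk⟩ := MulAction.exists_smul_eq H P₂ P₁
  refine ⟨k, P₁, hP₁, fun x hx => ?_⟩
  have hx2 : x ∈ (P₂ : Subgroup H) := hP₂ hx
  have h3 : k * x * k⁻¹ ∈ ((k • P₂ : Sylow p H) : Subgroup H) := by
    rw [Sylow.coe_subgroup_smul]
    have := Subgroup.smul_mem_pointwise_smul x (MulAut.conj k) (P₂ : Subgroup H) hx2
    rwa [MulAut.smul_def, MulAut.conj_apply] at this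
  rwa [hk] at h3

/-- the same inside a subgroup `C` of `G` -/
theorem merge_in [Finite G] (C : Subgroup G) (p : ℕ) [Fact p.Prime] (Q₁ Q₂ : Subgroup G)
    (hC₁ : Q₁ ≤ C) (hC₂ : Q₂ ≤ C) (h₁ : IsPGroup p Q₁) (h₂ : IsPGroup p Q₂) :
    ∃ k ∈ C, ∃ S : Subgroup G, IsPGroup p S ∧ Q₁ ≤ S ∧ ∀ x ∈ Q₂, k * x * k⁻¹ ∈ S := by
  have h₁' : IsPGroup p (Q₁.subgroupOf C) := h₁.comap_subtype
  have h₂' : IsPGroup p (Q₂.subgroupOf C) := h₂.comap_subtype
  obtain ⟨k, P, hP₁, hP₂⟩ :=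
    exists_conj_le_sylow p (Q₁.subgroupOf C) (Q₂.subgroupOf C) h₁' h₂'
  refine ⟨k, k.2, (P : Subgroup C).map C.subtype, P.isPGroup'.map C.subtype, ?_, ?_⟩
  · intro x hx
    exact ⟨⟨x, hC₁ hx⟩, hP₁ (Subgroup.mem_subgroupOf.mpr hx), rfl⟩
  · intro x hx
    have := hP₂ ⟨x, hC₂ hx⟩ (Subgroup.mem_subgroupOf.mpr hx)
    exact ⟨_, this, by simp⟩

variable {D : Set G}

/-- members of `D` in a 2-subgroup commute -/
theorem comm_of_pgroup [Finite G] (h : TT D) (S : Subgroup G) (hS : IsPGroup 2 S) :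
    ∀ x ∈ D, x ∈ S → ∀ y ∈ D, y ∈ S → Commute x y := by
  haveI : Fact (Nat.Prime 2) := ⟨Nat.prime_two⟩
  obtain ⟨P, hP⟩ := hS.exists_le_sylow
  have hG : IsThreeTranspositionGroup D := ⟨⟨h.ord, h.prod⟩, h.conj, h.gen⟩
  have hc := (Cfsg.Agent.S5345.result hG P).1
  intro x hx hxS y hy hyS
  have hx' : x ∈ Subgroup.closure {d : G | d ∈ D ∧ d ∈ P} :=
    Subgroup.subset_closure ⟨hx, hP hxS⟩
  have hy' : y ∈ Subgroup.closure {d : G | d ∈ D ∧ d ∈ P} :=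
    Subgroup.subset_closure ⟨hy, hP hyS⟩
  have h4 := hc.is_comm.comm (⟨x, hx'⟩ : Subgroup.closure {d : G | d ∈ D ∧ d ∈ P}) ⟨y, hy'⟩
  exact congrArg Subtype.val h4

/-- the members of `D` in a 2-subgroup containing a largest commuting set `E` are exactly `E` -/
theorem inter_eq [Finite G] (h : TT D) {E : Set G} (hE : E ⊆ D)
    (hmax : ∀ E' : Set G, E' ⊆ D → (∀ a ∈ E', ∀ b ∈ E', Commute a b) → E'.ncard ≤ E.ncard)
    (S : Subgroup G) (hS : IsPGroup 2 S) (hES : ∀ x ∈ E, x ∈ S) :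
    {d : G | d ∈ D ∧ d ∈ S} = E := by
  have hsub : E ⊆ {d : G | d ∈ D ∧ d ∈ S} := fun x hx => ⟨hE hx, hES x hx⟩
  have hle := hmax {d : G | d ∈ D ∧ d ∈ S} (fun x hx => hx.1)
    (fun a ha b hb => comm_of_pgroup h S hS a ha.1 ha.2 b hb.1 hb.2)
  exact (Set.eq_of_subset_of_ncard_le hsub hle (Set.toFinite _)).symm

theorem closure_pgroup (h : TT D) {E : Set G} (hE : E ⊆ D)
    (hc : ∀ a ∈ E, ∀ b ∈ E, Commute a b) : IsPGroup 2 (Subgroup.closure E) :=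
  isPGroup_two_closure E (fun s hs t ht => (hc s hs t ht).eq) (fun s hs => h.sq (hE hs))

/-- a Sylow 2-subgroup normalizes `E` -/
theorem part1 [Finite G] (h : TT D) {E : Set G} (hE : E ⊆ D)
    (hc : ∀ a ∈ E, ∀ b ∈ E, Commute a b)
    (hmax : ∀ E' : Set G, E' ⊆ D → (∀ a ∈ E', ∀ b ∈ E', Commute a b) → E'.ncard ≤ E.ncard) :
    ∃ P : Sylow 2 G, (P : Subgroup G) ≤ Subgroup.normalizer E := by
  haveI : Fact (Nat.Prime 2) := ⟨Nat.prime_two⟩
  obtain ⟨P, hP⟩ := (closure_pgroup h hE hc).exists_le_sylow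
  have hEq := inter_eq h hE hmax (P : Subgroup G) P.isPGroup'
    (fun x hx => hP (Subgroup.subset_closure hx))
  refine ⟨P, fun g hg => ?_⟩
  rw [Subgroup.mem_set_normalizer_iff]
  intro x
  rw [← hEq]
  constructor
  · rintro ⟨hxD, hxP⟩
    exact ⟨h.conj g x hxD, (P : Subgroup G).mul_mem ((P : Subgroup G).mul_mem hg hxP)
      ((P : Subgroup G).inv_mem hg)⟩
  · rintro ⟨hxD, hxP⟩
    constructor
    · have h5 := h.conj g⁻¹ _ hxD
      have e : g⁻¹ * (g * x * g⁻¹) * g⁻¹⁻¹ = x := by group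
      rwa [e] at h5
    · have h5 := (P : Subgroup G).mul_mem
        ((P : Subgroup G).mul_mem ((P : Subgroup G).inv_mem hg) hxP) hg
      have e : g⁻¹ * (g * x * g⁻¹) * g = x := by group
      rwa [e] at h5

/-- if the conjugate of `E` by `g` shares the members `X` with `E`, some `k` centralizing `X`
makes `k * g` normalize `E` -/
theorem key [Finite G] (h : TT D) {E : Set G} (hE : E ⊆ D)
    (hc : ∀ a ∈ E, ∀ b ∈ E, Commute a b)
    (hmax : ∀ E' : Set G, E' ⊆ D → (∀ a ∈ E', ∀ b ∈ E', Commute a b) → E'.ncard ≤ E.ncard)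
    (g : G) (X : Set G) (hXE : X ⊆ E) (hXg : ∀ x ∈ X, ∃ e ∈ E, x = g * e * g⁻¹) :
    ∃ k : G, (∀ x ∈ X, Commute k x) ∧ k * g ∈ Subgroup.normalizer E := by
  haveI : Fact (Nat.Prime 2) := ⟨Nat.prime_two⟩
  obtain ⟨E', hE'⟩ : ∃ E' : Set G, E' = (fun e => g * e * g⁻¹) '' E := ⟨_, rfl⟩
  have hE'D : E' ⊆ D := by
    rw [hE']
    rintro _ ⟨e, he, rfl⟩
    exact h.conj g e (hE he)
  have hc' : ∀ a ∈ E', ∀ b ∈ E', Commute a b := by
    rw [hE']
    rintro _ ⟨a, ha, rfl⟩ _ ⟨b, hb, rfl⟩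
    exact (Commute.conj_iff g).mpr (hc a ha b hb)
  have hQ₁ := closure_pgroup h hE hc
  have hQ₂ := closure_pgroup h hE'D hc'
  have hC₁ : Subgroup.closure E ≤ Subgroup.centralizer X := by
    rw [Subgroup.closure_le]
    intro e he
    rw [SetLike.mem_coe, Subgroup.mem_centralizer_iff]
    intro x hx
    exact (hc x (hXE hx) e he).eq
  have hC₂ : Subgroup.closure E' ≤ Subgroup.centralizer X := by
    rw [Subgroup.closure_le]
    intro y hy
    rw [SetLike.mem_coe, Subgroup.mem_centralizer_iff]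
    intro x hx
    obtain ⟨e, he, rfl⟩ := hXg x hx
    have hmem : g * e * g⁻¹ ∈ E' := by rw [hE']; exact ⟨e, he, rfl⟩
    exact (hc' _ hmem y hy).eq
  obtain ⟨k, hkC, S, hS, hS₁, hS₂⟩ :=
    merge_in (Subgroup.centralizer X) 2 _ _ hC₁ hC₂ hQ₁ hQ₂
  have hES : ∀ x ∈ E, x ∈ S := fun x hx => hS₁ (Subgroup.subset_closure hx)
  have hEq := inter_eq h hE hmax S hS hES
  have himg : ∀ e ∈ E, (k * g) * e * (k * g)⁻¹ ∈ E := by
    intro e he
    rw [← hEq]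
    refine ⟨h.conj _ e (hE he), ?_⟩
    have hmem : g * e * g⁻¹ ∈ E' := by rw [hE']; exact ⟨e, he, rfl⟩
    have h6 := hS₂ (g * e * g⁻¹) (Subgroup.subset_closure hmem)
    have e1 : (k * g) * e * (k * g)⁻¹ = k * (g * e * g⁻¹) * k⁻¹ := by group
    rw [e1]; exact h6
  refine ⟨k, ?_, ?_⟩
  · intro x hx
    have h7 := Subgroup.mem_centralizer_iff.mp hkC x hx
    exact h7.symm
  · rw [Subgroup.mem_set_normalizer_iff]
    have hinj : Function.Injective (fun e : G => (k * g) * e * (k * g)⁻¹) :=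
      conj_injective (k * g)
    have hsub : (fun e : G => (k * g) * e * (k * g)⁻¹) '' E ⊆ E := by
      rintro _ ⟨e, he, rfl⟩
      exact himg e he
    have hcard : E.ncard ≤ ((fun e : G => (k * g) * e * (k * g)⁻¹) '' E).ncard := by
      rw [Set.ncard_image_of_injective _ hinj]
    have heq := Set.eq_of_subset_of_ncard_le hsub hcard (Set.toFinite _)
    intro x
    constructor
    · intro hx; exact himg x hx
    · intro hx
      rw [← heq] at hx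
      obtain ⟨e, he, hex⟩ := hx
      have h8 : e = x := hinj hex
      rw [← h8]; exact he

theorem conj_eq_of_commute {k c : G} (hk : Commute k c) : k * c * k⁻¹ = c := by
  rw [hk.eq]; group

/-- the normalizer of `E` is doubly transitive on `E` -/
theorem part2 [Finite G] (h : TT D) (hprim : IsPrimitiveUnderConj D) {E : Set G} (hE : E ⊆ D)
    (hc : ∀ a ∈ E, ∀ b ∈ E, Commute a b)
    (hmax : ∀ E' : Set G, E' ⊆ D → (∀ a ∈ E', ∀ b ∈ E', Commute a b) → E'.ncard ≤ E.ncard) :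
    ∀ a ∈ E, ∀ b ∈ E, ∀ c ∈ E, ∀ d ∈ E, a ≠ b → c ≠ d →
      ∃ g ∈ Subgroup.normalizer E, g * a * g⁻¹ = c ∧ g * b * g⁻¹ = d := by
  intro a ha b hb c hcE d hd hab hcd
  have hw : ∃ a ∈ D, ∃ b ∈ D, a ≠ b ∧ Commute a b :=
    ⟨a, hE ha, b, hE hb, hab, hc a ha b hb⟩
  obtain ⟨g₀, hg₀⟩ := h.trans a (hE ha) c (hE hcE)
  obtain ⟨k₁, hk₁, hn₁⟩ := key h hE hc hmax g₀ {c}
    (by intro x hx; rw [Set.mem_singleton_iff] at hx; rw [hx]; exact hcE)
    (by intro x hx; rw [Set.mem_singleton_iff] at hx; exact ⟨a, ha, by rw [hx, hg₀]⟩)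
  have hg₁a : (k₁ * g₀) * a * (k₁ * g₀)⁻¹ = c := by
    have e1 : (k₁ * g₀) * a * (k₁ * g₀)⁻¹ = k₁ * (g₀ * a * g₀⁻¹) * k₁⁻¹ := by group
    rw [e1, hg₀]
    exact conj_eq_of_commute (hk₁ c rfl)
  obtain ⟨b', hb'⟩ : ∃ b' : G, b' = (k₁ * g₀) * b * (k₁ * g₀)⁻¹ := ⟨_, rfl⟩
  have hb'E : b' ∈ E := by
    rw [hb']
    exact (Subgroup.mem_set_normalizer_iff.mp hn₁ b).mp hb
  have hb'c : b' ≠ c := by
    intro e
    apply hab
    rw [hb', ← hg₁a] at e
    exact (conj_injective (k₁ * g₀) e).symm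
  obtain ⟨-, -, hr3, -⟩ := rank_three h hprim hw (hE hcE)
  obtain ⟨g₂, hg₂c, hg₂⟩ := hr3 b' (hE hb'E) d (hE hd) hb'c (Ne.symm hcd)
    (hc c hcE b' hb'E) (hc c hcE d hd)
  obtain ⟨k₂, hk₂, hn₂⟩ := key h hE hc hmax g₂ {c, d}
    (by
      intro x hx
      rcases hx with rfl | hx
      · exact hcE
      · rw [Set.mem_singleton_iff] at hx; rw [hx]; exact hd)
    (by
      intro x hx
      rcases hx with rfl | hx
      · exact ⟨x, hcE, (conj_eq_of_commute hg₂c).symm⟩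
      · rw [Set.mem_singleton_iff] at hx
        exact ⟨b', hb'E, by rw [hx, hg₂]⟩)
  refine ⟨(k₂ * g₂) * (k₁ * g₀), Subgroup.mul_mem _ hn₂ hn₁, ?_, ?_⟩
  · have e1 : (k₂ * g₂) * (k₁ * g₀) * a * ((k₂ * g₂) * (k₁ * g₀))⁻¹ =
        k₂ * (g₂ * ((k₁ * g₀) * a * (k₁ * g₀)⁻¹) * g₂⁻¹) * k₂⁻¹ := by group
    rw [e1, hg₁a, conj_eq_of_commute hg₂c]
    exact conj_eq_of_commute (hk₂ c (Set.mem_insert _ _))
  · have e1 : (k₂ * g₂) * (k₁ * g₀) * b * ((k₂ * g₂) * (k₁ * g₀))⁻¹ =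
        k₂ * (g₂ * ((k₁ * g₀) * b * (k₁ * g₀)⁻¹) * g₂⁻¹) * k₂⁻¹ := by group
    rw [e1, ← hb', hg₂]
    exact conj_eq_of_commute (hk₂ d (Set.mem_insert_of_mem _ rfl))

end Cfsg.Agent.Lib.Helper22.MaxCommSet
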