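import Mathlib

/-!
# Calculus of monomial `2 × 2` linear equivalences `diag(a, s/a)` and `antidiag(s/a, a)`
-/

set_option autoImplicit false

namespace Cfsg.Agent.Lib.Helper22.Monomial2

variable {F : Type*} [Field F]

/-- `x = diag(a, s a⁻¹)` -/
def IsDg (x : (Fin 2 → F) ≃ₗ[F] (Fin 2 → F)) (a s : F) : Prop :=
  ∀ v, x v = ![a * v 0, s * a⁻¹ * v 1]

/-- `x = antidiag(s a⁻¹, a)` -/
def IsWg (x : (Fin 2 → F) ≃ₗ[F] (Fin 2 → F)) (a s : F) : Prop :=
  ∀ v, x v = ![s * a⁻¹ * v 1, a * v 0]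

theorem vec2_eq {p q p' q' : F} (h1 : p = p') (h2 : q = q') : ![p, q] = ![p', q'] := by
  rw [h1, h2]

theorem vec2_inj {p q p' q' : F} (h : ![p, q] = ![p', q']) : p = p' ∧ q = q' := by
  have h0 := congrFun h 0
  have h1 := congrFun h 1
  simp at h0 h1
  exact ⟨h0, h1⟩

variable {x y : (Fin 2 → F) ≃ₗ[F] (Fin 2 → F)} {a b s t : F}

theorem dg_one : IsDg (1 : (Fin 2 → F) ≃ₗ[F] (Fin 2 → F)) 1 1 := by
  intro v
  funext i
  fin_cases i <;> simp

theorem dg_mul_dg (hx : IsDg x a s) (hy : IsDg y b t) : IsDg (x * y) (a * b) (s * t) := by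
  intro v
  rw [LinearEquiv.mul_apply, hx, hy]
  apply vec2_eq
  · simp; ring
  · simp; ring

theorem inv_of_sq (hs : s * s = 1) : s⁻¹ = s := inv_eq_of_mul_eq_one_right hs

theorem dg_mul_wg (hs : s * s = 1) (ha : a ≠ 0) (hx : IsDg x a s) (hy : IsWg y b t) :
    IsWg (x * y) (s * a⁻¹ * b) (s * t) := by
  intro v
  rw [LinearEquiv.mul_apply, hx, hy]
  apply vec2_eq
  · simp only [Matrix.cons_val_zero, Matrix.cons_val_one]
    rw [mul_inv, mul_inv, inv_inv, inv_of_sq hs]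
    linear_combination (-(t * a * b⁻¹ * v 1)) * hs
  · simp only [Matrix.cons_val_zero, Matrix.cons_val_one]
    ring

theorem wg_mul_dg (hx : IsWg x a s) (hy : IsDg y b t) : IsWg (x * y) (a * b) (s * t) := by
  intro v
  rw [LinearEquiv.mul_apply, hx, hy]
  apply vec2_eq
  · simp; ring
  · simp; ring

theorem wg_mul_wg (hs : s * s = 1) (ha : a ≠ 0) (hx : IsWg x a s) (hy : IsWg y b t) :
    IsDg (x * y) (s * a⁻¹ * b) (s * t) := by
  intro v
  rw [LinearEquiv.mul_apply, hx, hy]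
  apply vec2_eq
  · simp only [Matrix.cons_val_zero, Matrix.cons_val_one]
    ring
  · simp only [Matrix.cons_val_zero, Matrix.cons_val_one]
    rw [mul_inv, mul_inv, inv_inv, inv_of_sq hs]
    linear_combination (-(t * a * b⁻¹ * v 1)) * hs

theorem dg_inv (hs : s * s = 1) (ha : a ≠ 0) (hx : IsDg x a s) : IsDg x⁻¹ a⁻¹ s := by
  intro v
  apply x.injective
  have : x (x⁻¹ v) = v := by
    rw [← LinearEquiv.mul_apply, mul_inv_cancel]; rfl
  rw [this, hx]
  funext i
  fin_cases i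
  · simp only [Fin.zero_eta, Matrix.cons_val_zero]
    field_simp
  · simp only [Fin.mk_one, Matrix.cons_val_one, Matrix.cons_val_zero, inv_inv]
    field_simp
    linear_combination (-(v 1)) * hs

theorem wg_inv (hs : s * s = 1) (ha : a ≠ 0) (hx : IsWg x a s) : IsWg x⁻¹ (s * a) s := by
  intro v
  apply x.injective
  have : x (x⁻¹ v) = v := by
    rw [← LinearEquiv.mul_apply, mul_inv_cancel]; rfl
  rw [this, hx]
  funext i
  fin_cases i
  · simp only [Fin.zero_eta, Matrix.cons_val_zero, Matrix.cons_val_one]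
    field_simp
    linear_combination (-(v 0)) * hs
  · simp only [Fin.mk_one, Matrix.cons_val_one, Matrix.cons_val_zero]
    rw [mul_inv, inv_of_sq hs]
    field_simp
    linear_combination (-(v 1)) * hs

theorem dg_unique (ha : a ≠ 0) (hx : IsDg x a s) (hx' : IsDg x b t) : a = b ∧ s = t := by
  have h0 := (hx ![1, 0]).symm.trans (hx' ![1, 0])
  have h1 := (hx ![0, 1]).symm.trans (hx' ![0, 1])
  simp at h0 h1
  refine ⟨h0, ?_⟩
  rw [← h0] at h1
  exact mul_right_cancel₀ (inv_ne_zero ha) h1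

theorem wg_unique (ha : a ≠ 0) (hx : IsWg x a s) (hx' : IsWg x b t) : a = b ∧ s = t := by
  have h0 := (hx ![1, 0]).symm.trans (hx' ![1, 0])
  have h1 := (hx ![0, 1]).symm.trans (hx' ![0, 1])
  simp at h0 h1
  refine ⟨h0, ?_⟩
  rw [← h0] at h1
  exact mul_right_cancel₀ (inv_ne_zero ha) h1

theorem dg_wg_false (ha : a ≠ 0) (hx : IsDg x a s) (hx' : IsWg x b t) : False := by
  have h0 := (hx ![1, 0]).symm.trans (hx' ![1, 0])
  simp at h0
  exact ha h0.1

theorem dg_ext (hx : IsDg x a s) (hy : IsDg y a s) : x = y := by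
  apply LinearEquiv.ext
  intro v
  rw [hx, hy]

theorem wg_ext (hx : IsWg x a s) (hy : IsWg y a s) : x = y := by
  apply LinearEquiv.ext
  intro v
  rw [hx, hy]

theorem dg_congr {a' s' : F} (hx : IsDg x a s) (ha : a = a') (hs : s = s') : IsDg x a' s' := by
  rw [← ha, ← hs]; exact hx

theorem wg_congr {a' s' : F} (hx : IsWg x a s) (ha : a = a') (hs : s = s') : IsWg x a' s' := by
  rw [← ha, ← hs]; exact hx

theorem dg_pow (hx : IsDg x a s) (n : ℕ) : IsDg (x ^ n) (a ^ n) (s ^ n) := by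
  induction n with
  | zero => simpa using (dg_one (F := F))
  | succ n ih =>
    rw [pow_succ, pow_succ, pow_succ]
    exact dg_mul_dg ih hx

/-! ### constructions -/

/-- the diagonal linear equivalence with unit entries -/
def diagU (c : Fin 2 → Fˣ) : (Fin 2 → F) ≃ₗ[F] (Fin 2 → F) :=
  LinearEquiv.piCongrRight (fun i => LinearEquiv.smulOfUnit (c i))

theorem diagU_apply (c : Fin 2 → Fˣ) (v : Fin 2 → F) :
    diagU c v = ![(c 0 : F) * v 0, (c 1 : F) * v 1] := by
  funext i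
  fin_cases i
  · simp [diagU, LinearEquiv.smulOfUnit, Units.smul_def]
  · simp [diagU, LinearEquiv.smulOfUnit, Units.smul_def]

/-- the swap -/
def swapL : (Fin 2 → F) ≃ₗ[F] (Fin 2 → F) :=
  LinearEquiv.funCongrLeft F F (Equiv.swap 0 1)

theorem swapL_apply (v : Fin 2 → F) : (swapL : (Fin 2 → F) ≃ₗ[F] (Fin 2 → F)) v = ![v 1, v 0] := by
  funext i
  fin_cases i
  · simp [swapL, LinearEquiv.funCongrLeft_apply, LinearMap.funLeft_apply]
  · simp [swapL, LinearEquiv.funCongrLeft_apply, LinearMap.funLeft_apply]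

/-- `diag(a, s a⁻¹)` -/
theorem exists_dg (a s : F) (ha : a ≠ 0) (hs : s ≠ 0) :
    ∃ x : (Fin 2 → F) ≃ₗ[F] (Fin 2 → F), IsDg x a s := by
  refine ⟨diagU ![Units.mk0 a ha, Units.mk0 (s * a⁻¹) (mul_ne_zero hs (inv_ne_zero ha))], ?_⟩
  intro v
  rw [diagU_apply]
  simp

/-- `antidiag(s a⁻¹, a)` -/
theorem exists_wg (a s : F) (ha : a ≠ 0) (hs : s ≠ 0) :
    ∃ x : (Fin 2 → F) ≃ₗ[F] (Fin 2 → F), IsWg x a s := by
  refine ⟨diagU ![Units.mk0 (s * a⁻¹) (mul_ne_zero hs (inv_ne_zero ha)), Units.mk0 a ha] * swapL,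
    ?_⟩
  intro v
  rw [LinearEquiv.mul_apply, swapL_apply, diagU_apply]
  simp

end Cfsg.Agent.Lib.Helper22.Monomial2
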