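import Mathlib
import Cfsg.Agent.Lib.Helper22.AutChain
import Cfsg.Agent.Lib.Helper22.Monomial2

/-!
# The automorphism group of the monomial 2-group `{diag(a, ±1/a)} ∪ {antidiag(±1/a, a)}`
-/

set_option autoImplicit false

namespace Cfsg.Agent.Lib.Helper22.MonoAut

open Cfsg.Agent.Lib.Helper22.AutChain Cfsg.Agent.Lib.Helper22.Monomial2

variable {F : Type*} [Field F] (T : Subgroup ((Fin 2 → F) ≃ₗ[F] (Fin 2 → F)))

/-- bundled diagonal type -/
def Dg (x : T) (a s : F) : Prop :=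
  a ≠ 0 ∧ (s = 1 ∨ s = -1) ∧ IsDg (x : (Fin 2 → F) ≃ₗ[F] (Fin 2 → F)) a s

/-- bundled antidiagonal type -/
def Wg (x : T) (a s : F) : Prop :=
  a ≠ 0 ∧ (s = 1 ∨ s = -1) ∧ IsWg (x : (Fin 2 → F) ≃ₗ[F] (Fin 2 → F)) a s

theorem ssq {s : F} (hs : s = 1 ∨ s = -1) : s * s = 1 := by
  rcases hs with rfl | rfl <;> ring

theorem smul_pm {s t : F} (hs : s = 1 ∨ s = -1) (ht : t = 1 ∨ t = -1) :
    s * t = 1 ∨ s * t = -1 := by
  rcases hs with rfl | rfl <;> rcases ht with rfl | rfl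
  · left; ring
  · right; ring
  · right; ring
  · left; ring

theorem s_ne_zero {s : F} (hs : s = 1 ∨ s = -1) : s ≠ 0 := by
  rcases hs with rfl | rfl
  · exact one_ne_zero
  · exact neg_ne_zero.mpr one_ne_zero

theorem pm_of_sq {c : F} (h : c * c = 1) : c = 1 ∨ c = -1 := by
  have : (c - 1) * (c + 1) = 0 := by linear_combination h
  rcases mul_eq_zero.mp this with h1 | h1
  · left; linear_combination h1
  · right; linear_combination h1

variable {T}

theorem dd {x y : T} {a b s t : F} (hx : Dg T x a s) (hy : Dg T y b t) :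
    Dg T (x * y) (a * b) (s * t) :=
  ⟨mul_ne_zero hx.1 hy.1, smul_pm hx.2.1 hy.2.1, by
    rw [Subgroup.coe_mul]; exact dg_mul_dg hx.2.2 hy.2.2⟩

theorem dw {x y : T} {a b s t : F} (hx : Dg T x a s) (hy : Wg T y b t) :
    Wg T (x * y) (s * a⁻¹ * b) (s * t) :=
  ⟨mul_ne_zero (mul_ne_zero (s_ne_zero hx.2.1) (inv_ne_zero hx.1)) hy.1,
    smul_pm hx.2.1 hy.2.1, by
    rw [Subgroup.coe_mul]; exact dg_mul_wg (ssq hx.2.1) hx.1 hx.2.2 hy.2.2⟩

theorem wd {x y : T} {a b s t : F} (hx : Wg T x a s) (hy : Dg T y b t) :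
    Wg T (x * y) (a * b) (s * t) :=
  ⟨mul_ne_zero hx.1 hy.1, smul_pm hx.2.1 hy.2.1, by
    rw [Subgroup.coe_mul]; exact wg_mul_dg hx.2.2 hy.2.2⟩

theorem ww {x y : T} {a b s t : F} (hx : Wg T x a s) (hy : Wg T y b t) :
    Dg T (x * y) (s * a⁻¹ * b) (s * t) :=
  ⟨mul_ne_zero (mul_ne_zero (s_ne_zero hx.2.1) (inv_ne_zero hx.1)) hy.1,
    smul_pm hx.2.1 hy.2.1, by
    rw [Subgroup.coe_mul]; exact wg_mul_wg (ssq hx.2.1) hx.1 hx.2.2 hy.2.2⟩

theorem dinv {x : T} {a s : F} (hx : Dg T x a s) : Dg T x⁻¹ a⁻¹ s :=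
  ⟨inv_ne_zero hx.1, hx.2.1, by
    rw [Subgroup.coe_inv]; exact dg_inv (ssq hx.2.1) hx.1 hx.2.2⟩

theorem winv {x : T} {a s : F} (hx : Wg T x a s) : Wg T x⁻¹ (s * a) s :=
  ⟨mul_ne_zero (s_ne_zero hx.2.1) hx.1, hx.2.1, by
    rw [Subgroup.coe_inv]; exact wg_inv (ssq hx.2.1) hx.1 hx.2.2⟩

theorem done : Dg T (1 : T) 1 1 :=
  ⟨one_ne_zero, Or.inl rfl, by rw [Subgroup.coe_one]; exact dg_one⟩

theorem dcongr {x : T} {a s a' s' : F} (hx : Dg T x a s) (ha : a = a') (hs : s = s') :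
    Dg T x a' s' := by rw [← ha, ← hs]; exact hx

theorem wcongr {x : T} {a s a' s' : F} (hx : Wg T x a s) (ha : a = a') (hs : s = s') :
    Wg T x a' s' := by rw [← ha, ← hs]; exact hx

theorem duniq {x : T} {a s b t : F} (hx : Dg T x a s) (hx' : Dg T x b t) : a = b ∧ s = t :=
  dg_unique hx.1 hx.2.2 hx'.2.2

theorem wuniq {x : T} {a s b t : F} (hx : Wg T x a s) (hx' : Wg T x b t) : a = b ∧ s = t :=
  wg_unique hx.1 hx.2.2 hx'.2.2

theorem dw_false {x : T} {a s b t : F} (hx : Dg T x a s) (hx' : Wg T x b t) : False :=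
  dg_wg_false hx.1 hx.2.2 hx'.2.2

theorem dext {x y : T} {a s : F} (hx : Dg T x a s) (hy : Dg T y a s) : x = y :=
  Subtype.ext (dg_ext hx.2.2 hy.2.2)

theorem wext {x y : T} {a s : F} (hx : Wg T x a s) (hy : Wg T y a s) : x = y :=
  Subtype.ext (wg_ext hx.2.2 hy.2.2)

theorem eq_one_of_d11 {x : T} (hx : Dg T x 1 1) : x = 1 := dext hx done

theorem dpow {x : T} {a s : F} (hx : Dg T x a s) (n : ℕ) : Dg T (x ^ n) (a ^ n) (s ^ n) := by
  induction n with
  | zero => simpa using (done (T := T))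
  | succ n ih =>
    rw [pow_succ, pow_succ, pow_succ]
    exact dd ih hx

theorem dd_comm {x z : T} {a s c u : F} (hx : Dg T x a s) (hz : Dg T z c u) : x * z = z * x :=
  dext (dd hx hz) (dcongr (dd hz hx) (mul_comm _ _) (mul_comm _ _))

/-- a diagonal element with `s = 1` and `a² = 1` is a central involution (or trivial) -/
theorem Z2_of (cls : ∀ x : T, ∃ a s, Dg T x a s ∨ Wg T x a s) {x : T} {a : F}
    (hx : Dg T x a 1) (ha : a * a = 1) : Z2 x := by
  refine ⟨eq_one_of_d11 (dcongr (dd hx hx) ha (by ring)), ?_⟩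
  intro y
  obtain ⟨b, t, hy | hy⟩ := cls y
  · exact dd_comm hx hy
  · have hainv : a⁻¹ = a := inv_eq_of_mul_eq_one_right ha
    exact wext (dw hx hy) (wcongr (wd hy hx) (by rw [hainv]; ring) (by ring))

section main
variable (hT : ∀ f, f ∈ T ↔ ∃ a s : F, a ≠ 0 ∧ (s = 1 ∨ s = -1) ∧
      ((∀ v, f v = ![a * v 0, s * a⁻¹ * v 1]) ∨ (∀ v, f v = ![s * a⁻¹ * v 1, a * v 0])))
include hT

theorem cls (x : T) : ∃ a s, Dg T x a s ∨ Wg T x a s := by
  obtain ⟨a, s, ha, hs, h | h⟩ := (hT x).mp x.2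
  · exact ⟨a, s, Or.inl ⟨ha, hs, h⟩⟩
  · exact ⟨a, s, Or.inr ⟨ha, hs, h⟩⟩

theorem mkD (a s : F) (ha : a ≠ 0) (hs : s = 1 ∨ s = -1) : ∃ x : T, Dg T x a s := by
  obtain ⟨f, hf⟩ := exists_dg a s ha (s_ne_zero hs)
  exact ⟨⟨f, (hT f).mpr ⟨a, s, ha, hs, Or.inl hf⟩⟩, ha, hs, hf⟩

theorem mkW (a s : F) (ha : a ≠ 0) (hs : s = 1 ∨ s = -1) : ∃ x : T, Wg T x a s := by
  obtain ⟨f, hf⟩ := exists_wg a s ha (s_ne_zero hs)
  exact ⟨⟨f, (hT f).mpr ⟨a, s, ha, hs, Or.inr hf⟩⟩, ha, hs, hf⟩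

theorem sq_is_d (y : T) : ∃ c u, Dg T (y * y) c u := by
  obtain ⟨b, t, hy | hy⟩ := cls hT y
  · exact ⟨_, _, dd hy hy⟩
  · exact ⟨_, _, ww hy hy⟩

theorem isD_of_d {x : T} {a s : F} (hx : Dg T x a s) : isD x := by
  intro y
  obtain ⟨c, u, hz⟩ := sq_is_d hT y
  exact dd_comm hx hz

theorem isPGroup_T [Finite F] (m : ℕ) (hferm : ∀ a : F, a ≠ 0 → a ^ (2 ^ m) = 1) :
    IsPGroup 2 T := by
  have hd : ∀ x : T, ∀ a s, Dg T x a s → x ^ (2 ^ (m + 1)) = 1 := by
    intro x a s hx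
    apply eq_one_of_d11
    refine dcongr (dpow hx (2 ^ (m + 1))) ?_ ?_
    · rw [pow_succ, pow_mul, hferm a hx.1, one_pow]
    · rw [pow_succ, mul_comm, pow_mul, pow_two, ssq hx.2.1, one_pow]
  intro x
  obtain ⟨a, s, hx | hx⟩ := cls hT x
  · exact ⟨m + 1, hd x a s hx⟩
  · refine ⟨m + 2, ?_⟩
    have h2 := hd (x * x) _ _ (ww hx hx)
    rw [← pow_two, ← pow_mul, ← pow_succ'] at h2
    exact h2

/-- the generic case -/
theorem generic [Finite F] (m : ℕ) (hferm : ∀ a : F, a ≠ 0 → a ^ (2 ^ m) = 1)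
    (h2 : (2 : F) ≠ 0) (h16 : (16 : F) ≠ 1) : IsPGroup 2 (MulAut T) := by
  haveI : Finite ((Fin 2 → F) ≃ₗ[F] (Fin 2 → F)) :=
    Finite.of_injective (fun f => (f : (Fin 2 → F) → (Fin 2 → F))) DFunLike.coe_injective
  haveI : Finite T := inferInstance
  have hT2 := isPGroup_T hT m hferm
  have hneg1 : (-1 : F) ≠ 1 := by
    intro h
    apply h2
    linear_combination -h
  have hm1 : 1 ≤ m := by
    rcases Nat.eq_zero_or_pos m with h | h
    · exfalso
      have := hferm (-1) (neg_ne_zero.mpr one_ne_zero)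
      rw [h, pow_zero, pow_one] at this
      exact hneg1 this
    · exact h
  obtain ⟨y₀, hy₀⟩ := mkD hT 2 1 h2 (Or.inl rfl)
  obtain ⟨w₀, hw₀⟩ := mkW hT 1 1 one_ne_zero (Or.inl rfl)
  obtain ⟨d₁, hd₁⟩ := mkD hT 1 (-1) one_ne_zero (Or.inr rfl)
  -- characterization of isD
  have K1 : ∀ x : T, isD x → ∃ a s, Dg T x a s := by
    intro x hx
    obtain ⟨a, s, h | h⟩ := cls hT x
    · exact ⟨a, s, h⟩
    · exfalso
      have hz := dd hy₀ hy₀
      have e := hx y₀
      have h1 := wd h hz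
      have h2' := dw hz h
      rw [e] at h1
      have := (wuniq h1 h2').1
      apply h16
      have ha := h.1
      field_simp at this
      linear_combination this
  have pow_eq_one_iff : ∀ (x : T) (a s : F), Dg T x a s → ∀ k, 1 ≤ k →
      (x ^ (2 ^ k) = 1 ↔ a ^ (2 ^ k) = 1) := by
    intro x a s hx k hk
    constructor
    · intro h
      have h1 := dpow hx (2 ^ k)
      rw [h] at h1
      exact ((duniq h1 done).1)
    · intro h
      apply eq_one_of_d11
      refine dcongr (dpow hx (2 ^ k)) h ?_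
      obtain ⟨k', rfl⟩ := Nat.exists_eq_add_of_le hk
      rw [pow_add, pow_one, pow_mul, pow_two, ssq hx.2.1, one_pow]
  -- Z2 characterization
  have Z2_char : ∀ x : T, Z2 x → x ≠ 1 → Dg T x (-1) 1 := by
    intro x hx hx1
    obtain ⟨a, s, h | h⟩ := cls hT x
    · have hsq := dd h h
      rw [hx.1] at hsq
      have haa : a * a = 1 := ((duniq hsq done).1)
      have hcomm := hx.2 w₀
      have h1 := dw h hw₀
      have h2' := wd hw₀ h
      rw [hcomm] at h1
      have e := (wuniq h1 h2').1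
      have hs1 : s = 1 := by
        have ha := h.1
        have h3 : s * a⁻¹ * a = s := by field_simp
        calc s = s * a⁻¹ * a := h3.symm
          _ = (s * a⁻¹ * 1) * a := by ring
          _ = (1 * a) * a := by rw [e]
          _ = 1 := by rw [one_mul, haa]
      rcases pm_of_sq haa with ha1 | ha1
      · exfalso
        apply hx1
        exact eq_one_of_d11 (dcongr h ha1 hs1)
      · exact dcongr h ha1 hs1
    · exfalso
      have hcomm := hx.2 d₁
      have h1 := wd h hd₁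
      have h2' := dw hd₁ h
      rw [hcomm] at h1
      have e := (wuniq h1 h2').1
      apply h2
      have ha := h.1
      rw [inv_one] at e
      have : (2 : F) * a = 0 := by linear_combination e
      rcases mul_eq_zero.mp this with h0 | h0
      · exact h0
      · exact absurd h0 ha
  -- coset properties
  have c0 : ∀ x y : T, Z2 x → Z2 y → ¬ x = 1 → ¬ y = 1 → x⁻¹ * y = 1 := by
    intro x y hx hy hx1 hy1
    have := dext (Z2_char x hx hx1) (Z2_char y hy hy1)
    rw [this, inv_mul_cancel]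
  have c1 : ∀ x y : T, Om 1 x → Om 1 y → ¬ Z2 x → ¬ Z2 y → Z2 (x⁻¹ * y) := by
    have aux : ∀ x : T, Om 1 x → ¬ Z2 x → ∃ a, Dg T x a (-1) ∧ a * a = 1 := by
      intro x hx hxz
      obtain ⟨a, s, h⟩ := K1 x hx.1
      have haa : a * a = 1 := by
        have := (pow_eq_one_iff x a s h 1 le_rfl).mp hx.2
        rw [pow_one, pow_two] at this
        exact this
      rcases h.2.1 with hs | hs
      · exfalso
        apply hxz
        exact Z2_of (cls hT) (dcongr h rfl hs) haa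
      · exact ⟨a, dcongr h rfl hs, haa⟩
    intro x y hx hy hxz hyz
    obtain ⟨a, ha, haa⟩ := aux x hx hxz
    obtain ⟨b, hb, hbb⟩ := aux y hy hyz
    have h := dd (dinv ha) hb
    refine Z2_of (cls hT) (dcongr h rfl (by ring)) ?_
    have hainv : a⁻¹ = a := inv_eq_of_mul_eq_one_right haa
    rw [hainv]
    linear_combination (b * b) * haa + hbb
  have ck : ∀ k, 1 ≤ k → ∀ x y : T, Om (k + 1) x → Om (k + 1) y → ¬ Om k x → ¬ Om k y →
      Om k (x⁻¹ * y) := by
    intro k hk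
    have aux : ∀ x : T, Om (k + 1) x → ¬ Om k x → ∃ a s, Dg T x a s ∧ a ^ (2 ^ k) = -1 := by
      intro x hx hxk
      obtain ⟨a, s, h⟩ := K1 x hx.1
      have h1 : a ^ (2 ^ (k + 1)) = 1 :=
        (pow_eq_one_iff x a s h (k + 1) (by omega)).mp hx.2
      have h2' : a ^ (2 ^ k) ≠ 1 := by
        intro hcon
        apply hxk
        exact ⟨hx.1, (pow_eq_one_iff x a s h k hk).mpr hcon⟩
      have h3 : a ^ (2 ^ k) * a ^ (2 ^ k) = 1 := by
        rw [← pow_add, ← two_mul, ← pow_succ']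
        exact h1
      rcases pm_of_sq h3 with h4 | h4
      · exact absurd h4 h2'
      · exact ⟨a, s, h, h4⟩
    intro x y hx hy hxk hyk
    obtain ⟨a, s, ha, hak⟩ := aux x hx hxk
    obtain ⟨b, t, hb, hbk⟩ := aux y hy hyk
    have h := dd (dinv ha) hb
    refine ⟨isD_of_d hT h, (pow_eq_one_iff _ _ _ h k hk).mpr ?_⟩
    rw [mul_pow, inv_pow, hak, hbk]
    field_simp
  have cT : ∀ x y : T, True → True → ¬ isD x → ¬ isD y → isD (x⁻¹ * y) := by
    have aux : ∀ x : T, ¬ isD x → ∃ a s, Wg T x a s := by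
      intro x hx
      obtain ⟨a, s, h | h⟩ := cls hT x
      · exact absurd (isD_of_d hT h) hx
      · exact ⟨a, s, h⟩
    intro x y _ _ hx hy
    obtain ⟨a, s, ha⟩ := aux x hx
    obtain ⟨b, t, hb⟩ := aux y hy
    exact isD_of_d hT (ww (winv ha) hb)
  -- assembly
  apply isPGroup_of_fix_all
  intro α
  have s0 := fix_one α
  have s1 := step hT2 Z2 (fun x => x = 1) Z2_inv one_inv c0 α s0
  have s2 := step hT2 (Om 1) Z2 (Om_inv 1) Z2_inv c1 α s1
  have s3 : ∀ k, 1 ≤ k → ∃ e : ℕ, ∀ x : T, Om k x → (α ^ (2 ^ e)) x = x := by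
    intro k hk
    induction k, hk using Nat.le_induction with
    | base => exact s2
    | succ k hk ih => exact step hT2 (Om (k + 1)) (Om k) (Om_inv (k + 1)) (Om_inv k) (ck k hk) α ih
  have s4 : ∃ e : ℕ, ∀ x : T, isD x → (α ^ (2 ^ e)) x = x := by
    obtain ⟨e, he⟩ := s3 m hm1
    refine ⟨e, fun x hx => he x ⟨hx, ?_⟩⟩
    obtain ⟨a, s, h⟩ := K1 x hx
    exact (pow_eq_one_iff x a s h m hm1).mpr (hferm a h.1)
  exact step hT2 (fun _ => True) isD (fun _ _ _ => trivial) isD_inv cT α s4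

/-- the small case: all nonzero elements square to one -/
theorem small [Finite F] (hsq : ∀ a : F, a ≠ 0 → a * a = 1) : IsPGroup 2 (MulAut T) := by
  haveI : Finite ((Fin 2 → F) ≃ₗ[F] (Fin 2 → F)) :=
    Finite.of_injective (fun f => (f : (Fin 2 → F) → (Fin 2 → F))) DFunLike.coe_injective
  haveI : Finite T := inferInstance
  have hT2 : IsPGroup 2 T := isPGroup_T hT 1 (fun a ha => by rw [pow_one, pow_two]; exact hsq a ha)
  have hm1 : (-1 : F) ≠ 0 := neg_ne_zero.mpr one_ne_zero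
  obtain ⟨z₀, hz₀⟩ := mkW hT (-1) (-1) hm1 (Or.inr rfl)
  have hz₀sq : Dg T (z₀ * z₀) (-1) 1 := by
    refine dcongr (ww hz₀ hz₀) ?_ (by ring)
    field_simp
  -- squares of diagonal elements are trivial
  have dsq : ∀ (x : T) (a s : F), Dg T x a s → x * x = 1 := by
    intro x a s h
    exact eq_one_of_d11 (dcongr (dd h h) (hsq a h.1) (ssq h.2.1))
  have wsq : ∀ (x : T) (a s : F), Wg T x a s → Dg T (x * x) s 1 := by
    intro x a s h
    refine dcongr (ww h h) ?_ (ssq h.2.1)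
    have := h.1
    field_simp
  have SqD : ∀ (u : T) (c : F), Dg T u c 1 → Sq u := by
    intro u c h
    rcases pm_of_sq (hsq c h.1) with hc | hc
    · exact ⟨1, by rw [mul_one]; exact (eq_one_of_d11 (dcongr h hc rfl)).symm⟩
    · exact ⟨z₀, dext hz₀sq (dcongr h hc rfl)⟩
  have Sq_char : ∀ x : T, Sq x → x ≠ 1 → Dg T x (-1) 1 := by
    rintro x ⟨z, rfl⟩ hx1
    obtain ⟨b, t, h | h⟩ := cls hT z
    · exact absurd (dsq z b t h) hx1
    · have h1 := wsq z b t h
      rcases h.2.1 with ht | ht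
      · exact absurd (eq_one_of_d11 (dcongr h1 ht rfl)) hx1
      · exact dcongr h1 ht rfl
  have s3c : ∀ x y : T, Sq x → Sq y → ¬ x = 1 → ¬ y = 1 → x⁻¹ * y = 1 := by
    intro x y hx hy hx1 hy1
    have := dext (Sq_char x hx hx1) (Sq_char y hy hy1)
    rw [this, inv_mul_cancel]
  have Wne : ∀ (u : T) (c v₀ : F), Wg T u c v₀ → v₀ ≠ 1 → u * u ≠ 1 := by
    intro u c v₀ h hv hcon
    have h1 := wsq u c v₀ h
    rw [hcon] at h1
    exact hv (duniq h1 done).1
  have s2c : ∀ x y : T, C1 x → C1 y → ¬ Sq x → ¬ Sq y → Sq (x⁻¹ * y) := by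
    have aux : ∀ x : T, C1 x → ¬ Sq x → ∃ a, Wg T x a (-1) := by
      intro x hx hxs
      rcases hx with hx | hx
      · exact absurd hx hxs
      · obtain ⟨a, s, h | h⟩ := cls hT x
        · exact absurd (dsq x a s h) hx
        · rcases h.2.1 with hs | hs
          · exfalso
            apply hx
            exact eq_one_of_d11 (dcongr (wsq x a s h) hs rfl)
          · exact ⟨a, wcongr h rfl hs⟩
    intro x y hx hy hxs hys
    obtain ⟨a, ha⟩ := aux x hx hxs
    obtain ⟨b, hb⟩ := aux y hy hys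
    have h := ww (winv ha) hb
    exact SqD _ _ (dcongr h rfl (by ring))
  have s1c : ∀ x y : T, True → True → ¬ C1 x → ¬ C1 y → C1 (x⁻¹ * y) := by
    have aux : ∀ x : T, ¬ C1 x → (∃ a, Dg T x a (-1) ∧ (-1 : F) ≠ 1) ∨ (∃ a, Wg T x a 1) := by
      intro x hx
      have hxs : ¬ Sq x := fun h => hx (Or.inl h)
      have hxx : x * x = 1 := by
        by_contra h
        exact hx (Or.inr h)
      obtain ⟨a, s, h | h⟩ := cls hT x
      · left
        rcases h.2.1 with hs | hs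
        · exact absurd (SqD x a (dcongr h rfl hs)) hxs
        · refine ⟨a, dcongr h rfl hs, ?_⟩
          intro hcon
          apply hxs
          exact SqD x a (dcongr h rfl (hs.trans hcon))
      · right
        have h1 := wsq x a s h
        rw [hxx] at h1
        exact ⟨a, wcongr h rfl (duniq h1 done).1⟩
    intro x y _ _ hx hy
    rcases aux x hx with ⟨a, ha, hne⟩ | ⟨a, ha⟩ <;> rcases aux y hy with ⟨b, hb, hne'⟩ | ⟨b, hb⟩
    · left
      exact SqD _ _ (dcongr (dd (dinv ha) hb) rfl (by ring))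
    · right
      exact Wne _ _ _ (dw (dinv ha) hb) (by rw [mul_one]; exact hne)
    · right
      exact Wne _ _ _ (wd (winv ha) hb) (by rw [one_mul]; exact hne')
    · left
      exact SqD _ _ (dcongr (ww (winv ha) hb) rfl (by ring))
  apply isPGroup_of_fix_all
  intro α
  have t0 := fix_one α
  have t1 := step hT2 Sq (fun x => x = 1) Sq_inv one_inv s3c α t0
  have t2 := step hT2 C1 Sq C1_inv Sq_inv s2c α t1
  exact step hT2 (fun _ => True) C1 (fun _ _ _ => trivial) C1_inv s1c α t2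

end main

end Cfsg.Agent.Lib.Helper22.MonoAut
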