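import Mathlib
set_option autoImplicit false

namespace Cfsg.Agent.Lib.Helper22.NilCount

open Module

section Fitting

variable {F : Type*} [Field F]
variable {V K L : Type*} [AddCommGroup V] [Module F V] [AddCommGroup K] [Module F K]
  [AddCommGroup L] [Module F L]

/-- conjugate of `N × β` by `φ` -/
noncomputable def Psi (d : (V ≃ₗ[F] K × L) × {N : End F K // IsNilpotent N} × (L ≃ₗ[F] L)) :
    End F V :=
  d.1.symm.conj (d.2.1.1.prodMap (d.2.2 : L →ₗ[F] L))

theorem Psi_apply (d : (V ≃ₗ[F] K × L) × {N : End F K // IsNilpotent N} × (L ≃ₗ[F] L)) (v : V) :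
    Psi d v = d.1.symm (d.2.1.1 (d.1 v).1, d.2.2 (d.1 v).2) := by
  simp [Psi, LinearEquiv.conj_apply_apply]

theorem Psi_pow_apply (d : (V ≃ₗ[F] K × L) × {N : End F K // IsNilpotent N} × (L ≃ₗ[F] L))
    (m : ℕ) (v : V) :
    ((Psi d) ^ m) v
      = d.1.symm ((d.2.1.1 ^ m) (d.1 v).1, ((d.2.2 : L →ₗ[F] L) ^ m) (d.1 v).2) := by
  induction m generalizing v with
  | zero => simp
  | succ m ih =>
    rw [pow_succ, Module.End.mul_apply, ih, Psi_apply]
    simp [pow_succ, Module.End.mul_apply]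

theorem equiv_pow_injective (β : L ≃ₗ[F] L) (m : ℕ) :
    Function.Injective (((β : L →ₗ[F] L) ^ m : End F L)) := by
  induction m with
  | zero => intro x y h; simpa using h
  | succ m ih =>
    rw [pow_succ]
    intro x y h
    simp only [Module.End.mul_apply] at h
    exact β.injective (ih h)

theorem equiv_pow_surjective (β : L ≃ₗ[F] L) (m : ℕ) :
    Function.Surjective (((β : L →ₗ[F] L) ^ m : End F L)) := by
  induction m with
  | zero => intro x; exact ⟨x, by simp⟩
  | succ m ih =>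
    rw [pow_succ]
    intro x
    obtain ⟨y, hy⟩ := ih x
    obtain ⟨z, hz⟩ := β.surjective y
    exact ⟨z, by simp [Module.End.mul_apply, hz, hy]⟩

theorem fitU (d : (V ≃ₗ[F] K × L) × {N : End F K // IsNilpotent N} × (L ≃ₗ[F] L)) (v : V) :
    (∃ m : ℕ, ((Psi d) ^ m) v = 0) ↔ (d.1 v).2 = 0 := by
  constructor
  · rintro ⟨m, hm⟩
    rw [Psi_pow_apply] at hm
    have h2 := (LinearEquiv.map_eq_zero_iff d.1.symm).1 hm
    have h3 : ((d.2.2 : L →ₗ[F] L) ^ m) (d.1 v).2 = 0 := congrArg Prod.snd h2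
    exact equiv_pow_injective d.2.2 m (by rw [h3, map_zero])
  · intro h
    obtain ⟨m, hm⟩ := d.2.1.2
    refine ⟨m, ?_⟩
    rw [Psi_pow_apply, hm, h]
    simp

theorem fitW (d : (V ≃ₗ[F] K × L) × {N : End F K // IsNilpotent N} × (L ≃ₗ[F] L)) (v : V) :
    (∀ m : ℕ, ∃ y, ((Psi d) ^ m) y = v) ↔ (d.1 v).1 = 0 := by
  constructor
  · intro h
    obtain ⟨m, hm⟩ := d.2.1.2
    obtain ⟨y, hy⟩ := h m
    rw [Psi_pow_apply, hm] at hy
    rw [← hy]
    simp
  · intro h m
    obtain ⟨b, hb⟩ := equiv_pow_surjective d.2.2 m (d.1 v).2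
    refine ⟨d.1.symm (0, b), ?_⟩
    rw [Psi_pow_apply]
    apply d.1.injective
    simp only [LinearEquiv.apply_symm_apply, map_zero, hb]
    exact Prod.ext h.symm rfl

end Fitting

section Split

variable {F : Type*} [Field F]
variable {V K L : Type*} [AddCommGroup V] [Module F V] [AddCommGroup K] [Module F K]
  [AddCommGroup L] [Module F L]

theorem split_aux_l (φ φ' : V ≃ₗ[F] K × L) (h2 : ∀ v, (φ v).2 = 0 ↔ (φ' v).2 = 0) (a : K) :
    φ' (φ.symm (a, 0)) = ((φ' (φ.symm (a, 0))).1, 0) := by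
  refine Prod.ext rfl ?_
  exact (h2 (φ.symm (a, 0))).1 (by simp)

theorem split_aux_r (φ φ' : V ≃ₗ[F] K × L) (h1 : ∀ v, (φ v).1 = 0 ↔ (φ' v).1 = 0) (b : L) :
    φ' (φ.symm (0, b)) = (0, (φ' (φ.symm (0, b))).2) := by
  refine Prod.ext ?_ rfl
  exact (h1 (φ.symm (0, b))).1 (by simp)

theorem split_inv_l (φ φ' : V ≃ₗ[F] K × L) (h2 : ∀ v, (φ v).2 = 0 ↔ (φ' v).2 = 0) (a : K) :
    (φ (φ'.symm ((φ' (φ.symm (a, 0))).1, 0))).1 = a := by
  rw [← split_aux_l φ φ' h2 a]
  simp

theorem split_inv_r (φ φ' : V ≃ₗ[F] K × L) (h1 : ∀ v, (φ v).1 = 0 ↔ (φ' v).1 = 0) (b : L) :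
    (φ (φ'.symm (0, (φ' (φ.symm (0, b))).2))).2 = b := by
  rw [← split_aux_r φ φ' h1 b]
  simp

/-- left component map -/
noncomputable def splitL (φ φ' : V ≃ₗ[F] K × L) : K →ₗ[F] K :=
  (LinearMap.fst F K L) ∘ₗ (φ' : V →ₗ[F] K × L) ∘ₗ (φ.symm : K × L →ₗ[F] V) ∘ₗ (LinearMap.inl F K L)

/-- right component map -/
noncomputable def splitR (φ φ' : V ≃ₗ[F] K × L) : L →ₗ[F] L :=
  (LinearMap.snd F K L) ∘ₗ (φ' : V →ₗ[F] K × L) ∘ₗ (φ.symm : K × L →ₗ[F] V) ∘ₗ (LinearMap.inr F K L)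

theorem splitL_apply (φ φ' : V ≃ₗ[F] K × L) (a : K) :
    splitL φ φ' a = (φ' (φ.symm (a, 0))).1 := rfl

theorem splitR_apply (φ φ' : V ≃ₗ[F] K × L) (b : L) :
    splitR φ φ' b = (φ' (φ.symm (0, b))).2 := rfl

theorem split_equiv (φ φ' : V ≃ₗ[F] K × L) (h2 : ∀ v, (φ v).2 = 0 ↔ (φ' v).2 = 0)
    (h1 : ∀ v, (φ v).1 = 0 ↔ (φ' v).1 = 0) :
    ∃ (α : K ≃ₗ[F] K) (γ : L ≃ₗ[F] L), φ' = φ ≪≫ₗ α.prodCongr γ := by
  have h2' : ∀ v, (φ' v).2 = 0 ↔ (φ v).2 = 0 := fun v => (h2 v).symm
  have h1' : ∀ v, (φ' v).1 = 0 ↔ (φ v).1 = 0 := fun v => (h1 v).symm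
  refine ⟨LinearEquiv.ofLinearMap (splitL φ φ') (splitL φ' φ) ?_ ?_,
    LinearEquiv.ofLinearMap (splitR φ φ') (splitR φ' φ) ?_ ?_, ?_⟩
  · ext a
    simp only [LinearMap.comp_apply, splitL_apply, LinearMap.id_apply]
    exact split_inv_l φ' φ h2' a
  · ext a
    simp only [LinearMap.comp_apply, splitL_apply, LinearMap.id_apply]
    exact split_inv_l φ φ' h2 a
  · ext b
    simp only [LinearMap.comp_apply, splitR_apply, LinearMap.id_apply]
    exact split_inv_r φ' φ h1' b
  · ext b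
    simp only [LinearMap.comp_apply, splitR_apply, LinearMap.id_apply]
    exact split_inv_r φ φ' h1 b
  · apply LinearEquiv.ext
    intro v
    have hv : v = φ.symm ((φ v).1, 0) + φ.symm (0, (φ v).2) := by
      rw [← map_add]
      simp
    conv_lhs => rw [hv]
    rw [map_add, split_aux_l φ φ' h2, split_aux_r φ φ' h1]
    simp [splitL_apply, splitR_apply]

end Split

section Fiber

variable {F : Type*} [Field F]
variable {V K L : Type*} [AddCommGroup V] [Module F V] [AddCommGroup K] [Module F K]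
  [AddCommGroup L] [Module F L]

theorem Psi_inj (d d' : (V ≃ₗ[F] K × L) × {N : End F K // IsNilpotent N} × (L ≃ₗ[F] L))
    (h1 : d.1 = d'.1) (h : Psi d = Psi d') : d = d' := by
  obtain ⟨φ, ⟨N, hN⟩, β⟩ := d
  obtain ⟨φ', ⟨N', hN'⟩, β'⟩ := d'
  simp only at h1
  subst h1
  have h3 : N.prodMap (β : L →ₗ[F] L) = N'.prodMap (β' : L →ₗ[F] L) :=
    (φ.symm.conj).injective h
  have hNN : N = N' := by
    ext a
    have := congrArg (fun T : End F (K × L) => (T (a, 0)).1) h3
    simpa using this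
  have hββ : β = β' := by
    apply LinearEquiv.ext
    intro b
    have := congrArg (fun T : End F (K × L) => (T (0, b)).2) h3
    simpa using this
  subst hNN
  subst hββ
  rfl

theorem conj_nilp {K' : Type*} [AddCommGroup K'] [Module F K'] (α : K ≃ₗ[F] K') (N : End F K)
    (hN : IsNilpotent N) : IsNilpotent (α.conj N) := by
  have := hN.map α.conjRingEquiv
  exact this

/-- the action of `GL(K) × GL(L)` on the data -/
noncomputable def act (α : K ≃ₗ[F] K) (γ : L ≃ₗ[F] L)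
    (d : (V ≃ₗ[F] K × L) × {N : End F K // IsNilpotent N} × (L ≃ₗ[F] L)) :
    (V ≃ₗ[F] K × L) × {N : End F K // IsNilpotent N} × (L ≃ₗ[F] L) :=
  (d.1 ≪≫ₗ α.prodCongr γ, ⟨α.conj d.2.1.1, conj_nilp α _ d.2.1.2⟩, (γ.symm ≪≫ₗ d.2.2) ≪≫ₗ γ)

theorem Psi_act (α : K ≃ₗ[F] K) (γ : L ≃ₗ[F] L)
    (d : (V ≃ₗ[F] K × L) × {N : End F K // IsNilpotent N} × (L ≃ₗ[F] L)) :
    Psi (act α γ d) = Psi d := by
  ext v
  rw [Psi_apply, Psi_apply]
  simp [act, LinearEquiv.conj_apply_apply]

theorem fiber_card [Finite (K ≃ₗ[F] K)] [Finite (L ≃ₗ[F] L)]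
    (d₀ : (V ≃ₗ[F] K × L) × {N : End F K // IsNilpotent N} × (L ≃ₗ[F] L)) :
    Nat.card {d : (V ≃ₗ[F] K × L) × {N : End F K // IsNilpotent N} × (L ≃ₗ[F] L) //
      Psi d = Psi d₀} = Nat.card ((K ≃ₗ[F] K) × (L ≃ₗ[F] L)) := by
  symm
  refine Nat.card_eq_of_bijective
    (fun x : (K ≃ₗ[F] K) × (L ≃ₗ[F] L) => (⟨act x.1 x.2 d₀, Psi_act x.1 x.2 d₀⟩ :
      {d : (V ≃ₗ[F] K × L) × {N : End F K // IsNilpotent N} × (L ≃ₗ[F] L) // Psi d = Psi d₀}))
    ⟨?_, ?_⟩
  · rintro ⟨α, γ⟩ ⟨α', γ'⟩ h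
    have h1 : d₀.1 ≪≫ₗ α.prodCongr γ = d₀.1 ≪≫ₗ α'.prodCongr γ' := by
      have := congrArg (fun z => z.1.1) h
      simpa [act] using this
    have h2 : ∀ x : K × L, (α.prodCongr γ) x = (α'.prodCongr γ') x := by
      intro x
      have := LinearEquiv.congr_fun h1 (d₀.1.symm x)
      simpa using this
    have hα : α = α' := by
      apply LinearEquiv.ext
      intro a
      have := congrArg Prod.fst (h2 (a, 0))
      simpa using this
    have hγ : γ = γ' := by
      apply LinearEquiv.ext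
      intro b
      have := congrArg Prod.snd (h2 (0, b))
      simpa using this
    rw [hα, hγ]
  · rintro ⟨d, hd⟩
    have h2 : ∀ v, (d₀.1 v).2 = 0 ↔ (d.1 v).2 = 0 := by
      intro v
      rw [← fitU d₀ v, ← fitU d v, hd]
    have h1 : ∀ v, (d₀.1 v).1 = 0 ↔ (d.1 v).1 = 0 := by
      intro v
      rw [← fitW d₀ v, ← fitW d v, hd]
    obtain ⟨α, γ, hαγ⟩ := split_equiv d₀.1 d.1 h2 h1
    refine ⟨(α, γ), ?_⟩
    apply Subtype.ext
    simp only
    symm
    apply Psi_inj
    · rw [hαγ]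
      rfl
    · rw [hd, Psi_act]

end Fiber

section Count

theorem card_eq_mul_card_range {X Y : Type*} [Finite X] (f : X → Y) (c : ℕ)
    (h : ∀ x₀, Nat.card {x // f x = f x₀} = c) : Nat.card X = c * Nat.card (Set.range f) := by
  classical
  letI : Fintype (Set.range f) := Fintype.ofFinite _
  rw [← Nat.card_congr (Equiv.sigmaFiberEquiv (Set.rangeFactorization f)), Nat.card_sigma]
  have h2 : ∀ y : Set.range f, Nat.card {x // Set.rangeFactorization f x = y} = c := by
    rintro ⟨y, x₀, rfl⟩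
    rw [← h x₀]
    apply Nat.card_congr
    exact Equiv.subtypeEquivRight (fun x => by simp [Set.rangeFactorization, Subtype.ext_iff])
  simp [h2, Nat.card_eq_fintype_card, mul_comm]

end Count

section Image

variable {F : Type*} [Field F]
variable {V : Type*} [AddCommGroup V] [Module F V] [FiniteDimensional F V]

theorem exists_psi (A : End F V) :
    ∃ k l : ℕ, k + l = finrank F V ∧
      ∃ d : (V ≃ₗ[F] (Fin k → F) × (Fin l → F)) × {N : End F (Fin k → F) // IsNilpotent N} ×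
        ((Fin l → F) ≃ₗ[F] (Fin l → F)), Psi d = A := by
  obtain ⟨m₀, hm₀⟩ := Filter.eventually_atTop.1 A.eventually_isCompl_ker_pow_range_pow
  have hc : IsCompl (LinearMap.ker (A ^ (m₀ + 1))) (LinearMap.range (A ^ (m₀ + 1))) :=
    hm₀ (m₀ + 1) (by omega)
  have hU : ∀ x ∈ LinearMap.ker (A ^ (m₀ + 1)), A x ∈ LinearMap.ker (A ^ (m₀ + 1)) := by
    intro x hx
    rw [LinearMap.mem_ker] at hx ⊢
    rw [← Module.End.mul_apply, ← pow_succ, pow_succ', Module.End.mul_apply, hx, map_zero]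
  have hW : ∀ x ∈ LinearMap.range (A ^ (m₀ + 1)), A x ∈ LinearMap.range (A ^ (m₀ + 1)) := by
    rintro x ⟨y, rfl⟩
    exact ⟨A y, by rw [← Module.End.mul_apply, ← pow_succ, pow_succ', Module.End.mul_apply]⟩
  have hkl := Submodule.finrank_add_eq_of_isCompl hc
  have hNil : IsNilpotent (A.restrict hU) := by
    refine ⟨m₀ + 1, ?_⟩
    rw [Module.End.pow_restrict]
    ext ⟨x, hx⟩
    simpa using hx
  have hInj : Function.Injective (A.restrict hW) := by
    rw [← LinearMap.ker_eq_bot, Submodule.eq_bot_iff]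
    rintro ⟨w, hw⟩ h0
    rw [LinearMap.mem_ker] at h0
    have h1 : A w = 0 := by
      have := congrArg Subtype.val h0
      simpa using this
    have h2 : w ∈ LinearMap.ker (A ^ (m₀ + 1)) := by
      rw [LinearMap.mem_ker, pow_succ, Module.End.mul_apply, h1, map_zero]
    have h3 : w ∈ LinearMap.ker (A ^ (m₀ + 1)) ⊓ LinearMap.range (A ^ (m₀ + 1)) := ⟨h2, hw⟩
    rw [hc.inf_eq_bot, Submodule.mem_bot] at h3
    exact Subtype.ext h3
  refine ⟨finrank F (LinearMap.ker (A ^ (m₀ + 1))), finrank F (LinearMap.range (A ^ (m₀ + 1))),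
    hkl, ?_⟩
  let a : (LinearMap.ker (A ^ (m₀ + 1))) ≃ₗ[F]
      (Fin (finrank F (LinearMap.ker (A ^ (m₀ + 1)))) → F) :=
    LinearEquiv.ofFinrankEq _ _ (by simp)
  let b : (LinearMap.range (A ^ (m₀ + 1))) ≃ₗ[F]
      (Fin (finrank F (LinearMap.range (A ^ (m₀ + 1)))) → F) :=
    LinearEquiv.ofFinrankEq _ _ (by simp)
  refine ⟨((Submodule.prodEquivOfIsCompl _ _ hc).symm ≪≫ₗ a.prodCongr b,
    ⟨a.conj (A.restrict hU), conj_nilp a _ hNil⟩,
    (b.symm ≪≫ₗ LinearEquiv.ofInjectiveEndo (A.restrict hW) hInj) ≪≫ₗ b), ?_⟩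
  ext v
  obtain ⟨⟨u, w⟩, rfl⟩ := (Submodule.prodEquivOfIsCompl _ _ hc).surjective v
  rw [Psi_apply]
  simp [LinearEquiv.conj_apply_apply, LinearEquiv.coe_ofInjectiveEndo]

end Image

section Partition

variable {F : Type*} [Field F] [Finite F]
variable {V K L : Type*} [AddCommGroup V] [Module F V] [AddCommGroup K] [Module F K]
  [AddCommGroup L] [Module F L]

instance finLinEquiv [Finite V] [Finite K] : Finite (V ≃ₗ[F] K) := DFunLike.finite _

instance finLinMap [Finite V] [Finite K] : Finite (V →ₗ[F] K) := DFunLike.finite _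

theorem card_fitU (d : (V ≃ₗ[F] K × L) × {N : End F K // IsNilpotent N} × (L ≃ₗ[F] L)) :
    Nat.card {v : V // ∃ m : ℕ, ((Psi d) ^ m) v = 0} = Nat.card K := by
  apply Nat.card_congr
  exact {
    toFun := fun v => (d.1 v.1).1
    invFun := fun a => ⟨d.1.symm (a, 0), (fitU d _).2 (by simp)⟩
    left_inv := by
      rintro ⟨v, hv⟩
      apply Subtype.ext
      have h2 := (fitU d v).1 hv
      have h3 : ((d.1 v).1, (0 : L)) = d.1 v := Prod.ext rfl h2.symm
      show d.1.symm ((d.1 v).1, 0) = v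
      rw [h3]
      simp
    right_inv := by
      intro a
      simp }

/-- the class of an endomorphism: the dimension of its Fitting null component -/
noncomputable def cls (A : End F V) : ℕ :=
  Nat.log (Nat.card F) (Nat.card {v : V // ∃ m : ℕ, (A ^ m) v = 0})

theorem cls_Psi (k : ℕ)
    (d : (V ≃ₗ[F] (Fin k → F) × L) × {N : End F (Fin k → F) // IsNilpotent N} × (L ≃ₗ[F] L)) :
    cls (Psi d) = k := by
  unfold cls
  rw [card_fitU, Nat.card_fun, Nat.card_fin, Nat.log_pow Finite.one_lt_card]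

theorem cls_iff [FiniteDimensional F V] (k : ℕ) (hk : k ≤ finrank F V) (A : End F V) :
    cls A = k ↔ A ∈ Set.range (Psi (F := F) (V := V) (K := Fin k → F)
      (L := Fin (finrank F V - k) → F)) := by
  constructor
  · intro h
    obtain ⟨k', l', hkl, d, hd⟩ := exists_psi A
    have h1 : cls A = k' := by rw [← hd]; exact cls_Psi k' d
    have h2 : k' = k := by rw [← h1, h]
    subst h2
    obtain rfl : l' = finrank F V - k' := by omega
    exact ⟨d, hd⟩
  · rintro ⟨d, rfl⟩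
    exact cls_Psi k d

theorem cls_lt [FiniteDimensional F V] (A : End F V) : cls A < finrank F V + 1 := by
  obtain ⟨k', l', hkl, d, hd⟩ := exists_psi A
  have h1 : cls A = k' := by rw [← hd]; exact cls_Psi k' d
  omega

theorem card_end_eq_sum [FiniteDimensional F V] [Finite V] (n : ℕ) (hn : finrank F V = n) :
    Nat.card (End F V) = ∑ k ∈ Finset.range (n + 1),
      Nat.card (Set.range (Psi (F := F) (V := V) (K := Fin k → F)
        (L := Fin (n - k) → F))) := by
  classical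
  subst hn
  rw [← Fin.sum_univ_eq_sum_range (fun k => Nat.card (Set.range (Psi (F := F) (V := V)
    (K := Fin k → F) (L := Fin (finrank F V - k) → F)))) (finrank F V + 1)]
  rw [← Nat.card_congr (Equiv.sigmaFiberEquiv
    (fun A : End F V => (⟨cls A, cls_lt A⟩ : Fin (finrank F V + 1)))), Nat.card_sigma]
  apply Finset.sum_congr rfl
  intro i _
  apply Nat.card_congr
  exact Equiv.subtypeEquivRight (fun A => by
    rw [Fin.ext_iff]
    exact cls_iff i.1 (by omega) A)

end Partition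

section Cards

variable (F : Type*) [Field F] [Finite F]

/-- number of automorphisms of `F^n` -/
noncomputable def glE (n : ℕ) : ℕ := Nat.card ((Fin n → F) ≃ₗ[F] (Fin n → F))

/-- number of nilpotent endomorphisms of `F^n` -/
noncomputable def nilE (n : ℕ) : ℕ := Nat.card {N : End F (Fin n → F) // IsNilpotent N}

theorem glE_pos (n : ℕ) : 0 < glE F n := by
  unfold glE
  haveI : Nonempty ((Fin n → F) ≃ₗ[F] (Fin n → F)) := ⟨LinearEquiv.refl F _⟩
  exact Nat.card_pos

variable {F}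

theorem card_range_psi {V : Type*} [AddCommGroup V] [Module F V] [FiniteDimensional F V]
    [Finite V] (k l : ℕ) (hkl : k + l = finrank F V) :
    Nat.card (Set.range (Psi (F := F) (V := V) (K := Fin k → F) (L := Fin l → F)))
      * (glE F k * glE F l) = Nat.card (V ≃ₗ[F] V) * (nilE F k * glE F l) := by
  have h := card_eq_mul_card_range (Psi (F := F) (V := V) (K := Fin k → F) (L := Fin l → F))
    (glE F k * glE F l) (fun d₀ => by rw [fiber_card d₀, Nat.card_prod]; rfl)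
  rw [Nat.card_prod, Nat.card_prod] at h
  have e₀ : V ≃ₗ[F] (Fin k → F) × (Fin l → F) :=
    LinearEquiv.ofFinrankEq _ _ (by simp [← hkl])
  have h2 : Nat.card (V ≃ₗ[F] (Fin k → F) × (Fin l → F)) = Nat.card (V ≃ₗ[F] V) :=
    Nat.card_congr
      { toFun := fun φ => φ ≪≫ₗ e₀.symm
        invFun := fun ψ => ψ ≪≫ₗ e₀
        left_inv := fun φ => by ext v <;> simp
        right_inv := fun ψ => by ext v; simp }
  rw [h2] at h
  rw [mul_comm, ← h]
  rfl

theorem card_end_fin (n : ℕ) : Nat.card (End F (Fin n → F)) = Nat.card F ^ (n * n) := by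
  rw [← Nat.card_congr (Matrix.toLin' (R := F) (m := Fin n) (n := Fin n)).toEquiv]
  unfold Matrix
  rw [Nat.card_fun, Nat.card_fun, Nat.card_fin, ← pow_mul]

theorem sum_range_psi (n : ℕ) :
    ∑ k ∈ Finset.range (n + 1),
      Nat.card (Set.range (Psi (F := F) (V := Fin n → F) (K := Fin k → F)
        (L := Fin (n - k) → F))) = Nat.card F ^ (n * n) := by
  have h := card_end_eq_sum (F := F) (V := Fin n → F) n (Module.finrank_fin_fun F)
  rw [card_end_fin] at h
  rw [h]

theorem sum_ratio (n : ℕ) :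
    ∑ k ∈ Finset.range (n + 1), (nilE F k : ℚ) / (glE F k : ℚ)
      = (Nat.card F : ℚ) ^ (n * n) / (glE F n : ℚ) := by
  have hpos : ∀ m, (0 : ℚ) < (glE F m : ℚ) := fun m => by exact_mod_cast glE_pos F m
  have h := sum_range_psi (F := F) n
  have h2 : ∀ k ∈ Finset.range (n + 1),
      ((Nat.card (Set.range (Psi (F := F) (V := Fin n → F) (K := Fin k → F)
        (L := Fin (n - k) → F))) : ℕ) : ℚ) = (glE F n : ℚ) * ((nilE F k : ℚ) / (glE F k : ℚ)) := by
    intro k hk
    have hk' : k + (n - k) = finrank F (Fin n → F) := by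
      rw [Module.finrank_fin_fun]
      have := Finset.mem_range.1 hk
      omega
    have h3 := card_range_psi (F := F) (V := Fin n → F) k (n - k) hk'
    have h4 : ((Nat.card (Set.range (Psi (F := F) (V := Fin n → F) (K := Fin k → F)
        (L := Fin (n - k) → F))) : ℕ) : ℚ) * ((glE F k : ℚ) * (glE F (n - k) : ℚ))
        = (glE F n : ℚ) * ((nilE F k : ℚ) * (glE F (n - k) : ℚ)) := by
      exact_mod_cast h3
    have hk0 := hpos k
    have hl0 := hpos (n - k)
    have h6 : ((Nat.card (Set.range (Psi (F := F) (V := Fin n → F) (K := Fin k → F)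
        (L := Fin (n - k) → F))) : ℕ) : ℚ) * (glE F k : ℚ) = (glE F n : ℚ) * (nilE F k : ℚ) := by
      have h7 : (((Nat.card (Set.range (Psi (F := F) (V := Fin n → F) (K := Fin k → F)
        (L := Fin (n - k) → F))) : ℕ) : ℚ) * (glE F k : ℚ)) * (glE F (n - k) : ℚ)
          = ((glE F n : ℚ) * (nilE F k : ℚ)) * (glE F (n - k) : ℚ) := by
        rw [mul_assoc, mul_assoc]
        exact h4
      exact mul_right_cancel₀ (ne_of_gt hl0) h7
    rw [← mul_div_assoc, eq_div_iff (ne_of_gt hk0)]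
    exact h6
  have h5 : ((∑ k ∈ Finset.range (n + 1),
      Nat.card (Set.range (Psi (F := F) (V := Fin n → F) (K := Fin k → F)
        (L := Fin (n - k) → F))) : ℕ) : ℚ) = (Nat.card F : ℚ) ^ (n * n) := by
    rw [h]
    push_cast
    rfl
  rw [Nat.cast_sum, Finset.sum_congr rfl h2, ← Finset.mul_sum] at h5
  rw [← h5]
  have := hpos n
  field_simp

end Cards

section Final

variable {F : Type*} [Field F] [Fintype F]

theorem glE_eq (n : ℕ) : glE F n = Nat.card (Matrix.GeneralLinearGroup (Fin n) F) := by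
  unfold glE
  exact Nat.card_congr
    ((LinearMap.GeneralLinearGroup.generalLinearEquiv F (Fin n → F)).toEquiv.symm.trans
      Matrix.GeneralLinearGroup.toLin.toEquiv.symm)

theorem glE_succ (n : ℕ) :
    glE F (n + 1) = glE F n * (Fintype.card F ^ n * (Fintype.card F ^ (n + 1) - 1)) := by
  rw [glE_eq, glE_eq, Matrix.card_GL_field, Matrix.card_GL_field, Fin.prod_univ_succ]
  simp only [Fin.val_zero, pow_zero, Fin.val_succ]
  have h : ∀ i : Fin n, Fintype.card F ^ (n + 1) - Fintype.card F ^ ((i : ℕ) + 1)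
      = Fintype.card F * (Fintype.card F ^ n - Fintype.card F ^ (i : ℕ)) := by
    intro i
    rw [Nat.mul_sub, ← pow_succ', ← pow_succ']
  simp only [h]
  rw [Finset.prod_mul_distrib, Finset.prod_const, Finset.card_univ, Fintype.card_fin]
  ring

theorem nilE_eq (n : ℕ) : nilE F n = Fintype.card F ^ (n * (n - 1)) := by
  have hq : (Nat.card F : ℚ) = (Fintype.card F : ℚ) := by rw [Nat.card_eq_fintype_card]
  have hpos : ∀ m, (0 : ℚ) < (glE F m : ℚ) := fun m => by exact_mod_cast glE_pos F m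
  have hQ : (1 : ℚ) < (Fintype.card F : ℚ) := by exact_mod_cast Fintype.one_lt_card
  cases n with
  | zero =>
    have h := sum_ratio (F := F) 0
    simp only [zero_add, Finset.range_one, Finset.sum_singleton, mul_zero, pow_zero] at h
    have h0 := hpos 0
    rw [div_left_inj' (ne_of_gt h0)] at h
    rw [zero_mul, pow_zero]
    exact_mod_cast h
  | succ n =>
    have h1 := sum_ratio (F := F) (n + 1)
    have h0 := sum_ratio (F := F) n
    rw [Finset.sum_range_succ, h0, hq] at h1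
    have hone : 1 ≤ Fintype.card F ^ (n + 1) := Nat.one_le_pow _ _ Fintype.card_pos
    have hG : (glE F (n + 1) : ℚ) = (glE F n : ℚ) *
        ((Fintype.card F : ℚ) ^ n * ((Fintype.card F : ℚ) ^ (n + 1) - 1)) := by
      rw [glE_succ]
      push_cast [Nat.cast_sub hone]
      ring
    have hGn := hpos n
    have hc : (0 : ℚ) < (Fintype.card F : ℚ) ^ n * ((Fintype.card F : ℚ) ^ (n + 1) - 1) := by
      apply mul_pos (by positivity)
      have : (1 : ℚ) < (Fintype.card F : ℚ) ^ (n + 1) := one_lt_pow₀ hQ (by omega)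
      linarith
    rw [hG] at h1
    have key : (nilE F (n + 1) : ℚ) = (Fintype.card F : ℚ) ^ ((n + 1) * (n + 1))
        - (Fintype.card F : ℚ) ^ (n * n) *
          ((Fintype.card F : ℚ) ^ n * ((Fintype.card F : ℚ) ^ (n + 1) - 1)) := by
      have hne1 := ne_of_gt hGn
      have hne2 := ne_of_gt hc
      rw [← mul_div_mul_right ((Fintype.card F : ℚ) ^ (n * n)) (glE F n : ℚ) hne2, ← add_div,
        div_left_inj' (mul_ne_zero hne1 hne2)] at h1
      linarith
    have key2 : (nilE F (n + 1) : ℚ) = (Fintype.card F : ℚ) ^ ((n + 1) * (n + 1 - 1)) := by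
      rw [key, Nat.add_sub_cancel]
      ring
    exact_mod_cast key2

theorem card_nilpotent_matrix (n : ℕ) :
    Nat.card {M : Matrix (Fin n) (Fin n) F // IsNilpotent M} = Fintype.card F ^ (n * (n - 1)) := by
  rw [← nilE_eq]
  unfold nilE
  apply Nat.card_congr
  exact Equiv.subtypeEquiv (Matrix.toLinAlgEquiv' (R := F) (n := Fin n)).toEquiv (fun M =>
    (IsNilpotent.map_iff (Matrix.toLinAlgEquiv' (R := F) (n := Fin n)).injective).symm)

end Final

section Unipotent

variable {F : Type*} [Field F] [Fintype F]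

theorem nilp_of_order (p : ℕ) [Fact p.Prime] [CharP F p] (m : ℕ)
    (g : Matrix.GeneralLinearGroup (Fin (m + 1)) F) (k : ℕ) (h : orderOf g = p ^ k) :
    IsNilpotent ((g : Matrix (Fin (m + 1)) (Fin (m + 1)) F) - 1) := by
  haveI : CharP (Matrix (Fin (m + 1)) (Fin (m + 1)) F) p := Matrix.charP p
  refine ⟨p ^ k, ?_⟩
  rw [sub_pow_char_pow_of_commute p k (Commute.one_right _), one_pow, sub_eq_zero]
  have h1 := pow_orderOf_eq_one g
  rw [h] at h1
  have h2 := congrArg Units.val h1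
  simpa using h2

theorem order_of_nilp (p : ℕ) [Fact p.Prime] [CharP F p] (m : ℕ)
    (M : Matrix (Fin (m + 1)) (Fin (m + 1)) F) (hM : IsNilpotent M)
    (u : Matrix.GeneralLinearGroup (Fin (m + 1)) F)
    (hu : (u : Matrix (Fin (m + 1)) (Fin (m + 1)) F) = 1 + M) :
    ∃ k : ℕ, orderOf u = p ^ k := by
  haveI : CharP (Matrix (Fin (m + 1)) (Fin (m + 1)) F) p := Matrix.charP p
  have hp : p.Prime := Fact.out
  obtain ⟨j, hj⟩ := hM
  have hj2 : M ^ (p ^ j) = 0 := pow_eq_zero_of_le (Nat.lt_pow_self hp.one_lt).le hj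
  have h1 : u ^ (p ^ j) = 1 := by
    apply Units.ext
    rw [Units.val_pow_eq_pow_val, hu, add_pow_char_pow_of_commute p j (Commute.one_left _), hj2]
    simp
  obtain ⟨k, _, hk⟩ := (Nat.dvd_prime_pow hp).1 (orderOf_dvd_of_pow_eq_one h1)
  exact ⟨k, hk⟩

theorem card_unipotent (p : ℕ) [Fact p.Prime] [CharP F p] (n : ℕ) :
    Nat.card {g : Matrix.GeneralLinearGroup (Fin n) F // ∃ k : ℕ, orderOf g = p ^ k}
      = Nat.card {M : Matrix (Fin n) (Fin n) F // IsNilpotent M} := by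
  cases n with
  | zero =>
    have h1 : Nat.card {g : Matrix.GeneralLinearGroup (Fin 0) F // ∃ k : ℕ, orderOf g = p ^ k}
        = 1 := by
      rw [Nat.card_eq_one_iff_unique]
      exact ⟨⟨fun a b => Subtype.ext (Subsingleton.elim _ _)⟩, ⟨⟨1, 0, by simp⟩⟩⟩
    have h2 : Nat.card {M : Matrix (Fin 0) (Fin 0) F // IsNilpotent M} = 1 := by
      rw [Nat.card_eq_one_iff_unique]
      exact ⟨⟨fun a b => Subtype.ext (Subsingleton.elim _ _)⟩, ⟨⟨0, IsNilpotent.zero⟩⟩⟩
    rw [h1, h2]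
  | succ m =>
    refine Nat.card_eq_of_bijective
      (fun g : {g : Matrix.GeneralLinearGroup (Fin (m + 1)) F // ∃ k : ℕ, orderOf g = p ^ k} =>
        (⟨(g.1 : Matrix (Fin (m + 1)) (Fin (m + 1)) F) - 1,
          g.2.elim (fun k hk => nilp_of_order p m g.1 k hk)⟩ :
          {M : Matrix (Fin (m + 1)) (Fin (m + 1)) F // IsNilpotent M})) ⟨?_, ?_⟩
    · rintro ⟨g, hg⟩ ⟨g', hg'⟩ h
      have h1 : (g : Matrix (Fin (m + 1)) (Fin (m + 1)) F) - 1
          = (g' : Matrix (Fin (m + 1)) (Fin (m + 1)) F) - 1 := congrArg Subtype.val h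
      apply Subtype.ext
      apply Units.ext
      exact sub_left_injective h1
    · rintro ⟨M, hM⟩
      obtain ⟨u, hu⟩ := hM.isUnit_one_add
      refine ⟨⟨u, order_of_nilp p m M hM u hu⟩, ?_⟩
      apply Subtype.ext
      show (u : Matrix (Fin (m + 1)) (Fin (m + 1)) F) - 1 = M
      rw [hu]
      simp

theorem card_unipotent_eq (p : ℕ) [Fact p.Prime] [CharP F p] (n : ℕ) :
    Nat.card {g : Matrix.GeneralLinearGroup (Fin n) F // ∃ k : ℕ, orderOf g = p ^ k}
      = Fintype.card F ^ (n * (n - 1)) := by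
  rw [card_unipotent, card_nilpotent_matrix]

end Unipotent

end Cfsg.Agent.Lib.Helper22.NilCount
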