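import Mathlib

/-! Counting lemma: a finite group with two involutory automorphisms generating an `S₃`,
each with at most two fixed points. -/

namespace Cfsg.Agent.Lib.Helper22.SharpCount

open Finset

variable {K : Type*} [Group K]

/-- The fixed-point subgroup of an automorphism. -/
def fixSub (τ : MulAut K) : Subgroup K where
  carrier := {k | τ k = k}
  mul_mem' := by
    intro a b ha hb
    simp only [Set.mem_ofPred_eq] at *
    rw [map_mul, ha, hb]
  one_mem' := by simp
  inv_mem' := by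
    intro a ha
    simp only [Set.mem_ofPred_eq] at *
    rw [map_inv, ha]

theorem mem_fixSub (τ : MulAut K) (k : K) : k ∈ fixSub τ ↔ τ k = k := Iff.rfl

/-- Sub-lemma B. -/
theorem card_le_fix_mul_inv [Fintype K] [DecidableEq K] (τ : MulAut K) (h1 : τ * τ = 1) :
    Fintype.card K ≤ (univ.filter (fun k : K => τ k = k)).card *
      (univ.filter (fun k : K => τ k = k⁻¹)).card := by
  have hττ : ∀ k : K, τ (τ k) = k := by
    intro k
    have := congrArg (fun f : MulAut K => f k) h1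
    simpa using this
  let φ : K → K := fun h => h * τ h⁻¹
  have hmaps : ∀ a ∈ (univ : Finset K), φ a ∈ univ.filter (fun k : K => τ k = k⁻¹) := by
    intro a _
    simp only [mem_filter, mem_univ, true_and, φ]
    rw [map_mul, hττ, mul_inv_rev, map_inv, inv_inv]
  have hfib : ∀ b ∈ univ.filter (fun k : K => τ k = k⁻¹),
      ((univ : Finset K).filter (fun a => φ a = b)).card ≤
        (univ.filter (fun k : K => τ k = k)).card := by
    intro b _
    rcases (univ.filter (fun a => φ a = b)).eq_empty_or_nonempty with he | ⟨h₀, hh₀⟩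
    · rw [he]; simp
    simp only [mem_filter, mem_univ, true_and] at hh₀
    apply Finset.card_le_card_of_injOn (fun x => h₀⁻¹ * x)
    · intro x hx
      simp only [coe_filter, mem_univ, true_and, Set.mem_ofPred_eq] at hx ⊢
      -- φ x = φ h₀
      have h := hx.trans hh₀.symm
      simp only [φ] at h
      -- x * τ x⁻¹ = h₀ * τ h₀⁻¹
      rw [map_mul, map_inv]
      have h' : h₀⁻¹ * x = τ h₀⁻¹ * (τ x⁻¹)⁻¹ := by
        rw [eq_mul_inv_iff_mul_eq, mul_assoc, h, inv_mul_cancel_left]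
      rw [h', map_inv, map_inv, inv_inv]
    · intro x _ y _ hxy
      exact mul_left_cancel hxy
  have := Finset.card_le_mul_card_image_of_maps_to hmaps _ hfib
  simpa using this

theorem lemmaA [Finite K] (τ₁ τ₂ : MulAut K)
    (h1 : τ₁ * τ₁ = 1) (h2 : τ₂ * τ₂ = 1) (h3 : (τ₁ * τ₂) ^ 3 = 1)
    (c1 : Nat.card (fixSub τ₁) ≤ 2) (c2 : Nat.card (fixSub τ₂) ≤ 2)
    (c3 : Nat.card (fixSub (τ₁ * τ₂ * τ₁)) ≤ 2) :
    (Odd (Nat.card K) → Nat.card K ≤ Nat.card (fixSub (τ₁ * τ₂))) ∧
      Nat.card K + 2 ≤ 6 * Nat.card (fixSub (τ₁ * τ₂)) := by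
  classical
  have := Fintype.ofFinite K
  have hcardfix : ∀ τ : MulAut K, Nat.card (fixSub τ) = (univ.filter (fun k : K => τ k = k)).card := by
    intro τ
    rw [Nat.card_eq_fintype_card, ← Fintype.card_subtype]
    apply Fintype.card_congr
    exact Equiv.subtypeEquivRight (fun k => by rw [mem_fixSub])
  have hτ₁ : ∀ k : K, τ₁ (τ₁ k) = k := by
    intro k
    have := congrArg (fun f : MulAut K => f k) h1
    simpa using this
  have hτ₂ : ∀ k : K, τ₂ (τ₂ k) = k := by
    intro k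
    have := congrArg (fun f : MulAut K => f k) h2
    simpa using this
  have hσ3 : ∀ k : K, τ₁ (τ₂ (τ₁ (τ₂ (τ₁ (τ₂ k))))) = k := by
    intro k
    have := congrArg (fun f : MulAut K => f k) h3
    simpa [pow_succ] using this
  set τ₃ : MulAut K := τ₁ * τ₂ * τ₁ with hτ₃def
  have h33 : τ₃ * τ₃ = 1 := by
    ext k
    simp only [hτ₃def, MulAut.mul_apply, MulAut.one_apply]
    rw [hτ₁, hτ₂, hτ₁]
  set A₁ := univ.filter (fun k : K => τ₁ k = k⁻¹) with hA₁
  set A₂ := univ.filter (fun k : K => τ₂ k = k⁻¹) with hA₂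
  set A₃ := univ.filter (fun k : K => τ₃ k = k⁻¹) with hA₃
  set F := univ.filter (fun k : K => (τ₁ * τ₂) k = k) with hF
  have hcF : Nat.card (fixSub (τ₁ * τ₂)) = F.card := hcardfix _
  have hB₁ : Nat.card K ≤ Nat.card (fixSub τ₁) * A₁.card := by
    have := card_le_fix_mul_inv τ₁ h1
    rwa [← hcardfix, ← Nat.card_eq_fintype_card] at this
  have hB₂ : Nat.card K ≤ Nat.card (fixSub τ₂) * A₂.card := by
    have := card_le_fix_mul_inv τ₂ h2
    rwa [← hcardfix, ← Nat.card_eq_fintype_card] at this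
  have hB₃ : Nat.card K ≤ Nat.card (fixSub τ₃) * A₃.card := by
    have := card_le_fix_mul_inv τ₃ h33
    rwa [← hcardfix, ← Nat.card_eq_fintype_card] at this
  have memF : ∀ k : K, τ₁ (τ₂ k) = k → k ∈ F := by
    intro k hk
    rw [hF, mem_filter]
    exact ⟨mem_univ _, hk⟩
  have memA₁ : ∀ k : K, k ∈ A₁ → τ₁ k = k⁻¹ := by
    intro k hk
    rw [hA₁, mem_filter] at hk
    exact hk.2
  have memA₂ : ∀ k : K, k ∈ A₂ → τ₂ k = k⁻¹ := by
    intro k hk
    rw [hA₂, mem_filter] at hk
    exact hk.2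
  have memA₃ : ∀ k : K, k ∈ A₃ → τ₁ (τ₂ (τ₁ k)) = k⁻¹ := by
    intro k hk
    rw [hA₃, mem_filter] at hk
    exact hk.2
  -- pairwise intersections lie in F
  have h12 : A₁ ∩ A₂ ⊆ F := by
    intro k hk
    rw [mem_inter] at hk
    apply memF
    rw [memA₂ k hk.2, map_inv, memA₁ k hk.1, inv_inv]
  have h13 : A₁ ∩ A₃ ⊆ F := by
    intro k hk
    rw [mem_inter] at hk
    apply memF
    have hk3 := memA₃ k hk.2
    rw [memA₁ k hk.1, map_inv, map_inv, inv_inj] at hk3
    exact hk3
  have h23 : A₂ ∩ A₃ ⊆ F := by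
    intro k hk
    rw [mem_inter] at hk
    apply memF
    have hk2 := memA₂ k hk.1
    have hk3 := memA₃ k hk.2
    have e1 : τ₁ (τ₂ (τ₁ (τ₂ k))) = k := by
      rw [hk2, map_inv, map_inv, map_inv, hk3, inv_inv]
    have e2 := hσ3 k
    have e3 : τ₁ (τ₂ k) = τ₁ (τ₂ (τ₁ (τ₂ (τ₁ (τ₂ k))))) := by rw [e1]
    rw [e3, e2]
  have hone : (1 : K) ∈ A₁ ∩ A₂ ∩ A₃ := by
    simp [hA₁, hA₂, hA₃]
  -- inclusion-exclusion
  have ie1 := Finset.card_union_add_card_inter A₁ A₂
  have ie2 := Finset.card_union_add_card_inter (A₁ ∪ A₂) A₃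
  have ie3 : (A₁ ∪ A₂) ∩ A₃ = (A₁ ∩ A₃) ∪ (A₂ ∩ A₃) := Finset.union_inter_distrib_right _ _ _
  have ie4 := Finset.card_union_add_card_inter (A₁ ∩ A₃) (A₂ ∩ A₃)
  have ie5 : (A₁ ∩ A₃) ∩ (A₂ ∩ A₃) = A₁ ∩ A₂ ∩ A₃ := by
    ext k; simp only [mem_inter]; tauto
  have ie6 : 1 ≤ (A₁ ∩ A₂ ∩ A₃).card := Finset.card_pos.mpr ⟨1, hone⟩
  have ub : ((A₁ ∪ A₂) ∪ A₃).card ≤ Nat.card K := by
    rw [Nat.card_eq_fintype_card]; exact Finset.card_le_univ _
  have c12 := Finset.card_le_card h12
  have c13 := Finset.card_le_card h13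
  have c23 := Finset.card_le_card h23
  rw [ie3] at ie2
  rw [ie5] at ie4
  constructor
  · intro hodd
    have hd₁ : Nat.card (fixSub τ₁) ∣ Nat.card K := Subgroup.card_subgroup_dvd_card _
    have hd₂ : Nat.card (fixSub τ₂) ∣ Nat.card K := Subgroup.card_subgroup_dvd_card _
    have hp₁ : 0 < Nat.card (fixSub τ₁) := Nat.card_pos
    have hp₂ : 0 < Nat.card (fixSub τ₂) := Nat.card_pos
    have e₁ : Nat.card (fixSub τ₁) = 1 := by
      rcases Nat.lt_or_ge (Nat.card (fixSub τ₁)) 2 with h | h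
      · omega
      · have : Nat.card (fixSub τ₁) = 2 := le_antisymm c1 h
        rw [this] at hd₁
        exact absurd (even_iff_two_dvd.mpr hd₁) (Nat.not_even_iff_odd.mpr hodd)
    have e₂ : Nat.card (fixSub τ₂) = 1 := by
      rcases Nat.lt_or_ge (Nat.card (fixSub τ₂)) 2 with h | h
      · omega
      · have : Nat.card (fixSub τ₂) = 2 := le_antisymm c2 h
        rw [this] at hd₂
        exact absurd (even_iff_two_dvd.mpr hd₂) (Nat.not_even_iff_odd.mpr hodd)
    rw [e₁, one_mul] at hB₁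
    rw [e₂, one_mul] at hB₂
    have hA₁u : A₁ = univ := by
      apply Finset.eq_univ_of_card
      have := Finset.card_le_univ A₁
      rw [Nat.card_eq_fintype_card] at hB₁
      omega
    have hA₂u : A₂ = univ := by
      apply Finset.eq_univ_of_card
      have := Finset.card_le_univ A₂
      rw [Nat.card_eq_fintype_card] at hB₂
      omega
    rw [hcF, Nat.card_eq_fintype_card, ← Finset.card_univ]
    apply Finset.card_le_card
    rw [hA₁u, hA₂u, Finset.inter_self] at h12
    exact h12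
  · rw [hcF]
    have m1 := Nat.mul_le_mul_right A₁.card c1
    have m2 := Nat.mul_le_mul_right A₂.card c2
    have m3 := Nat.mul_le_mul_right A₃.card c3
    have q1 := hB₁.trans m1
    have q2 := hB₂.trans m2
    have q3 := hB₃.trans m3
    omega


theorem card_modEq_fix [Finite K] (τ : MulAut K) (q e : ℕ) [Fact q.Prime] (h : τ ^ (q ^ e) = 1) :
    Nat.card K ≡ Nat.card (fixSub τ) [MOD q] := by
  classical
  have := Fintype.ofFinite K
  let σ : Equiv.Perm K := MulAut.toPerm K τ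
  have hσ : σ ^ q ^ e = 1 := by
    show (MulAut.toPerm K τ) ^ q ^ e = 1
    rw [← map_pow, h, map_one]
  have h1 := Equiv.Perm.card_compl_support_modEq hσ
  have h2 : Nat.card (fixSub τ) = (σ.support)ᶜ.card := by
    rw [Nat.card_eq_fintype_card, ← Fintype.card_coe]
    apply Fintype.card_congr
    refine Equiv.subtypeEquivRight (fun k => ?_)
    rw [mem_fixSub, Finset.mem_compl, Equiv.Perm.mem_support, not_not]
    rfl
  rw [h2, Nat.card_eq_fintype_card]
  exact h1.symm

end Cfsg.Agent.Lib.Helper22.SharpCount
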