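import Mathlib
import Cfsg.Agent.Lib.Helper22.SharpCount

/-! Groups of order `320` with an extraspecial `2`-core of minus type: the centralizer of an
outer involution in the core is a four-group. -/

set_option autoImplicit false

namespace Cfsg.Agent.Lib.Helper22.Ord320

open Subgroup

variable {G : Type*} [Group G]

/-- Elements of `H` that `g` centralizes modulo the central subgroup `Z`. -/
def qc (H Z : Subgroup G) (hZ : Z ≤ center G) (g : G) : Subgroup G where
  carrier := {h | h ∈ H ∧ g * h * g⁻¹ * h⁻¹ ∈ Z}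
  one_mem' := ⟨H.one_mem, by simp⟩
  mul_mem' := by
    rintro a b ⟨ha, ha'⟩ ⟨hb, hb'⟩
    refine ⟨H.mul_mem ha hb, ?_⟩
    have hc := mem_center_iff.mp (hZ hb')
    have : g * (a * b) * g⁻¹ * (a * b)⁻¹ = (g * a * g⁻¹ * a⁻¹) * (g * b * g⁻¹ * b⁻¹) := by
      have h1 : g * (a * b) * g⁻¹ * (a * b)⁻¹
          = g * a * g⁻¹ * ((g * b * g⁻¹ * b⁻¹) * a⁻¹) := by group
      rw [h1, ← hc a⁻¹]; group
    rw [this]; exact Z.mul_mem ha' hb'
  inv_mem' := by
    rintro a ⟨ha, ha'⟩
    refine ⟨H.inv_mem ha, ?_⟩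
    have hc := mem_center_iff.mp (hZ (Z.inv_mem ha'))
    have h1 : g * a⁻¹ * g⁻¹ * a⁻¹⁻¹ = a⁻¹ * (g * a * g⁻¹ * a⁻¹)⁻¹ * a := by group
    have h2 : g * a⁻¹ * g⁻¹ * a⁻¹⁻¹ = (g * a * g⁻¹ * a⁻¹)⁻¹ := by
      rw [h1, hc a⁻¹]; group
    show g * a⁻¹ * g⁻¹ * a⁻¹⁻¹ ∈ Z
    rw [h2]; exact Z.inv_mem ha'

theorem mem_qc {H Z : Subgroup G} {hZ : Z ≤ center G} {g h : G} :
    h ∈ qc H Z hZ g ↔ h ∈ H ∧ g * h * g⁻¹ * h⁻¹ ∈ Z := Iff.rfl

theorem qc_le {H Z : Subgroup G} {hZ : Z ≤ center G} (g : G) : qc H Z hZ g ≤ H :=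
  fun _ h => h.1

theorem cent_le_qc {H Z : Subgroup G} {hZ : Z ≤ center G} (g : G) :
    H ⊓ centralizer {g} ≤ qc H Z hZ g := by
  rintro h ⟨hH, hc⟩
  refine ⟨hH, ?_⟩
  have : g * h = h * g := (mem_centralizer_singleton_iff.mp (show h ∈ centralizer {g} from hc)).symm
  have : g * h * g⁻¹ * h⁻¹ = 1 := by rw [this]; group
  rw [this]; exact Z.one_mem

theorem qc_mul {H Z : Subgroup G} {hZ : Z ≤ center G} (g g' : G) :
    qc H Z hZ g ⊓ qc H Z hZ g' ≤ qc H Z hZ (g * g') := by
  rintro h ⟨⟨hH, h1⟩, ⟨_, h2⟩⟩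
  refine ⟨hH, ?_⟩
  have hc := mem_center_iff.mp (hZ h2)
  have e : g * g' * h * (g * g')⁻¹ * h⁻¹ = (g' * h * g'⁻¹ * h⁻¹) * (g * h * g⁻¹ * h⁻¹) := by
    have e1 : g * g' * h * (g * g')⁻¹ * h⁻¹ = g * (g' * h * g'⁻¹ * h⁻¹) * h * g⁻¹ * h⁻¹ := by
      group
    rw [e1, hc g]; group
  rw [e]; exact Z.mul_mem h2 h1

theorem qc_pow {H Z : Subgroup G} {hZ : Z ≤ center G} (g : G) (k : ℕ) :
    qc H Z hZ g ≤ qc H Z hZ (g ^ k) := by
  induction k with
  | zero =>
    intro h hh
    refine ⟨hh.1, ?_⟩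
    simp
  | succ k ih =>
    intro h hh
    rw [pow_succ]
    exact qc_mul _ _ ⟨ih hh, hh⟩

theorem qc_conj {H Z : Subgroup G} {hZ : Z ≤ center G} [H.Normal] (g x h : G)
    (hh : h ∈ qc H Z hZ g) : x * h * x⁻¹ ∈ qc H Z hZ (x * g * x⁻¹) := by
  obtain ⟨hH, h1⟩ := hh
  refine ⟨Subgroup.Normal.conj_mem inferInstance h hH x, ?_⟩
  have hc := mem_center_iff.mp (hZ h1)
  have e : x * g * x⁻¹ * (x * h * x⁻¹) * (x * g * x⁻¹)⁻¹ * (x * h * x⁻¹)⁻¹
      = x * (g * h * g⁻¹ * h⁻¹) * x⁻¹ := by group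
  rw [e, hc x]; simpa using h1

theorem card_qc_conj_le {H Z : Subgroup G} {hZ : Z ≤ center G} [H.Normal] [Finite G] (g x : G) :
    Nat.card (qc H Z hZ g) ≤ Nat.card (qc H Z hZ (x * g * x⁻¹)) := by
  apply Nat.card_le_card_of_injective
    (fun h : qc H Z hZ g => (⟨x * h.1 * x⁻¹, qc_conj g x h.1 h.2⟩ : qc H Z hZ (x * g * x⁻¹)))
  intro a b hab
  have := congrArg Subtype.val hab
  simp only at this
  apply Subtype.ext
  simpa using this

theorem card_mul_relIndex' {A B : Subgroup G} (h : A ≤ B) :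
    Nat.card A * A.relIndex B = Nat.card B := by
  have := relIndex_mul_relIndex (⊥ : Subgroup G) A B bot_le h
  rwa [relIndex_bot_left, relIndex_bot_left] at this

theorem card_mul_card_le [Finite G] {A B H : Subgroup G} (hA : A ≤ H) (hB : B ≤ H) :
    Nat.card A * Nat.card B ≤ Nat.card (A ⊓ B : Subgroup G) * Nat.card H := by
  have h1 : Nat.card (A ⊓ B : Subgroup G) * B.relIndex A = Nat.card A := by
    have := card_mul_relIndex' (inf_le_right : B ⊓ A ≤ A)
    rw [inf_relIndex_right] at this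
    rwa [inf_comm] at this
  have h2 : B.relIndex A ≤ B.relIndex H := relIndex_le_of_le_right hA (by
    have : B.relIndex H ∣ Nat.card H := relIndex_dvd_card _ _
    intro h0
    rw [h0] at this
    have := Nat.eq_zero_of_zero_dvd this
    have := Nat.card_pos (α := H)
    omega)
  have h3 : Nat.card B * B.relIndex H = Nat.card H := card_mul_relIndex' hB
  calc Nat.card A * Nat.card B = Nat.card (A ⊓ B : Subgroup G) * (B.relIndex A * Nat.card B) := by
        rw [← h1]; ring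
    _ ≤ Nat.card (A ⊓ B : Subgroup G) * (B.relIndex H * Nat.card B) := by gcongr
    _ = Nat.card (A ⊓ B : Subgroup G) * Nat.card H := by rw [← h3]; ring

theorem sq_eq_one_of_card_two {Z : Subgroup G} (hZ2 : Nat.card Z = 2) {c : G} (hc : c ∈ Z) :
    c ^ 2 = 1 := by
  have : (⟨c, hc⟩ : Z) ^ Nat.card Z = 1 := pow_card_eq_one'
  rw [hZ2] at this
  exact congrArg Subtype.val this

theorem conj_pow_eq {Z : Subgroup G} (hZ : Z ≤ center G) (y h c : G) (hc : c ∈ Z)
    (hy : y * h * y⁻¹ = c * h) (k : ℕ) : y ^ k * h * (y ^ k)⁻¹ = c ^ k * h := by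
  have hcc := mem_center_iff.mp (hZ hc)
  induction k with
  | zero => simp
  | succ k ih =>
    have e : y ^ (k + 1) * h * (y ^ (k + 1))⁻¹ = y * (y ^ k * h * (y ^ k)⁻¹) * y⁻¹ := by
      rw [pow_succ']; group
    have hck := mem_center_iff.mp (hZ (Z.pow_mem hc k))
    rw [e, ih]
    calc y * (c ^ k * h) * y⁻¹ = (y * c ^ k) * h * y⁻¹ := by group
      _ = c ^ k * y * h * y⁻¹ := by rw [hck y]
      _ = c ^ k * (y * h * y⁻¹) := by group
      _ = c ^ k * (c * h) := by rw [hy]
      _ = c ^ (k + 1) * h := by rw [pow_succ]; group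

theorem card_qc_five [Finite G] (H Z : Subgroup G) [H.Normal] (hZ : Z ≤ center G)
    (hH : Nat.card H = 32) (hZ2 : Nat.card Z = 2)
    (hCH : centralizer (H : Set G) ≤ H) (y : G) (hy : orderOf y = 5) :
    Nat.card (qc H Z hZ y) ≤ 2 := by
  have : Fact (Nat.Prime 5) := ⟨by norm_num⟩
  set τ : MulAut H := MulAut.conjNormal y with hτ
  have hτ5 : τ ^ (5 ^ 1) = 1 := by
    rw [hτ, ← map_pow, pow_one, ← hy, pow_orderOf_eq_one, map_one]
  have hmod := SharpCount.card_modEq_fix τ 5 1 hτ5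
  have hdvd : Nat.card (SharpCount.fixSub τ) ∣ Nat.card H := Subgroup.card_subgroup_dvd_card _
  rw [hH] at hmod hdvd
  have hcases : Nat.card (SharpCount.fixSub τ) = 2 ∨ Nat.card (SharpCount.fixSub τ) = 32 := by
    have h32 : (32 : ℕ) = 2 ^ 5 := by norm_num
    rw [h32] at hdvd
    obtain ⟨k, hk, hk'⟩ := (Nat.dvd_prime_pow Nat.prime_two).mp hdvd
    rw [hk'] at hmod ⊢
    unfold Nat.ModEq at hmod
    interval_cases k <;> simp_all
  have hfix2 : Nat.card (SharpCount.fixSub τ) = 2 := by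
    rcases hcases with h | h
    · exact h
    · exfalso
      have htop : SharpCount.fixSub τ = ⊤ := by
        rw [← card_eq_iff_eq_top, h, hH]
      have hyc : y ∈ centralizer (H : Set G) := by
        rw [mem_centralizer_iff]
        intro h hh
        have : (⟨h, hh⟩ : H) ∈ SharpCount.fixSub τ := by rw [htop]; trivial
        rw [SharpCount.mem_fixSub] at this
        have := congrArg Subtype.val this
        rw [hτ, MulAut.conjNormal_apply] at this
        simp only at this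
        calc h * y = (y * h * y⁻¹) * y := by rw [this]
          _ = y * h := by group
      have hyH := hCH hyc
      have := Subgroup.orderOf_dvd_natCard H hyH
      rw [hy, hH] at this
      omega
  rw [← hfix2]
  have key : ∀ h : qc H Z hZ y, y * h.1 * y⁻¹ = h.1 := by
    intro h
    obtain ⟨hh, hc⟩ := h.2
    set c := y * h.1 * y⁻¹ * h.1⁻¹ with hcdef
    have e1 : y * h.1 * y⁻¹ = c * h.1 := by rw [hcdef]; group
    have e5 := conj_pow_eq hZ y h.1 c hc e1 5
    have y5 : y ^ 5 = 1 := by rw [← hy, pow_orderOf_eq_one]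
    rw [y5] at e5
    have c2 := sq_eq_one_of_card_two hZ2 hc
    have c5 : c ^ 5 = c := by
      have : c ^ 5 = (c ^ 2) ^ 2 * c := by group
      rw [this, c2]; simp
    rw [c5] at e5
    have : c = 1 := by
      have h1 : (1 : G) * h.1 = c * h.1 := by simpa using e5
      exact (mul_right_cancel h1).symm
    rw [e1, this, one_mul]
  apply Nat.card_le_card_of_injective
    (fun h : qc H Z hZ y => (⟨⟨h.1, h.2.1⟩, by
      rw [SharpCount.mem_fixSub]
      apply Subtype.ext
      rw [hτ, MulAut.conjNormal_apply]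
      exact key h⟩ : SharpCount.fixSub τ))
  intro a b hab
  have := congrArg (fun x : SharpCount.fixSub τ => (x.1.1 : G)) hab
  exact Subtype.ext this

theorem dvd_card_of_lt_pgroup [Finite G] {H K : Subgroup G} (hK : IsPGroup 2 K) (hle : H ≤ K)
    (hH : Nat.card H = 32) (hne : H ≠ K) : 64 ∣ Nat.card K := by
  have : Fact (Nat.Prime 2) := ⟨Nat.prime_two⟩
  obtain ⟨n, hn⟩ := IsPGroup.exists_card_eq hK
  have h1 : Nat.card H ∣ Nat.card K := card_dvd_of_le hle
  rw [hH, hn, show (32 : ℕ) = 2 ^ 5 by norm_num, Nat.pow_dvd_pow_iff_le_right (by norm_num)] at h1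
  have h2 : n ≠ 5 := by
    intro h5
    apply hne
    apply eq_of_le_of_card_ge hle
    rw [hn, h5, hH]; norm_num
  rw [hn, show (64 : ℕ) = 2 ^ 6 by norm_num, Nat.pow_dvd_pow_iff_le_right (by norm_num)]
  omega

theorem card_sup_zpowers_five (H : Subgroup G) [H.Normal] (hH : Nat.card H = 32) (x : G)
    (hx : orderOf x = 5) : Nat.card (H ⊔ zpowers x : Subgroup G) = 160 := by
  have h1 := card_mul_relIndex' (le_sup_left : H ≤ H ⊔ zpowers x)
  rw [relIndex_sup_left] at h1
  have h2 : H ⊓ zpowers x = ⊥ := by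
    apply disjoint_iff.mp
    apply disjoint_of_coprime_natCard
    rw [hH, Nat.card_zpowers, hx]; norm_num
  have h3 : H.relIndex (zpowers x) = 5 := by
    rw [← inf_relIndex_right, h2, relIndex_bot_left, Nat.card_zpowers, hx]
  rw [← h1, hH, h3]

theorem mem_normalizer_of_conj_le [Finite G] (K : Subgroup G) (x : G)
    (h : ∀ k ∈ K, x * k * x⁻¹ ∈ K) : x ∈ normalizer (K : Set G) := by
  set f : G →* G := (MulAut.conj x).toMonoidHom with hf
  have hinj : Function.Injective f := (MulAut.conj x).injective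
  have hle : K.map f ≤ K := by
    rintro _ ⟨k, hk, rfl⟩
    exact h k hk
  have heq : K.map f = K := by
    apply eq_of_le_of_card_ge hle
    rw [card_map_of_injective hinj]
  rw [mem_normalizer_iff]
  intro k
  constructor
  · exact h k
  · intro hk
    have : f k ∈ K.map f := by rw [heq]; exact hk
    exact (mem_map_iff_mem hinj).mp this

theorem sq_of_orderOf_two {T : G} (hT : orderOf T = 2) : T * T = 1 := by
  have := pow_orderOf_eq_one T
  rwa [hT, pow_two] at this

theorem inv_of_orderOf_two {T : G} (hT : orderOf T = 2) : T⁻¹ = T :=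
  inv_eq_of_mul_eq_one_left (sq_of_orderOf_two hT)

/-- Mini Baer--Suzuki step: if `T * (X T X⁻¹) ∈ H` then `H ⊔ ⟨T⟩` is a normal `2`-subgroup. -/
theorem prod_conj_not_mem [Finite G] (H : Subgroup G) [H.Normal]
    (hG : Nat.card G = 320) (hH : Nat.card H = 32)
    (hmax : ∀ K : Subgroup G, K.Normal → IsPGroup 2 K → K ≤ H)
    (T : G) (hT : orderOf T = 2) (hTH : T ∉ H) (X : G) (hX : orderOf X = 5) :
    T * (X * T * X⁻¹) ∉ H := by
  intro hu
  set K : Subgroup G := H ⊔ zpowers T with hK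
  have hH2 : IsPGroup 2 H := IsPGroup.of_card (n := 5) (by rw [hH]; norm_num)
  have hT2 : IsPGroup 2 (zpowers T) := IsPGroup.of_card (n := 1) (by rw [Nat.card_zpowers, hT]; norm_num)
  have hK2 : IsPGroup 2 K := IsPGroup.to_sup_of_normal_left hH2 hT2
  have hHK : H ≤ K := le_sup_left
  have hTK : T ∈ K := (le_sup_right : zpowers T ≤ K) (mem_zpowers T)
  have hne : H ≠ K := by
    intro h; apply hTH; rw [h]; exact hTK
  have h64 : 64 ∣ Nat.card K := dvd_card_of_lt_pgroup hK2 hHK hH hne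
  have hXN : X ∈ normalizer (K : Set G) := by
    apply mem_normalizer_of_conj_le
    set f : G →* G := (MulAut.conj X).toMonoidHom with hf
    have hle : K.map f ≤ K := by
      rw [hK, Subgroup.map_sup, MonoidHom.map_zpowers]
      apply sup_le
      · rintro _ ⟨h, hh, rfl⟩
        exact hHK (Subgroup.Normal.conj_mem inferInstance h hh X)
      · rw [zpowers_le]
        have e : f T = T⁻¹ * (T * (X * T * X⁻¹)) := by
          show X * T * X⁻¹ = _
          group
        rw [e]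
        exact K.mul_mem (K.inv_mem hTK) (hHK hu)
    intro k hk
    exact hle ⟨k, hk, rfl⟩
  have h5 : 5 ∣ Nat.card (normalizer (K : Set G)) := by
    have := Subgroup.orderOf_dvd_natCard _ hXN
    rwa [hX] at this
  have h64' : 64 ∣ Nat.card (normalizer (K : Set G)) := h64.trans (card_dvd_of_le le_normalizer)
  have h320 : 320 ∣ Nat.card (normalizer (K : Set G)) :=
    Nat.Coprime.mul_dvd_of_dvd_of_dvd (by norm_num) h64' h5
  have hdvd : Nat.card (normalizer (K : Set G)) ∣ 320 := by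
    rw [← hG]; exact Subgroup.card_subgroup_dvd_card _
  have hcard : Nat.card (normalizer (K : Set G)) = Nat.card G := by
    rw [hG]; exact Nat.dvd_antisymm hdvd h320
  have htop : normalizer (K : Set G) = ⊤ := (card_eq_iff_eq_top _).mp hcard
  have hKn : K.Normal := normalizer_eq_top_iff.mp htop
  exact hTH (hmax K hKn hK2 hTK)

theorem five_dvd_orderOf [Finite G] (H : Subgroup G) [H.Normal] (hH : Nat.card H = 32)
    (N : Subgroup G) (hHN : H ≤ N) (hN : Nat.card N = 160) (u : G) (huN : u ∈ N) (huH : u ∉ H) :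
    5 ∣ orderOf u := by
  by_contra h5
  have hdvd : orderOf u ∣ 32 * 5 := by
    have := Subgroup.orderOf_dvd_natCard N huN
    rwa [hN] at this
  have hcop : (orderOf u).Coprime 5 :=
    ((Nat.Prime.coprime_iff_not_dvd (by norm_num)).mpr h5).symm
  have h32 : orderOf u ∣ 2 ^ 5 := by
    have := Nat.Coprime.dvd_of_dvd_mul_right hcop hdvd
    simpa using this
  obtain ⟨k, _, hk⟩ := (Nat.dvd_prime_pow Nat.prime_two).mp h32
  have hH2 : IsPGroup 2 H := IsPGroup.of_card (n := 5) (by rw [hH]; norm_num)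
  have hu2 : IsPGroup 2 (zpowers u) := IsPGroup.of_card (n := k) (by rw [Nat.card_zpowers, hk])
  have hK2 : IsPGroup 2 (H ⊔ zpowers u : Subgroup G) := IsPGroup.to_sup_of_normal_left hH2 hu2
  have hne : H ≠ H ⊔ zpowers u := by
    intro h; apply huH; rw [h]
    exact (le_sup_right : zpowers u ≤ H ⊔ zpowers u) (mem_zpowers u)
  have h64 := dvd_card_of_lt_pgroup hK2 le_sup_left hH hne
  have hle : H ⊔ zpowers u ≤ N := sup_le hHN (zpowers_le.mpr huN)
  have := h64.trans (card_dvd_of_le hle)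
  rw [hN] at this
  omega

theorem card_qc_le_eight [Finite G] (H Z : Subgroup G) [H.Normal] (hZ : Z ≤ center G)
    (hG : Nat.card G = 320) (hH : Nat.card H = 32) (hZ2 : Nat.card Z = 2)
    (hCH : centralizer (H : Set G) ≤ H)
    (hmax : ∀ K : Subgroup G, K.Normal → IsPGroup 2 K → K ≤ H)
    (T : G) (hT : orderOf T = 2) (hTH : T ∉ H) :
    Nat.card (qc H Z hZ T) ≤ 8 := by
  have : Fact (Nat.Prime 5) := ⟨by norm_num⟩
  obtain ⟨X, hX⟩ := exists_prime_orderOf_dvd_card' (G := G) 5 (by rw [hG]; norm_num)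
  set N : Subgroup G := H ⊔ zpowers X with hN
  have hNc : Nat.card N = 160 := card_sup_zpowers_five H hH X hX
  have hNn : N.Normal := by
    apply normal_of_index_eq_two
    have := card_mul_index N
    rw [hNc, hG] at this
    omega
  have hHN : H ≤ N := le_sup_left
  have hXN : X ∈ N := (le_sup_right : zpowers X ≤ N) (mem_zpowers X)
  set u : G := T * (X * T * X⁻¹) with hu
  have huN : u ∈ N := by
    have e : u = (T * X * T⁻¹) * X⁻¹ := by
      rw [hu, inv_of_orderOf_two hT]; group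
    rw [e]
    exact N.mul_mem (hNn.conj_mem X hXN T) (N.inv_mem hXN)
  have huH : u ∉ H := prod_conj_not_mem H hG hH hmax T hT hTH X hX
  have h5 : 5 ∣ orderOf u := five_dvd_orderOf H hH N hHN hNc u huN huH
  have hpos : 0 < orderOf u := orderOf_pos u
  set m := orderOf u / 5 with hm
  have hm5 : m * 5 = orderOf u := Nat.div_mul_cancel h5
  have hm0 : m ≠ 0 := by
    intro h0; rw [h0] at hm5; omega
  have hY : orderOf (u ^ m) = 5 := by
    rw [orderOf_pow_of_dvd hm0 ⟨5, hm5.symm⟩, ← hm5]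
    exact Nat.mul_div_cancel_left 5 (Nat.pos_of_ne_zero hm0)
  have hle : qc H Z hZ T ⊓ qc H Z hZ (X * T * X⁻¹) ≤ qc H Z hZ (u ^ m) :=
    (qc_mul T (X * T * X⁻¹)).trans (qc_pow u m)
  have h2 : Nat.card (qc H Z hZ T ⊓ qc H Z hZ (X * T * X⁻¹) : Subgroup G) ≤ 2 :=
    (card_le_of_le hle).trans (card_qc_five H Z hZ hH hZ2 hCH (u ^ m) hY)
  have h3 := card_mul_card_le (qc_le (hZ := hZ) T) (qc_le (H := H) (hZ := hZ) (X * T * X⁻¹))
  have h4 := card_qc_conj_le (H := H) (hZ := hZ) T X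
  rw [hH] at h3
  nlinarith

theorem sq_mul_central (a z : G) (hz : ∀ g : G, g * z = z * g) (ha : a ^ 2 = 1)
    (hz2 : z ^ 2 = 1) : (a * z) ^ 2 = 1 := by
  have h1 : (a * z) ^ 2 = a * (z * a) * z := by rw [pow_two]; simp only [mul_assoc]
  rw [h1, ← hz a]
  have h2 : a * (a * z) * z = a ^ 2 * z ^ 2 := by rw [pow_two, pow_two]; simp only [mul_assoc]
  rw [h2, ha, hz2, one_mul]

theorem no_eight [Finite G] (H Z : Subgroup G) [H.Normal] (hZ : Z ≤ center G)
    (hH : Nat.card H = 32) (hZ2 : Nat.card Z = 2) (hZH : Z ≤ H)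
    (hsq : ∀ h ∈ H, h ^ 2 ∈ Z)
    (hminus : ∀ A : Subgroup G, A ≤ H → (∀ a ∈ A, a ^ 2 = 1) → Nat.card A ≤ 4)
    (T : G) (hT : orderOf T = 2)
    (hC8 : Nat.card (H ⊓ centralizer {T} : Subgroup G) = 8)
    (hqc : qc H Z hZ T = H ⊓ centralizer {T}) : False := by
  classical
  have := Fintype.ofFinite G
  have hTT : T * T = 1 := sq_of_orderOf_two hT
  have hTi : T⁻¹ = T := inv_of_orderOf_two hT
  -- a nontrivial element of `Z`
  obtain ⟨z, hzZ, hz1⟩ : ∃ z ∈ Z, z ≠ 1 := by
    have h1 : 1 < Nat.card Z := by rw [hZ2]; norm_num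
    have : Nontrivial Z := (Finite.one_lt_card_iff_nontrivial).mp h1
    obtain ⟨z, hz⟩ := exists_ne (1 : Z)
    exact ⟨z.1, z.2, fun h => hz (Subtype.ext h)⟩
  have hzc := mem_center_iff.mp (hZ hzZ)
  have hz2 : z ^ 2 = 1 := sq_eq_one_of_card_two hZ2 hzZ
  set C : Subgroup G := H ⊓ centralizer {T} with hC
  have memC : ∀ g, g ∈ C ↔ g ∈ H ∧ g * T = T * g := by
    intro g
    rw [hC, mem_inf, mem_centralizer_singleton_iff]
  set φ : G → G := fun h => h * T * h⁻¹ * T with hφ
  have f1 : ∀ h ∈ H, φ h ∈ H := by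
    intro h hh
    have e : φ h = h * (T * h⁻¹ * T⁻¹) := by rw [hTi, hφ]; group
    rw [e]
    exact H.mul_mem hh (Subgroup.Normal.conj_mem inferInstance _ (H.inv_mem hh) T)
  have f2 : ∀ h, T * φ h * T⁻¹ = (φ h)⁻¹ := by
    intro h
    have e1 : T * φ h * T⁻¹ = T * h * T * h⁻¹ * (T * T) := by
      rw [hTi, hφ]; group
    have e2 : (φ h)⁻¹ = T⁻¹ * h * T⁻¹ * h⁻¹ := by rw [hφ]; group
    rw [e1, e2, hTT, hTi, mul_one]
  have f3 : ∀ h ∈ H, φ h ∈ C := by
    intro h hh
    rw [← hqc, mem_qc]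
    refine ⟨f1 h hh, ?_⟩
    rw [f2 h]
    have : (φ h)⁻¹ * (φ h)⁻¹ = ((φ h) ^ 2)⁻¹ := by group
    rw [this]
    exact Z.inv_mem (hsq _ (f1 h hh))
  have f4 : ∀ h ∈ H, (φ h) ^ 2 = 1 := by
    intro h hh
    have hc := ((memC _).mp (f3 h hh)).2
    have h2 := f2 h
    have : T * φ h * T⁻¹ = φ h := by rw [← hc]; group
    rw [this] at h2
    rw [pow_two]
    nth_rewrite 1 [h2]
    exact inv_mul_cancel _
  have f5 : ∀ h ∈ H, ∀ h' ∈ H, ∀ c ∈ Z, φ h = φ h' * c → h'⁻¹ * h ∈ C ∧ c = 1 := by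
    intro h hh h' hh' c hc e
    have hcc := mem_center_iff.mp (hZ hc)
    set g := h'⁻¹ * h with hg
    have e1 : h * T * h⁻¹ = h' * T * h'⁻¹ * c := by
      have e0 : h * T * h⁻¹ * T = h' * T * h'⁻¹ * c * T := by
        have : h' * T * h'⁻¹ * c * T = h' * T * h'⁻¹ * (c * T) := by group
        rw [this, ← hcc T]
        have : h' * T * h'⁻¹ * (T * c) = φ h' * c := by rw [hφ]; group
        rw [this, ← e]
      exact mul_right_cancel e0
    have e2 : T * g * T⁻¹ * g⁻¹ = c := by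
      have e3 : g * T * g⁻¹ = T * c := by
        have : g * T * g⁻¹ = h'⁻¹ * (h * T * h⁻¹) * h' := by rw [hg]; group
        rw [this, e1]
        have : h'⁻¹ * (h' * T * h'⁻¹ * c) * h' = T * (h'⁻¹ * c) * h' := by group
        rw [this, hcc h'⁻¹]; group
      have e4 : g * T = T * c * g := by rw [← e3]; group
      have e5 : T * g * T⁻¹ * g⁻¹ = T * (g * T) * g⁻¹ := by rw [hTi]; group
      rw [e5, e4]
      have : T * (T * c * g) * g⁻¹ = (T * T) * c := by group
      rw [this, hTT, one_mul]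
    have hgH : g ∈ H := H.mul_mem (H.inv_mem hh') hh
    have hgC : g ∈ C := by
      rw [← hqc, mem_qc]
      exact ⟨hgH, by rw [e2]; exact hc⟩
    refine ⟨hgC, ?_⟩
    have hcomm := ((memC _).mp hgC).2
    rw [← e2, ← hcomm]; group
  set Hf : Finset G := Finset.univ.filter (· ∈ H) with hHf
  set Cf : Finset G := Finset.univ.filter (· ∈ C) with hCf
  have hHfc : Hf.card = 32 := by
    rw [← hH]; exact (Nat.subtype_card Hf (by simp [hHf])).symm
  have hCfc : Cf.card = 8 := by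
    rw [← hC8]; exact (Nat.subtype_card Cf (by simp [hCf])).symm
  set D : Finset G := Hf.image φ with hD
  have hDc : 4 ≤ D.card := by
    have hb : Hf.card ≤ 8 * D.card := by
      apply Finset.card_le_mul_card_image
      intro b hb
      obtain ⟨h₀, hh₀, rfl⟩ := Finset.mem_image.mp hb
      have hh₀' : h₀ ∈ H := by simpa [hHf] using hh₀
      rw [← hCfc]
      apply Finset.card_le_card_of_injOn (fun h => h₀⁻¹ * h)
      · intro h hh
        have hh' := Finset.mem_filter.mp hh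
        have hhH : h ∈ H := by simpa [hHf] using hh'.1
        have := (f5 h hhH h₀ hh₀' 1 Z.one_mem (by rw [mul_one]; exact hh'.2)).1
        simpa [hCf] using this
      · intro a _ b _ hab
        exact mul_left_cancel hab
    rw [hHfc] at hb
    omega
  set D' : Finset G := D.image (· * z) with hD'
  have hD'c : D'.card = D.card := by
    apply Finset.card_image_of_injective
    intro a b hab
    exact mul_right_cancel hab
  have hdisj : Disjoint D D' := by
    rw [Finset.disjoint_left]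
    intro a ha ha'
    obtain ⟨h, hh, rfl⟩ := Finset.mem_image.mp ha
    obtain ⟨b, hb, hb'⟩ := Finset.mem_image.mp ha'
    obtain ⟨h', hh', rfl⟩ := Finset.mem_image.mp hb
    have hhH : h ∈ H := by simpa [hHf] using hh
    have hhH' : h' ∈ H := by simpa [hHf] using hh'
    exact hz1 (f5 h hhH h' hhH' z hzZ hb'.symm).2
  set S : Finset G := Cf.filter (fun a => a ^ 2 = 1) with hS
  have hsub : D ∪ D' ⊆ S := by
    intro a ha
    rcases Finset.mem_union.mp ha with ha | ha
    · obtain ⟨h, hh, rfl⟩ := Finset.mem_image.mp ha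
      have hhH : h ∈ H := by simpa [hHf] using hh
      rw [hS, Finset.mem_filter]
      exact ⟨by simpa [hCf] using f3 h hhH, f4 h hhH⟩
    · obtain ⟨b, hb, rfl⟩ := Finset.mem_image.mp ha
      obtain ⟨h, hh, rfl⟩ := Finset.mem_image.mp hb
      have hhH : h ∈ H := by simpa [hHf] using hh
      rw [hS, Finset.mem_filter]
      have hzC : z ∈ C := (memC z).mpr ⟨hZH hzZ, (hzc T).symm⟩
      refine ⟨by simpa [hCf] using C.mul_mem (f3 h hhH) hzC, ?_⟩
      exact sq_mul_central (φ h) z hzc (f4 h hhH) hz2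
  have hScard : 8 ≤ S.card := by
    have := Finset.card_le_card hsub
    rw [Finset.card_union_of_disjoint hdisj, hD'c] at this
    omega
  have hSeq : S = Cf := by
    apply Finset.eq_of_subset_of_card_le (Finset.filter_subset _ _)
    rw [hCfc]; exact hScard
  have hexp : ∀ a ∈ C, a ^ 2 = 1 := by
    intro a ha
    have : a ∈ S := by rw [hSeq]; simpa [hCf] using ha
    exact (Finset.mem_filter.mp this).2
  have := hminus C inf_le_left hexp
  rw [hC8] at this
  omega

theorem main [Finite G] (H Z : Subgroup G) [H.Normal] (hZ : Z ≤ center G)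
    (hG : Nat.card G = 320) (hH : Nat.card H = 32) (hZ2 : Nat.card Z = 2) (hZH : Z ≤ H)
    (hsq : ∀ h ∈ H, h ^ 2 ∈ Z)
    (hCH : centralizer (H : Set G) ≤ H)
    (hmax : ∀ K : Subgroup G, K.Normal → IsPGroup 2 K → K ≤ H)
    (hminus : ∀ A : Subgroup G, A ≤ H → (∀ a ∈ A, a ^ 2 = 1) → Nat.card A ≤ 4)
    (T : G) (hT : orderOf T = 2) (hTH : T ∉ H)
    (V : Subgroup G) (hV : V ≤ H ⊓ centralizer {T}) (hV4 : Nat.card V = 4) :
    Nat.card (H ⊓ centralizer {T} : Subgroup G) = 4 := by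
  have h8 := card_qc_le_eight H Z hZ hG hH hZ2 hCH hmax T hT hTH
  have hle : H ⊓ centralizer {T} ≤ qc H Z hZ T := cent_le_qc T
  have hc8 : Nat.card (H ⊓ centralizer {T} : Subgroup G) ≤ 8 := (card_le_of_le hle).trans h8
  have hd4 : 4 ∣ Nat.card (H ⊓ centralizer {T} : Subgroup G) := by
    rw [← hV4]; exact card_dvd_of_le hV
  have hd32 : Nat.card (H ⊓ centralizer {T} : Subgroup G) ∣ 2 ^ 5 := by
    have := card_dvd_of_le (inf_le_left : H ⊓ centralizer {T} ≤ H)
    rwa [hH] at this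
  obtain ⟨k, hk, hk'⟩ := (Nat.dvd_prime_pow Nat.prime_two).mp hd32
  have hcases : Nat.card (H ⊓ centralizer {T} : Subgroup G) = 4 ∨
      Nat.card (H ⊓ centralizer {T} : Subgroup G) = 8 := by
    rw [hk'] at hc8 hd4 ⊢
    interval_cases k <;> simp_all
  rcases hcases with h | h
  · exact h
  · exfalso
    have heq : qc H Z hZ T = H ⊓ centralizer {T} := by
      symm
      apply eq_of_le_of_card_ge hle
      rw [h]; exact h8
    exact no_eight H Z hZ hH hZ2 hZH hsq hminus T hT h heq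

end Cfsg.Agent.Lib.Helper22.Ord320
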