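import Mathlib

set_option autoImplicit false
open scoped commutatorElement

namespace Cfsg.Agent.Lib.Helper22.PIT

section dettrick

variable {R : Type*} [CommRing R] {M : Type*} [AddCommGroup M] [Module R M]
variable {ι : Type*} [Fintype ι] [DecidableEq ι]

/-- the determinant trick -/
lemma det_smul_eq_zero (μ : Matrix ι ι R) (d : ι → M) (h : ∀ k, ∑ j, μ k j • d j = 0) (j : ι) :
    μ.det • d j = 0 := by
  have h1 : ∀ i, ∑ k, μ.adjugate i k • ∑ j, μ k j • d j = 0 := by
    intro i; simp [h]
  have h2 : ∀ i, ∑ j, (μ.adjugate * μ) i j • d j = 0 := by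
    intro i
    rw [← h1 i]
    simp only [Matrix.mul_apply, Finset.sum_smul, Finset.smul_sum, mul_smul]
    exact Finset.sum_comm
  have h3 := h2 j
  rw [Matrix.adjugate_mul] at h3
  simpa [Matrix.smul_apply, Matrix.one_apply, ite_smul] using h3

end dettrick


section der

variable {G : Type*} [Group G] {Q : Type*} [CommGroup Q]
variable {M : Type*} [AddCommGroup M] [Module (MonoidAlgebra ℤ Q) M]

/-- `D` is a derivation along `π : G → Q` into the `ℤ[Q]`-module `M`. -/
def IsDer (π : G →* Q) (D : G → M) : Prop :=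
  ∀ g h, D (g * h) = D g + (MonoidAlgebra.of ℤ Q (π g)) • D h

variable {π : G →* Q} {D : G → M}

lemma IsDer.one (hD : IsDer π D) : D 1 = 0 := by
  have := hD 1 1
  rw [mul_one, map_one, map_one, one_smul] at this
  exact left_eq_add.mp this

lemma IsDer.inv (hD : IsDer π D) (x : G) :
    D x⁻¹ = -((MonoidAlgebra.of ℤ Q (π x)⁻¹) • D x) := by
  have h := hD x⁻¹ x
  rw [inv_mul_cancel, hD.one, map_inv] at h
  exact eq_neg_of_add_eq_zero_left h.symm

lemma IsDer.pow (hD : IsDer π D) (x : G) (n : ℕ) :
    D (x ^ n) = (∑ t ∈ Finset.range n, MonoidAlgebra.of ℤ Q (π x ^ t)) • D x := by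
  induction n with
  | zero => simp [hD.one]
  | succ n ih =>
    rw [pow_succ, hD, ih, Finset.sum_range_succ, add_smul, map_pow]

lemma IsDer.comm (hD : IsDer π D) (x y : G) :
    D ⁅x, y⁆ = (1 - MonoidAlgebra.of ℤ Q (π y)) • D x + (MonoidAlgebra.of ℤ Q (π x) - 1) • D y := by
  have e1 : π (x * y * x⁻¹) = π y := by
    rw [map_mul, map_mul, map_inv, mul_comm (π x), mul_inv_cancel_right]
  have e2 : π (x * y) = π x * π y := map_mul _ _ _
  rw [commutatorElement_def, hD (x * y * x⁻¹), hD (x * y), hD x y, hD.inv, hD.inv, e1, e2]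
  rw [smul_neg, smul_neg, smul_smul, smul_smul, ← map_mul (MonoidAlgebra.of ℤ Q),
    ← map_mul (MonoidAlgebra.of ℤ Q), mul_inv_cancel,
    mul_inv_cancel_comm, map_one, one_smul, sub_smul, sub_smul, one_smul, one_smul]
  abel

lemma IsDer.mul_of_ker (hD : IsDer π D) {a : G} (ha : π a = 1) (b : G) :
    D (a * b) = D a + D b := by
  rw [hD, ha, map_one, one_smul]

/-- the auxiliary derivation `x ↦ (D x, π x - 1)` into `M × ℤ[Q]`. -/
lemma IsDer.prod (hD : IsDer π D) :
    IsDer π (fun x => ((D x, MonoidAlgebra.of ℤ Q (π x) - 1) : M × MonoidAlgebra ℤ Q)) := by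
  intro g h
  refine Prod.ext ?_ ?_
  · simp [hD g h]
  · show MonoidAlgebra.of ℤ Q (π (g * h)) - 1 = (MonoidAlgebra.of ℤ Q (π g) - 1) +
      MonoidAlgebra.of ℤ Q (π g) * (MonoidAlgebra.of ℤ Q (π h) - 1)
    rw [map_mul, map_mul]
    ring

end der


section norm

variable {Q : Type*} [CommGroup Q] [Fintype Q]

/-- the norm element of `ℤ[Q]` -/
noncomputable def normElt (Q : Type*) [CommGroup Q] [Fintype Q] : MonoidAlgebra ℤ Q :=
  ∑ q, MonoidAlgebra.of ℤ Q q

/-- the augmentation map -/
noncomputable def aug (Q : Type*) [CommGroup Q] : MonoidAlgebra ℤ Q →+* ℤ :=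
  (MonoidAlgebra.lift ℤ ℤ Q (1 : Q →* ℤ)).toRingHom

omit [Fintype Q] in
lemma aug_of (q : Q) : aug Q (MonoidAlgebra.of ℤ Q q) = 1 := by
  show (MonoidAlgebra.lift ℤ ℤ Q (1 : Q →* ℤ)) (MonoidAlgebra.of ℤ Q q) = 1
  rw [MonoidAlgebra.lift_of]; rfl

lemma aug_normElt : aug Q (normElt Q) = Fintype.card Q := by
  unfold normElt
  rw [map_sum, Finset.sum_congr rfl (fun q _ => aug_of q)]
  simp

lemma coeff_normElt (x : Q) : (normElt Q).coeff x = 1 := by
  classical
  unfold normElt
  rw [MonoidAlgebra.coeff_sum, Finsupp.finsetSum_apply]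
  have : ∀ q : Q, (MonoidAlgebra.of ℤ Q q).coeff x = if q = x then 1 else 0 := by
    intro q
    show (MonoidAlgebra.single q (1 : ℤ)).coeff x = _
    rw [MonoidAlgebra.coeff_single, Finsupp.single_apply]
  rw [Finset.sum_congr rfl (fun q _ => this q)]
  simp

lemma eq_normElt (z : MonoidAlgebra ℤ Q) (h : ∀ q, z * MonoidAlgebra.of ℤ Q q = z)
    (hε : aug Q z = Fintype.card Q) : z = normElt Q := by
  classical
  have hc : ∀ x, z.coeff x = z.coeff 1 := by
    intro x
    have h1 : (z * MonoidAlgebra.single x (1 : ℤ)).coeff x = z.coeff (x * x⁻¹) * 1 :=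
      MonoidAlgebra.coeff_mul_single_apply z 1 x x
    have h2 : z * MonoidAlgebra.single x (1 : ℤ) = z := h x
    rw [h2, mul_inv_cancel, mul_one] at h1
    exact h1
  have hz : z = z.coeff 1 • normElt Q := by
    rw [← MonoidAlgebra.coeff_inj]
    ext x
    rw [MonoidAlgebra.coeff_smul, Finsupp.smul_apply, coeff_normElt, smul_eq_mul, mul_one, hc x]
  have h3 : aug Q z = z.coeff 1 * Fintype.card Q := by
    conv_lhs => rw [hz]
    rw [zsmul_eq_mul, map_mul, aug_normElt, map_intCast]
    simp
  rw [hε] at h3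
  have hcard : (Fintype.card Q : ℤ) ≠ 0 := by
    have : 0 < Fintype.card Q := Fintype.card_pos
    omega
  have hc1 : z.coeff 1 = 1 := by
    have : (1 : ℤ) * Fintype.card Q = z.coeff 1 * Fintype.card Q := by rw [one_mul]; exact h3
    exact (mul_right_cancel₀ hcard this).symm
  rw [hz, hc1, one_smul]

end norm


section core

variable {G : Type*} [Group G] {Q : Type*} [CommGroup Q] [Fintype Q]
variable {M : Type*} [AddCommGroup M] [Module (MonoidAlgebra ℤ Q) M]
variable {ι : Type*} [Fintype ι] [DecidableEq ι]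

open MonoidAlgebra in
/-- **Core of the principal ideal theorem**: the norm element kills every derivation. -/
theorem normElt_smul_der {π : G →* Q} (hπ : Function.Surjective π) {D : G → M} (hD : IsDer π D)
    (g : ι → G) (e : ι → ℕ) (hgen : Subgroup.closure (Set.range g) = ⊤)
    (hge : ∀ k, g k ^ e k ∈ commutator G) (hprod : ∏ k, e k = Fintype.card Q) (x : G) :
    normElt Q • D x = 0 := by
  classical
  -- the auxiliary derivation
  obtain ⟨Dt, hDt⟩ : ∃ Dt : G → M × MonoidAlgebra ℤ Q,
      Dt = fun x => (D x, MonoidAlgebra.of ℤ Q (π x) - 1) := ⟨_, rfl⟩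
  have hDer : IsDer π Dt := by rw [hDt]; exact hD.prod
  obtain ⟨d, hd⟩ : ∃ d : ι → M × MonoidAlgebra ℤ Q, d = fun k => Dt (g k) := ⟨_, rfl⟩
  have hker : ∀ a ∈ commutator G, π a = 1 := fun a ha =>
    MonoidHom.mem_ker.mp (Abelianization.commutator_subset_ker π ha)
  -- (i) every value lies in the span
  have hS : ∀ x : G, ∃ r : ι → MonoidAlgebra ℤ Q, Dt x = ∑ j, r j • d j := by
    intro x
    have hx : x ∈ Subgroup.closure (Set.range g) := by rw [hgen]; exact Subgroup.mem_top x
    induction hx using Subgroup.closure_induction with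
    | mem y hy =>
      obtain ⟨k, rfl⟩ := hy
      refine ⟨Pi.single k 1, ?_⟩
      rw [Finset.sum_eq_single k]
      · rw [Pi.single_eq_same, one_smul, hd]
      · intro j _ hj; rw [Pi.single_eq_of_ne hj, zero_smul]
      · intro h; exact absurd (Finset.mem_univ k) h
    | one => exact ⟨0, by simp [hDer.one]⟩
    | mul y z _ _ hy hz =>
      obtain ⟨ry, hry⟩ := hy
      obtain ⟨rz, hrz⟩ := hz
      refine ⟨fun j => ry j + MonoidAlgebra.of ℤ Q (π y) * rz j, ?_⟩
      rw [hDer, hry, hrz, Finset.smul_sum, ← Finset.sum_add_distrib]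
      apply Finset.sum_congr rfl
      intro j _
      rw [add_smul, mul_smul]
    | inv y _ hy =>
      obtain ⟨ry, hry⟩ := hy
      refine ⟨fun j => -(MonoidAlgebra.of ℤ Q (π y)⁻¹ * ry j), ?_⟩
      rw [hDer.inv, hry, Finset.smul_sum, ← Finset.sum_neg_distrib]
      apply Finset.sum_congr rfl
      intro j _
      rw [neg_smul, mul_smul]
  -- (ii) values on the commutator subgroup lie in `I • span`
  have hIS : ∀ a ∈ commutator G, ∃ r : ι → MonoidAlgebra ℤ Q, (∀ j, aug Q (r j) = 0) ∧
      Dt a = ∑ j, r j • d j := by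
    intro a ha
    rw [commutator_eq_closure] at ha
    induction ha using Subgroup.closure_induction with
    | mem y hy =>
      obtain ⟨u, v, rfl⟩ := hy
      obtain ⟨ru, hru⟩ := hS u
      obtain ⟨rv, hrv⟩ := hS v
      refine ⟨fun j => (1 - MonoidAlgebra.of ℤ Q (π v)) * ru j +
        (MonoidAlgebra.of ℤ Q (π u) - 1) * rv j, ?_, ?_⟩
      · intro j
        rw [map_add, map_mul, map_mul, map_sub, map_sub, aug_of, aug_of, map_one, sub_self,
          zero_mul, zero_mul, add_zero]
      · rw [hDer.comm, hru, hrv, Finset.smul_sum, Finset.smul_sum, ← Finset.sum_add_distrib]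
        apply Finset.sum_congr rfl
        intro j _
        rw [add_smul, mul_smul, mul_smul]
    | one => exact ⟨0, fun j => map_zero _, by simp [hDer.one]⟩
    | mul y z hy' _ hy hz =>
      obtain ⟨ry, hry0, hry⟩ := hy
      obtain ⟨rz, hrz0, hrz⟩ := hz
      have hy1 : π y = 1 := hker y (by rw [commutator_eq_closure]; exact hy')
      refine ⟨fun j => ry j + rz j, ?_, ?_⟩
      · intro j; rw [map_add, hry0, hrz0, add_zero]
      · rw [hDer.mul_of_ker hy1, hry, hrz, ← Finset.sum_add_distrib]
        apply Finset.sum_congr rfl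
        intro j _
        rw [add_smul]
    | inv y hy' hy =>
      obtain ⟨ry, hry0, hry⟩ := hy
      have hy1 : π y = 1 := hker y (by rw [commutator_eq_closure]; exact hy')
      refine ⟨fun j => -ry j, ?_, ?_⟩
      · intro j; rw [map_neg, hry0, neg_zero]
      · rw [hDer.inv, hy1, inv_one, map_one, one_smul, hry, ← Finset.sum_neg_distrib]
        apply Finset.sum_congr rfl
        intro j _
        rw [neg_smul]
  -- (iv) the relations
  obtain ⟨N, hN⟩ : ∃ N : ι → MonoidAlgebra ℤ Q,
      N = fun k => ∑ t ∈ Finset.range (e k), MonoidAlgebra.of ℤ Q (π (g k) ^ t) := ⟨_, rfl⟩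
  have hNaug : ∀ k, aug Q (N k) = e k := by
    intro k
    rw [hN]
    show aug Q (∑ t ∈ Finset.range (e k), MonoidAlgebra.of ℤ Q (π (g k) ^ t)) = e k
    rw [map_sum, Finset.sum_congr rfl (fun t _ => aug_of _)]
    simp
  have hrel : ∀ k, ∃ r : ι → MonoidAlgebra ℤ Q, (∀ j, aug Q (r j) = 0) ∧
      N k • d k = ∑ j, r j • d j := by
    intro k
    obtain ⟨r, hr0, hr⟩ := hIS _ (hge k)
    refine ⟨r, hr0, ?_⟩
    rw [← hr, hDer.pow, hd, hN]
  choose lam hlam0 hlam using hrel
  obtain ⟨μ, hμ⟩ : ∃ μ : Matrix ι ι (MonoidAlgebra ℤ Q),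
      μ = Matrix.of (fun k j => (if k = j then N k else 0) - lam k j) := ⟨_, rfl⟩
  have hμd : ∀ k, ∑ j, μ k j • d j = 0 := by
    intro k
    rw [hμ]
    simp only [Matrix.of_apply, sub_smul, Finset.sum_sub_distrib, ite_smul, zero_smul,
      Finset.sum_ite_eq, Finset.mem_univ, if_true]
    rw [hlam k, sub_self]
  have hdet := det_smul_eq_zero μ d hμd
  -- (vi) `det μ` is the norm element
  have hz1 : ∀ x : G, μ.det * MonoidAlgebra.of ℤ Q (π x) = μ.det := by
    intro x
    have hx : x ∈ Subgroup.closure (Set.range g) := by rw [hgen]; exact Subgroup.mem_top x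
    induction hx using Subgroup.closure_induction with
    | mem y hy =>
      obtain ⟨k, rfl⟩ := hy
      have h1 := congrArg Prod.snd (hdet k)
      rw [hd, hDt] at h1
      simp only [Prod.smul_snd, smul_eq_mul, Prod.snd_zero] at h1
      rw [mul_sub, mul_one, sub_eq_zero] at h1
      exact h1
    | one => rw [map_one, map_one, mul_one]
    | mul y z _ _ hy hz => rw [map_mul, map_mul, ← mul_assoc, hy, hz]
    | inv y _ hy =>
      have : μ.det * MonoidAlgebra.of ℤ Q (π y⁻¹) =
          (μ.det * MonoidAlgebra.of ℤ Q (π y)) * MonoidAlgebra.of ℤ Q (π y⁻¹) := by rw [hy]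
      rw [this, mul_assoc, ← map_mul, ← map_mul, mul_inv_cancel, map_one, map_one, mul_one]
  have hz2 : ∀ q : Q, μ.det * MonoidAlgebra.of ℤ Q q = μ.det := by
    intro q
    obtain ⟨x, rfl⟩ := hπ q
    exact hz1 x
  have hz3 : aug Q μ.det = Fintype.card Q := by
    rw [RingHom.map_det]
    have : (aug Q).mapMatrix μ = Matrix.diagonal (fun k => (e k : ℤ)) := by
      ext k j
      rw [RingHom.mapMatrix_apply, Matrix.map_apply, hμ, Matrix.of_apply, map_sub, hlam0,
        sub_zero, Matrix.diagonal_apply]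
      split_ifs with h
      · exact hNaug k
      · exact map_zero _
    rw [this, Matrix.det_diagonal, ← hprod]
    push_cast
    rfl
  have hz : μ.det = normElt Q := eq_normElt _ hz2 hz3
  -- (vii) conclusion
  obtain ⟨r, hr⟩ := hS x
  have h1 : D x = ∑ j, r j • (d j).1 := by
    have := congrArg Prod.fst hr
    rw [hDt] at this
    simp only [Prod.fst_sum, Prod.smul_fst] at this
    exact this
  have h2 : ∀ j, normElt Q • (d j).1 = 0 := by
    intro j
    have := congrArg Prod.fst (hdet j)
    rw [hz] at this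
    simpa using this
  rw [h1, Finset.smul_sum]
  apply Finset.sum_eq_zero
  intro j _
  rw [smul_comm, h2, smul_zero]

end core


section gens

universe u

/-- generators adapted to a cyclic decomposition of the abelianization -/
theorem exists_gens {G : Type u} [Group G] [Finite G] {Q : Type*} [CommGroup Q] [Fintype Q]
    (π : G →* Q) (hπ : Function.Surjective π) (hker : π.ker = commutator G) :
    ∃ (ι : Type u) (_ : Fintype ι) (_ : DecidableEq ι) (g : ι → G) (e : ι → ℕ),
      Subgroup.closure (Set.range g) = ⊤ ∧ (∀ k, g k ^ e k ∈ commutator G) ∧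
        ∏ k, e k = Fintype.card Q := by
  classical
  obtain ⟨ι', hfin, n, hn, ⟨φ⟩⟩ := CommGroup.equiv_prod_multiplicative_zmod_of_finite Q
  haveI : ∀ i, NeZero (n i) := fun i => ⟨by have := hn i; omega⟩
  obtain ⟨b, hb⟩ : ∃ b : ι' → Q,
      b = fun i => φ.symm (Pi.mulSingle i (Multiplicative.ofAdd (1 : ZMod (n i)))) := ⟨_, rfl⟩
  have hb_pow : ∀ i, b i ^ n i = 1 := by
    intro i
    rw [hb]
    show φ.symm (Pi.mulSingle i (Multiplicative.ofAdd (1 : ZMod (n i)))) ^ n i = 1
    rw [← map_pow, ← Pi.mulSingle_pow, ← ofAdd_nsmul, nsmul_one, ZMod.natCast_self, ofAdd_zero,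
      Pi.mulSingle_one, map_one]
  have hb_gen : ∀ q : Q, q ∈ Subgroup.closure (Set.range b) := by
    intro q
    obtain ⟨k, hk⟩ : ∃ k : ι' → ℕ, k = fun i => (Multiplicative.toAdd (φ q i)).val := ⟨_, rfl⟩
    have h1 : φ q = ∏ i : ι', (Pi.mulSingle i (Multiplicative.ofAdd (1 : ZMod (n i))) :
        (i : ι') → Multiplicative (ZMod (n i))) ^ k i := by
      conv_lhs => rw [← Finset.univ_prod_mulSingle (φ q)]
      apply Finset.prod_congr rfl
      intro i _
      rw [hk, ← Pi.mulSingle_pow, ← ofAdd_nsmul, nsmul_one, ZMod.natCast_zmod_val]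
      rfl
    have h2 : q = ∏ i : ι', b i ^ k i := by
      have h3 := congrArg φ.symm h1
      rw [MulEquiv.symm_apply_apply, map_prod] at h3
      refine h3.trans ?_
      apply Finset.prod_congr rfl
      intro i _
      rw [map_pow, hb]
    rw [h2]
    exact Subgroup.prod_mem _ (fun i _ => Subgroup.pow_mem _
      (Subgroup.subset_closure (Set.mem_range_self i)) _)
  have hx : ∀ i, ∃ x : G, π x = b i := fun i => hπ (b i)
  choose x hx using hx
  haveI : Fintype ↥(commutator G) := Fintype.ofFinite _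
  refine ⟨ι' ⊕ ↥(commutator G), inferInstance, inferInstance, Sum.elim x (fun a => (a : G)),
    Sum.elim n (fun _ => 1), ?_, ?_, ?_⟩
  · rw [eq_top_iff]
    intro y _
    -- `π y` is a product of the `b i`
    have hcomm : commutator G ≤ Subgroup.closure (Set.range (Sum.elim x fun a : ↥(commutator G) => (a : G))) := by
      intro a ha
      exact Subgroup.subset_closure ⟨Sum.inr ⟨a, ha⟩, rfl⟩
    have hmap : ∀ q ∈ Subgroup.closure (Set.range b), ∃ w ∈ Subgroup.closure
        (Set.range (Sum.elim x fun a : ↥(commutator G) => (a : G))), π w = q := by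
      intro q hq
      induction hq using Subgroup.closure_induction with
      | mem z hz =>
        obtain ⟨i, rfl⟩ := hz
        exact ⟨x i, Subgroup.subset_closure ⟨Sum.inl i, rfl⟩, hx i⟩
      | one => exact ⟨1, Subgroup.one_mem _, map_one _⟩
      | mul u v _ _ hu hv =>
        obtain ⟨wu, hwu, eu⟩ := hu
        obtain ⟨wv, hwv, ev⟩ := hv
        exact ⟨wu * wv, Subgroup.mul_mem _ hwu hwv, by rw [map_mul, eu, ev]⟩
      | inv u _ hu =>
        obtain ⟨wu, hwu, eu⟩ := hu
        exact ⟨wu⁻¹, Subgroup.inv_mem _ hwu, by rw [map_inv, eu]⟩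
    obtain ⟨w, hw, ew⟩ := hmap (π y) (hb_gen (π y))
    have h3 : w⁻¹ * y ∈ commutator G := by
      rw [← hker, MonoidHom.mem_ker, map_mul, map_inv, ew, inv_mul_cancel]
    have h4 : y = w * (w⁻¹ * y) := by group
    rw [h4]
    exact Subgroup.mul_mem _ hw (hcomm h3)
  · rintro (i | a)
    · show x i ^ n i ∈ commutator G
      rw [← hker, MonoidHom.mem_ker, map_pow, hx, hb_pow]
    · show (a : G) ^ 1 ∈ commutator G
      rw [pow_one]; exact a.2
  · rw [Fintype.prod_sum_type]
    simp only [Sum.elim_inl, Sum.elim_inr, Finset.prod_const_one, mul_one]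
    rw [← Nat.card_eq_fintype_card, Nat.card_congr φ.toEquiv, Nat.card_pi]
    apply Finset.prod_congr rfl
    intro i _
    exact (Nat.card_zmod (n i)).symm

end gens


section model

variable {Q : Type*} [CommGroup Q] {B : Type*} [AddCommGroup B]

/-- the translation representation of `Q` on functions `Q → B` -/
def transl (Q B : Type*) [CommGroup Q] [AddCommGroup B] : Q →* Module.End ℤ (Q → B) where
  toFun x :=
    { toFun := fun f q => f (x⁻¹ * q)
      map_add' := fun _ _ => rfl
      map_smul' := fun _ _ => rfl }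
  map_one' := by
    ext f q
    simp
  map_mul' := by
    intro x y
    ext f q
    simp [mul_inv_rev, mul_assoc]

/-- wrapper for the coinduced module `Map(Q, B)` -/
def Coind (Q B : Type*) := Q → B

instance : AddCommGroup (Coind Q B) := inferInstanceAs (AddCommGroup (Q → B))

noncomputable instance : Module (MonoidAlgebra ℤ Q) (Coind Q B) :=
  Module.compHom (Q → B) (MonoidAlgebra.lift ℤ (Module.End ℤ (Q → B)) Q (transl Q B)).toRingHom

/-- explicit cast into the wrapper -/
def Coind.mk (f : Q → B) : Coind Q B := f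

lemma Coind.mk_apply (f : Q → B) (q : Q) : (Coind.mk f : Coind Q B) q = f q := rfl

lemma of_smul_apply (x : Q) (f : Coind Q B) (q : Q) :
    (MonoidAlgebra.of ℤ Q x • f) q = f (x⁻¹ * q) := by
  show ((MonoidAlgebra.lift ℤ (Module.End ℤ (Q → B)) Q (transl Q B))
    (MonoidAlgebra.of ℤ Q x)) f q = f (x⁻¹ * q)
  rw [MonoidAlgebra.lift_of]
  rfl

lemma coind_add_apply (f₁ f₂ : Coind Q B) (q : Q) : (f₁ + f₂) q = f₁ q + f₂ q := rfl

lemma coind_zero_apply (q : Q) : (0 : Coind Q B) q = 0 := rfl

lemma coind_sum_apply {α : Type*} (s : Finset α) (f : α → Coind Q B) (q : Q) :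
    (∑ a ∈ s, f a) q = ∑ a ∈ s, f a q := by
  classical
  induction s using Finset.induction_on with
  | empty => simp [coind_zero_apply]
  | insert a s ha ih => rw [Finset.sum_insert ha, Finset.sum_insert ha, coind_add_apply, ih]

lemma normElt_smul_apply [Fintype Q] (f : Coind Q B) (q : Q) :
    (normElt Q • f) q = ∑ y, f y := by
  unfold normElt
  rw [Finset.sum_smul, coind_sum_apply]
  simp only [of_smul_apply]
  exact Fintype.sum_equiv ((Equiv.inv Q).trans (Equiv.mulRight q)) _ _ (fun x => rfl)

end model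


section final

variable {G : Type*} [Group G] [Finite G]

/-- identity map `G ⧸ G' → Gᵃᵇ` -/
def toAb (G : Type*) [Group G] : G ⧸ commutator G → Abelianization G := id

/-- identity map `Gᵃᵇ → G ⧸ G'` -/
def ofAb (G : Type*) [Group G] : Abelianization G → G ⧸ commutator G := id

omit [Finite G] in
lemma toAb_ofAb (q : Abelianization G) : toAb G (ofAb G q) = q := rfl

omit [Finite G] in
lemma toAb_smul (g : G) (q : G ⧸ commutator G) :
    toAb G (g • q) = Abelianization.of g * toAb G q := by
  induction q using QuotientGroup.induction_on with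
  | H y => rfl

omit [Finite G] in
lemma toAb_mk (x : G) : toAb G (QuotientGroup.mk x) = Abelianization.of x := rfl

/-- **Principal ideal theorem**: the transfer `G → G'/G''` is trivial. -/
theorem transfer_commutator_eq_one :
    MonoidHom.transfer (Abelianization.of : ↥(commutator G) →* Abelianization ↥(commutator G)) =
      (1 : G →* Abelianization ↥(commutator G)) := by
  classical
  haveI : Fintype (Abelianization G) := Fintype.ofFinite _
  obtain ⟨T⟩ : Nonempty (commutator G).LeftTransversal := ⟨default⟩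
  obtain ⟨s, hsdef⟩ : ∃ s : G ⧸ commutator G → G,
      s = fun q => (T.2.leftQuotientEquiv q : G) := ⟨_, rfl⟩
  have hs : ∀ q : G ⧸ commutator G, Abelianization.of (s q) = toAb G q := by
    intro q
    rw [hsdef, ← toAb_mk]
    exact congrArg (toAb G) (T.2.quotientGroupMk_leftQuotientEquiv q)
  have hmem : ∀ (g : G) (q : G ⧸ commutator G),
      (s q)⁻¹ * (g * s (g⁻¹ • q)) ∈ commutator G := by
    intro g q
    have : Abelianization.of ((s q)⁻¹ * (g * s (g⁻¹ • q))) = 1 := by
      rw [map_mul, map_mul, map_inv, hs, hs, toAb_smul, map_inv, mul_inv_cancel_left,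
        inv_mul_cancel]
    rw [← MonoidHom.mem_ker, Abelianization.ker_of] at this
    exact this
  -- the derivation
  obtain ⟨D, hDdef⟩ : ∃ D : G → Coind (Abelianization G) (Additive (Abelianization ↥(commutator G))),
      D = fun g => Coind.mk (fun q => Additive.ofMul (Abelianization.of
        (⟨(s (ofAb G q))⁻¹ * (g * s (g⁻¹ • ofAb G q)), hmem g (ofAb G q)⟩ : ↥(commutator G)))) :=
    ⟨_, rfl⟩
  have hDapp : ∀ g q, D g q = Additive.ofMul (Abelianization.of
        (⟨(s (ofAb G q))⁻¹ * (g * s (g⁻¹ • ofAb G q)), hmem g (ofAb G q)⟩ : ↥(commutator G))) := by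
    intro g q
    rw [hDdef]
    rfl
  have hDer : IsDer (Abelianization.of : G →* Abelianization G) D := by
    intro g h
    funext q
    rw [coind_add_apply, of_smul_apply]
    have e1 : ofAb G ((Abelianization.of g)⁻¹ * q) = g⁻¹ • ofAb G q := by
      have : toAb G (g⁻¹ • ofAb G q) = (Abelianization.of g)⁻¹ * q := by
        rw [toAb_smul, map_inv, toAb_ofAb]
      rw [← this]; rfl
    rw [hDapp, hDapp, hDapp]
    rw [← ofMul_mul, ← map_mul]
    congr 2
    apply Subtype.ext
    simp only [Subgroup.coe_mul]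
    rw [e1, mul_inv_rev, mul_smul]
    group
  -- apply the core theorem
  obtain ⟨ι, hι, hdec, gen, e, hgen, hge, hprod⟩ :=
    exists_gens (Abelianization.of : G →* Abelianization G)
      (QuotientGroup.mk'_surjective (commutator G)) (Abelianization.ker_of G)
  have key : ∀ x : G, normElt (Abelianization G) • D x = 0 :=
    fun x => normElt_smul_der (QuotientGroup.mk'_surjective (commutator G)) hDer gen e hgen hge
      hprod x
  ext g
  rw [MonoidHom.one_apply, MonoidHom.transfer_def _ T]
  have h1 := congrFun (key g) (1 : Abelianization G)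
  rw [normElt_smul_apply, coind_zero_apply] at h1
  have h1' : ∑ y : Abelianization G, Additive.ofMul (Abelianization.of
        (⟨(s (ofAb G y))⁻¹ * (g * s (g⁻¹ • ofAb G y)), hmem g (ofAb G y)⟩ : ↥(commutator G))) = 0 := by
    rw [← h1]
    exact Finset.sum_congr rfl (fun y _ => (hDapp g y).symm)
  -- unfold `diff`
  have h2 : Subgroup.leftTransversals.diff
      (Abelianization.of : ↥(commutator G) →* Abelianization ↥(commutator G)) T (g • T) =
      Additive.toMul (∑ y : Abelianization G, Additive.ofMul (Abelianization.of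
        (⟨(s (ofAb G y))⁻¹ * (g * s (g⁻¹ • ofAb G y)), hmem g (ofAb G y)⟩ : ↥(commutator G)))) := by
    rw [toMul_sum]
    unfold Subgroup.leftTransversals.diff
    simp only
    letI := (commutator G).fintypeQuotientOfFiniteIndex
    refine Fintype.prod_equiv (⟨toAb G, ofAb G, fun _ => rfl, fun _ => rfl⟩ :
      G ⧸ commutator G ≃ Abelianization G) _ _ ?_
    intro q
    simp only [toMul_ofMul, Equiv.coe_fn_mk]
    congr 1
    apply Subtype.ext
    simp only
    rw [Subgroup.smul_apply_eq_smul_apply_inv_smul, hsdef]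
    rfl
  rw [h2, h1']
  rfl

end final

end Cfsg.Agent.Lib.Helper22.PIT
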