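import Mathlib

/-!
Facts on generalized quaternion groups and internal direct products used for the Sylow `2`-subgroup
`Q × R` (helper22).
-/

set_option autoImplicit false
set_option maxHeartbeats 1000000

namespace Cfsg.Agent.Lib.Helper22.QuatProdA

open QuaternionGroup

theorem quat_unique_involution (m : ℕ) [NeZero m] (x : QuaternionGroup m) (hx : x * x = 1) :
    x = 1 ∨ x = a (m : ℕ) := by
  haveI : NeZero (2 * m) := ⟨by have := NeZero.ne m; omega⟩
  have hmpos : 0 < m := Nat.pos_of_ne_zero (NeZero.ne m)
  cases x with
  | a i =>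
    rw [a_mul_a, one_def] at hx
    have h1 : i + i = 0 := by injection hx
    have h2 := congrArg ZMod.val h1
    rw [ZMod.val_add, ZMod.val_zero] at h2
    have h3 : i.val < 2 * m := ZMod.val_lt i
    have h4 : i.val = 0 ∨ i.val = m := by
      have h5 : 2 * m ∣ i.val + i.val := Nat.dvd_of_mod_eq_zero h2
      obtain ⟨c, hc⟩ := h5
      have hc2 : c < 2 := by
        by_contra hcon
        push Not at hcon
        have : 2 * m * 2 ≤ 2 * m * c := Nat.mul_le_mul_left _ hcon
        omega
      interval_cases c
      · left
        omega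
      · right
        omega
    have h6 : i = (i.val : ZMod (2 * m)) := (ZMod.natCast_zmod_val i).symm
    rcases h4 with h | h
    · left
      rw [h6, h, Nat.cast_zero, one_def]
    · right
      rw [h6, h]
  | xa i =>
    exfalso
    rw [xa_mul_xa, add_sub_cancel_right, one_def] at hx
    have h1 : ((m : ℕ) : ZMod (2 * m)) = 0 := by injection hx
    rw [ZMod.natCast_eq_zero_iff] at h1
    have := Nat.le_of_dvd hmpos h1
    omega

theorem quat_center_ne_one (m : ℕ) [NeZero m] : (a (m : ℕ) : QuaternionGroup m) ≠ 1 := by
  have hmpos : 0 < m := Nat.pos_of_ne_zero (NeZero.ne m)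
  rw [one_def]
  intro h
  have h1 : ((m : ℕ) : ZMod (2 * m)) = 0 := by injection h
  rw [ZMod.natCast_eq_zero_iff] at h1
  have := Nat.le_of_dvd hmpos h1
  omega

theorem quat_center_sq (m : ℕ) : (a (m : ℕ) : QuaternionGroup m) * a (m : ℕ) = 1 := by
  rw [a_mul_a, ← Nat.cast_add, ← two_mul, ZMod.natCast_self, one_def]

theorem quat_many_roots (m : ℕ) [NeZero m] :
    2 * m ≤ Nat.card {x : QuaternionGroup m // x * x = a (m : ℕ)} := by
  haveI : NeZero (2 * m) := ⟨by have := NeZero.ne m; omega⟩
  have hinj : Function.Injective (fun i : ZMod (2 * m) =>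
      (⟨xa i, by rw [xa_mul_xa, add_sub_cancel_right]⟩ :
        {x : QuaternionGroup m // x * x = a (m : ℕ)})) := by
    intro i j hij
    have h1 : (xa i : QuaternionGroup m) = xa j := congrArg Subtype.val hij
    injection h1
  have h := Nat.card_le_card_of_injective _ hinj
  rw [Nat.card_zmod] at h
  exact h

/-- transport to a group isomorphic to a generalized quaternion group -/
theorem quat_data {Q : Type*} [Group Q] (m : ℕ) [NeZero m] (e : Q ≃* QuaternionGroup m) :
    ∃ z : Q, z ≠ 1 ∧ z * z = 1 ∧ (∀ q : Q, q * q = 1 → q = 1 ∨ q = z) ∧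
      2 * m ≤ Nat.card {q : Q // q * q = z} := by
  refine ⟨e.symm (a (m : ℕ)), ?_, ?_, ?_, ?_⟩
  · intro h
    apply quat_center_ne_one m
    have := congrArg e h
    rw [e.apply_symm_apply, map_one] at this
    exact this
  · rw [← map_mul, quat_center_sq, map_one]
  · intro q hq
    have h1 : e q * e q = 1 := by rw [← map_mul, hq, map_one]
    rcases quat_unique_involution m (e q) h1 with h | h
    · left
      have := congrArg e.symm h
      rw [e.symm_apply_apply, map_one] at this
      exact this
    · right
      have := congrArg e.symm h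
      rw [e.symm_apply_apply] at this
      exact this
  · refine le_trans (quat_many_roots m) (le_of_eq ?_)
    apply Nat.card_congr
    refine (Equiv.subtypeEquiv e.toEquiv ?_).symm
    intro q
    show q * q = e.symm (a (m : ℕ)) ↔ e q * e q = a (m : ℕ)
    rw [← map_mul]
    constructor
    · intro h
      rw [h, e.apply_symm_apply]
    · intro h
      rw [← h, e.symm_apply_apply]

end Cfsg.Agent.Lib.Helper22.QuatProdA
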