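import Mathlib
import Cfsg.Agent.Lib.Helper22.QuatProdA

/-!
A finite group whose Sylow `2`-subgroup is `Q × R` with `Q` generalized quaternion and all
involutions of `R` central in `R` is not simple, given the `Z*`-theorem (helper22).
-/

set_option autoImplicit false
set_option maxHeartbeats 2000000

namespace Cfsg.Agent.Lib.Helper22.QuatProdB

open Cfsg.Agent.Lib.Helper22

theorem prod_mem_iff_even {A ι : Type*} [CommGroup A] (J : Subgroup A)
    (hJ : ∀ x y : A, x * y ∈ J ↔ (x ∈ J ↔ y ∈ J)) (s : Finset ι) (f : ι → A)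
    (hf : ∀ i ∈ s, f i ∉ J) : (∏ i ∈ s, f i) ∈ J ↔ Even s.card := by
  classical
  induction s using Finset.induction_on with
  | empty => simp [J.one_mem]
  | insert i s hi ih =>
    rw [Finset.prod_insert hi, Finset.card_insert_of_notMem hi, hJ,
      ih (fun j hj => hf j (Finset.mem_insert_of_mem hj))]
    have h1 := hf i (Finset.mem_insert_self i s)
    simp [h1, Nat.even_add_one]

theorem not_simple {G : Type*} [Group G] [Finite G]
    (zstar : ∀ (P : Sylow 2 G) (u : G), orderOf u = 2 → u ∈ P →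
      (∀ g : G, g * u * g⁻¹ ∈ P → g * u * g⁻¹ = u) →
      ∃ N : Subgroup G, N.Normal ∧ Odd (Nat.card N) ∧ ∀ g : G, u * g * u⁻¹ * g⁻¹ ∈ N)
    (S : Sylow 2 G) (Q R : Subgroup G) (hQS : Q ≤ S) (hRS : R ≤ S)
    (hcomm : ∀ a ∈ Q, ∀ b ∈ R, a * b = b * a) (hdisj : Q ⊓ R = ⊥)
    (hsup : Q ⊔ R = (S : Subgroup G))
    (m : ℕ) (hm : 2 ≤ m) (eQ : ↥Q ≃* QuaternionGroup m)
    (hR : ∀ r ∈ R, orderOf r = 2 → ∀ s ∈ R, r * s = s * r) : ¬ IsSimpleGroup G := by
  classical
  intro hsimple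
  haveI : NeZero m := ⟨by omega⟩
  haveI : Fact (Nat.Prime 2) := ⟨Nat.prime_two⟩
  obtain ⟨S', hS'⟩ : ∃ S' : Subgroup G, S' = (S : Subgroup G) := ⟨_, rfl⟩
  have hQS' : Q ≤ S' := hS' ▸ hQS
  have hRS' : R ≤ S' := hS' ▸ hRS
  -- quaternion data
  obtain ⟨zQ, hzQ1, hzQ2, hzQu, hzQr⟩ := QuatProdA.quat_data m eQ
  obtain ⟨z, hz⟩ : ∃ z : G, z = (zQ : G) := ⟨_, rfl⟩
  have hzmem : z ∈ Q := hz ▸ zQ.2
  have hz1 : z ≠ 1 := by
    intro h
    apply hzQ1
    apply Subtype.ext
    rw [← hz]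
    exact h
  have hzz : z * z = 1 := by
    have h1 := congrArg Subtype.val hzQ2
    rw [Subgroup.coe_mul] at h1
    rw [hz]
    exact h1
  have hQinv : ∀ q ∈ Q, q * q = 1 → q = 1 ∨ q = z := by
    intro q hq hqq
    rcases hzQu ⟨q, hq⟩ (Subtype.ext (by show q * q = 1; exact hqq)) with h | h
    · left
      exact congrArg Subtype.val h
    · right
      rw [hz]
      exact congrArg Subtype.val h
  obtain ⟨νQ, hνQ⟩ : ∃ νQ : G → ℕ, ∀ a, νQ a = Nat.card {q : G // q ∈ Q ∧ q * q = a} :=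
    ⟨_, fun _ => rfl⟩
  obtain ⟨νR, hνR⟩ : ∃ νR : G → ℕ, ∀ b, νR b = Nat.card {r : G // r ∈ R ∧ r * r = b} :=
    ⟨_, fun _ => rfl⟩
  obtain ⟨c, hc⟩ : ∃ c : G → ℕ, ∀ t, c t = Nat.card {s : G // s ∈ S' ∧ s * s = t} :=
    ⟨_, fun _ => rfl⟩
  have hνQz : 4 ≤ νQ z := by
    have h1 : Nat.card {q : ↥Q // q * q = zQ} = Nat.card {q : G // q ∈ Q ∧ q * q = z} := by
      apply Nat.card_congr
      exact
        { toFun := fun q => ⟨((q : ↥Q) : G), (q : ↥Q).2, by
            rw [hz]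
            exact congrArg Subtype.val q.2⟩
          invFun := fun q => ⟨⟨q.1, q.2.1⟩, Subtype.ext (by
            show q.1 * q.1 = (zQ : G)
            rw [← hz]
            exact q.2.2)⟩
          left_inv := fun q => rfl
          right_inv := fun q => rfl }
    rw [hνQ, ← h1]
    omega
  have hνQ1 : νQ 1 ≤ 2 := by
    have hinj : Function.Injective
        (fun q : {q : G // q ∈ Q ∧ q * q = 1} => decide (q.1 = 1)) := by
      intro q q' h
      apply Subtype.ext
      by_cases h1 : q.1 = 1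
      · have h2 : q'.1 = 1 := by
          by_contra h2
          simp [h1, h2] at h
        rw [h1, h2]
      · have h2 : q'.1 ≠ 1 := by
          intro h2
          simp [h1, h2] at h
        rcases hQinv q.1 q.2.1 q.2.2 with h3 | h3
        · exact absurd h3 h1
        · rcases hQinv q'.1 q'.2.1 q'.2.2 with h4 | h4
          · exact absurd h4 h2
          · rw [h3, h4]
    have h := Nat.card_le_card_of_injective _ hinj
    rw [hνQ]
    simpa using h
  -- decomposition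
  have hD1 : ∀ s ∈ S', ∃ q ∈ Q, ∃ r ∈ R, s = q * r := by
    intro s hs
    let T : Subgroup G :=
      { carrier := {x | ∃ q ∈ Q, ∃ r ∈ R, x = q * r}
        mul_mem' := by
          rintro _ _ ⟨q, hq, r, hr, rfl⟩ ⟨q', hq', r', hr', rfl⟩
          refine ⟨q * q', Q.mul_mem hq hq', r * r', R.mul_mem hr hr', ?_⟩
          calc q * r * (q' * r') = q * (r * q') * r' := by group
            _ = q * (q' * r) * r' := by rw [← hcomm q' hq' r hr]
            _ = q * q' * (r * r') := by group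
        one_mem' := ⟨1, Q.one_mem, 1, R.one_mem, (mul_one 1).symm⟩
        inv_mem' := by
          rintro _ ⟨q, hq, r, hr, rfl⟩
          refine ⟨q⁻¹, Q.inv_mem hq, r⁻¹, R.inv_mem hr, ?_⟩
          rw [mul_inv_rev]
          exact (hcomm q⁻¹ (Q.inv_mem hq) r⁻¹ (R.inv_mem hr)).symm }
    have hQT : Q ≤ T := fun q hq => ⟨q, hq, 1, R.one_mem, (mul_one q).symm⟩
    have hRT : R ≤ T := fun r hr => ⟨1, Q.one_mem, r, hr, (one_mul r).symm⟩
    have hST : S' ≤ T := by
      rw [hS', ← hsup]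
      exact sup_le hQT hRT
    exact hST hs
  have hD2 : ∀ q ∈ Q, ∀ r ∈ R, ∀ q' ∈ Q, ∀ r' ∈ R, q * r = q' * r' → q = q' ∧ r = r' := by
    intro q hq r hr q' hq' r' hr' h
    have h1 : q'⁻¹ * q = r' * r⁻¹ := by
      calc q'⁻¹ * q = q'⁻¹ * (q * r) * r⁻¹ := by group
        _ = q'⁻¹ * (q' * r') * r⁻¹ := by rw [h]
        _ = r' * r⁻¹ := by group
    have h2 : q'⁻¹ * q ∈ Q ⊓ R :=
      ⟨Q.mul_mem (Q.inv_mem hq') hq, by rw [h1]; exact R.mul_mem hr' (R.inv_mem hr)⟩
    rw [hdisj, Subgroup.mem_bot] at h2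
    have h3 : q = q' := (inv_mul_eq_one.mp h2).symm
    refine ⟨h3, ?_⟩
    rw [h3] at h
    exact mul_left_cancel h
  have hsq : ∀ q ∈ Q, ∀ r ∈ R, (q * r) * (q * r) = (q * q) * (r * r) := by
    intro q hq r hr
    calc (q * r) * (q * r) = q * (r * q) * r := by group
      _ = q * (q * r) * r := by rw [← hcomm q hq r hr]
      _ = (q * q) * (r * r) := by group
  -- the product formula for the number of square roots
  have hprod : ∀ a ∈ Q, ∀ b ∈ R, c (a * b) = νQ a * νR b := by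
    intro a ha b hb
    rw [hc, hνQ, hνR, ← Nat.card_prod]
    apply Nat.card_congr
    symm
    have hmem : ∀ p : {q : G // q ∈ Q ∧ q * q = a} × {r : G // r ∈ R ∧ r * r = b},
        p.1.1 * p.2.1 ∈ S' ∧ (p.1.1 * p.2.1) * (p.1.1 * p.2.1) = a * b := by
      intro p
      refine ⟨S'.mul_mem (hQS' p.1.2.1) (hRS' p.2.2.1), ?_⟩
      rw [hsq _ p.1.2.1 _ p.2.2.1, p.1.2.2, p.2.2.2]
    refine Equiv.ofBijective (fun p => ⟨p.1.1 * p.2.1, hmem p⟩) ⟨?_, ?_⟩
    · intro p p' h
      have h1 : p.1.1 * p.2.1 = p'.1.1 * p'.2.1 := congrArg Subtype.val h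
      obtain ⟨h2, h3⟩ := hD2 _ p.1.2.1 _ p.2.2.1 _ p'.1.2.1 _ p'.2.2.1 h1
      exact Prod.ext (Subtype.ext h2) (Subtype.ext h3)
    · intro s
      obtain ⟨q, hq, r, hr, hsqr⟩ := hD1 s.1 s.2.1
      have h1 : (q * q) * (r * r) = a * b := by
        rw [← hsq q hq r hr, ← hsqr]
        exact s.2.2
      obtain ⟨h2, h3⟩ := hD2 _ (Q.mul_mem hq hq) _ (R.mul_mem hr hr) _ ha _ hb h1
      exact ⟨(⟨q, hq, h2⟩, ⟨r, hr, h3⟩), Subtype.ext hsqr.symm⟩
  -- the central involution of Q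
  have hzc : ∀ q ∈ Q, z * q = q * z := by
    intro q hq
    have h1 : q * z * q⁻¹ ∈ Q := Q.mul_mem (Q.mul_mem hq hzmem) (Q.inv_mem hq)
    have h2 : (q * z * q⁻¹) * (q * z * q⁻¹) = 1 := by
      calc (q * z * q⁻¹) * (q * z * q⁻¹) = q * (z * z) * q⁻¹ := by group
        _ = 1 := by rw [hzz]; group
    rcases hQinv _ h1 h2 with h | h
    · exfalso
      apply hz1
      calc z = q⁻¹ * (q * z * q⁻¹) * q := by group
        _ = 1 := by rw [h]; group
    · calc z * q = (q * z * q⁻¹) * q := by rw [h]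
        _ = q * z := by group
  have hIdec : ∀ t ∈ S', t * t = 1 →
      ∃ a ∈ Q, ∃ b ∈ R, t = a * b ∧ (a = 1 ∨ a = z) ∧ b * b = 1 := by
    intro t ht htt
    obtain ⟨a, ha, b, hb, rfl⟩ := hD1 t ht
    have h1 := hsq a ha b hb
    rw [htt] at h1
    have h2 := hD2 1 Q.one_mem 1 R.one_mem (a * a) (Q.mul_mem ha ha) (b * b) (R.mul_mem hb hb)
      (by rw [one_mul]; exact h1)
    exact ⟨a, ha, b, hb, rfl, hQinv a ha h2.1.symm, h2.2.symm⟩
  have hIcentral : ∀ t ∈ S', t * t = 1 → ∀ s ∈ S', t * s = s * t := by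
    intro t ht htt s hs
    obtain ⟨a, ha, b, hb, rfl, ha', hbb⟩ := hIdec t ht htt
    obtain ⟨q, hq, r, hr, rfl⟩ := hD1 s hs
    have hbr : b * r = r * b := by
      by_cases hb1 : b = 1
      · rw [hb1, one_mul, mul_one]
      · have hbo : orderOf b = 2 := orderOf_eq_prime (by rw [pow_two]; exact hbb) hb1
        exact hR b hb hbo r hr
    have haq : a * q = q * a := by
      rcases ha' with h | h
      · rw [h, one_mul, mul_one]
      · rw [h]
        exact hzc q hq
    calc a * b * (q * r) = a * (b * q) * r := by group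
      _ = a * (q * b) * r := by rw [← hcomm q hq b hb]
      _ = (a * q) * (b * r) := by group
      _ = (q * a) * (r * b) := by rw [haq, hbr]
      _ = q * (a * r) * b := by group
      _ = q * (r * a) * b := by rw [hcomm a ha r hr]
      _ = q * r * (a * b) := by group
  -- the group of involutions of S
  obtain ⟨Is, hIs⟩ : ∃ Is : Subgroup G, ∀ t, t ∈ Is ↔ (t ∈ S' ∧ t * t = 1) :=
    ⟨{ carrier := {t | t ∈ S' ∧ t * t = 1}
       mul_mem' := by
         rintro t t' ⟨ht, htt⟩ ⟨ht', htt'⟩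
         refine ⟨S'.mul_mem ht ht', ?_⟩
         calc t * t' * (t * t') = t * (t' * t) * t' := by group
           _ = t * (t * t') * t' := by rw [hIcentral t' ht' htt' t ht]
           _ = (t * t) * (t' * t') := by group
           _ = 1 := by rw [htt, htt', one_mul]
       one_mem' := ⟨S'.one_mem, one_mul 1⟩
       inv_mem' := by
         rintro t ⟨ht, htt⟩
         refine ⟨S'.inv_mem ht, ?_⟩
         rw [← mul_inv_rev, htt, inv_one] }, fun t => Iff.rfl⟩
  letI : CommGroup ↥Is :=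
    { (inferInstance : Group ↥Is) with
      mul_comm := fun x y => Subtype.ext
        (hIcentral x.1 ((hIs _).mp x.2).1 ((hIs _).mp x.2).2 y.1 ((hIs _).mp y.2).1) }
  -- the normalizer and a complement to S in it
  obtain ⟨Nm, hNm⟩ : ∃ Nm : Subgroup G, Nm = Subgroup.normalizer (S' : Set G) := ⟨_, rfl⟩
  have hNmem : ∀ x ∈ Nm, ∀ s ∈ S', x * s * x⁻¹ ∈ S' := by
    intro x hx s hs
    rw [hNm, Subgroup.mem_normalizer_iff] at hx
    exact (hx s).mp hs
  have hSN : S' ≤ Nm := by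
    rw [hNm]
    exact Subgroup.le_normalizer
  haveI hSn : (S'.subgroupOf Nm).Normal := by
    rw [hNm]
    exact Subgroup.normal_in_normalizer
  have hcardS : Nat.card (S'.subgroupOf Nm) = Nat.card S' :=
    Nat.card_congr (Subgroup.subgroupOfEquivOfLe hSN).toEquiv
  have hcop0 : Nat.Coprime (Nat.card S') (S'.subgroupOf Nm).index := by
    have h1 : Nat.Coprime (Nat.card S') S'.index := by
      rw [hS']
      exact S.card_coprime_index
    exact Nat.Coprime.coprime_dvd_right (Subgroup.relIndex_dvd_index_of_le hSN) h1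
  obtain ⟨K₀, hK₀⟩ := Subgroup.exists_right_complement'_of_coprime
    (N := S'.subgroupOf Nm) (by rw [hcardS]; exact hcop0)
  have hK₀card : Nat.card K₀ = (S'.subgroupOf Nm).index := hK₀.symm.index_eq_card.symm
  have h2S : 2 ∣ Nat.card S' := by
    have h1 : orderOf (⟨z, hQS' hzmem⟩ : ↥S') = 2 := by
      apply orderOf_eq_prime
      · apply Subtype.ext
        show z ^ 2 = 1
        rw [pow_two, hzz]
      · intro h
        exact hz1 (congrArg Subtype.val h)
    rw [← h1]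
    exact orderOf_dvd_natCard _
  have hK₀odd : Odd (Nat.card K₀) := by
    rw [hK₀card]
    rcases Nat.even_or_odd (S'.subgroupOf Nm).index with h | h
    · exfalso
      have h3 : 2 ∣ Nat.gcd (Nat.card S') (S'.subgroupOf Nm).index :=
        Nat.dvd_gcd h2S h.two_dvd
      rw [hcop0] at h3
      norm_num at h3
    · exact h
  have hNdec : ∀ x ∈ Nm, ∃ s ∈ S', ∃ k : ↥K₀, x = s * ((k : ↥Nm) : G) := by
    intro x hx
    obtain ⟨p, hp, -⟩ := (Subgroup.isComplement'_def.mp hK₀).existsUnique ⟨x, hx⟩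
    refine ⟨((p.1 : ↥Nm) : G), Subgroup.mem_subgroupOf.mp p.1.2, p.2, ?_⟩
    have h1 := congrArg Subtype.val hp
    rw [Subgroup.coe_mul] at h1
    exact h1.symm
  -- conjugation by the normalizer
  have hconjI : ∀ x ∈ Nm, ∀ t ∈ Is, x * t * x⁻¹ ∈ Is := by
    intro x hx t ht
    obtain ⟨ht1, ht2⟩ := (hIs t).mp ht
    refine (hIs _).mpr ⟨hNmem x hx t ht1, ?_⟩
    calc x * t * x⁻¹ * (x * t * x⁻¹) = x * (t * t) * x⁻¹ := by group
      _ = 1 := by rw [ht2]; group
  have hcinv : ∀ x ∈ Nm, ∀ t : G, c (x * t * x⁻¹) = c t := by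
    intro x hx t
    have hx' : x⁻¹ ∈ Nm := Nm.inv_mem hx
    rw [hc, hc]
    apply Nat.card_congr
    exact
      { toFun := fun s => ⟨x⁻¹ * s.1 * x, by
          have h1 := hNmem x⁻¹ hx' s.1 s.2.1
          rw [inv_inv] at h1
          exact h1, by
          calc x⁻¹ * s.1 * x * (x⁻¹ * s.1 * x) = x⁻¹ * (s.1 * s.1) * x := by group
            _ = t := by rw [s.2.2]; group⟩
        invFun := fun s => ⟨x * s.1 * x⁻¹, hNmem x hx s.1 s.2.1, by
          calc x * s.1 * x⁻¹ * (x * s.1 * x⁻¹) = x * (s.1 * s.1) * x⁻¹ := by group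
            _ = x * t * x⁻¹ := by rw [s.2.2]⟩
        left_inv := fun s => Subtype.ext (by
          show x * (x⁻¹ * s.1 * x) * x⁻¹ = s.1
          group)
        right_inv := fun s => Subtype.ext (by
          show x⁻¹ * (x * s.1 * x⁻¹) * x = s.1
          group) }
  -- an involution with the largest number of square roots
  haveI : Nonempty ↥Is := ⟨1⟩
  obtain ⟨t₀, ht₀max⟩ := Finite.exists_max (fun t : ↥Is => c (t : G))
  have hνR1 : 1 ≤ νR 1 := by
    rw [hνR]
    haveI : Nonempty {r : G // r ∈ R ∧ r * r = 1} := ⟨⟨1, R.one_mem, one_mul 1⟩⟩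
    exact Nat.card_pos
  have hzI : z ∈ Is := (hIs _).mpr ⟨hQS' hzmem, hzz⟩
  have hnotR : ∀ t : G, t ∈ Is → c t = c (t₀ : G) → t ∉ R := by
    intro t htI hct htR
    have htt := ((hIs t).mp htI).2
    have e1 : c t = νQ 1 * νR t := by
      have h1 := hprod 1 Q.one_mem t htR
      rw [one_mul] at h1
      exact h1
    have hzt : z * t ∈ Is := (hIs _).mpr ⟨S'.mul_mem (hQS' hzmem) (hRS' htR), by
      rw [hsq z hzmem t htR, hzz, htt, one_mul]⟩
    have e2 : c (z * t) = νQ z * νR t := hprod z hzmem t htR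
    have e3 : c z = νQ z * νR 1 := by
      have h1 := hprod z hzmem 1 R.one_mem
      rw [mul_one] at h1
      exact h1
    have m1 : c (z * t) ≤ c (t₀ : G) := ht₀max ⟨z * t, hzt⟩
    have m2 : c z ≤ c (t₀ : G) := ht₀max ⟨z, hzI⟩
    have h1 : 4 * νR t ≤ νQ z * νR t := Nat.mul_le_mul_right _ hνQz
    have h2 : νQ 1 * νR t ≤ 2 * νR t := Nat.mul_le_mul_right _ hνQ1
    have h3 : 4 * 1 ≤ νQ z * νR 1 := Nat.mul_le_mul hνQz hνR1
    rw [e2] at m1
    rw [e3] at m2
    rw [← hct, e1] at m1 m2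
    generalize νQ z * νR t = A at *
    generalize νQ 1 * νR t = B at *
    generalize νQ z * νR 1 = C at *
    omega
  -- the invariant involution
  haveI : Fintype ↥K₀ := Fintype.ofFinite _
  obtain ⟨φ, hφ⟩ : ∃ φ : ↥K₀ → ↥Is, ∀ k : ↥K₀,
      ((φ k : ↥Is) : G) = ((k : ↥Nm) : G) * (t₀ : G) * ((k : ↥Nm) : G)⁻¹ :=
    ⟨fun k => ⟨((k : ↥Nm) : G) * (t₀ : G) * ((k : ↥Nm) : G)⁻¹,
      hconjI _ (k : ↥Nm).2 _ t₀.2⟩, fun _ => rfl⟩
  obtain ⟨u', hu'⟩ : ∃ u' : ↥Is, u' = ∏ k : ↥K₀, φ k := ⟨_, rfl⟩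
  -- u' is not in R
  obtain ⟨J, hJdef⟩ : ∃ J : Subgroup ↥Is, ∀ x : ↥Is, x ∈ J ↔ (x : G) ∈ R :=
    ⟨R.subgroupOf Is, fun x => Subgroup.mem_subgroupOf⟩
  have habR : ∀ a ∈ Q, ∀ b ∈ R, (a * b ∈ R ↔ a = 1) := by
    intro a ha b hb
    constructor
    · intro h
      have h1 : a ∈ Q ⊓ R := ⟨ha, by
        have h2 : a = (a * b) * b⁻¹ := by group
        rw [h2]
        exact R.mul_mem h (R.inv_mem hb)⟩
      rw [hdisj, Subgroup.mem_bot] at h1
      exact h1
    · intro h
      rw [h, one_mul]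
      exact hb
  have hJ : ∀ x y : ↥Is, x * y ∈ J ↔ (x ∈ J ↔ y ∈ J) := by
    intro x y
    obtain ⟨hx1, hx2⟩ := (hIs _).mp x.2
    obtain ⟨hy1, hy2⟩ := (hIs _).mp y.2
    obtain ⟨a, ha, b, hb, hxab, ha', hbb⟩ := hIdec x.1 hx1 hx2
    obtain ⟨a', ha'm, b', hb', hyab, ha'', hbb'⟩ := hIdec y.1 hy1 hy2
    rw [hJdef, hJdef, hJdef, Subgroup.coe_mul]
    have e1 : (x : G) * (y : G) = (a * a') * (b * b') := by
      rw [hxab, hyab]
      calc a * b * (a' * b') = a * (b * a') * b' := by group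
        _ = a * (a' * b) * b' := by rw [← hcomm a' ha'm b hb]
        _ = (a * a') * (b * b') := by group
    rw [e1, habR (a * a') (Q.mul_mem ha ha'm) (b * b') (R.mul_mem hb hb'), hxab, hyab,
      habR a ha b hb, habR a' ha'm b' hb']
    rcases ha' with h | h <;> rcases ha'' with h' | h'
    · rw [h, h']
      simp
    · rw [h, h']
      simp [hz1]
    · rw [h, h']
      simp [hz1]
    · rw [h, h']
      simp [hz1, hzz]
  have hφJ : ∀ k ∈ (Finset.univ : Finset ↥K₀), φ k ∉ J := by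
    intro k _
    rw [hJdef, hφ]
    apply hnotR _ (hconjI _ (k : ↥Nm).2 _ t₀.2)
    exact hcinv _ (k : ↥Nm).2 _
  have hu'J : u' ∉ J := by
    rw [hu', prod_mem_iff_even J hJ Finset.univ φ hφJ, Finset.card_univ,
      ← Nat.card_eq_fintype_card]
    exact Nat.not_even_iff_odd.mpr hK₀odd
  obtain ⟨u, hu⟩ : ∃ u : G, u = (u' : G) := ⟨_, rfl⟩
  have huI : u ∈ Is := hu ▸ u'.2
  obtain ⟨huS, huu⟩ := (hIs u).mp huI
  have hu1 : u ≠ 1 := by
    intro h
    apply hu'J
    rw [hJdef, ← hu, h]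
    exact R.one_mem
  -- invariance under the complement
  have huK : ∀ k' : ↥K₀, ((k' : ↥Nm) : G) * u * ((k' : ↥Nm) : G)⁻¹ = u := by
    intro k'
    let ψ : ↥Is →* ↥Is :=
      { toFun := fun t => ⟨((k' : ↥Nm) : G) * (t : G) * ((k' : ↥Nm) : G)⁻¹,
          hconjI _ (k' : ↥Nm).2 _ t.2⟩
        map_one' := by
          apply Subtype.ext
          show ((k' : ↥Nm) : G) * ((1 : ↥Is) : G) * ((k' : ↥Nm) : G)⁻¹ = ((1 : ↥Is) : G)
          rw [Subgroup.coe_one]
          group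
        map_mul' := by
          intro t t'
          apply Subtype.ext
          show ((k' : ↥Nm) : G) * ((t * t' : ↥Is) : G) * ((k' : ↥Nm) : G)⁻¹
            = (((k' : ↥Nm) : G) * (t : G) * ((k' : ↥Nm) : G)⁻¹)
              * (((k' : ↥Nm) : G) * (t' : G) * ((k' : ↥Nm) : G)⁻¹)
          rw [Subgroup.coe_mul]
          group }
    have h1 : ψ u' = u' := by
      rw [hu', map_prod]
      have h2 : ∀ k : ↥K₀, ψ (φ k) = φ (k' * k) := by
        intro k
        apply Subtype.ext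
        show ((k' : ↥Nm) : G) * ((φ k : ↥Is) : G) * ((k' : ↥Nm) : G)⁻¹ = ((φ (k' * k) : ↥Is) : G)
        rw [hφ, hφ, Subgroup.coe_mul, Subgroup.coe_mul]
        group
      simp_rw [h2]
      exact Fintype.prod_equiv (Equiv.mulLeft k') _ _ (fun k => rfl)
    have h3 := congrArg Subtype.val h1
    rw [hu]
    exact h3
  have huN : ∀ x ∈ Nm, x * u * x⁻¹ = u := by
    intro x hx
    obtain ⟨s, hs, k, rfl⟩ := hNdec x hx
    calc s * ((k : ↥Nm) : G) * u * (s * ((k : ↥Nm) : G))⁻¹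
        = s * (((k : ↥Nm) : G) * u * ((k : ↥Nm) : G)⁻¹) * s⁻¹ := by group
      _ = s * u * s⁻¹ := by rw [huK k]
      _ = u * s * s⁻¹ := by rw [hIcentral u huS huu s hs]
      _ = u := by group
  -- isolation
  have huo : orderOf u = 2 := orderOf_eq_prime (by rw [pow_two]; exact huu) hu1
  have hcent : ∀ t ∈ S', t * t = 1 → t ∈ Subgroup.centralizer ((S : Subgroup G) : Set G) := by
    intro t ht htt
    rw [Subgroup.mem_centralizer_iff]
    intro s hs
    have hs' : s ∈ S' := by rw [hS']; exact hs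
    exact (hIcentral t ht htt s hs').symm
  have hiso : ∀ g : G, g * u * g⁻¹ ∈ S → g * u * g⁻¹ = u := by
    intro g hg
    have hg' : g * u * g⁻¹ ∈ S' := by rw [hS']; exact hg
    have hgg : (g * u * g⁻¹) * (g * u * g⁻¹) = 1 := by
      calc (g * u * g⁻¹) * (g * u * g⁻¹) = g * (u * u) * g⁻¹ := by group
        _ = 1 := by rw [huu]; group
    have h1 := hcent u huS huu
    have h2 : (g⁻¹)⁻¹ * u * g⁻¹ ∈ Subgroup.centralizer ((S : Subgroup G) : Set G) := by
      rw [inv_inv]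
      exact hcent _ hg' hgg
    obtain ⟨n, hn, hnu⟩ := S.conj_eq_normalizer_conj_of_mem_centralizer u g⁻¹ h1 h2
    rw [inv_inv] at hnu
    have hn' : n⁻¹ ∈ Nm := by
      rw [hNm, hS']
      exact Subgroup.inv_mem _ hn
    have h3 := huN n⁻¹ hn'
    rw [inv_inv] at h3
    rw [hnu, h3]
  obtain ⟨Nn, hNn, hNodd, hNc⟩ := zstar S u huo (by have h := huS; rw [hS'] at h; exact h) hiso
  rcases hsimple.eq_bot_or_eq_top_of_normal Nn hNn with h | h
  · -- u is central
    have hucent : ∀ g : G, u * g = g * u := by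
      intro g
      have h1 := hNc g
      rw [h, Subgroup.mem_bot] at h1
      calc u * g = (u * g * u⁻¹ * g⁻¹) * g * u := by group
        _ = g * u := by rw [h1, one_mul]
    have hZn : (Subgroup.zpowers u).Normal := by
      constructor
      intro n hn g
      obtain ⟨k, rfl⟩ := Subgroup.mem_zpowers_iff.mp hn
      have h1 : g * u ^ k * g⁻¹ = u ^ k := by
        have h2 : Commute u g := hucent g
        have h3 : Commute (u ^ k) g := h2.zpow_left k
        calc g * u ^ k * g⁻¹ = (u ^ k * g) * g⁻¹ := by rw [h3.eq]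
          _ = u ^ k := by group
      rw [h1]
      exact Subgroup.zpow_mem_zpowers u k
    rcases hsimple.eq_bot_or_eq_top_of_normal _ hZn with h' | h'
    · have h1 : u ∈ Subgroup.zpowers u := Subgroup.mem_zpowers u
      rw [h', Subgroup.mem_bot] at h1
      exact hu1 h1
    · have h1 : Nat.card (Subgroup.zpowers u) = 2 := by rw [Nat.card_zpowers, huo]
      rw [h', Subgroup.card_top] at h1
      have h2 : Nat.card Q ≤ Nat.card G := Subgroup.card_le_card_group Q
      have h3 : Nat.card Q = 4 * m := by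
        rw [Nat.card_congr eQ.toEquiv, Nat.card_eq_fintype_card, QuaternionGroup.card]
      omega
  · rw [h, Subgroup.card_top] at hNodd
    have h1 : 2 ∣ Nat.card G := by
      rw [← huo]
      exact orderOf_dvd_natCard u
    obtain ⟨k, hk⟩ := hNodd
    omega

end Cfsg.Agent.Lib.Helper22.QuatProdB
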