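import Mathlib
import Cfsg.Agent.Lib.Helper27.RankOneInv
import Cfsg.Agent.Lib.Helper2.NilpotentBasic
import Cfsg.Agent.S1122
import Cfsg.Agent.S1125
import Cfsg.Agent.S1127
import Cfsg.Agent.S1128
import Cfsg.Agent.S0033

set_option autoImplicit false
open Cfsg
open Cfsg.Agent.Lib.Helper28
open Cfsg.Agent.Lib.Helper27.RankOne

namespace Cfsg.Agent.Lib.Helper22.RankOneB

variable {G Ω : Type*} [Group G] [MulAction G Ω] {a : Ω} {t : G} {Q : Subgroup G}

/-- commuting involutions share their fixed point -/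
theorem comm_invol_fix [Finite G] (hS : IsRankOneSetup G Ω a t Q) {x y : G}
    (hx1 : x ≠ 1) (hx2 : x * x = 1) (hxy : x * y = y * x) {c : Ω} (hc : x • c = c) :
    y • c = c := by
  have h : x • (y • c) = y • c := by
    rw [← mul_smul, hxy, mul_smul, hc]
  exact Cfsg.Agent.S1127.invol_fix_unique hS hx2 hx1 h hc

/-- involutions of `G_a` lie in `Q` -/
theorem invol_mem_Q [Finite G] (hS : IsRankOneSetup G Ω a t Q) {s : G}
    (hs : s ∈ involutionsIn (MulAction.stabilizer G a : Set G)) : s ∈ Q := by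
  obtain ⟨hsa, hs1, hs2⟩ := hs
  obtain ⟨g, hg⟩ := involution_conj_mem_Q hS hs2
  have hg1 : g * s * g⁻¹ ≠ 1 := by
    intro h
    apply hs1
    have : s = g⁻¹ * (g * s * g⁻¹) * g := by group
    rw [this, h]; group
  have hg2 : (g * s * g⁻¹) * (g * s * g⁻¹) = 1 := by
    have : (g * s * g⁻¹) * (g * s * g⁻¹) = g * (s * s) * g⁻¹ := by group
    rw [this, hs2]; group
  have hfa : (g * s * g⁻¹) • a = a := MulAction.mem_stabilizer_iff.mp (hS.le hg)
  have hfga : (g * s * g⁻¹) • (g • a) = g • a := by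
    rw [← mul_smul]
    have : g * s * g⁻¹ * g = g * s := by group
    rw [this, mul_smul, MulAction.mem_stabilizer_iff.mp hsa]
  have hga : g • a = a := Cfsg.Agent.S1127.invol_fix_unique hS hg2 hg1 hfga hfa
  have hginv : g⁻¹ ∈ MulAction.stabilizer G a := by
    apply Subgroup.inv_mem
    exact MulAction.mem_stabilizer_iff.mpr hga
  have := hS.conj_mem g⁻¹ hginv _ hg
  have h2 : g⁻¹ * (g * s * g⁻¹) * g⁻¹⁻¹ = s := by group
  rwa [h2] at this

/-- from two commuting involutions, two distinct commuting involutions in `G_a` -/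
theorem exists_two_invol [Finite G] (hS : IsRankOneSetup G Ω a t Q)
    (h2 : ∃ x y : G, x ≠ 1 ∧ y ≠ 1 ∧ x ≠ y ∧ x * x = 1 ∧ y * y = 1 ∧ x * y = y * x) :
    ∃ s s' : G, s ∈ involutionsIn (MulAction.stabilizer G a : Set G) ∧
      s' ∈ involutionsIn (MulAction.stabilizer G a : Set G) ∧ s ≠ s' ∧ s * s' = s' * s := by
  obtain ⟨x, y, hx1, hy1, hxy, hx2, hy2, hc⟩ := h2
  obtain ⟨c, hcx, -⟩ := involution_fix_unique hS hx1 hx2
  have hcy : y • c = c := comm_invol_fix hS hx1 hx2 hc hcx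
  have := pretransitive hS
  obtain ⟨g, hg⟩ := MulAction.exists_smul_eq G c a
  have hconj : ∀ z : G, z • c = c → z ≠ 1 → z * z = 1 →
      g * z * g⁻¹ ∈ involutionsIn (MulAction.stabilizer G a : Set G) := by
    intro z hz hz1 hz2
    refine ⟨?_, ?_, ?_⟩
    · show g * z * g⁻¹ ∈ MulAction.stabilizer G a
      rw [MulAction.mem_stabilizer_iff, mul_smul, mul_smul, ← hg, inv_smul_smul, hz]
    · intro h
      apply hz1
      have : z = g⁻¹ * (g * z * g⁻¹) * g := by group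
      rw [this, h]; group
    · have : (g * z * g⁻¹) * (g * z * g⁻¹) = g * (z * z) * g⁻¹ := by group
      rw [this, hz2]; group
  refine ⟨g * x * g⁻¹, g * y * g⁻¹, hconj x hcx hx1 hx2, hconj y hcy hy1 hy2, ?_, ?_⟩
  · intro h
    apply hxy
    have h1 : x = g⁻¹ * (g * x * g⁻¹) * g := by group
    have h2 : y = g⁻¹ * (g * y * g⁻¹) * g := by group
    rw [h1, h, ← h2]
  · have h1 : g * x * g⁻¹ * (g * y * g⁻¹) = g * (x * y) * g⁻¹ := by group
    have h2 : g * y * g⁻¹ * (g * x * g⁻¹) = g * (y * x) * g⁻¹ := by group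
    rw [h1, h2, hc]

/-- there is a nonidentity element of `K` -/
theorem exists_K_ne_one [Finite G] (hS : IsRankOneSetup G Ω a t Q)
    (h2 : ∃ x y : G, x ≠ 1 ∧ y ≠ 1 ∧ x ≠ y ∧ x * x = 1 ∧ y * y = 1 ∧ x * y = y * x) :
    ∃ k ∈ invertedBy (MulAction.stabilizer G a ⊓ MulAction.stabilizer G (t • a)) t, k ≠ 1 := by
  obtain ⟨s, s', hs, hs', hne, -⟩ := exists_two_invol hS h2
  obtain ⟨k, hk, hks⟩ := (Cfsg.Agent.S1122.result hS).2 s hs s' hs'
  refine ⟨k, hk, ?_⟩
  rintro rfl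
  apply hne
  simpa using hks

/-- powers of elements of `K` are in `K` -/
theorem K_pow_mem {D : Subgroup G} {k : G} (hk : k ∈ invertedBy D t) (n : ℕ) :
    k ^ n ∈ invertedBy D t := by
  obtain ⟨hkD, hinv⟩ := hk
  refine ⟨Subgroup.pow_mem _ hkD n, ?_⟩
  have : t * k ^ n * t⁻¹ = (t * k * t⁻¹) ^ n := by
    rw [conj_pow]
  rw [this, hinv, inv_pow]

/-- conjugation by an element of `G_a` as an automorphism of `Q` -/
def conjQ (hS : IsRankOneSetup G Ω a t Q) (h : G) (hh : h ∈ MulAction.stabilizer G a) :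
    ↥Q ≃* ↥Q where
  toFun x := ⟨h * x * h⁻¹, hS.conj_mem h hh x x.2⟩
  invFun x := ⟨h⁻¹ * x * h, by
    have := hS.conj_mem h⁻¹ (Subgroup.inv_mem _ hh) x x.2
    simpa using this⟩
  left_inv x := by
    apply Subtype.ext
    show h⁻¹ * (h * (x : G) * h⁻¹) * h = x
    group
  right_inv x := by
    apply Subtype.ext
    show h * (h⁻¹ * (x : G) * h) * h⁻¹ = x
    group
  map_mul' x y := by
    apply Subtype.ext
    show h * ((x : G) * (y : G)) * h⁻¹ = (h * (x : G) * h⁻¹) * (h * (y : G) * h⁻¹)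
    group

theorem conjQ_apply (hS : IsRankOneSetup G Ω a t Q) (h : G) (hh : h ∈ MulAction.stabilizer G a)
    (x : ↥Q) : ((conjQ hS h hh x : ↥Q) : G) = h * x * h⁻¹ := rfl

theorem conjQ_pow_apply (hS : IsRankOneSetup G Ω a t Q) (h : G)
    (hh : h ∈ MulAction.stabilizer G a) (n : ℕ) (x : ↥Q) :
    ((((conjQ hS h hh) ^ n) x : ↥Q) : G) = h ^ n * x * (h ^ n)⁻¹ := by
  induction n with
  | zero => simp
  | succ n ih =>
    rw [pow_succ', MulAut.mul_apply, conjQ_apply, ih, pow_succ']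
    group

/-- `Q` is nilpotent -/
theorem Q_nilpotent [Finite G] [FaithfulSMul G Ω] (hS : IsRankOneSetup G Ω a t Q)
    (h2 : ∃ x y : G, x ≠ 1 ∧ y ≠ 1 ∧ x ≠ y ∧ x * x = 1 ∧ y * y = 1 ∧ x * y = y * x) :
    Group.IsNilpotent Q := by
  obtain ⟨k, hk, hk1⟩ := exists_K_ne_one hS h2
  have hord : orderOf k ≠ 1 := by
    intro h
    exact hk1 (orderOf_eq_one_iff.mp h)
  set p := (orderOf k).minFac with hp
  have hpp : p.Prime := Nat.minFac_prime hord
  have hdvd : p ∣ orderOf k := Nat.minFac_dvd _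
  set k' := k ^ (orderOf k / p) with hk'
  have hk'K : k' ∈ invertedBy (MulAction.stabilizer G a ⊓ MulAction.stabilizer G (t • a)) t :=
    K_pow_mem hk _
  have hordk' : orderOf k' = p := by
    rw [hk']
    exact orderOf_pow_orderOf_div (orderOf_pos k).ne' hdvd
  have hk'1 : k' ≠ 1 := by
    intro h
    rw [h, orderOf_one] at hordk'
    exact hpp.one_lt.ne hordk'
  have hk'a : k' ∈ MulAction.stabilizer G a := hk'K.1.1
  have hbot := Cfsg.Agent.S1128.result hS h2 k' hk'K hk'1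
  have hfpf : MonoidHom.FixedPointFree ((conjQ hS k' hk'a : ↥Q ≃* ↥Q) : ↥Q →* ↥Q) := by
    intro x hx
    have hx' : k' * (x : G) * k'⁻¹ = x := congrArg Subtype.val hx
    have hmem : (x : G) ∈ Q ⊓ Subgroup.centralizer {k'} := by
      refine Subgroup.mem_inf.mpr ⟨x.2, ?_⟩
      rw [Subgroup.mem_centralizer_iff]
      intro y hy
      rw [Set.mem_singleton_iff] at hy
      rw [hy]
      calc k' * (x : G) = (k' * (x : G) * k'⁻¹) * k' := by group
        _ = (x : G) * k' := by rw [hx']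
    rw [hbot, Subgroup.mem_bot] at hmem
    exact Subtype.ext hmem
  have hQne : ∃ q : ↥Q, q ≠ 1 := by
    by_contra hcon
    push Not at hcon
    have : Nat.card ↥Q = 1 := by
      rw [Nat.card_eq_one_iff_unique]
      exact ⟨⟨fun x y => by rw [hcon x, hcon y]⟩, ⟨1⟩⟩
    have he := hS.even_card
    rw [this] at he
    exact absurd he (by decide)
  haveI : Fact p.Prime := ⟨hpp⟩
  have hφord : orderOf (conjQ hS k' hk'a) = p := by
    apply orderOf_eq_prime
    · apply MulEquiv.ext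
      intro x
      apply Subtype.ext
      rw [conjQ_pow_apply, ← hordk', pow_orderOf_eq_one]
      simp
    · intro h
      obtain ⟨q, hq⟩ := hQne
      apply hq
      apply hfpf q
      show (conjQ hS k' hk'a) q = q
      rw [h]
      rfl
  exact Cfsg.Agent.S0033.result (conjQ hS k' hk'a) hfpf p hpp hφord

/-- a central involution of `Q` -/
theorem exists_central_invol [Finite G] [FaithfulSMul G Ω] (hS : IsRankOneSetup G Ω a t Q)
    (h2 : ∃ x y : G, x ≠ 1 ∧ y ≠ 1 ∧ x ≠ y ∧ x * x = 1 ∧ y * y = 1 ∧ x * y = y * x) :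
    ∃ z : G, z ∈ Q ∧ z ≠ 1 ∧ z * z = 1 ∧ ∀ x ∈ Q, z * x = x * z := by
  have hnil : Group.IsNilpotent ↥Q := Q_nilpotent hS h2
  have hf2 : Fact (Nat.Prime 2) := ⟨Nat.prime_two⟩
  obtain ⟨P⟩ : Nonempty (Sylow 2 ↥Q) := inferInstance
  have htfae : Group.IsNilpotent ↥Q ↔
      ∀ (p : ℕ) (_hp : Fact p.Prime) (P : Sylow p ↥Q), (P : Subgroup ↥Q).Normal :=
    (Group.isNilpotent_of_finite_tfae (G := ↥Q)).out 0 3
  have hPn : (P : Subgroup ↥Q).Normal := htfae.mp hnil 2 hf2 P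
  have hPne : (P : Subgroup ↥Q) ≠ ⊥ := P.ne_bot_of_dvd_card (even_iff_two_dvd.mp hS.even_card)
  have hne := Cfsg.Agent.Lib.Helper2.normal_inf_center_ne_bot (P : Subgroup ↥Q) hPne
  have hpg : IsPGroup 2 ↥((P : Subgroup ↥Q) ⊓ Subgroup.center ↥Q) := P.2.to_le inf_le_left
  obtain ⟨n, hn⟩ := hpg.exists_card_eq
  have hn0 : n ≠ 0 := by
    rintro rfl
    rw [pow_zero] at hn
    exact hne (Subgroup.card_eq_one.mp hn)
  have hdvd : 2 ∣ Nat.card ↥((P : Subgroup ↥Q) ⊓ Subgroup.center ↥Q) := by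
    rw [hn]
    exact dvd_pow_self 2 hn0
  obtain ⟨z, hz⟩ := exists_prime_orderOf_dvd_card' 2 hdvd
  have hz' : orderOf ((z : ↥Q) : G) = 2 := by
    rw [Subgroup.orderOf_coe, Subgroup.orderOf_coe]; exact hz
  obtain ⟨hz1, hz2⟩ := orderOf_two_iff'.mp hz'
  refine ⟨((z : ↥Q) : G), (z : ↥Q).2, hz1, hz2, ?_⟩
  intro x hx
  have hzc : (z : ↥Q) ∈ Subgroup.center ↥Q := z.2.2
  rw [Subgroup.mem_center_iff] at hzc
  have := hzc ⟨x, hx⟩
  have h3 := congrArg Subtype.val this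
  exact h3.symm

/-- involutions of `G_a` are central in `Q` -/
theorem invol_central [Finite G] [FaithfulSMul G Ω] (hS : IsRankOneSetup G Ω a t Q)
    (h2 : ∃ x y : G, x ≠ 1 ∧ y ≠ 1 ∧ x ≠ y ∧ x * x = 1 ∧ y * y = 1 ∧ x * y = y * x)
    {s : G} (hs : s ∈ involutionsIn (MulAction.stabilizer G a : Set G)) :
    ∀ x ∈ Q, s * x = x * s := by
  obtain ⟨z, hzQ, hz1, hz2, hzc⟩ := exists_central_invol hS h2
  have hzI : z ∈ involutionsIn (MulAction.stabilizer G a : Set G) := ⟨hS.le hzQ, hz1, hz2⟩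
  obtain ⟨k, hk, hks⟩ := (Cfsg.Agent.S1122.result hS).2 z hzI s hs
  intro x hx
  have hka : k ∈ MulAction.stabilizer G a := hk.1.1
  have hkx : k * x * k⁻¹ ∈ Q := hS.conj_mem k hka x hx
  have := hzc _ hkx
  rw [← hks]
  calc k⁻¹ * z * k * x = k⁻¹ * (z * (k * x * k⁻¹)) * k := by group
    _ = k⁻¹ * ((k * x * k⁻¹) * z) * k := by rw [this]
    _ = x * (k⁻¹ * z * k) := by group

end Cfsg.Agent.Lib.Helper22.RankOneB
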