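import Mathlib
import Cfsg.Agent.Lib.Helper22.RankOneB

set_option autoImplicit false
open Cfsg
open Cfsg.Agent.Lib.Helper28
open Cfsg.Agent.Lib.Helper27.RankOne
open Cfsg.Agent.Lib.Helper22.RankOneB

namespace Cfsg.Agent.Lib.Helper22.RankOneC

variable {G Ω : Type*} [Group G] [MulAction G Ω] {a : Ω} {t : G} {Q : Subgroup G}

/-- dihedral lemma: if `ρ` inverts `x` and has odd order then `x * x = 1` -/
theorem sq_eq_one_of_inverted_odd {ρ x : G} (hinv : ρ * x * ρ⁻¹ = x⁻¹) (hodd : Odd (orderOf ρ)) :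
    x * x = 1 := by
  obtain ⟨m, hm⟩ := hodd
  have h2 : (ρ * ρ) * x = x * (ρ * ρ) := by
    have h1 : ρ * x = x⁻¹ * ρ := by
      calc ρ * x = (ρ * x * ρ⁻¹) * ρ := by group
        _ = x⁻¹ * ρ := by rw [hinv]
    have h1' : ρ * x⁻¹ = x * ρ := by
      calc ρ * x⁻¹ = x * (x⁻¹ * ρ) * x⁻¹ := by group
        _ = x * (ρ * x) * x⁻¹ := by rw [h1]
        _ = x * ρ := by group
    calc (ρ * ρ) * x = ρ * (ρ * x) := by group
      _ = ρ * (x⁻¹ * ρ) := by rw [h1]
      _ = (ρ * x⁻¹) * ρ := by group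
      _ = (x * ρ) * ρ := by rw [h1']
      _ = x * (ρ * ρ) := by group
  have h3 : ∀ n : ℕ, (ρ * ρ) ^ n * x = x * (ρ * ρ) ^ n := by
    intro n
    exact ((Commute.pow_left (show Commute (ρ * ρ) x from h2) n)).eq
  have h4 : (ρ * ρ) ^ (m + 1) = ρ := by
    rw [← pow_two, ← pow_mul]
    have : 2 * (m + 1) = orderOf ρ + 1 := by omega
    rw [this, pow_succ, pow_orderOf_eq_one, one_mul]
  have h5 : ρ * x = x * ρ := by
    have := h3 (m + 1)
    rwa [h4] at this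
  have h6 : x⁻¹ = x := by
    rw [← hinv, h5]
    group
  calc x * x = x⁻¹ * x := by rw [h6]
    _ = 1 := by group

/-- conjugating an involution fixing `c` by `g` with `g • c = a` -/
theorem conj_mem_Ia {v g : G} {c : Ω} (hv1 : v ≠ 1) (hv2 : v * v = 1) (hc : v • c = c)
    (hg : g • c = a) : g * v * g⁻¹ ∈ involutionsIn (MulAction.stabilizer G a : Set G) := by
  refine ⟨?_, ?_, ?_⟩
  · show g * v * g⁻¹ ∈ MulAction.stabilizer G a
    rw [MulAction.mem_stabilizer_iff, mul_smul, mul_smul, ← hg, inv_smul_smul, hc]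
  · intro h
    apply hv1
    have : v = g⁻¹ * (g * v * g⁻¹) * g := by group
    rw [this, h]; group
  · have : (g * v * g⁻¹) * (g * v * g⁻¹) = g * (v * v) * g⁻¹ := by group
    rw [this, hv2]; group

/-- product of an involution fixing `c` and an involution moving `c` has odd order -/
theorem odd_orderOf_mul' [Finite G] (hS : IsRankOneSetup G Ω a t Q) {s r : G}
    (hs1 : s ≠ 1) (hs2 : s * s = 1) (hr2 : r * r = 1) {c : Ω} (hc : s • c = c)
    (hrc : r • c ≠ c) : Odd (orderOf (s * r)) := by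
  have := pretransitive hS
  obtain ⟨g, hg⟩ := MulAction.exists_smul_eq G c a
  have hs' := conj_mem_Ia hs1 hs2 hc hg
  have hr' : g * r * g⁻¹ ∉ MulAction.stabilizer G a := by
    intro h
    rw [MulAction.mem_stabilizer_iff, mul_smul, mul_smul, ← hg, inv_smul_smul] at h
    exact hrc (smul_left_cancel g h)
  have hr2' : (g * r * g⁻¹) * (g * r * g⁻¹) = 1 := by
    have : (g * r * g⁻¹) * (g * r * g⁻¹) = g * (r * r) * g⁻¹ := by group
    rw [this, hr2]; group
  have := odd_orderOf_mul hS hs'.1 hs'.2.1 hs'.2.2 hr' hr2'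
  have h1 : (g * s * g⁻¹) * (g * r * g⁻¹) = MulAut.conj g (s * r) := by
    rw [MulAut.conj_apply]; group
  rw [h1, MulEquiv.orderOf_eq] at this
  exact this

/-- all involutions are conjugate -/
theorem invol_conj [Finite G] (hS : IsRankOneSetup G Ω a t Q) {v v' : G}
    (hv1 : v ≠ 1) (hv2 : v * v = 1) (hv1' : v' ≠ 1) (hv2' : v' * v' = 1) :
    ∃ g : G, g * v * g⁻¹ = v' := by
  have := pretransitive hS
  obtain ⟨c, hc, -⟩ := involution_fix_unique hS hv1 hv2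
  obtain ⟨c', hc', -⟩ := involution_fix_unique hS hv1' hv2'
  obtain ⟨g₁, hg₁⟩ := MulAction.exists_smul_eq G c a
  obtain ⟨g₂, hg₂⟩ := MulAction.exists_smul_eq G c' a
  have h1 := conj_mem_Ia hv1 hv2 hc hg₁
  have h2 := conj_mem_Ia hv1' hv2' hc' hg₂
  obtain ⟨k, -, hk⟩ := (Cfsg.Agent.S1122.result hS).2 _ h1 _ h2
  refine ⟨g₂⁻¹ * k⁻¹ * g₁, ?_⟩
  calc g₂⁻¹ * k⁻¹ * g₁ * v * (g₂⁻¹ * k⁻¹ * g₁)⁻¹
      = g₂⁻¹ * (k⁻¹ * (g₁ * v * g₁⁻¹) * k) * g₂ := by group
    _ = g₂⁻¹ * (g₂ * v' * g₂⁻¹) * g₂ := by rw [hk]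
    _ = v' := by group

/-- the centralizer of an involution is transitive off its fixed point -/
theorem central_trans [Finite G] [FaithfulSMul G Ω] (hS : IsRankOneSetup G Ω a t Q)
    (h2 : ∃ x y : G, x ≠ 1 ∧ y ≠ 1 ∧ x ≠ y ∧ x * x = 1 ∧ y * y = 1 ∧ x * y = y * x)
    {v : G} (hv1 : v ≠ 1) (hv2 : v * v = 1) {c b b' : Ω} (hc : v • c = c) (hb : b ≠ c)
    (hb' : b' ≠ c) : ∃ w : G, w * v = v * w ∧ w • b = b' := by
  have := pretransitive hS
  obtain ⟨g, hg⟩ := MulAction.exists_smul_eq G c a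
  have hs := conj_mem_Ia hv1 hv2 hc hg
  have hgb : g • b ≠ a := by
    intro h
    rw [← hg] at h
    exact hb (smul_left_cancel g h)
  have hgb' : g • b' ≠ a := by
    intro h
    rw [← hg] at h
    exact hb' (smul_left_cancel g h)
  obtain ⟨q₁, hq₁, hq₁b⟩ := rk1_exists_Q_smul hS hgb
  obtain ⟨q₂, hq₂, hq₂b⟩ := rk1_exists_Q_smul hS hgb'
  have hq : q₂ * q₁⁻¹ ∈ Q := Subgroup.mul_mem _ hq₂ (Subgroup.inv_mem _ hq₁)
  have hcomm := invol_central hS h2 hs _ hq
  refine ⟨g⁻¹ * (q₂ * q₁⁻¹) * g, ?_, ?_⟩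
  · calc g⁻¹ * (q₂ * q₁⁻¹) * g * v = g⁻¹ * ((q₂ * q₁⁻¹) * (g * v * g⁻¹)) * g := by group
      _ = g⁻¹ * ((g * v * g⁻¹) * (q₂ * q₁⁻¹)) * g := by rw [hcomm]
      _ = v * (g⁻¹ * (q₂ * q₁⁻¹) * g) := by group
  · rw [mul_smul, mul_smul, mul_smul, ← hq₁b, inv_smul_smul, hq₂b, inv_smul_smul]

/-- two involutions with the same fixed point have product squaring to one -/
theorem same_fix_sq [Finite G] [FaithfulSMul G Ω] (hS : IsRankOneSetup G Ω a t Q)
    (h2 : ∃ x y : G, x ≠ 1 ∧ y ≠ 1 ∧ x ≠ y ∧ x * x = 1 ∧ y * y = 1 ∧ x * y = y * x)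
    {u v : G} (hu1 : u ≠ 1) (hu2 : u * u = 1) (hv1 : v ≠ 1) (hv2 : v * v = 1) {c : Ω}
    (hcu : u • c = c) (hcv : v • c = c) : (u * v) * (u * v) = 1 := by
  have := pretransitive hS
  obtain ⟨g, hg⟩ := MulAction.exists_smul_eq G c a
  have hu' := conj_mem_Ia hu1 hu2 hcu hg
  have hv' := conj_mem_Ia hv1 hv2 hcv hg
  have hcomm := invol_central hS h2 hu' _ (invol_mem_Q hS hv')
  have hcomm' : u * v = v * u := by
    calc u * v = g⁻¹ * ((g * u * g⁻¹) * (g * v * g⁻¹)) * g := by group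
      _ = g⁻¹ * ((g * v * g⁻¹) * (g * u * g⁻¹)) * g := by rw [hcomm]
      _ = v * u := by group
  calc u * v * (u * v) = u * (v * u) * v := by group
    _ = u * (u * v) * v := by rw [hcomm']
    _ = (u * u) * (v * v) := by group
    _ = 1 := by rw [hu2, hv2, one_mul]

/-- main theorem on products of two involutions -/
theorem prod_invol [Finite G] [FaithfulSMul G Ω] (hS : IsRankOneSetup G Ω a t Q)
    (h2 : ∃ x y : G, x ≠ 1 ∧ y ≠ 1 ∧ x ≠ y ∧ x * x = 1 ∧ y * y = 1 ∧ x * y = y * x)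
    (u v : G) (hu1 : u ≠ 1) (hu2 : u * u = 1) (hv1 : v ≠ 1) (hv2 : v * v = 1)
    (hx : (u * v) * (u * v) ≠ 1) :
    (∃ g : G, ∃ u' ∈ involutionsIn (MulAction.stabilizer G a : Set G),
        g * (u * v) * g⁻¹ = u' * t) ∧
      Odd (Nat.card ↥(Subgroup.centralizer {u * v})) := by
  obtain ⟨cu, hcu, -⟩ := involution_fix_unique hS hu1 hu2
  obtain ⟨cv, hcv, -⟩ := involution_fix_unique hS hv1 hv2
  have hne : cu ≠ cv := by
    intro h
    rw [← h] at hcv
    exact hx (same_fix_sq hS h2 hu1 hu2 hv1 hv2 hcu hcv)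
  constructor
  · obtain ⟨g₀, hg₀⟩ := invol_conj hS hv1 hv2 hS.ne_one hS.mul_self
    obtain ⟨ct, hct⟩ := Cfsg.Agent.S1127.exists_fixed hS
    have hcta : a ≠ ct := by
      rintro rfl
      exact rk1_ta_ne hS hct
    -- v fixes g₀⁻¹ • ct
    have hvfix : v • (g₀⁻¹ • ct) = g₀⁻¹ • ct := by
      have : v = g₀⁻¹ * t * g₀ := by rw [← hg₀]; group
      rw [this, mul_smul, mul_smul, smul_inv_smul, hct]
    have hcv' : g₀⁻¹ • ct = cv := Cfsg.Agent.S1127.invol_fix_unique hS hv2 hv1 hvfix hcv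
    have hgcu : g₀ • cu ≠ ct := by
      intro h
      apply hne
      rw [← hcv', ← h, inv_smul_smul]
    obtain ⟨w, hwt, hw⟩ := central_trans hS h2 hS.ne_one hS.mul_self hct hgcu hcta
    have hu' : (w * g₀) * u * (w * g₀)⁻¹ ∈ involutionsIn (MulAction.stabilizer G a : Set G) := by
      apply conj_mem_Ia hu1 hu2 hcu
      rw [mul_smul, hw]
    refine ⟨w * g₀, _, hu', ?_⟩
    have hwt' : w * t * w⁻¹ = t := by
      rw [hwt]; group
    calc w * g₀ * (u * v) * (w * g₀)⁻¹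
        = (w * g₀ * u * (w * g₀)⁻¹) * (w * (g₀ * v * g₀⁻¹) * w⁻¹) := by group
      _ = (w * g₀ * u * (w * g₀)⁻¹) * t := by rw [hg₀, hwt']
  · by_contra hcon
    rw [Nat.not_odd_iff_even] at hcon
    haveI : Fact (Nat.Prime 2) := ⟨Nat.prime_two⟩
    obtain ⟨s, hs⟩ := exists_prime_orderOf_dvd_card' 2 (even_iff_two_dvd.mp hcon)
    have hs' : orderOf (s : G) = 2 := by rw [Subgroup.orderOf_coe]; exact hs
    obtain ⟨hs1, hs2⟩ := orderOf_two_iff'.mp hs'
    have hsc : (s : G) * (u * v) = (u * v) * (s : G) := by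
      have := s.2
      rw [Subgroup.mem_centralizer_iff] at this
      exact (this (u * v) rfl).symm
    obtain ⟨cs, hcs, -⟩ := involution_fix_unique hS hs1 hs2
    have huinv : u⁻¹ = u := inv_eq_of_mul_eq_one_left hu2
    have hvinv : v⁻¹ = v := inv_eq_of_mul_eq_one_left hv2
    have hsinv : (s : G)⁻¹ = s := inv_eq_of_mul_eq_one_left hs2
    -- pick r ∈ {u, v} moving cs
    have key : ∀ r : G, r * r = 1 → r * (u * v) * r⁻¹ = (u * v)⁻¹ → r • cs ≠ cs → False := by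
      intro r hr2 hrinv hrcs
      have hodd := odd_orderOf_mul' hS hs1 hs2 hr2 hcs hrcs
      apply hx
      apply sq_eq_one_of_inverted_odd _ hodd
      calc (s : G) * r * (u * v) * ((s : G) * r)⁻¹
          = (s : G) * (r * (u * v) * r⁻¹) * (s : G)⁻¹ := by group
        _ = (s : G) * (u * v)⁻¹ * (s : G)⁻¹ := by rw [hrinv]
        _ = ((s : G) * (u * v) * (s : G)⁻¹)⁻¹ := by group
        _ = ((u * v) * (s : G) * (s : G)⁻¹)⁻¹ := by rw [hsc]
        _ = (u * v)⁻¹ := by group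
    by_cases h : u • cs = cs
    · have h1 : cs = cu := Cfsg.Agent.S1127.invol_fix_unique hS hu2 hu1 h hcu
      apply key v hv2
      · rw [mul_inv_rev, huinv, hvinv]
        calc v * (u * v) * v = v * u * (v * v) := by group
          _ = v * u := by rw [hv2, mul_one]
      · intro h'
        have h2' : cs = cv := Cfsg.Agent.S1127.invol_fix_unique hS hv2 hv1 h' hcv
        exact hne (h1.symm.trans h2')
    · apply key u hu2 _ h
      rw [mul_inv_rev, huinv, hvinv]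
      calc u * (u * v) * u = (u * u) * v * u := by group
        _ = v * u := by rw [hu2, one_mul]

end Cfsg.Agent.Lib.Helper22.RankOneC
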