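import Mathlib
import Cfsg.Agent.Lib.Helper28.RankOne
import Cfsg.Agent.S1125
import Cfsg.Agent.S1127

set_option autoImplicit false
open Cfsg
open Cfsg.Agent.Lib.Helper28
open MulAction

namespace Cfsg.Agent.Lib.Helper22.RankOneD

variable {G Ω : Type*} [Group G] [MulAction G Ω] {a : Ω} {t : G} {Q : Subgroup G}

/-- subsets of `V = C_D(t)` conjugate in `G` are conjugate in `V`, elementwise -/
theorem V_conj [Finite G] (hS : IsRankOneSetup G Ω a t Q) (X : Set G)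
    (hX : X ⊆ (((stabilizer G a ⊓ stabilizer G (t • a)) ⊓ Subgroup.centralizer {t} :
      Subgroup G) : Set G)) (g : G)
    (hY : (fun x => g * x * g⁻¹) '' X ⊆
      (((stabilizer G a ⊓ stabilizer G (t • a)) ⊓ Subgroup.centralizer {t} : Subgroup G) :
        Set G)) :
    ∃ v ∈ (stabilizer G a ⊓ stabilizer G (t • a)) ⊓ Subgroup.centralizer {t},
      ∀ x ∈ X, v * x * v⁻¹ = g * x * g⁻¹ := by
  have hta := rk1_ta_ne hS
  have htt := hS.mul_self
  have htinv := rk1_t_inv hS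
  have htb : t • (t • a) = a := rk1_tta hS
  obtain ⟨ct, hct⟩ := Cfsg.Agent.S1127.exists_fixed hS
  have hcta : ct ≠ a := by
    rintro rfl
    exact hta hct
  have hctb : ct ≠ t • a := by
    intro h
    apply hta
    rw [h, htb] at hct
    exact hct.symm
  have hVmem : ∀ y, y ∈ (((stabilizer G a ⊓ stabilizer G (t • a)) ⊓ Subgroup.centralizer {t} :
      Subgroup G) : Set G) → y • a = a ∧ y • (t • a) = t • a ∧ y * t = t * y := by
    intro y hy
    have hy' := Subgroup.mem_inf.mp (SetLike.mem_coe.mp hy)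
    have hyD := Subgroup.mem_inf.mp hy'.1
    refine ⟨MulAction.mem_stabilizer_iff.mp hyD.1, MulAction.mem_stabilizer_iff.mp hyD.2, ?_⟩
    have := Subgroup.mem_centralizer_iff.mp hy'.2 t rfl
    exact this.symm
  have hVct : ∀ y, y ∈ (((stabilizer G a ⊓ stabilizer G (t • a)) ⊓ Subgroup.centralizer {t} :
      Subgroup G) : Set G) → y • ct = ct := by
    intro y hy
    obtain ⟨_, _, hyt⟩ := hVmem y hy
    have : t • (y • ct) = y • ct := by rw [← mul_smul, ← hyt, mul_smul, hct]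
    exact Cfsg.Agent.S1127.invol_fix_unique hS htt hS.ne_one this hct
  obtain ⟨Y, hYdef⟩ : ∃ Y : Set G, Y = (fun x => g * x * g⁻¹) '' X := ⟨_, rfl⟩
  rw [← hYdef] at hY
  have hYmem : ∀ x ∈ X, g * x * g⁻¹ ∈ Y := by
    intro x hx
    rw [hYdef]
    exact ⟨x, hx, rfl⟩
  have hYD : Y ⊆ ((stabilizer G a ⊓ stabilizer G (t • a) : Subgroup G) : Set G) := by
    intro y hy
    exact (Subgroup.mem_inf.mp (SetLike.mem_coe.mp (hY hy))).1
  have h3 : ∃ b c d : Ω, b ≠ c ∧ b ≠ d ∧ c ≠ d ∧ ∀ x ∈ Y, x • b = b ∧ x • c = c ∧ x • d = d :=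
    ⟨a, t • a, ct, hta.symm, hcta.symm, hctb.symm, fun y hy =>
      ⟨(hVmem y (hY hy)).1, (hVmem y (hY hy)).2.1, hVct y (hY hy)⟩⟩
  obtain ⟨htrans, -, -⟩ := Cfsg.Agent.S1125.result hS Y hYD h3
  have hYg : ∀ y ∈ Y, y • (g • a) = g • a ∧ y • (g • (t • a)) = g • (t • a) := by
    intro y hy
    rw [hYdef] at hy
    obtain ⟨x, hx, rfl⟩ := hy
    obtain ⟨hxa, hxb, _⟩ := hVmem x (hX hx)
    constructor
    · show (g * x * g⁻¹) • (g • a) = g • a
      rw [mul_smul, mul_smul, inv_smul_smul, hxa]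
    · show (g * x * g⁻¹) • (g • (t • a)) = g • (t • a)
      rw [mul_smul, mul_smul, inv_smul_smul, hxb]
  obtain ⟨c₀, hc₀, hc₀a, hc₀b⟩ := htrans (g • a) (g • (t • a)) a (t • a)
    (fun y hy => ⟨(hYg y hy).1, (hYg y hy).2, (hVmem y (hY hy)).1, (hVmem y (hY hy)).2.1⟩)
    (fun h => hta (smul_left_cancel g h).symm) hta.symm
  obtain ⟨g', hg'⟩ : ∃ g' : G, g' = c₀ * g := ⟨_, rfl⟩
  have hg'a : g' • a = a := by rw [hg', mul_smul, hc₀a]
  have hg'b : g' • (t • a) = t • a := by rw [hg', mul_smul, hc₀b]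
  have hg'x : ∀ x ∈ X, g' * x * g'⁻¹ = g * x * g⁻¹ := by
    intro x hx
    have := Subgroup.mem_centralizer_iff.mp hc₀ _ (hYmem x hx)
    calc g' * x * g'⁻¹ = c₀ * (g * x * g⁻¹) * c₀⁻¹ := by rw [hg']; group
      _ = (g * x * g⁻¹) * c₀ * c₀⁻¹ := by rw [this]
      _ = g * x * g⁻¹ := by group
  obtain ⟨t', ht'⟩ : ∃ t' : G, t' = g'⁻¹ * t * g' := ⟨_, rfl⟩
  have ht'2 : t' * t' = 1 := by
    have : t' * t' = g'⁻¹ * (t * t) * g' := by rw [ht']; group
    rw [this, htt]; group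
  have ht'inv : t'⁻¹ = t' := inv_eq_of_mul_eq_one_left ht'2
  have ht'x : ∀ x ∈ X, t' * x = x * t' := by
    intro x hx
    obtain ⟨_, _, hyt⟩ := hVmem _ (hY (hYmem x hx))
    rw [← hg'x x hx] at hyt
    calc t' * x = g'⁻¹ * (t * (g' * x * g'⁻¹)) * g' := by rw [ht']; group
      _ = g'⁻¹ * ((g' * x * g'⁻¹) * t) * g' := by rw [hyt]
      _ = x * t' := by rw [ht']; group
  have hg'inva : g'⁻¹ • a = a := by rw [inv_smul_eq_iff, hg'a]
  have hg'invb : g'⁻¹ • (t • a) = t • a := by rw [inv_smul_eq_iff, hg'b]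
  have ht'a : t' • a = t • a := by rw [ht', mul_smul, mul_smul, hg'a, hg'invb]
  have ht'b : t' • (t • a) = a := by rw [ht', mul_smul, mul_smul, hg'b, htb, hg'inva]
  obtain ⟨y, hy⟩ : ∃ y : G, y = t * t' := ⟨_, rfl⟩
  have hya : y • a = a := by rw [hy, mul_smul, ht'a, htb]
  have hyb : y • (t • a) = t • a := by rw [hy, mul_smul, ht'b]
  have hyD : y ∈ stabilizer G a ⊓ stabilizer G (t • a) :=
    Subgroup.mem_inf.mpr ⟨MulAction.mem_stabilizer_iff.mpr hya, MulAction.mem_stabilizer_iff.mpr hyb⟩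
  have hyx : ∀ x ∈ X, y * x = x * y := by
    intro x hx
    obtain ⟨_, _, hxt⟩ := hVmem x (hX hx)
    rw [hy, mul_assoc, ht'x x hx, ← mul_assoc, ← hxt, mul_assoc]
  have hyinv : t * y * t⁻¹ = y⁻¹ := by
    rw [hy, mul_inv_rev, htinv, ht'inv]
    calc t * (t * t') * t = (t * t) * t' * t := by group
      _ = t' * t := by rw [htt, one_mul]
  have hodd : Odd (orderOf y) := by
    have h1 : orderOf y ∣ Nat.card ↥(stabilizer G a ⊓ stabilizer G (t • a)) :=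
      Subgroup.orderOf_dvd_natCard _ hyD
    exact Odd.of_dvd_nat hS.odd_card h1
  obtain ⟨m, hm⟩ := hodd
  obtain ⟨c₁, hc₁⟩ : ∃ c₁ : G, c₁ = y ^ (m + 1) := ⟨_, rfl⟩
  have hc₁D : c₁ ∈ stabilizer G a ⊓ stabilizer G (t • a) := by
    rw [hc₁]; exact Subgroup.pow_mem _ hyD _
  have hc₁sq : c₁ * c₁ = y := by
    rw [hc₁, ← pow_add]
    have : m + 1 + (m + 1) = orderOf y + 1 := by omega
    rw [this, pow_succ, pow_orderOf_eq_one, one_mul]
  have hc₁inv : t * c₁ * t⁻¹ = c₁⁻¹ := by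
    rw [hc₁, ← conj_pow, hyinv, inv_pow]
  have hc₁x : ∀ x ∈ X, c₁ * x = x * c₁ := by
    intro x hx
    rw [hc₁]
    exact (Commute.pow_left (show Commute y x from hyx x hx) _).eq
  have hconj : c₁⁻¹ * t * c₁ = t' := by
    have h1 : t * c₁⁻¹ * t⁻¹ = c₁ := by
      calc t * c₁⁻¹ * t⁻¹ = (t * c₁ * t⁻¹)⁻¹ := by group
        _ = c₁ := by rw [hc₁inv, inv_inv]
    calc c₁⁻¹ * t * c₁ = t * (t⁻¹ * c₁⁻¹ * t) * c₁ := by group
      _ = t * (t * c₁⁻¹ * t⁻¹) * c₁ := by rw [htinv]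
      _ = t * c₁ * c₁ := by rw [h1]
      _ = t * (c₁ * c₁) := by group
      _ = t' := by rw [hc₁sq, hy, ← mul_assoc, htt, one_mul]
  refine ⟨g' * c₁⁻¹, ?_, ?_⟩
  · refine Subgroup.mem_inf.mpr ⟨?_, ?_⟩
    · exact Subgroup.mul_mem _ (Subgroup.mem_inf.mpr ⟨MulAction.mem_stabilizer_iff.mpr hg'a,
        MulAction.mem_stabilizer_iff.mpr hg'b⟩) (Subgroup.inv_mem _ hc₁D)
    · rw [Subgroup.mem_centralizer_iff]
      intro z hz
      rw [Set.mem_singleton_iff] at hz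
      rw [hz]
      calc t * (g' * c₁⁻¹) = g' * (g'⁻¹ * t * g') * c₁⁻¹ := by group
        _ = g' * (c₁⁻¹ * t * c₁) * c₁⁻¹ := by rw [← ht', ← hconj]
        _ = g' * c₁⁻¹ * t := by group
  · intro x hx
    rw [← hg'x x hx]
    have := hc₁x x hx
    calc g' * c₁⁻¹ * x * (g' * c₁⁻¹)⁻¹ = g' * (c₁⁻¹ * (x * c₁)) * g'⁻¹ := by group
      _ = g' * (c₁⁻¹ * (c₁ * x)) * g'⁻¹ := by rw [this]
      _ = g' * x * g'⁻¹ := by group

end Cfsg.Agent.Lib.Helper22.RankOneD
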