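import Mathlib
import Cfsg.Agent.S5357

/-! Linear algebra over `ZMod 3` for the reflection groups: test vectors separating reflections,
common orthogonal vectors. -/

set_option autoImplicit false
open scoped MatrixGroups
open Cfsg Matrix QuadraticMap Cfsg.Agent.Lib.Helper19.OrthRefl

namespace Cfsg.Agent.Lib.Helper22.ReflPrimA

variable {n : ℕ} (Q : QuadraticForm (ZMod 3) (Fin n → ZMod 3))

theorem Q_add (a b : Fin n → ZMod 3) : Q (a + b) = Q a + Q b + polar (⇑Q) a b := by
  unfold QuadraticMap.polar; ring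

theorem Q_smul (t : ZMod 3) (a : Fin n → ZMod 3) : Q (t • a) = t * t * Q a := by
  rw [QuadraticMap.map_smul]; rfl

theorem polar_smul_r (t : ZMod 3) (a b : Fin n → ZMod 3) :
    polar (⇑Q) a (t • b) = t * polar (⇑Q) a b := by
  rw [QuadraticMap.polar_smul_right]; rfl

theorem polar_smul_l (t : ZMod 3) (a b : Fin n → ZMod 3) :
    polar (⇑Q) (t • a) b = t * polar (⇑Q) a b := by
  rw [QuadraticMap.polar_smul_left]; rfl

/-- equal reflections have the same orthogonal vectors -/
theorem polar_eq_zero_of_refl_eq {a b : Fin n → ZMod 3} (ha : Q a ≠ 0) (hb : Q b ≠ 0)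
    (h : refl Q a ha = refl Q b hb) {x : Fin n → ZMod 3} (hx : polar (⇑Q) a x = 0) :
    polar (⇑Q) b x = 0 := by
  have h1 : act (refl Q a ha) x = x := act_refl_of_polar_eq_zero Q a ha x hx
  rw [h, act_refl] at h1
  have h2 : ((Q b)⁻¹ * polar (⇑Q) b x) • b = 0 := sub_eq_self.mp h1
  rcases smul_eq_zero.mp h2 with h3 | h3
  · rcases mul_eq_zero.mp h3 with h4 | h4
    · exact absurd (inv_eq_zero.mp h4) hb
    · exact h4
  · exfalso; apply hb; rw [h3, QuadraticMap.map_zero]

/-- reflections in orthogonal vectors are different -/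
theorem refl_ne_of_polar_eq_zero {a b : Fin n → ZMod 3} (ha : Q a ≠ 0) (hb : Q b ≠ 0)
    (hab : polar (⇑Q) a b = 0) : refl Q a ha ≠ refl Q b hb := by
  intro h
  have h1 := polar_eq_zero_of_refl_eq Q ha hb h hab
  rw [polar_self'] at h1
  rcases mul_eq_zero.mp h1 with h2 | h2
  · exact Cfsg.Agent.S5357.z3_two h2
  · exact hb h2

theorem orth0 (hQ : (QuadraticMap.polarBilin Q).Nondegenerate) (hn : 2 ≤ n)
    (t : ZMod 3) (ht : t ≠ 0) : ∃ u : Fin n → ZMod 3, Q u = t := by
  obtain ⟨u, _, hu⟩ := Cfsg.Agent.S5357.exists_orth_norm Q hQ 0 (fun i => i.elim0)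
    (fun i => i.elim0) (fun i => i.elim0) (by rw [Fintype.card_fin]; omega) t ht
  exact ⟨u, hu⟩

theorem orth1 (hQ : (QuadraticMap.polarBilin Q).Nondegenerate) (hn : 3 ≤ n)
    {v : Fin n → ZMod 3} (hv : Q v ≠ 0)
    (t : ZMod 3) (ht : t ≠ 0) : ∃ u : Fin n → ZMod 3, polar (⇑Q) v u = 0 ∧ Q u = t := by
  obtain ⟨u, huo, hu⟩ := Cfsg.Agent.S5357.exists_orth_norm Q hQ 1 ![v]
    (by
      intro i j hij
      exact absurd (Subsingleton.elim i j) hij)
    (by
      intro i
      fin_cases i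
      exact hv) (by rw [Fintype.card_fin]; omega) t ht
  exact ⟨u, huo 0, hu⟩

theorem orth2 (hQ : (QuadraticMap.polarBilin Q).Nondegenerate) (hn : 4 ≤ n)
    {v w : Fin n → ZMod 3} (hv : Q v ≠ 0) (hw : Q w ≠ 0) (hvw : polar (⇑Q) v w = 0)
    (t : ZMod 3) (ht : t ≠ 0) :
    ∃ u : Fin n → ZMod 3, polar (⇑Q) v u = 0 ∧ polar (⇑Q) w u = 0 ∧ Q u = t := by
  obtain ⟨u, huo, hu⟩ := Cfsg.Agent.S5357.exists_orth_norm Q hQ 2 ![v, w]
    (by
      intro i j hij
      fin_cases i <;> fin_cases j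
      · exact absurd rfl hij
      · exact hvw
      · show polar (⇑Q) w v = 0
        rw [QuadraticMap.polar_comm]; exact hvw
      · exact absurd rfl hij)
    (by
      intro i
      fin_cases i
      · exact hv
      · exact hw) (by rw [Fintype.card_fin]; omega) t ht
  exact ⟨u, huo 0, huo 1, hu⟩

theorem orth3 (hQ : (QuadraticMap.polarBilin Q).Nondegenerate) (hn : 5 ≤ n)
    {v w x : Fin n → ZMod 3} (hv : Q v ≠ 0) (hw : Q w ≠ 0) (hx : Q x ≠ 0)
    (hvw : polar (⇑Q) v w = 0) (hvx : polar (⇑Q) v x = 0) (hwx : polar (⇑Q) w x = 0)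
    (t : ZMod 3) (ht : t ≠ 0) :
    ∃ u : Fin n → ZMod 3, polar (⇑Q) v u = 0 ∧ polar (⇑Q) w u = 0 ∧ polar (⇑Q) x u = 0 ∧
      Q u = t := by
  obtain ⟨u, huo, hu⟩ := Cfsg.Agent.S5357.exists_orth_norm Q hQ 3 ![v, w, x]
    (by
      intro i j hij
      fin_cases i <;> fin_cases j
      · exact absurd rfl hij
      · exact hvw
      · exact hvx
      · show polar (⇑Q) w v = 0
        rw [QuadraticMap.polar_comm]; exact hvw
      · exact absurd rfl hij
      · exact hwx
      · show polar (⇑Q) x v = 0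
        rw [QuadraticMap.polar_comm]; exact hvx
      · show polar (⇑Q) x w = 0
        rw [QuadraticMap.polar_comm]; exact hwx
      · exact absurd rfl hij)
    (by
      intro i
      fin_cases i
      · exact hv
      · exact hw
      · exact hx) (by rw [Fintype.card_fin]; omega) t ht
  exact ⟨u, huo 0, huo 1, huo 2, hu⟩

end Cfsg.Agent.Lib.Helper22.ReflPrimA
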