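import Mathlib
import Cfsg.Agent.Lib.Helper22.ReflPrimA

/-! Test vectors for reflections over `ZMod 3`. -/

set_option autoImplicit false
open scoped MatrixGroups
open Cfsg Matrix QuadraticMap Cfsg.Agent.Lib.Helper19.OrthRefl
open Cfsg.Agent.Lib.Helper22.ReflPrimA

namespace Cfsg.Agent.Lib.Helper22.ReflPrimB

variable {n : ℕ} (Q : QuadraticForm (ZMod 3) (Fin n → ZMod 3))

theorem z3_a : ∀ c b : ZMod 3, c ≠ 0 → b + (b * c) * (2 * c) = 0 := by decide
theorem z3_b : ∀ c b : ZMod 3, c ≠ 0 → b ≠ 0 → c + (b * c) * (b * c) * c + (b * c) * b = 0 := by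
  decide
theorem z3_c : ∀ c q g : ZMod 3, g ≠ 0 → q + ((c - q) * g) * g = c := by decide
theorem z3_d : ∀ c g : ZMod 3, c ≠ 0 → g ≠ 0 → (g * c) * (g * c) * c + (g * c) * g ≠ 0 := by
  decide
theorem z3_e : ∀ c : ZMod 3, c ≠ 0 → 2 * c ≠ 0 := by decide
theorem z3_f : ∀ c : ZMod 3, c + c + -c = c := by decide

/-- commuting case: a vector orthogonal to `v` but not to `w`, and a witness `u₁` -/
theorem test_comm (hQ : (QuadraticMap.polarBilin Q).Nondegenerate) (hn : 5 ≤ n)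
    (c : ZMod 3) (hc : c ≠ 0) {v w : Fin n → ZMod 3} (hv : Q v = c) (hw : Q w = c)
    (hvw : polar (⇑Q) v w = 0) :
    ∃ y u : Fin n → ZMod 3, Q y = c ∧ Q u = c ∧ polar (⇑Q) v y = 0 ∧ polar (⇑Q) y w ≠ 0 ∧
      polar (⇑Q) w u = 0 ∧ polar (⇑Q) y u ≠ 0 := by
  have hv0 : Q v ≠ 0 := by rw [hv]; exact hc
  have hw0 : Q w ≠ 0 := by rw [hw]; exact hc
  obtain ⟨u₁, h1v, h1w, h1⟩ := orth2 Q hQ (by omega) hv0 hw0 hvw c hc
  have hu0 : Q u₁ ≠ 0 := by rw [h1]; exact hc
  obtain ⟨u₂, h2v, h2w, h2u, h2⟩ := orth3 Q hQ hn hv0 hw0 hu0 hvw h1v h1w (-c)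
    (neg_ne_zero.mpr hc)
  refine ⟨w + u₁ + u₂, u₁, ?_, h1, ?_, ?_, h1w, ?_⟩
  · rw [Q_add, Q_add, QuadraticMap.polar_add_left, h1w, h2w, h2u, hw, h1, h2]
    simp only [add_zero]
    exact z3_f c
  · rw [QuadraticMap.polar_add_right, QuadraticMap.polar_add_right, hvw, h1v, h2v]
    simp
  · rw [QuadraticMap.polar_add_left, QuadraticMap.polar_add_left, polar_self', hw,
      QuadraticMap.polar_comm (⇑Q) u₁ w, h1w, QuadraticMap.polar_comm (⇑Q) u₂ w, h2w]
    simp only [add_zero]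
    exact z3_e c hc
  · rw [QuadraticMap.polar_add_left, QuadraticMap.polar_add_left, polar_self', h1, h1w,
      QuadraticMap.polar_comm (⇑Q) u₂ u₁, h2u]
    simp only [add_zero, zero_add]
    exact z3_e c hc

/-- non-commuting case: a vector orthogonal to `v` but not to `w`, and a common orthogonal
vector of norm `c` -/
theorem test_noncomm (hQ : (QuadraticMap.polarBilin Q).Nondegenerate) (hn : 5 ≤ n)
    (c : ZMod 3) (hc : c ≠ 0) {v w : Fin n → ZMod 3} (hv : Q v = c) (hw : Q w = c)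
    (hvw : polar (⇑Q) v w ≠ 0)
    (hne : ∀ (h1 : Q v ≠ 0) (h2 : Q w ≠ 0), refl Q v h1 ≠ refl Q w h2) :
    (∃ y : Fin n → ZMod 3, Q y = c ∧ polar (⇑Q) v y = 0 ∧ polar (⇑Q) y w ≠ 0) ∧
      ∃ u : Fin n → ZMod 3, Q u = c ∧ polar (⇑Q) v u = 0 ∧ polar (⇑Q) w u = 0 := by
  have hv0 : Q v ≠ 0 := by rw [hv]; exact hc
  have hw0 : Q w ≠ 0 := by rw [hw]; exact hc
  set β : ZMod 3 := polar (⇑Q) v w with hβ
  set a : ZMod 3 := β * c with ha
  set w' : Fin n → ZMod 3 := w + a • v with hw'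
  have hvv : polar (⇑Q) v v = 2 * c := by rw [polar_self', hv]
  have e1 : polar (⇑Q) v w' = 0 := by
    rw [hw', QuadraticMap.polar_add_right, polar_smul_r, hvv, ← hβ, ha]
    exact z3_a c β hc
  have e1' : polar (⇑Q) w' v = 0 := by rw [QuadraticMap.polar_comm]; exact e1
  have e2 : Q w' = 0 := by
    rw [hw', Q_add, Q_smul, polar_smul_r, QuadraticMap.polar_comm (⇑Q) w v, ← hβ, hw, hv, ha]
    exact z3_b c β hc hvw
  have hww : polar (⇑Q) w' w' = 0 := by rw [polar_self', e2, mul_zero]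
  have hwexp : w = w' + (-a) • v := by
    rw [hw', neg_smul]; abel
  have e3 : w' ≠ 0 := by
    intro h0
    have ha0 : a ≠ 0 := mul_ne_zero hvw hc
    have hwv : w = (-a) • v := by rw [hwexp, h0, zero_add]
    have hq : Q ((-a) • v) ≠ 0 := by rw [← hwv]; exact hw0
    have := refl_smul Q v hv0 (-a) (neg_ne_zero.mpr ha0) hq
    apply hne hv0 hw0
    rw [← this]
    exact (Cfsg.Agent.S5357.refl_eq_of_eq Q hwv hw0 hq).symm
  obtain ⟨x, hx⟩ : ∃ x, polar (⇑Q) w' x ≠ 0 := by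
    by_contra hcon
    push Not at hcon
    apply e3
    apply hQ.1 w'
    intro y
    rw [QuadraticMap.polarBilin_apply_apply]
    exact hcon y
  set p : ZMod 3 := polar (⇑Q) v x with hp
  set μ : ZMod 3 := p * c with hμ
  set x' : Fin n → ZMod 3 := x + μ • v with hx'
  have e4 : polar (⇑Q) v x' = 0 := by
    rw [hx', QuadraticMap.polar_add_right, polar_smul_r, hvv, ← hp, hμ]
    exact z3_a c p hc
  set γ : ZMod 3 := polar (⇑Q) w' x with hγ
  have e5 : polar (⇑Q) w' x' = γ := by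
    rw [hx', QuadraticMap.polar_add_right, polar_smul_r, e1', mul_zero, add_zero]
  have e5' : polar (⇑Q) x' w' = γ := by rw [QuadraticMap.polar_comm]; exact e5
  set q : ZMod 3 := Q x' with hq
  set l : ZMod 3 := (c - q) * γ with hl
  set y : Fin n → ZMod 3 := x' + l • w' with hy
  have e6 : Q y = c := by
    rw [hy, Q_add, Q_smul, e2, polar_smul_r, e5', mul_zero, add_zero, ← hq, hl]
    exact z3_c c q γ hx
  have e7 : polar (⇑Q) v y = 0 := by
    rw [hy, QuadraticMap.polar_add_right, polar_smul_r, e4, e1, mul_zero, add_zero]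
  have e7' : polar (⇑Q) y v = 0 := by rw [QuadraticMap.polar_comm]; exact e7
  have e8 : polar (⇑Q) y w' = γ := by
    rw [hy, QuadraticMap.polar_add_left, polar_smul_l, e5', hww, mul_zero, add_zero]
  have e8' : polar (⇑Q) w' y = γ := by rw [QuadraticMap.polar_comm]; exact e8
  have e9 : polar (⇑Q) y w = γ := by
    rw [hwexp, QuadraticMap.polar_add_right, polar_smul_r, e8, e7', mul_zero, add_zero]
  refine ⟨⟨y, e6, e7, by rw [e9]; exact hx⟩, ?_⟩
  -- the common orthogonal vector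
  set ν : ZMod 3 := γ * c with hν
  set b : Fin n → ZMod 3 := w' + ν • y with hb
  have hyy : polar (⇑Q) y y = 2 * c := by rw [polar_self', e6]
  have f1 : polar (⇑Q) y b = 0 := by
    rw [hb, QuadraticMap.polar_add_right, polar_smul_r, e8, hyy, hν]
    exact z3_a c γ hc
  have f2 : polar (⇑Q) v b = 0 := by
    rw [hb, QuadraticMap.polar_add_right, polar_smul_r, e1, e7, mul_zero, add_zero]
  have f3 : Q b ≠ 0 := by
    rw [hb, Q_add, Q_smul, polar_smul_r, e2, e6, e8', zero_add, hν]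
    exact z3_d c γ hc hx
  have hy0 : Q y ≠ 0 := by rw [e6]; exact hc
  obtain ⟨u, huv, huy, hub, hu⟩ := orth3 Q hQ hn hv0 hy0 f3 e7 f2 f1 c hc
  refine ⟨u, hu, huv, ?_⟩
  have hwb : w = b + (-ν) • y + (-a) • v := by
    rw [hwexp, hb, neg_smul, neg_smul]; abel
  rw [hwb, QuadraticMap.polar_add_left, QuadraticMap.polar_add_left, polar_smul_l, polar_smul_l,
    hub, huy, huv]
  simp

end Cfsg.Agent.Lib.Helper22.ReflPrimB
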