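import Mathlib
import Cfsg.Agent.Lib.Helper22.ReflPrimB

/-! The class of reflections of norm `c` over `ZMod 3`: trivial V- and W-classes, connected
commuting graph. -/

set_option autoImplicit false
open scoped MatrixGroups
open Cfsg Matrix QuadraticMap Cfsg.Agent.Lib.Helper19.OrthRefl
open Cfsg.Agent.Lib.Helper22.ReflPrimA Cfsg.Agent.Lib.Helper22.ReflPrimB
open Cfsg.Agent.S5357

namespace Cfsg.Agent.Lib.Helper22.ReflPrimC

variable (n : ℕ) (Q : QuadraticForm (ZMod 3) (Fin n → ZMod 3)) (c : ZMod 3) (hc : c ≠ 0)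

/-- the reflections of norm `c` inside the reflection subgroup -/
abbrev Dset : Set ↥(Cfsg.reflectionSubgroup (⇑Q) c) :=
  {g : ↥(Cfsg.reflectionSubgroup (⇑Q) c) |
    (g : ↥(Cfsg.isometryGroup (ZMod 3) (⇑Q))) ∈ Cfsg.reflectionsOfNorm (⇑Q) c}

theorem mem_D (g : ↥(Cfsg.reflectionSubgroup (⇑Q) c)) :
    g ∈ Dset n Q c ↔ ∃ (v : Fin n → ZMod 3) (hv : Q v = c), g = rR n Q c hc hv := by
  constructor
  · intro h
    obtain ⟨v, hv, hg⟩ := (mem_Rn_iff n Q c hc g.1).mp h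
    exact ⟨v, hv, Subtype.ext hg⟩
  · rintro ⟨v, hv, rfl⟩
    exact (mem_Rn_iff n Q c hc _).mpr ⟨v, hv, rfl⟩

theorem rR_mem {v : Fin n → ZMod 3} (hv : Q v = c) : rR n Q c hc hv ∈ Dset n Q c :=
  (mem_D n Q c hc _).mpr ⟨v, hv, rfl⟩

theorem rR_eq_of_commute {v w : Fin n → ZMod 3} (hv : Q v = c) (hw : Q w = c)
    (h : polar (⇑Q) v w ≠ 0) (hcomm : Commute (rR n Q c hc hv) (rR n Q c hc hw)) :
    rR n Q c hc hv = rR n Q c hc hw := by
  have hb := rR_braid n Q c hc hv hw h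
  have hvv := rR_mul_self n Q c hc hv
  have hww := rR_mul_self n Q c hc hw
  have hcm : rR n Q c hc hv * rR n Q c hc hw = rR n Q c hc hw * rR n Q c hc hv := hcomm.eq
  calc rR n Q c hc hv = rR n Q c hc hv * (rR n Q c hc hw * rR n Q c hc hw) := by
        rw [hww, mul_one]
    _ = rR n Q c hc hw * rR n Q c hc hv * rR n Q c hc hw := by rw [← mul_assoc, hcm]
    _ = rR n Q c hc hv * rR n Q c hc hw * rR n Q c hc hv := hb
    _ = rR n Q c hc hw * (rR n Q c hc hv * rR n Q c hc hv) := by rw [hcm, mul_assoc]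
    _ = rR n Q c hc hw := by rw [hvv, mul_one]

theorem rR_ne_of_orth {v w : Fin n → ZMod 3} (hv : Q v = c) (hw : Q w = c)
    (h : polar (⇑Q) v w = 0) : rR n Q c hc hv ≠ rR n Q c hc hw := by
  intro he
  exact refl_ne_of_polar_eq_zero Q (ne0 n Q c hc hv) (ne0 n Q c hc hw) h
    (congrArg Subtype.val he)

theorem rR_commute {v w : Fin n → ZMod 3} (hv : Q v = c) (hw : Q w = c)
    (h : polar (⇑Q) v w = 0) : Commute (rR n Q c hc hv) (rR n Q c hc hw) :=
  rR_comm n Q c hc hv hw h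

include hc in
theorem V_trivial (hQ : (QuadraticMap.polarBilin Q).Nondegenerate) (hn : 5 ≤ n)
    {d w : ↥(Cfsg.reflectionSubgroup (⇑Q) c)} (hd : d ∈ Dset n Q c) (hw : w ∈ Dset n Q c)
    (h : ∀ e ∈ Dset n Q c, Commute w e ↔ Commute d e) : w = d := by
  obtain ⟨v, hv, rfl⟩ := (mem_D n Q c hc d).mp hd
  obtain ⟨x, hx, rfl⟩ := (mem_D n Q c hc w).mp hw
  by_contra hne
  have hcomm : Commute (rR n Q c hc hx) (rR n Q c hc hv) :=
    (h _ hd).mpr (Commute.refl _)
  have hpol : polar (⇑Q) x v = 0 := by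
    by_contra hp
    exact hne (rR_eq_of_commute n Q c hc hx hv hp hcomm)
  have hpol' : polar (⇑Q) v x = 0 := by rw [QuadraticMap.polar_comm]; exact hpol
  obtain ⟨y, u, hy, hu, hvy, hyx, hxu, hyu⟩ := test_comm Q hQ hn c hc hv hx hpol'
  have h1 : Commute (rR n Q c hc hv) (rR n Q c hc hy) := rR_commute n Q c hc hv hy hvy
  have h2 : Commute (rR n Q c hc hx) (rR n Q c hc hy) :=
    (h _ (rR_mem n Q c hc hy)).mpr h1
  have h3 : rR n Q c hc hy = rR n Q c hc hx := rR_eq_of_commute n Q c hc hy hx hyx h2.symm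
  have h4 := polar_eq_zero_of_refl_eq Q (ne0 n Q c hc hx) (ne0 n Q c hc hy)
    (congrArg Subtype.val h3).symm hxu
  exact hyu h4

include hc in
theorem W_trivial (hQ : (QuadraticMap.polarBilin Q).Nondegenerate) (hn : 5 ≤ n)
    {d w : ↥(Cfsg.reflectionSubgroup (⇑Q) c)} (hd : d ∈ Dset n Q c) (hw : w ∈ Dset n Q c)
    (h : {y : ↥(Cfsg.reflectionSubgroup (⇑Q) c) | y ∈ Dset n Q c ∧ y ≠ d ∧ Commute d y} =
      {y : ↥(Cfsg.reflectionSubgroup (⇑Q) c) | y ∈ Dset n Q c ∧ y ≠ w ∧ Commute w y}) :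
    w = d := by
  obtain ⟨v, hv, rfl⟩ := (mem_D n Q c hc d).mp hd
  obtain ⟨x, hx, rfl⟩ := (mem_D n Q c hc w).mp hw
  by_contra hne
  by_cases hpol : polar (⇑Q) v x = 0
  · have hmem : rR n Q c hc hx ∈ {y : ↥(Cfsg.reflectionSubgroup (⇑Q) c) |
        y ∈ Dset n Q c ∧ y ≠ rR n Q c hc hv ∧ Commute (rR n Q c hc hv) y} :=
      ⟨hw, hne, rR_commute n Q c hc hv hx hpol⟩
    rw [h] at hmem
    exact hmem.2.1 rfl
  · have hne' : ∀ (h1 : Q v ≠ 0) (h2 : Q x ≠ 0), refl Q v h1 ≠ refl Q x h2 := by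
      intro h1 h2 he
      apply hne
      exact (Subtype.ext he).symm
    obtain ⟨⟨y, hy, hvy, hyx⟩, _⟩ := test_noncomm Q hQ hn c hc hv hx hpol hne'
    have hmem : rR n Q c hc hy ∈ {y : ↥(Cfsg.reflectionSubgroup (⇑Q) c) |
        y ∈ Dset n Q c ∧ y ≠ rR n Q c hc hv ∧ Commute (rR n Q c hc hv) y} :=
      ⟨rR_mem n Q c hc hy, (rR_ne_of_orth n Q c hc hv hy hvy).symm,
        rR_commute n Q c hc hv hy hvy⟩
    rw [h] at hmem
    obtain ⟨_, hyne, hcm⟩ := hmem
    exact hyne (rR_eq_of_commute n Q c hc hy hx hyx hcm.symm)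

include hc in
theorem two_members (hQ : (QuadraticMap.polarBilin Q).Nondegenerate) (hn : 5 ≤ n) :
    ∃ a ∈ Dset n Q c, ∃ b ∈ Dset n Q c, a ≠ b := by
  obtain ⟨u, hu⟩ := orth0 Q hQ (by omega) c hc
  obtain ⟨u', huu', hu'⟩ := orth1 Q hQ (by omega) (ne0 n Q c hc hu) c hc
  exact ⟨_, rR_mem n Q c hc hu, _, rR_mem n Q c hc hu', rR_ne_of_orth n Q c hc hu hu' huu'⟩

include hc in
theorem connected (hQ : (QuadraticMap.polarBilin Q).Nondegenerate) (hn : 5 ≤ n) :
    (Cfsg.commutingGraph (Dset n Q c)).Connected := by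
  rw [SimpleGraph.connected_iff]
  refine ⟨?_, ?_⟩
  · intro a b
    obtain ⟨v, hv, ha⟩ := (mem_D n Q c hc a.1).mp a.2
    obtain ⟨w, hw, hb⟩ := (mem_D n Q c hc b.1).mp b.2
    by_cases hab : a = b
    · rw [hab]
    have hab1 : rR n Q c hc hv ≠ rR n Q c hc hw := by
      intro he
      apply hab
      apply Subtype.ext
      rw [ha, hb, he]
    by_cases hp : polar (⇑Q) v w = 0
    · apply SimpleGraph.Adj.reachable
      unfold Cfsg.commutingGraph
      rw [SimpleGraph.fromRel_adj]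
      refine ⟨hab, Or.inl ?_⟩
      show Commute (a.1) (b.1)
      rw [ha, hb]
      exact rR_commute n Q c hc hv hw hp
    · have hne' : ∀ (h1 : Q v ≠ 0) (h2 : Q w ≠ 0), refl Q v h1 ≠ refl Q w h2 := by
        intro h1 h2 he
        apply hab1
        exact Subtype.ext he
      obtain ⟨_, u, hu, hvu, hwu⟩ := test_noncomm Q hQ hn c hc hv hw hp hne'
      let e : Dset n Q c := ⟨rR n Q c hc hu, rR_mem n Q c hc hu⟩
      have h1 : (Cfsg.commutingGraph (Dset n Q c)).Adj a e := by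
        unfold Cfsg.commutingGraph
        rw [SimpleGraph.fromRel_adj]
        refine ⟨?_, Or.inl ?_⟩
        · intro hae
          have : a.1 = e.1 := congrArg Subtype.val hae
          rw [ha] at this
          exact rR_ne_of_orth n Q c hc hv hu hvu this
        · show Commute (a.1) (e.1)
          rw [ha]
          exact rR_commute n Q c hc hv hu hvu
      have h2 : (Cfsg.commutingGraph (Dset n Q c)).Adj e b := by
        unfold Cfsg.commutingGraph
        rw [SimpleGraph.fromRel_adj]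
        refine ⟨?_, Or.inr ?_⟩
        · intro hae
          have : e.1 = b.1 := congrArg Subtype.val hae
          rw [hb] at this
          exact rR_ne_of_orth n Q c hc hw hu hwu this.symm
        · show Commute (b.1) (e.1)
          rw [hb]
          exact rR_commute n Q c hc hw hu hwu
      exact h1.reachable.trans h2.reachable
  · obtain ⟨u, hu⟩ := orth0 Q hQ (by omega) c hc
    exact ⟨⟨rR n Q c hc hu, rR_mem n Q c hc hu⟩⟩

end Cfsg.Agent.Lib.Helper22.ReflPrimC
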