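import Mathlib
import Cfsg.Agent.Lib.Helper9.SL23
import Cfsg.Agent.Lib.Helper9.QuatSylow
import Cfsg.Agent.Lib.Helper11.FrobeniusLocal

/-!
General lemmas for the analysis of two-point stabilisers of sharply triply transitive groups
(helper22): index-two subgroups from `2`-quotients, free actions, a normal `2`-complement
criterion for groups with cyclic or quaternion Sylow `2`-subgroups.
-/

set_option autoImplicit false
set_option maxHeartbeats 1000000

namespace Cfsg.Agent.Lib.Helper22.Sharp3A

/-- a nontrivial finite `2`-group has a subgroup of index two -/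
theorem exists_index_two_of_two_group {X : Type*} [Group X] [Finite X] (hX : IsPGroup 2 X)
    (hne : Nontrivial X) : ∃ K : Subgroup X, K.index = 2 := by
  haveI : Fact (Nat.Prime 2) := ⟨Nat.prime_two⟩
  obtain ⟨n, hn⟩ := IsPGroup.iff_card.mp hX
  rcases Nat.eq_zero_or_pos n with h0 | hpos
  · exfalso
    rw [h0, pow_zero] at hn
    have := Finite.one_lt_card (α := X)
    omega
  obtain ⟨m, rfl⟩ : ∃ m, n = m + 1 := ⟨n - 1, by omega⟩
  obtain ⟨K, hK⟩ := Sylow.exists_subgroup_card_pow_prime 2 (n := m) (G := X)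
    (by rw [hn]; exact pow_dvd_pow 2 (Nat.le_succ m))
  refine ⟨K, ?_⟩
  have h1 := K.card_mul_index
  rw [hK, hn, pow_succ] at h1
  exact Nat.eq_of_mul_eq_mul_left (by positivity) h1

/-- a surjection onto a nontrivial finite `2`-group yields a subgroup of index two -/
theorem exists_index_two_of_surj {D X : Type*} [Group D] [Group X] [Finite X] (φ : D →* X)
    (hφ : Function.Surjective φ) (hX : IsPGroup 2 X) (hne : Nontrivial X) :
    ∃ K : Subgroup D, K.index = 2 := by
  obtain ⟨K, hK⟩ := exists_index_two_of_two_group hX hne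
  exact ⟨K.comap φ, by rw [Subgroup.index_comap_of_surjective K hφ, hK]⟩

/-- a finite commutative group of even order has a subgroup of index two -/
theorem exists_index_two_of_even_comm {A : Type*} [Group A] [Finite A]
    (hc : ∀ a b : A, a * b = b * a) (h2 : 2 ∣ Nat.card A) : ∃ K : Subgroup A, K.index = 2 := by
  haveI : Fact (Nat.Prime 2) := ⟨Nat.prime_two⟩
  letI : CommGroup A := { (inferInstance : Group A) with mul_comm := hc }
  obtain ⟨R, hR⟩ : ∃ R : Subgroup A, R = (powMonoidHom 2 : A →* A).range := ⟨_, rfl⟩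
  have hsq : ∀ a : A, a ^ 2 ∈ R := by
    intro a
    rw [hR]
    exact ⟨a, rfl⟩
  have hP : IsPGroup 2 (A ⧸ R) := by
    intro q
    obtain ⟨a, rfl⟩ := QuotientGroup.mk_surjective q
    refine ⟨1, ?_⟩
    rw [pow_one, ← QuotientGroup.mk_pow]
    exact (QuotientGroup.eq_one_iff _).mpr (hsq a)
  have hne : Nontrivial (A ⧸ R) := by
    by_contra hnt
    rw [not_nontrivial_iff_subsingleton] at hnt
    have htop : ∀ a : A, a ∈ R := by
      intro a
      have := hnt.elim (QuotientGroup.mk a : A ⧸ R) 1
      exact (QuotientGroup.eq_one_iff a).mp this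
    have hsurj : Function.Surjective (powMonoidHom 2 : A →* A) := by
      intro a
      have := htop a
      rw [hR] at this
      exact this
    have hinj : Function.Injective (powMonoidHom 2 : A →* A) :=
      Finite.injective_iff_surjective.mpr hsurj
    obtain ⟨u, hu⟩ := exists_prime_orderOf_dvd_card' (G := A) 2 h2
    have hu1 : u ≠ 1 := by
      intro h
      rw [h, orderOf_one] at hu
      omega
    apply hu1
    apply hinj
    show u ^ 2 = 1 ^ 2
    rw [one_pow, ← hu, pow_orderOf_eq_one]
  exact exists_index_two_of_surj (QuotientGroup.mk' R) (QuotientGroup.mk'_surjective R) hP hne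

/-- elements of order prime to the index lie in a normal subgroup -/
theorem mem_of_coprime_index {X : Type*} [Group X] [Finite X] (N : Subgroup X) [N.Normal] (x : X)
    (h : Nat.Coprime (orderOf x) N.index) : x ∈ N := by
  have h1 : orderOf (QuotientGroup.mk' N x) ∣ orderOf x := orderOf_map_dvd _ x
  have h2 : orderOf (QuotientGroup.mk' N x) ∣ N.index := by
    rw [Subgroup.index_eq_card]
    exact orderOf_dvd_natCard _
  have h3 : orderOf (QuotientGroup.mk' N x) = 1 := Nat.eq_one_of_dvd_coprimes h h1 h2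
  rw [orderOf_eq_one_iff] at h3
  exact (QuotientGroup.eq_one_iff x).mp h3

/-- a free action of a finite group on a finite set: the group order divides the set size -/
theorem card_dvd_of_free {C X : Type*} [Group C] [MulAction C X]
    (h : ∀ (c : C) (x : X), c • x = x → c = 1) : Nat.card C ∣ Nat.card X := by
  have hs : ∀ x : X, MulAction.stabilizer C x = ⊥ := by
    intro x
    rw [eq_bot_iff]
    intro c hc
    rw [Subgroup.mem_bot]
    exact h c x (MulAction.mem_stabilizer_iff.mp hc)
  have e := MulAction.selfEquivOrbitsQuotientProd hs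
  rw [Nat.card_congr e, Nat.card_prod]
  exact dvd_mul_left _ _

/-- a fixed-point-free involutory automorphism is inversion -/
theorem inv_of_fpf {M : Type*} [Group M] [Finite M] (φ : M → M)
    (hmul : ∀ x y, φ (x * y) = φ x * φ y) (hinv : ∀ x, φ (φ x) = x)
    (hfix : ∀ x, φ x = x → x = 1) : ∀ x, φ x = x⁻¹ := by
  have h1 : φ 1 = 1 := by
    have h := hmul 1 1
    rw [mul_one] at h
    exact mul_left_cancel (a := φ 1) (by rw [mul_one]; exact h.symm)
  have hinvm : ∀ x, φ x⁻¹ = (φ x)⁻¹ := by
    intro x
    apply eq_inv_of_mul_eq_one_left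
    rw [← hmul, inv_mul_cancel, h1]
  have hinj : Function.Injective (fun x => x⁻¹ * φ x) := by
    intro x y hxy
    have hxy' : x⁻¹ * φ x = y⁻¹ * φ y := hxy
    have h2 : φ (y * x⁻¹) = y * x⁻¹ := by
      rw [hmul, hinvm]
      have h3 : φ y = y * (x⁻¹ * φ x) := by rw [hxy', mul_inv_cancel_left]
      rw [h3]
      group
    have h4 := hfix _ h2
    exact (mul_inv_eq_one.mp h4).symm
  have hsurj : Function.Surjective (fun x => x⁻¹ * φ x) :=
    Finite.injective_iff_surjective.mp hinj
  intro x
  obtain ⟨y, hy⟩ := hsurj x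
  have hy' : y⁻¹ * φ y = x := hy
  rw [← hy', hmul, hinvm, hinv, mul_inv_rev, inv_inv]

/-- a fixed-point-free involutory additive map is negation -/
theorem neg_of_fpf {A : Type*} [AddGroup A] [Finite A] (φ : A → A)
    (hadd : ∀ x y, φ (x + y) = φ x + φ y) (hinv : ∀ x, φ (φ x) = x)
    (hfix : ∀ x, φ x = x → x = 0) : ∀ x, φ x = -x := by
  have key := inv_of_fpf (M := Multiplicative A) (fun x => Multiplicative.ofAdd (φ (Multiplicative.toAdd x)))
    (fun x y => congrArg Multiplicative.ofAdd (hadd _ _))
    (fun x => congrArg Multiplicative.ofAdd (hinv _))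
    (fun x hx => by
      have h1 : φ (Multiplicative.toAdd x) = Multiplicative.toAdd x :=
        congrArg Multiplicative.toAdd hx
      exact congrArg Multiplicative.ofAdd (hfix _ h1))
  intro x
  exact congrArg Multiplicative.toAdd (key (Multiplicative.ofAdd x))

/-- normal `2`-complement criterion for groups whose Sylow `2`-subgroups are cyclic or embed in a
generalized quaternion group -/
theorem n2c {X : Type*} [Group X] [Finite X]
    (hX : ∀ T : Sylow 2 X, IsCyclic T ∨
      ∃ n : ℕ, ∃ ι : (T : Subgroup X) →* QuaternionGroup (2 ^ n), Function.Injective ι)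
    (T : Sylow 2 X) :
    (∃ K : Subgroup X, K.Normal ∧ K.IsComplement' (T : Subgroup X)) ∨
    ∃ (R : Subgroup X) (g : X), R ≤ (T : Subgroup X) ∧ g ∈ Subgroup.normalizer (R : Set X) ∧
      Odd (orderOf g) ∧ 3 ∣ orderOf g ∧ g ∉ Subgroup.centralizer (R : Set X) := by
  classical
  haveI : Fact (Nat.Prime 2) := ⟨Nat.prime_two⟩
  by_cases hloc : ∀ Q : Subgroup X, Q ≤ (T : Subgroup X) →
      ∀ g ∈ Subgroup.normalizer (Q : Set X), Nat.Coprime (orderOf g) 2 →
        g ∈ Subgroup.centralizer (Q : Set X)
  · left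
    exact Cfsg.Agent.Lib.Helper11.exists_normal_complement_of_local
      (Cfsg.Agent.Lib.Helper11.localPNilpotent_of_sylow T hloc) T
  · right
    simp only [not_forall] at hloc
    obtain ⟨Q, hQT, g, hgN, hgo, hgC⟩ := hloc
    have hodd : Odd (orderOf g) := Nat.Coprime.odd_of_right hgo
    obtain ⟨σ, hσ⟩ : ∃ σ : MulAut Q, σ = Q.normalizerMonoidHom ⟨g, hgN⟩ := ⟨_, rfl⟩
    have hσk : σ ^ orderOf g = 1 := by
      rw [hσ, ← map_pow]
      have : (⟨g, hgN⟩ : Subgroup.normalizer (Q : Set X)) ^ orderOf g = 1 := by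
        apply Subtype.ext
        rw [Subgroup.coe_pow, Subgroup.coe_one]
        exact pow_orderOf_eq_one g
      rw [this, map_one]
    have hσne : σ ≠ 1 := by
      intro h1
      apply hgC
      have h2 : (⟨g, hgN⟩ : Subgroup.normalizer (Q : Set X)) ∈ Q.normalizerMonoidHom.ker := by
        rw [MonoidHom.mem_ker, ← hσ, h1]
      rw [Subgroup.normalizerMonoidHom_ker, Subgroup.mem_subgroupOf] at h2
      exact h2
    have hQ8 : Nonempty (Q ≃* QuaternionGroup 2) := by
      rcases hX T with hcyc | ⟨n, ι, hι⟩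
      · exfalso
        haveI : IsCyclic Q :=
          isCyclic_of_injective (Subgroup.inclusion hQT) (Subgroup.inclusion_injective hQT)
        have hQp : IsPGroup 2 Q := T.2.to_le hQT
        obtain ⟨e, he⟩ := IsPGroup.iff_card.mp hQp
        exact hσne (Cfsg.Agent.Lib.Helper9.QuatSylow.eq_one_of_cyclic he σ hodd hσk)
      · exact Cfsg.Agent.Lib.Helper9.QuatSylow.nonempty_mulEquiv_quat8
          (ι.comp (Subgroup.inclusion hQT))
          (hι.comp (Subgroup.inclusion_injective hQT)) σ hodd hσk hσne
    obtain ⟨e⟩ := hQ8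
    obtain ⟨hσ3, -⟩ := Cfsg.Agent.Lib.Helper9.SLTwoThree.exists_adapted e σ hodd hσk hσne
    have h3 : 3 ∣ orderOf g := by
      have h1 : orderOf σ ∣ 3 := orderOf_dvd_of_pow_eq_one hσ3
      have h2 : orderOf σ ∣ orderOf g := orderOf_dvd_of_pow_eq_one hσk
      rcases (Nat.dvd_prime Nat.prime_three).mp h1 with h | h
      · exact absurd (orderOf_eq_one_iff.mp h) hσne
      · rwa [h] at h2
    exact ⟨Q, g, hQT, hgN, hodd, h3, hgC⟩

end Cfsg.Agent.Lib.Helper22.Sharp3A
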