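import Mathlib
import Cfsg.Agent.Lib.Helper22.Sharp3A

/-!
Group-theoretic steps towards an index-two subgroup of a two-point stabiliser (helper22):
a unique subgroup of order three is central when there is no subgroup of index two, and a central
subgroup of order three with cyclic Sylow `3`-subgroups gives a normal `3`-complement.
-/

set_option autoImplicit false
set_option maxHeartbeats 1000000

namespace Cfsg.Agent.Lib.Helper22.Sharp3B

/-- the conjugation stabiliser of an element -/
def conjFix {D : Type*} [Group D] (ω : D) : Subgroup D where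
  carrier := {d | d * ω * d⁻¹ = ω}
  mul_mem' := by
    intro a b ha hb
    have ha' : a * ω * a⁻¹ = ω := ha
    have hb' : b * ω * b⁻¹ = ω := hb
    show a * b * ω * (a * b)⁻¹ = ω
    have h : a * b * ω * (a * b)⁻¹ = a * (b * ω * b⁻¹) * a⁻¹ := by group
    rw [h, hb', ha']
  one_mem' := by
    show (1 : D) * ω * 1⁻¹ = ω
    group
  inv_mem' := by
    intro a ha
    have ha' : a * ω * a⁻¹ = ω := ha
    show a⁻¹ * ω * a⁻¹⁻¹ = ω
    calc a⁻¹ * ω * a⁻¹⁻¹ = a⁻¹ * (a * ω * a⁻¹) * a := by rw [ha', inv_inv]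
      _ = ω := by group

theorem orderOf_conj' {D : Type*} [Group D] (d x : D) : orderOf (d * x * d⁻¹) = orderOf x := by
  have := orderOf_injective (MulAut.conj d).toMonoidHom (MulAut.conj d).injective x
  simpa using this

/-- without subgroups of index two, a unique subgroup of order three is central -/
theorem central_of_order_three {D : Type*} [Group D] (hno : ∀ K : Subgroup D, K.index ≠ 2)
    (h3 : ∀ x y : D, orderOf x = 3 → orderOf y = 3 → y = x ∨ y = x⁻¹) (ω : D)
    (hω : orderOf ω = 3) : ∀ d : D, d * ω * d⁻¹ = ω := by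
  by_contra hcon
  push Not at hcon
  obtain ⟨d₁, hd₁⟩ := hcon
  have hne : ω⁻¹ ≠ ω := by
    intro h
    have h1 : ω * ω = 1 := by
      calc ω * ω = ω * ω⁻¹ := by rw [h]
        _ = 1 := mul_inv_cancel ω
    have h2 : orderOf ω ∣ 2 := orderOf_dvd_of_pow_eq_one (by rw [pow_two]; exact h1)
    rw [hω] at h2
    omega
  have hdich : ∀ b : D, b * ω * b⁻¹ = ω ∨ b * ω * b⁻¹ = ω⁻¹ :=
    fun b => h3 ω _ hω ((orderOf_conj' b ω).trans hω)
  have hd₁' : d₁ * ω * d₁⁻¹ = ω⁻¹ := (hdich d₁).resolve_left hd₁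
  apply hno (conjFix ω)
  rw [Subgroup.index_eq_two_iff]
  refine ⟨d₁, fun b => ?_⟩
  have hprod : b * d₁ * ω * (b * d₁)⁻¹ = (b * ω * b⁻¹)⁻¹ := by
    calc b * d₁ * ω * (b * d₁)⁻¹ = b * (d₁ * ω * d₁⁻¹) * b⁻¹ := by group
      _ = b * ω⁻¹ * b⁻¹ := by rw [hd₁']
      _ = (b * ω * b⁻¹)⁻¹ := by group
  rcases hdich b with hb | hb
  · right
    refine ⟨hb, ?_⟩
    intro h
    have h' : b * d₁ * ω * (b * d₁)⁻¹ = ω := h
    rw [hprod, hb] at h'
    exact hne h'
  · left
    refine ⟨?_, ?_⟩
    · show b * d₁ * ω * (b * d₁)⁻¹ = ω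
      rw [hprod, hb, inv_inv]
    · intro h
      have h' : b * ω * b⁻¹ = ω := h
      rw [hb] at h'
      exact hne h'

/-- a central element of order three and cyclic Sylow `3`-subgroups give a normal
`3`-complement -/
theorem exists_three_complement {D : Type*} [Group D] [Finite D]
    (hcyc : ∀ P : Sylow 3 D, IsCyclic P) (ω : D) (hω : orderOf ω = 3)
    (hcent : ∀ d : D, d * ω * d⁻¹ = ω) :
    ∃ M : Subgroup D, M.Normal ∧ ¬ 3 ∣ Nat.card M ∧ ∃ m : ℕ, M.index = 3 ^ m := by
  classical
  haveI : Fact (Nat.Prime 3) := ⟨Nat.prime_three⟩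
  have hzp : IsPGroup 3 (Subgroup.zpowers ω) := by
    apply IsPGroup.of_card (n := 1)
    rw [Nat.card_zpowers, hω, pow_one]
  obtain ⟨W, hW⟩ := hzp.exists_le_sylow
  have hωW : ω ∈ (W : Subgroup D) := hW (Subgroup.mem_zpowers ω)
  haveI : IsCyclic (W : Subgroup D) := hcyc W
  have hNC : Subgroup.normalizer (W : Set D) ≤ Subgroup.centralizer (W : Set D) := by
    rcases Sylow.normalizer_le_centralizer_or_le_commutator W with h | h
    · exact h
    · exfalso
      letI : CommGroup (W : Subgroup D) := IsCyclic.commGroup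
      obtain ⟨f, hf⟩ : ∃ f : D →* (W : Subgroup D),
          f = MonoidHom.transfer (MonoidHom.id (W : Subgroup D)) := ⟨_, rfl⟩
      have hker : commutator D ≤ f.ker := Abelianization.commutator_subset_ker f
      have hω1 : f ω = 1 := hker (h hωW)
      have key : ∀ (k : ℕ) (g₀ : D), g₀⁻¹ * ω ^ k * g₀ ∈ (W : Subgroup D) →
          g₀⁻¹ * ω ^ k * g₀ = ω ^ k := by
        intro k g₀ _
        have hc : Commute g₀ ω := by
          have h1 := hcent g₀
          exact mul_inv_eq_iff_eq_mul.mp h1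
        calc g₀⁻¹ * ω ^ k * g₀ = g₀⁻¹ * (ω ^ k * g₀) := mul_assoc _ _ _
          _ = g₀⁻¹ * (g₀ * ω ^ k) := by rw [(hc.pow_right k).eq]
          _ = ω ^ k := inv_mul_cancel_left _ _
      have h4 := MonoidHom.transfer_eq_pow (MonoidHom.id (W : Subgroup D)) ω key
      rw [← hf, hω1] at h4
      have h5 : ω ^ (W : Subgroup D).index = 1 := by
        have := congrArg Subtype.val h4
        simpa using this.symm
      have h6 : 3 ∣ (W : Subgroup D).index := by
        have h7 : orderOf ω ∣ (W : Subgroup D).index := orderOf_dvd_of_pow_eq_one h5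
        rwa [hω] at h7
      exact W.not_dvd_index h6
  refine ⟨(MonoidHom.transferSylow W hNC).ker, inferInstance,
    MonoidHom.not_dvd_card_ker_transferSylow W hNC, ?_⟩
  obtain ⟨m, hm⟩ := IsPGroup.iff_card.mp W.2
  refine ⟨m, ?_⟩
  rw [(MonoidHom.ker_transferSylow_isComplement' W hNC).symm.index_eq_card, hm]

end Cfsg.Agent.Lib.Helper22.Sharp3B
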