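import Mathlib
import Cfsg.Agent.Lib.Helper22.Sharp3A

/-!
Eigenspace splitting for a quaternion group acting freely on an elementary abelian `p`-group
(helper22): the order of the module is a square `(r+1)^2` and the order of every subgroup
commuting with the quaternion group divides `r`.
-/

set_option autoImplicit false
set_option maxHeartbeats 1000000

namespace Cfsg.Agent.Lib.Helper22.Sharp3C

open Cfsg.Agent.Lib.Helper22

theorem eigen_split {D V : Type*} [Group D] [AddCommGroup V] [Finite V] [DistribMulAction D V]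
    (p : ℕ) (hp : p.Prime) (hp2 : p ≠ 2) (hchar : ∀ v : V, p • v = 0)
    (hfree : ∀ d : D, ∀ v : V, v ≠ 0 → d • v = v → d = 1)
    (i j zz : D) (hzz1 : zz ≠ 1) (hzz2 : zz * zz = 1) (hii : i * i = zz) (hjj : j * j = zz)
    (hji : j * i = zz * (i * j)) :
    ∃ r : ℕ, Nat.card V = (r + 1) * (r + 1) ∧
      ∀ C : Subgroup D, (∀ c ∈ C, c * i = i * c ∧ c * j = j * c) → Nat.card C ∣ r := by
  classical
  haveI : Fact p.Prime := ⟨hp⟩
  have hzi : zz * i = i * zz := by rw [← hii, mul_assoc]
  have hzj : zz * j = j * zz := by rw [← hjj, mul_assoc]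
  have hneg : ∀ v : V, zz • v = -v := by
    apply Sharp3A.neg_of_fpf (fun v => zz • v)
    · intro x y
      exact smul_add zz x y
    · intro x
      show zz • zz • x = x
      rw [← mul_smul, hzz2, one_smul]
    · intro x hx
      by_contra hx0
      exact hzz1 (hfree zz x hx0 hx)
  obtain ⟨a, b, hab⟩ := ZMod.sq_add_sq p (-1)
  obtain ⟨α, hα⟩ : ∃ α : ℕ, α = a.val := ⟨_, rfl⟩
  obtain ⟨β, hβ⟩ : ∃ β : ℕ, β = b.val := ⟨_, rfl⟩
  have hdvd : p ∣ α * α + β * β + 1 := by
    rw [← ZMod.natCast_eq_zero_iff]
    push_cast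
    rw [hα, hβ, ZMod.natCast_zmod_val, ZMod.natCast_zmod_val]
    have h1 : a * a + b * b = -1 := by rw [← hab]; ring
    rw [h1]
    ring
  have hN : ∀ v : V, (α * α + β * β + 1) • v = 0 := by
    intro v
    obtain ⟨k, hk⟩ := hdvd
    rw [hk, mul_nsmul, hchar, nsmul_zero]
  obtain ⟨Jf, hJf⟩ : ∃ Jf : V → V, ∀ v, Jf v = α • (i • v) + β • (j • v) :=
    ⟨fun v => α • (i • v) + β • (j • v), fun _ => rfl⟩
  have hJadd : ∀ v w, Jf (v + w) = Jf v + Jf w := by
    intro v w
    rw [hJf, hJf, hJf]
    simp only [smul_add]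
    abel
  have hJ0 : Jf 0 = 0 := by
    rw [hJf]
    simp only [smul_zero, add_zero]
  have hJneg : ∀ v, Jf (-v) = -Jf v := by
    intro v
    have h1 := hJadd v (-v)
    rw [add_neg_cancel, hJ0] at h1
    exact (neg_eq_of_add_eq_zero_right h1.symm).symm
  have hJsub : ∀ v w, Jf (v - w) = Jf v - Jf w := by
    intro v w
    rw [sub_eq_add_neg, hJadd, hJneg, ← sub_eq_add_neg]
  have hJns : ∀ (n : ℕ) v, Jf (n • v) = n • Jf v := by
    intro n v
    rw [hJf, hJf, smul_comm i n v, smul_comm j n v, smul_comm α n, smul_comm β n, ← nsmul_add]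
  have hJJ : ∀ v, Jf (Jf v) = v := by
    intro v
    have e1 : i • i • v = -v := by rw [← mul_smul, hii, hneg]
    have e2 : j • j • v = -v := by rw [← mul_smul, hjj, hneg]
    have e3 : j • i • v = -(i • j • v) := by
      rw [← mul_smul, hji, mul_smul, hneg, mul_smul]
    rw [hJf (Jf v), hJf v]
    simp only [smul_add]
    rw [smul_comm i α, smul_comm i β, smul_comm j α, smul_comm j β, e1, e2, e3]
    have hNv := hN v
    obtain ⟨w, hw⟩ : ∃ w : V, w = i • j • v := ⟨_, rfl⟩
    rw [← hw]
    have h1 : α • α • -v + α • β • w + (β • α • -w + β • β • -v)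
        = v - (α * α + β * β + 1) • v := by
      module
    rw [h1, hNv, sub_zero]
  have hk1 : (i * j) * i = j := by
    calc (i * j) * i = i * (j * i) := mul_assoc _ _ _
      _ = i * (zz * (i * j)) := by rw [hji]
      _ = (i * zz) * (i * j) := by rw [mul_assoc]
      _ = (zz * i) * (i * j) := by rw [hzi]
      _ = zz * (i * i) * j := by simp only [mul_assoc]
      _ = j := by rw [hii, hzz2, one_mul]
  have hk2 : (i * j) * j = zz * i := by
    rw [mul_assoc, hjj, hzi]
  have hk3 : i * (i * j) = zz * j := by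
    rw [← mul_assoc, hii]
  have hk4 : j * (i * j) = i := by
    calc j * (i * j) = (j * i) * j := (mul_assoc _ _ _).symm
      _ = zz * (i * j) * j := by rw [hji]
      _ = zz * i * (j * j) := by simp only [mul_assoc]
      _ = zz * i * zz := by rw [hjj]
      _ = i * (zz * zz) := by rw [hzi, mul_assoc]
      _ = i := by rw [hzz2, mul_one]
  have hkJ : ∀ v, (i * j) • Jf v = -Jf ((i * j) • v) := by
    intro v
    rw [hJf v, hJf ((i * j) • v), smul_add, smul_comm (i * j) α, smul_comm (i * j) β,
      ← mul_smul (i * j) i, ← mul_smul (i * j) j, ← mul_smul i (i * j), ← mul_smul j (i * j),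
      hk1, hk2, hk3, hk4, mul_smul zz i, mul_smul zz j, hneg, hneg, smul_neg, smul_neg]
    abel
  -- eigenspaces
  obtain ⟨Vp, hVp⟩ : ∃ Vp : AddSubgroup V, ∀ v, v ∈ Vp ↔ Jf v = v := by
    refine ⟨{ carrier := {v | Jf v = v}
              add_mem' := ?_
              zero_mem' := hJ0
              neg_mem' := ?_ }, fun v => Iff.rfl⟩
    · intro x y hx hy
      have hx' : Jf x = x := hx
      have hy' : Jf y = y := hy
      show Jf (x + y) = x + y
      rw [hJadd, hx', hy']
    · intro x hx
      have hx' : Jf x = x := hx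
      show Jf (-x) = -x
      rw [hJneg, hx']
  obtain ⟨Vm, hVm⟩ : ∃ Vm : AddSubgroup V, ∀ v, v ∈ Vm ↔ Jf v = -v := by
    refine ⟨{ carrier := {v | Jf v = -v}
              add_mem' := ?_
              zero_mem' := by show Jf 0 = -0; rw [hJ0, neg_zero]
              neg_mem' := ?_ }, fun v => Iff.rfl⟩
    · intro x y hx hy
      have hx' : Jf x = -x := hx
      have hy' : Jf y = -y := hy
      show Jf (x + y) = -(x + y)
      rw [hJadd, hx', hy', neg_add]
    · intro x hx
      have hx' : Jf x = -x := hx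
      show Jf (-x) = - -x
      rw [hJneg, hx']
  have hk_pm : ∀ v, Jf v = v → Jf ((i * j) • v) = -((i * j) • v) := by
    intro v hv
    have h1 := hkJ v
    rw [hv] at h1
    have h2 := congrArg Neg.neg h1
    rw [neg_neg] at h2
    exact h2.symm
  have hk_mp : ∀ v, Jf v = -v → Jf ((i * j) • v) = (i * j) • v := by
    intro v hv
    have h1 := hkJ v
    rw [hv, smul_neg] at h1
    exact (neg_injective h1).symm
  have hcard_eq : Nat.card Vp = Nat.card Vm := by
    apply le_antisymm
    · apply Nat.card_le_card_of_injective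
        (fun x : Vp => (⟨(i * j) • (x : V), (hVm _).mpr (hk_pm _ ((hVp _).mp x.2))⟩ : Vm))
      intro x y hxy
      have h1 : (i * j) • (x : V) = (i * j) • (y : V) := congrArg Subtype.val hxy
      exact Subtype.ext (MulAction.injective (i * j) h1)
    · apply Nat.card_le_card_of_injective
        (fun x : Vm => (⟨(i * j) • (x : V), (hVp _).mpr (hk_mp _ ((hVm _).mp x.2))⟩ : Vp))
      intro x y hxy
      have h1 : (i * j) • (x : V) = (i * j) • (y : V) := congrArg Subtype.val hxy
      exact Subtype.ext (MulAction.injective (i * j) h1)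
  obtain ⟨h, hh⟩ : ∃ h, p = 2 * h + 1 := hp.eq_two_or_odd'.resolve_left hp2
  have hhalf : ∀ w : V, w + w = 0 → w = 0 := by
    intro w hw
    have h1 : (2 * h + 1) • w = h • (w + w) + w := by module
    rw [← hh, hchar, hw, nsmul_zero, zero_add] at h1
    exact h1.symm
  have hbij : Function.Bijective (fun xy : Vp × Vm => (xy.1 : V) + (xy.2 : V)) := by
    constructor
    · rintro ⟨x, y⟩ ⟨x', y'⟩ hxy
      have hxy' : (x : V) + y = x' + y' := hxy
      have hw : (x : V) - x' = y' - y := by
        rw [sub_eq_sub_iff_add_eq_add, hxy', add_comm]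
      have h1 : Jf ((x : V) - x') = (x : V) - x' := by
        rw [hJsub, (hVp _).mp x.2, (hVp _).mp x'.2]
      have h2 : Jf ((x : V) - x') = -((x : V) - x') := by
        rw [hw, hJsub, (hVm _).mp y'.2, (hVm _).mp y.2]
        abel
      have h3 : ((x : V) - x') + ((x : V) - x') = 0 := by
        have h4 : (x : V) - x' = -((x : V) - x') := h1.symm.trans h2
        nth_rewrite 2 [h4]
        exact add_neg_cancel _
      have h5 := hhalf _ h3
      have h6 : (x : V) = x' := sub_eq_zero.mp h5
      have h7 : (y : V) = y' := by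
        rw [h6] at hxy'
        exact add_left_cancel hxy'
      exact Prod.ext (Subtype.ext h6) (Subtype.ext h7)
    · intro v
      have hx : Jf ((h + 1) • (v + Jf v)) = (h + 1) • (v + Jf v) := by
        rw [hJns, hJadd, hJJ, add_comm (Jf v) v]
      have hy : Jf ((h + 1) • (v - Jf v)) = -((h + 1) • (v - Jf v)) := by
        rw [hJns, hJsub, hJJ, ← neg_sub v (Jf v), smul_neg]
      refine ⟨(⟨(h + 1) • (v + Jf v), (hVp _).mpr hx⟩, ⟨(h + 1) • (v - Jf v), (hVm _).mpr hy⟩), ?_⟩
      show (h + 1) • (v + Jf v) + (h + 1) • (v - Jf v) = v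
      have h1 : (h + 1) • (v + Jf v) + (h + 1) • (v - Jf v) = (2 * h + 1) • v + v := by module
      rw [h1, ← hh, hchar, zero_add]
  have hcardV : Nat.card V = Nat.card Vp * Nat.card Vm := by
    rw [← Nat.card_prod]
    exact (Nat.card_congr (Equiv.ofBijective _ hbij)).symm
  have hcardVp : Nat.card Vp = Nat.card {b : Vp // b ≠ 0} + 1 := by
    have h2 : Nat.card (Option {b : Vp // b ≠ 0}) = Nat.card Vp :=
      Nat.card_congr (Equiv.optionSubtypeNe (0 : Vp))
    rw [Finite.card_option] at h2
    exact h2.symm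
  refine ⟨Nat.card {b : Vp // b ≠ 0}, ?_, ?_⟩
  · rw [hcardV, ← hcard_eq, hcardVp]
  · intro C hC
    have hJc : ∀ c ∈ C, ∀ v : V, Jf (c • v) = c • Jf v := by
      intro c hc v
      obtain ⟨hci, hcj⟩ := hC c hc
      rw [hJf, hJf, ← mul_smul i c, ← mul_smul j c, ← hci, ← hcj, mul_smul, mul_smul,
        smul_add, smul_comm c α, smul_comm c β]
    letI : MulAction C {b : Vp // b ≠ 0} :=
      { smul := fun c x => ⟨⟨(c : D) • ((x : Vp) : V), (hVp _).mpr (by
            rw [hJc c.1 c.2, (hVp _).mp (x : Vp).2])⟩, by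
          intro h0
          apply x.2
          have h1 : (c : D) • ((x : Vp) : V) = 0 := congrArg Subtype.val h0
          have h2 : ((x : Vp) : V) = 0 := by
            have := congrArg (fun v => (c : D)⁻¹ • v) h1
            simpa using this
          exact Subtype.ext h2⟩
        one_smul := by
          intro x
          apply Subtype.ext
          apply Subtype.ext
          show ((1 : C) : D) • ((x : Vp) : V) = ((x : Vp) : V)
          rw [Subgroup.coe_one, one_smul]
        mul_smul := by
          intro c c' x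
          apply Subtype.ext
          apply Subtype.ext
          show ((c * c' : C) : D) • ((x : Vp) : V) = (c : D) • ((c' : D) • ((x : Vp) : V))
          rw [Subgroup.coe_mul, mul_smul] }
    apply Sharp3A.card_dvd_of_free
    intro c x hcx
    have h1 : (c : D) • ((x : Vp) : V) = ((x : Vp) : V) :=
      congrArg (fun y : {b : Vp // b ≠ 0} => ((y : Vp) : V)) hcx
    have hx0 : ((x : Vp) : V) ≠ 0 := by
      intro h0
      exact x.2 (Subtype.ext h0)
    exact Subtype.ext (hfree (c : D) _ hx0 h1)

end Cfsg.Agent.Lib.Helper22.Sharp3C
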