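import Mathlib
import Cfsg.Agent.Lib.Helper22.Sharp3A
import Cfsg.Agent.Lib.Helper22.Sharp3B
import Cfsg.Agent.Lib.Helper22.Sharp3C

/-!
A group acting regularly on the non-zero vectors of an elementary abelian `p`-group, with an
involutory automorphism whose fixed points are `1` and the involution, and with at most one
subgroup of order three, has a subgroup of index two (helper22).
-/

set_option autoImplicit false
set_option maxHeartbeats 2000000

namespace Cfsg.Agent.Lib.Helper22.Sharp3D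

open Cfsg.Agent.Lib.Helper22

/-- the `2`-elements form a normal subgroup -/
theorem two_elements_subgroup {D : Type*} [Group D] [Finite D]
    (hno : ∀ K : Subgroup D, K.index ≠ 2)
    (hX : ∀ T : Sylow 2 D, IsCyclic T ∨
      ∃ n : ℕ, ∃ ι : (T : Subgroup D) →* QuaternionGroup (2 ^ n), Function.Injective ι)
    (hsylodd : ∀ (ℓ : ℕ) [Fact ℓ.Prime], ℓ ≠ 2 → ∀ P : Sylow ℓ D, IsCyclic P)
    (ε : D ≃* D) (hε2 : ∀ x, ε (ε x) = x) (z : D) (hz : orderOf z = 2)
    (hεfix : ∀ x, ε x = x → x = 1 ∨ x = z)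
    (M : Subgroup D) (hMn : M.Normal) (hM3 : ¬ 3 ∣ Nat.card M) (m : ℕ) (hMidx : M.index = 3 ^ m) :
    ∃ Tm : Subgroup D, Tm.Normal ∧ IsPGroup 2 Tm ∧
      ∀ x : D, (∃ j : ℕ, x ^ (2 ^ j) = 1) → x ∈ Tm := by
  classical
  haveI : Fact (Nat.Prime 2) := ⟨Nat.prime_two⟩
  haveI := hMn
  have h6 : (6 : ℕ) = 2 * 3 := by norm_num
  -- Sylow condition for M
  have hXM : ∀ T' : Sylow 2 M, IsCyclic T' ∨
      ∃ n : ℕ, ∃ ι : (T' : Subgroup M) →* QuaternionGroup (2 ^ n), Function.Injective ι := by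
    intro T'
    have hp : IsPGroup 2 ((T' : Subgroup M).map M.subtype) := T'.2.map M.subtype
    obtain ⟨P, hP⟩ := hp.exists_le_sylow
    obtain ⟨inc, hinc⟩ : ∃ inc : (T' : Subgroup M) →* (P : Subgroup D),
        ∀ x, ((inc x : (P : Subgroup D)) : D) = ((x : M) : D) :=
      ⟨(M.subtype.comp (T' : Subgroup M).subtype).codRestrict (P : Subgroup D)
        (fun x => hP ⟨(x : M), x.2, rfl⟩), fun x => rfl⟩
    have hincinj : Function.Injective inc := by
      intro x y hxy
      have h1 : ((x : M) : D) = ((y : M) : D) := by rw [← hinc, ← hinc, hxy]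
      exact Subtype.ext (Subtype.ext h1)
    rcases hX P with hc | ⟨n, ι, hι⟩
    · left
      haveI := hc
      exact isCyclic_of_injective inc hincinj
    · right
      exact ⟨n, ι.comp inc, hι.comp hincinj⟩
  obtain ⟨T'⟩ : Nonempty (Sylow 2 M) := inferInstance
  rcases Sharp3A.n2c hXM T' with ⟨K', hK'n, hK'c⟩ | ⟨R', g', -, -, -, hg'3, -⟩
  swap
  · exfalso
    exact hM3 (hg'3.trans (orderOf_dvd_natCard g'))
  haveI := hK'n
  obtain ⟨K₂, hK₂⟩ : ∃ K₂ : Subgroup D, K₂ = K'.map M.subtype := ⟨_, rfl⟩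
  have hK'odd : ¬ 2 ∣ Nat.card K' := by
    rw [← hK'c.index_eq_card]
    exact T'.not_dvd_index
  have hK'3 : ¬ 3 ∣ Nat.card K' := fun h => hM3 (h.trans (Subgroup.card_subgroup_dvd_card K'))
  obtain ⟨e, he⟩ := IsPGroup.iff_card.mp T'.2
  have hK'idx : K'.index = 2 ^ e := by rw [hK'c.symm.index_eq_card, he]
  have hmemK₂ : ∀ x : D, x ∈ K₂ ↔ Nat.Coprime (orderOf x) 6 := by
    intro x
    constructor
    · intro hx
      rw [hK₂] at hx
      obtain ⟨k, hk, rfl⟩ := hx
      have h1 : orderOf (M.subtype k) = orderOf k :=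
        orderOf_injective M.subtype M.subtype_injective k
      have h2 : orderOf k ∣ Nat.card K' := by
        have := orderOf_dvd_natCard (⟨k, hk⟩ : K')
        rwa [Subgroup.orderOf_mk] at this
      rw [h1, h6]
      apply Nat.Coprime.mul_right
      · exact ((Nat.Prime.coprime_iff_not_dvd Nat.prime_two).mpr
          (fun h => hK'odd (h.trans h2))).symm
      · exact ((Nat.Prime.coprime_iff_not_dvd Nat.prime_three).mpr
          (fun h => hK'3 (h.trans h2))).symm
    · intro hx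
      rw [h6] at hx
      have hx2 : Nat.Coprime (orderOf x) 2 := Nat.Coprime.coprime_mul_right_right hx
      have hx3 : Nat.Coprime (orderOf x) 3 := Nat.Coprime.coprime_mul_left_right hx
      have hxM : x ∈ M := by
        apply Sharp3A.mem_of_coprime_index M x
        rw [hMidx]
        exact Nat.Coprime.pow_right m hx3
      have hxK' : (⟨x, hxM⟩ : M) ∈ K' := by
        apply Sharp3A.mem_of_coprime_index K' _
        rw [hK'idx, Subgroup.orderOf_mk]
        exact Nat.Coprime.pow_right e hx2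
      rw [hK₂]
      exact ⟨⟨x, hxM⟩, hxK', rfl⟩
  have hK₂n : K₂.Normal := by
    refine ⟨fun x hx d => ?_⟩
    rw [hmemK₂, Sharp3B.orderOf_conj']
    exact (hmemK₂ x).mp hx
  haveI := hK₂n
  have hK₂ε : ∀ x ∈ K₂, ε x ∈ K₂ := by
    intro x hx
    have h1 : orderOf (ε x) = orderOf x := orderOf_injective ε.toMonoidHom ε.injective x
    rw [hmemK₂, h1]
    exact (hmemK₂ x).mp hx
  have hz_not : z ∉ K₂ := by
    intro h
    have h1 := (hmemK₂ z).mp h
    rw [hz] at h1
    norm_num at h1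
  have hεinv : ∀ x ∈ K₂, ε x = x⁻¹ := by
    intro x hx
    have key := Sharp3A.inv_of_fpf (M := K₂) (fun y => ⟨ε (y : D), hK₂ε _ y.2⟩)
      (fun a b => Subtype.ext (map_mul ε (a : D) (b : D)))
      (fun a => Subtype.ext (hε2 (a : D)))
      (fun a ha => by
        have h1 : ε (a : D) = a := congrArg Subtype.val ha
        rcases hεfix _ h1 with h | h
        · exact Subtype.ext h
        · exact absurd (h ▸ a.2) hz_not)
      ⟨x, hx⟩
    exact congrArg Subtype.val key
  have hK₂comm : ∀ x y : K₂, x * y = y * x := by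
    intro x y
    apply Subtype.ext
    show (x : D) * (y : D) = (y : D) * (x : D)
    have h1 := hεinv _ (K₂.mul_mem x.2 y.2)
    rw [map_mul, hεinv _ x.2, hεinv _ y.2, mul_inv_rev] at h1
    have h2 := congrArg (fun t : D => t⁻¹) h1
    simp only [mul_inv_rev, inv_inv] at h2
    exact h2.symm
  have hK₂odd : ¬ 2 ∣ Nat.card K₂ := by
    intro h
    obtain ⟨u, hu⟩ := exists_prime_orderOf_dvd_card' (G := K₂) 2 h
    have h1 := (hmemK₂ (u : D)).mp u.2
    rw [Subgroup.orderOf_coe, hu] at h1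
    norm_num at h1
  haveI hK₂Z : IsZGroup K₂ := by
    refine ⟨fun ℓ hℓ P => ?_⟩
    haveI : Fact ℓ.Prime := ⟨hℓ⟩
    by_cases h2 : ℓ = 2
    · subst h2
      obtain ⟨k, hk⟩ := IsPGroup.iff_card.mp P.2
      have hk0 : k = 0 := by
        by_contra hk0
        apply hK₂odd
        have h1 : 2 ∣ Nat.card (P : Subgroup K₂) := by
          rw [hk]
          exact dvd_pow_self 2 hk0
        exact h1.trans (Subgroup.card_subgroup_dvd_card _)
      rw [hk0, pow_zero] at hk
      haveI : Subsingleton (P : Subgroup K₂) := (Nat.card_eq_one_iff_unique.mp hk).1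
      exact isCyclic_of_subsingleton
    · have hp : IsPGroup ℓ ((P : Subgroup K₂).map K₂.subtype) := P.2.map K₂.subtype
      obtain ⟨Pd, hPd⟩ := hp.exists_le_sylow
      haveI := hsylodd ℓ h2 Pd
      obtain ⟨inc, hinc⟩ : ∃ inc : (P : Subgroup K₂) →* (Pd : Subgroup D),
          ∀ x, ((inc x : (Pd : Subgroup D)) : D) = ((x : K₂) : D) :=
        ⟨(K₂.subtype.comp (P : Subgroup K₂).subtype).codRestrict (Pd : Subgroup D)
          (fun x => hPd ⟨(x : K₂), x.2, rfl⟩), fun x => rfl⟩
      apply isCyclic_of_injective inc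
      intro x y hxy
      have h1 : ((x : K₂) : D) = ((y : K₂) : D) := by rw [← hinc, ← hinc, hxy]
      exact Subtype.ext (Subtype.ext h1)
  letI : CommGroup K₂ := { (inferInstance : Group K₂) with mul_comm := hK₂comm }
  haveI : IsCyclic K₂ := inferInstance
  have hautcomm : ∀ a b : MulAut K₂, a * b = b * a := by
    intro a b
    apply MulEquiv.ext
    intro x
    obtain ⟨na, hna⟩ := MonoidHom.map_cyclic a.toMonoidHom
    obtain ⟨nb, hnb⟩ := MonoidHom.map_cyclic b.toMonoidHom
    have ha : ∀ y, a y = y ^ na := hna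
    have hb : ∀ y, b y = y ^ nb := hnb
    show a (b x) = b (a x)
    rw [hb x, ha (x ^ nb), ha x, hb (x ^ na), ← zpow_mul, ← zpow_mul, mul_comm]
  have h2cent : ∀ x : D, (∃ j : ℕ, x ^ (2 ^ j) = 1) → ∀ y ∈ K₂, x * y * x⁻¹ = y := by
    rintro x ⟨j, hxj⟩
    obtain ⟨φ, hφ⟩ : ∃ φ : D →* MulAut K₂, φ = MulAut.conjNormal := ⟨_, rfl⟩
    have hφx : φ x = 1 := by
      by_contra hne
      haveI : Finite φ.range := Finite.of_surjective φ.rangeRestrict φ.rangeRestrict_surjective
      have hcommA : ∀ a b : φ.range, a * b = b * a := fun a b => Subtype.ext (hautcomm a b)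
      have h2A : 2 ∣ Nat.card φ.range := by
        have h1 : orderOf (φ x) ∣ 2 ^ j := by
          apply orderOf_dvd_of_pow_eq_one
          rw [← map_pow, hxj, map_one]
        obtain ⟨i, -, hi⟩ := (Nat.dvd_prime_pow Nat.prime_two).mp h1
        have hi0 : i ≠ 0 := by
          intro h0
          rw [h0, pow_zero, orderOf_eq_one_iff] at hi
          exact hne hi
        have h3 : 2 ∣ orderOf (φ x) := by
          rw [hi]
          exact dvd_pow_self 2 hi0
        have h4 : orderOf (φ.rangeRestrict x) ∣ Nat.card φ.range := orderOf_dvd_natCard _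
        have h5 : orderOf (φ.rangeRestrict x) = orderOf (φ x) := by
          rw [← Subgroup.orderOf_coe]
          rfl
        rw [h5] at h4
        exact h3.trans h4
      obtain ⟨KA, hKA⟩ := Sharp3A.exists_index_two_of_even_comm hcommA h2A
      apply hno (KA.comap φ.rangeRestrict)
      rw [Subgroup.index_comap_of_surjective KA φ.rangeRestrict_surjective, hKA]
    intro y hy
    have h1 : ((φ x) ⟨y, hy⟩ : K₂) = ⟨y, hy⟩ := by
      rw [hφx]
      rfl
    have h2 := congrArg Subtype.val h1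
    rw [hφ, MulAut.conjNormal_apply] at h2
    exact h2
  obtain ⟨Tm, hTm⟩ : ∃ Tm : Subgroup D, Tm = (T' : Subgroup M).map M.subtype := ⟨_, rfl⟩
  have hTmP : IsPGroup 2 Tm := by
    rw [hTm]
    exact T'.2.map M.subtype
  have hclaim : ∀ x : D, (∃ j : ℕ, x ^ (2 ^ j) = 1) → x ∈ Tm := by
    rintro x ⟨j, hxj⟩
    have hox : orderOf x ∣ 2 ^ j := orderOf_dvd_of_pow_eq_one hxj
    have hxM : x ∈ M := by
      apply Sharp3A.mem_of_coprime_index M x
      rw [hMidx]
      apply Nat.Coprime.pow_right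
      exact Nat.Coprime.coprime_dvd_left hox (Nat.Coprime.pow_left j (by norm_num))
    obtain ⟨⟨⟨k, hk⟩, ⟨τ, hτ⟩⟩, hkτ⟩ := hK'c.2 ⟨x, hxM⟩
    have hkτ' : k * τ = ⟨x, hxM⟩ := hkτ
    have hkτD : (k : D) * (τ : D) = x := by
      have h1 := congrArg Subtype.val hkτ'
      simpa using h1
    obtain ⟨j', hτj'⟩ := T'.2 ⟨τ, hτ⟩
    have hτj : (τ : D) ^ (2 ^ j') = 1 := by
      have h1 := congrArg (fun t : (T' : Subgroup M) => ((t : M) : D)) hτj'
      simpa using h1
    have hkK₂ : (k : D) ∈ K₂ := by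
      rw [hK₂]
      exact ⟨k, hk, rfl⟩
    have hcomm : Commute (τ : D) (k : D) := by
      have h1 := h2cent (τ : D) ⟨j', hτj⟩ (k : D) hkK₂
      exact mul_inv_eq_iff_eq_mul.mp h1
    have hpow : x ^ (2 ^ (j + j')) = (k : D) ^ (2 ^ (j + j')) * (τ : D) ^ (2 ^ (j + j')) := by
      rw [← hkτD, hcomm.symm.mul_pow]
    have hx1 : x ^ (2 ^ (j + j')) = 1 := by rw [pow_add, pow_mul, hxj, one_pow]
    have hτ1 : (τ : D) ^ (2 ^ (j + j')) = 1 := by
      rw [pow_add, mul_comm, pow_mul, hτj, one_pow]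
    rw [hx1, hτ1, mul_one] at hpow
    have hk1 : (k : D) = 1 := by
      have h1 : orderOf (k : D) ∣ 2 ^ (j + j') := orderOf_dvd_of_pow_eq_one hpow.symm
      have h2 := (hmemK₂ (k : D)).mp hkK₂
      have h3 : Nat.Coprime (orderOf (k : D)) (2 ^ (j + j')) := by
        apply Nat.Coprime.pow_right
        rw [h6] at h2
        exact Nat.Coprime.coprime_mul_right_right h2
      exact orderOf_eq_one_iff.mp (h3.eq_one_of_dvd h1)
    rw [hk1, one_mul] at hkτD
    rw [hTm]
    exact ⟨τ, hτ, hkτD⟩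
  have hTmn : Tm.Normal := by
    refine ⟨fun y hy d => ?_⟩
    obtain ⟨j, hj⟩ := hTmP ⟨y, hy⟩
    have hj' : y ^ (2 ^ j) = 1 := by
      have h1 := congrArg Subtype.val hj
      simpa using h1
    apply hclaim
    refine ⟨j, ?_⟩
    rw [conj_pow, hj', mul_one, mul_inv_cancel]
  exact ⟨Tm, hTmn, hTmP, hclaim⟩

end Cfsg.Agent.Lib.Helper22.Sharp3D
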