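import Mathlib
import Cfsg.Agent.Lib.Helper22.Sharp3A
import Cfsg.Agent.Lib.Helper22.Sharp3B
import Cfsg.Agent.Lib.Helper22.Sharp3C
import Cfsg.Agent.Lib.Helper22.Sharp3D

/-!
Main abstract theorem (helper22): a group acting regularly on the non-zero vectors of an
elementary abelian `p`-group (`p` odd), with cyclic or quaternion Sylow subgroups, an involutory
automorphism fixing only `1` and the involution, and at most one subgroup of order three, has a
subgroup of index two.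
-/

set_option autoImplicit false
set_option maxHeartbeats 2000000

namespace Cfsg.Agent.Lib.Helper22.Sharp3E

open Cfsg.Agent.Lib.Helper22

theorem exists_index_two {D V : Type*} [Group D] [Finite D] [AddCommGroup V] [Finite V]
    [DistribMulAction D V] (p : ℕ) (hp : p.Prime) (hp2 : p ≠ 2) (hchar : ∀ v : V, p • v = 0)
    (hfree : ∀ d : D, ∀ v : V, v ≠ 0 → d • v = v → d = 1)
    (hcard : Nat.card D + 1 = Nat.card V)
    (hsyl2 : ∀ T : Sylow 2 D, IsCyclic T ∨ ∃ n : ℕ, Nonempty (T ≃* QuaternionGroup (2 ^ n)))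
    (hsylodd : ∀ (ℓ : ℕ) [Fact ℓ.Prime], ℓ ≠ 2 → ∀ P : Sylow ℓ D, IsCyclic P)
    (ε : D ≃* D) (hε2 : ∀ x, ε (ε x) = x) (z : D) (hz : orderOf z = 2)
    (hεfix : ∀ x, ε x = x → x = 1 ∨ x = z)
    (h3 : ∀ x y : D, orderOf x = 3 → orderOf y = 3 → y = x ∨ y = x⁻¹) :
    ∃ K : Subgroup D, K.index = 2 := by
  classical
  by_contra hcon
  have hno : ∀ K : Subgroup D, K.index ≠ 2 := fun K hK => hcon ⟨K, hK⟩
  haveI : Fact (Nat.Prime 2) := ⟨Nat.prime_two⟩
  haveI : Fact (Nat.Prime 3) := ⟨Nat.prime_three⟩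
  have hX : ∀ T : Sylow 2 D, IsCyclic T ∨
      ∃ n : ℕ, ∃ ι : (T : Subgroup D) →* QuaternionGroup (2 ^ n), Function.Injective ι := by
    intro T
    rcases hsyl2 T with h | ⟨n, ⟨e⟩⟩
    · exact Or.inl h
    · exact Or.inr ⟨n, e.toMonoidHom, e.injective⟩
  obtain ⟨T⟩ : Nonempty (Sylow 2 D) := inferInstance
  have h2D : 2 ∣ Nat.card D := by
    rw [← hz]
    exact orderOf_dvd_natCard z
  rcases Sharp3A.n2c hX T with ⟨K, hKn, hKc⟩ | ⟨R, g, hRT, hgN, hgodd, hg3, hgC⟩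
  · haveI := hKn
    have hidx : K.index = Nat.card (T : Subgroup D) := hKc.symm.index_eq_card
    obtain ⟨n, hn⟩ := IsPGroup.iff_card.mp T.2
    have hcardq : Nat.card (D ⧸ K) = 2 ^ n := by rw [← Subgroup.index_eq_card, hidx, hn]
    have hP : IsPGroup 2 (D ⧸ K) := IsPGroup.of_card hcardq
    have hne : Nontrivial (D ⧸ K) := by
      have h1 : 2 ∣ Nat.card (T : Subgroup D) := T.dvd_card_of_dvd_card h2D
      have h2 : 1 < Nat.card (D ⧸ K) := by
        rw [hcardq, ← hn]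
        exact lt_of_lt_of_le (by norm_num) (Nat.le_of_dvd Nat.card_pos h1)
      exact Finite.one_lt_card_iff_nontrivial.mp h2
    obtain ⟨K2, hK2⟩ := Sharp3A.exists_index_two_of_surj (QuotientGroup.mk' K)
      (QuotientGroup.mk'_surjective K) hP hne
    exact hno K2 hK2
  obtain ⟨ω, hωdef⟩ : ∃ ω : D, ω = g ^ (orderOf g / 3) := ⟨_, rfl⟩
  have hω : orderOf ω = 3 := by
    rw [hωdef]
    exact orderOf_pow_orderOf_div (orderOf_pos g).ne' hg3
  have hcent := Sharp3B.central_of_order_three hno h3 ω hω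
  obtain ⟨M, hMn, hM3, m, hMidx⟩ :=
    Sharp3B.exists_three_complement (hsylodd 3 (by norm_num)) ω hω hcent
  obtain ⟨Tm, hTmn, hTmP, hclaim⟩ :=
    Sharp3D.two_elements_subgroup hno hX hsylodd ε hε2 z hz hεfix M hMn hM3 m hMidx
  haveI := hTmn
  have hTTm : (T : Subgroup D) ≤ Tm := by
    intro q hq
    obtain ⟨j, hj⟩ := T.2 ⟨q, hq⟩
    apply hclaim
    refine ⟨j, ?_⟩
    have h1 := congrArg Subtype.val hj
    simpa using h1
  have hRTm : R ≤ Tm := hRT.trans hTTm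
  obtain ⟨φ, hφ⟩ : ∃ φ : D →* MulAut Tm, φ = MulAut.conjNormal := ⟨_, rfl⟩
  have hφapp : ∀ (d : D) (q : Tm), ((φ d q : Tm) : D) = d * q * d⁻¹ := by
    intro d q
    rw [hφ, MulAut.conjNormal_apply]
  obtain ⟨σ, hσ⟩ : ∃ σ : MulAut Tm, σ = φ g := ⟨_, rfl⟩
  have hσk : σ ^ orderOf g = 1 := by rw [hσ, ← map_pow, pow_orderOf_eq_one, map_one]
  have hσne : σ ≠ 1 := by
    intro h1
    apply hgC
    rw [Subgroup.mem_centralizer_iff]
    intro q hq
    have h2 : ((σ ⟨q, hRTm hq⟩ : Tm) : D) = q := by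
      rw [h1]
      rfl
    rw [hσ, hφapp] at h2
    calc q * g = (g * q * g⁻¹) * g := by rw [h2]
      _ = g * q := by group
  obtain ⟨P, hP⟩ := hTmP.exists_le_sylow
  have hQ8 : Nonempty (Tm ≃* QuaternionGroup 2) := by
    rcases hX P with hc | ⟨n, ι, hι⟩
    · exfalso
      haveI := hc
      haveI : IsCyclic Tm :=
        isCyclic_of_injective (Subgroup.inclusion hP) (Subgroup.inclusion_injective hP)
      obtain ⟨e, he⟩ := IsPGroup.iff_card.mp hTmP
      exact hσne (Cfsg.Agent.Lib.Helper9.QuatSylow.eq_one_of_cyclic he σ hgodd hσk)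
    · exact Cfsg.Agent.Lib.Helper9.QuatSylow.nonempty_mulEquiv_quat8
        (ι.comp (Subgroup.inclusion hP))
        (hι.comp (Subgroup.inclusion_injective hP)) σ hgodd hσk hσne
  obtain ⟨e⟩ := hQ8
  obtain ⟨hσ3, -⟩ := Cfsg.Agent.Lib.Helper9.SLTwoThree.exists_adapted e σ hgodd hσk hσne
  have hσord : orderOf σ = 3 := by
    have h1 : orderOf σ ∣ 3 := orderOf_dvd_of_pow_eq_one hσ3
    rcases (Nat.dvd_prime Nat.prime_three).mp h1 with h | h
    · exact absurd (orderOf_eq_one_iff.mp h) hσne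
    · exact h
  have hφω : φ ω = 1 := by
    apply MulEquiv.ext
    intro q
    apply Subtype.ext
    rw [hφapp]
    have h1 := hcent (q : D)
    have h2 : (q : D) * ω = ω * q := mul_inv_eq_iff_eq_mul.mp h1
    show ω * (q : D) * ω⁻¹ = q
    rw [← h2, mul_inv_cancel_right]
  have h9 : 9 ∣ orderOf g := by
    have h1 : σ ^ (orderOf g / 3) = 1 := by rw [hσ, ← map_pow, ← hωdef, hφω]
    have h2 : orderOf σ ∣ orderOf g / 3 := orderOf_dvd_of_pow_eq_one h1
    rw [hσord] at h2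
    obtain ⟨t, ht⟩ := hg3
    rw [ht, Nat.mul_div_cancel_left t (by norm_num)] at h2
    obtain ⟨s, hs⟩ := h2
    exact ⟨s, by rw [ht, hs]; ring⟩
  -- the centraliser of `Tm`
  obtain ⟨C, hC⟩ : ∃ C : Subgroup D, C = φ.ker := ⟨_, rfl⟩
  have hCmem : ∀ c ∈ C, ∀ q ∈ Tm, c * q = q * c := by
    intro c hc q hq
    rw [hC, MonoidHom.mem_ker] at hc
    have h1 : ((φ c ⟨q, hq⟩ : Tm) : D) = q := by
      rw [hc]
      rfl
    rw [hφapp] at h1
    exact mul_inv_eq_iff_eq_mul.mp h1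
  have hg3C : g ^ 3 ∈ C := by
    rw [hC, MonoidHom.mem_ker, map_pow, ← hσ, hσ3]
  have h3C : 3 ∣ Nat.card C := by
    have h1 : orderOf (g ^ 3) = orderOf g / 3 := by
      rw [orderOf_pow' g (by norm_num : (3 : ℕ) ≠ 0), Nat.gcd_eq_right hg3]
    have h2 : 3 ∣ orderOf (g ^ 3) := by
      rw [h1]
      obtain ⟨s, hs⟩ := h9
      rw [hs]
      exact ⟨s, by omega⟩
    have h4 : orderOf (⟨g ^ 3, hg3C⟩ : C) ∣ Nat.card C := orderOf_dvd_natCard _
    rw [Subgroup.orderOf_mk] at h4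
    exact h2.trans h4
  -- the quaternion generators
  obtain ⟨f, hf⟩ : ∃ f : QuaternionGroup 2 →* D, f = Tm.subtype.comp e.symm.toMonoidHom :=
    ⟨_, rfl⟩
  have hfinj : Function.Injective f := by
    rw [hf]
    exact Tm.subtype_injective.comp e.symm.injective
  have hfmem : ∀ u, f u ∈ Tm := by
    intro u
    rw [hf]
    exact (e.symm u).2
  have hq1 : ((QuaternionGroup.a 1 * QuaternionGroup.a 1) *
      (QuaternionGroup.a 1 * QuaternionGroup.a 1) : QuaternionGroup 2) = 1 := by decide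
  have hq2 : (QuaternionGroup.a 1 * QuaternionGroup.a 1 : QuaternionGroup 2) ≠ 1 := by decide
  have hq3 : (QuaternionGroup.xa 0 * QuaternionGroup.xa 0 : QuaternionGroup 2) =
      QuaternionGroup.a 1 * QuaternionGroup.a 1 := by decide
  have hq4 : (QuaternionGroup.xa 0 * QuaternionGroup.a 1 : QuaternionGroup 2) =
      (QuaternionGroup.a 1 * QuaternionGroup.a 1) *
        (QuaternionGroup.a 1 * QuaternionGroup.xa 0) := by decide
  obtain ⟨i, hi⟩ : ∃ i : D, i = f (QuaternionGroup.a 1) := ⟨_, rfl⟩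
  obtain ⟨j, hj⟩ : ∃ j : D, j = f (QuaternionGroup.xa 0) := ⟨_, rfl⟩
  obtain ⟨zz, hzz⟩ : ∃ zz : D, zz = i * i := ⟨_, rfl⟩
  have hzzf : zz = f (QuaternionGroup.a 1 * QuaternionGroup.a 1) := by rw [hzz, hi, map_mul]
  have hzz1 : zz ≠ 1 := by
    rw [hzzf]
    intro h
    apply hq2
    apply hfinj
    rw [h, map_one]
  have hzz2 : zz * zz = 1 := by rw [hzzf, ← map_mul, hq1, map_one]
  have hjj : j * j = zz := by rw [hzzf, hj, ← map_mul, hq3]
  have hji : j * i = zz * (i * j) := by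
    rw [hzzf, hj, hi, ← map_mul, ← map_mul, ← map_mul, hq4]
  obtain ⟨r, hrV, hrC⟩ :=
    Sharp3C.eigen_split p hp hp2 hchar hfree i j zz hzz1 hzz2 hzz.symm hjj hji
  have hCr : Nat.card C ∣ r := by
    apply hrC C
    intro c hc
    exact ⟨hCmem c hc i (hi ▸ hfmem _), hCmem c hc j (hj ▸ hfmem _)⟩
  -- arithmetic
  have hDr : Nat.card D = r * (r + 2) := by
    have h1 : Nat.card D + 1 = (r + 1) * (r + 1) := by rw [hcard, hrV]
    have h2 : (r + 1) * (r + 1) = r * (r + 2) + 1 := by ring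
    omega
  have hDn : Nat.card D = Nat.card C * Nat.card φ.range := by
    rw [← Subgroup.index_ker, ← hC]
    exact (Subgroup.card_mul_index C).symm
  have h3r : 3 ∣ r := h3C.trans hCr
  have hr0 : r ≠ 0 := by
    intro h0
    rw [h0, zero_mul] at hDr
    have := Nat.card_pos (α := D)
    omega
  have h9D : 9 ∣ Nat.card D := h9.trans (orderOf_dvd_natCard g)
  have h9r : 9 ∣ r := by
    rw [hDr] at h9D
    have hcop : Nat.Coprime 9 (r + 2) := by
      have h1 : ¬ 3 ∣ r + 2 := by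
        intro h
        have := (Nat.dvd_add_right h3r).mp h
        omega
      have h2 : Nat.Coprime 3 (r + 2) := (Nat.Prime.coprime_iff_not_dvd Nat.prime_three).mpr h1
      exact Nat.Coprime.pow_left 2 h2
    exact hcop.dvd_of_dvd_mul_right h9D
  have hr9 : 9 ≤ r := Nat.le_of_dvd (Nat.pos_of_ne_zero hr0) h9r
  haveI : Finite φ.range := Finite.of_surjective φ.rangeRestrict φ.rangeRestrict_surjective
  have hprime : ∀ {ℓ : ℕ}, ℓ.Prime → ℓ ∣ r + 2 → ℓ = 2 := by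
    intro ℓ hℓ hdvd
    by_contra hℓ2
    haveI : Fact ℓ.Prime := ⟨hℓ⟩
    have hℓ3 : ℓ ≠ 3 := by
      intro h
      rw [h] at hdvd
      have := (Nat.dvd_add_right h3r).mp hdvd
      omega
    have hℓr : ¬ ℓ ∣ r := by
      intro h
      have h1 := (Nat.dvd_add_right h).mp hdvd
      exact hℓ2 ((Nat.prime_dvd_prime_iff_eq hℓ Nat.prime_two).mp h1)
    have hℓC : ¬ ℓ ∣ Nat.card C := fun h => hℓr (h.trans hCr)
    have hℓD : ℓ ∣ Nat.card D := by
      rw [hDr]
      exact Dvd.dvd.mul_left hdvd r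
    have hℓn : ℓ ∣ Nat.card φ.range := by
      rw [hDn] at hℓD
      exact (hℓ.dvd_mul.mp hℓD).resolve_left hℓC
    obtain ⟨τ', hτ'⟩ := exists_prime_orderOf_dvd_card' (G := φ.range) ℓ hℓn
    obtain ⟨τ, hτ⟩ : ∃ τ : MulAut Tm, τ = (τ' : MulAut Tm) := ⟨_, rfl⟩
    have hτord : orderOf τ = ℓ := by rw [hτ, Subgroup.orderOf_coe, hτ']
    have hτk : τ ^ ℓ = 1 := by rw [← hτord, pow_orderOf_eq_one]
    have hτne : τ ≠ 1 := by
      intro h
      rw [h, orderOf_one] at hτord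
      exact hℓ.one_lt.ne hτord
    have hℓodd : Odd ℓ := hℓ.eq_two_or_odd'.resolve_left hℓ2
    obtain ⟨hτ3, -⟩ := Cfsg.Agent.Lib.Helper9.SLTwoThree.exists_adapted e τ hℓodd hτk hτne
    have h1 : ℓ ∣ 3 := by
      rw [← hτord]
      exact orderOf_dvd_of_pow_eq_one hτ3
    exact hℓ3 ((Nat.prime_dvd_prime_iff_eq hℓ Nat.prime_three).mp h1)
  have hpow := Nat.eq_prime_pow_of_unique_prime_dvd (n := r + 2) (p := 2) (by omega) hprime
  obtain ⟨a, ha⟩ : ∃ a : ℕ, r + 2 = 2 ^ a := ⟨_, hpow⟩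
  have h2aD : 2 ^ a ∣ Nat.card D := by
    rw [hDr, ← ha]
    exact dvd_mul_left _ _
  have h2aT : 2 ^ a ∣ Nat.card (T : Subgroup D) := T.pow_dvd_card_of_pow_dvd_card h2aD
  have hcardTm : Nat.card Tm = 8 := by
    rw [Nat.card_congr e.toEquiv, Nat.card_eq_fintype_card, QuaternionGroup.card]
  have h2a8 : 2 ^ a ∣ 8 := by
    rw [← hcardTm]
    exact h2aT.trans (Subgroup.card_dvd_of_le hTTm)
  have := Nat.le_of_dvd (by norm_num) h2a8
  omega

end Cfsg.Agent.Lib.Helper22.Sharp3E
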