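import Mathlib

/-!
A subgroup of index two from a Bruhat decomposition `G = U D ∪ U D t U` and a `t`-invariant
subgroup `D₀` of index two in `D` containing the torus parts of all `t u t` (helper22).
-/

set_option autoImplicit false
set_option maxHeartbeats 1000000

namespace Cfsg.Agent.Lib.Helper22.Sharp3F

theorem index_two_of_bruhat {G : Type*} [Group G] (U D D₀ : Subgroup G) (t : G)
    (hDU : ∀ d ∈ D, ∀ u ∈ U, d * u * d⁻¹ ∈ U)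
    (ht2 : t * t = 1)
    (htD : ∀ d ∈ D, t * d * t ∈ D)
    (htD₀ : ∀ d ∈ D₀, t * d * t ∈ D₀)
    (hD₀D : D₀ ≤ D)
    (hmul : ∀ d ∈ D, ∀ d' ∈ D, (d * d' ∈ D₀ ↔ (d ∈ D₀ ↔ d' ∈ D₀)))
    (d₁ : G) (hd₁ : d₁ ∈ D) (hd₁' : d₁ ∉ D₀)
    (hUD : ∀ u ∈ U, u ∈ D → u = 1)
    (htB : ∀ u ∈ U, ∀ d ∈ D, t ≠ u * d)
    (hcover : ∀ g : G, (∃ u ∈ U, ∃ d ∈ D, g = u * d) ∨
      (∃ u ∈ U, ∃ d ∈ D, ∃ u' ∈ U, g = u * d * t * u'))
    (hsus : ∀ u ∈ U, u ≠ 1 → ∃ v ∈ U, ∃ δ ∈ D₀, ∃ v' ∈ U, t * u * t = v * δ * t * v') :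
    ∃ N : Subgroup G, N.index = 2 ∧ U ≤ N := by
  classical
  have hti : t⁻¹ = t := inv_eq_of_mul_eq_one_right ht2
  have htD' : ∀ d ∈ D, t * d * t⁻¹ ∈ D := by
    intro d hd
    rw [hti]
    exact htD d hd
  have htD'' : ∀ d ∈ D, t⁻¹ * d * t ∈ D := by
    intro d hd
    rw [hti]
    exact htD d hd
  have htD₀' : ∀ d ∈ D₀, t * d * t⁻¹ ∈ D₀ := by
    intro d hd
    rw [hti]
    exact htD₀ d hd
  have htD₀'' : ∀ d ∈ D₀, t⁻¹ * d * t ∈ D₀ := by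
    intro d hd
    rw [hti]
    exact htD₀ d hd
  have hDU' : ∀ d ∈ D, ∀ u ∈ U, d⁻¹ * u * d ∈ U := by
    intro d hd u hu
    have := hDU d⁻¹ (D.inv_mem hd) u hu
    rwa [inv_inv] at this
  -- the two kinds of elements
  obtain ⟨PA, hPA⟩ : ∃ PA : G → Prop, ∀ g, PA g ↔ ∃ u ∈ U, ∃ d ∈ D₀, g = u * d :=
    ⟨fun g => ∃ u ∈ U, ∃ d ∈ D₀, g = u * d, fun _ => Iff.rfl⟩
  obtain ⟨PB, hPB⟩ : ∃ PB : G → Prop,
      ∀ g, PB g ↔ ∃ u ∈ U, ∃ d ∈ D₀, ∃ u' ∈ U, g = u * d * t * u' :=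
    ⟨fun g => ∃ u ∈ U, ∃ d ∈ D₀, ∃ u' ∈ U, g = u * d * t * u', fun _ => Iff.rfl⟩
  have hAA : ∀ g h, PA g → PA h → PA (g * h) := by
    intro g h hg hh
    obtain ⟨u, hu, d, hd, rfl⟩ := (hPA g).mp hg
    obtain ⟨u', hu', d', hd', rfl⟩ := (hPA h).mp hh
    refine (hPA _).mpr ⟨u * (d * u' * d⁻¹), U.mul_mem hu (hDU d (hD₀D hd) u' hu'), d * d',
      D₀.mul_mem hd hd', ?_⟩
    group
  have hAB : ∀ g h, PA g → PB h → PB (g * h) := by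
    intro g h hg hh
    obtain ⟨u, hu, d, hd, rfl⟩ := (hPA g).mp hg
    obtain ⟨u₁, hu₁, d₁', hd₁', u₂, hu₂, rfl⟩ := (hPB h).mp hh
    refine (hPB _).mpr ⟨u * (d * u₁ * d⁻¹), U.mul_mem hu (hDU d (hD₀D hd) u₁ hu₁), d * d₁',
      D₀.mul_mem hd hd₁', u₂, hu₂, ?_⟩
    group
  have hBA : ∀ g h, PB g → PA h → PB (g * h) := by
    intro g h hg hh
    obtain ⟨u₁, hu₁, d₁', hd₁', u₂, hu₂, rfl⟩ := (hPB g).mp hg
    obtain ⟨u, hu, d, hd, rfl⟩ := (hPA h).mp hh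
    refine (hPB _).mpr ⟨u₁, hu₁, d₁' * (t * d * t⁻¹), D₀.mul_mem hd₁' (htD₀' d hd),
      d⁻¹ * (u₂ * u) * d, hDU' d (hD₀D hd) _ (U.mul_mem hu₂ hu), ?_⟩
    group
  have hBB : ∀ g h, PB g → PB h → (PA (g * h) ∨ PB (g * h)) := by
    intro g h hg hh
    obtain ⟨u₁, hu₁, e₁, he₁, u₂, hu₂, rfl⟩ := (hPB g).mp hg
    obtain ⟨u₃, hu₃, e₃, he₃, u₄, hu₄, rfl⟩ := (hPB h).mp hh
    by_cases hw : u₂ * u₃ = 1
    · left
      obtain ⟨δ', hδ'⟩ : ∃ δ' : G, δ' = e₁ * (t * e₃ * t⁻¹) := ⟨_, rfl⟩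
      have hδ'mem : δ' ∈ D₀ := by
        rw [hδ']
        exact D₀.mul_mem he₁ (htD₀' e₃ he₃)
      refine (hPA _).mpr ⟨u₁ * (δ' * u₄ * δ'⁻¹),
        U.mul_mem hu₁ (hDU δ' (hD₀D hδ'mem) u₄ hu₄), δ', hδ'mem, ?_⟩
      calc u₁ * e₁ * t * u₂ * (u₃ * e₃ * t * u₄)
          = u₁ * e₁ * t * (u₂ * u₃) * e₃ * t * u₄ := by group
        _ = u₁ * e₁ * t * e₃ * t * u₄ := by rw [hw, mul_one]
        _ = u₁ * (e₁ * (t * e₃ * t⁻¹)) * (t * t) * u₄ := by group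
        _ = u₁ * δ' * u₄ := by rw [ht2, mul_one, hδ']
        _ = u₁ * (δ' * u₄ * δ'⁻¹) * δ' := by group
    · right
      obtain ⟨v, hv, δ, hδ, v', hv', hsu⟩ := hsus (u₂ * u₃) (U.mul_mem hu₂ hu₃) hw
      have hw' : u₂ * u₃ = t⁻¹ * (v * δ * t * v') * t⁻¹ := by
        rw [← hsu]
        group
      have he₃' : t⁻¹ * e₃ * t ∈ D₀ := htD₀'' e₃ he₃
      refine (hPB _).mpr ⟨u₁ * (e₁ * v * e₁⁻¹),
        U.mul_mem hu₁ (hDU e₁ (hD₀D he₁) v hv), e₁ * δ * e₃,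
        D₀.mul_mem (D₀.mul_mem he₁ hδ) he₃,
        (t⁻¹ * e₃ * t)⁻¹ * v' * (t⁻¹ * e₃ * t) * u₄,
        U.mul_mem (hDU' _ (hD₀D he₃') v' hv') hu₄, ?_⟩
      calc u₁ * e₁ * t * u₂ * (u₃ * e₃ * t * u₄)
          = u₁ * e₁ * t * (u₂ * u₃) * e₃ * t * u₄ := by group
        _ = u₁ * e₁ * t * (t⁻¹ * (v * δ * t * v') * t⁻¹) * e₃ * t * u₄ := by rw [hw']
        _ = u₁ * (e₁ * v * e₁⁻¹) * (e₁ * δ * e₃) * t *
            ((t⁻¹ * e₃ * t)⁻¹ * v' * (t⁻¹ * e₃ * t) * u₄) := by group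
  have hAinv : ∀ g, PA g → PA g⁻¹ := by
    intro g hg
    obtain ⟨u, hu, d, hd, rfl⟩ := (hPA g).mp hg
    refine (hPA _).mpr ⟨d⁻¹ * u⁻¹ * d, hDU' d (hD₀D hd) _ (U.inv_mem hu), d⁻¹, D₀.inv_mem hd, ?_⟩
    group
  have hBinv : ∀ g, PB g → PB g⁻¹ := by
    intro g hg
    obtain ⟨u, hu, d, hd, u', hu', rfl⟩ := (hPB g).mp hg
    refine (hPB _).mpr ⟨u'⁻¹, U.inv_mem hu', t * d⁻¹ * t⁻¹, htD₀' _ (D₀.inv_mem hd), u⁻¹,
      U.inv_mem hu, ?_⟩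
    calc (u * d * t * u')⁻¹ = u'⁻¹ * t⁻¹ * d⁻¹ * u⁻¹ := by group
      _ = u'⁻¹ * t * d⁻¹ * u⁻¹ := by rw [hti]
      _ = u'⁻¹ * (t * d⁻¹ * t⁻¹) * t * u⁻¹ := by group
  obtain ⟨N, hN⟩ : ∃ N : Subgroup G, ∀ g, g ∈ N ↔ (PA g ∨ PB g) := by
    refine ⟨{ carrier := {g | PA g ∨ PB g}
              mul_mem' := ?_
              one_mem' := ?_
              inv_mem' := ?_ }, fun g => Iff.rfl⟩
    · intro g h hg hh
      rcases hg with hg | hg <;> rcases hh with hh | hh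
      · exact Or.inl (hAA g h hg hh)
      · exact Or.inr (hAB g h hg hh)
      · exact Or.inr (hBA g h hg hh)
      · exact hBB g h hg hh
    · left
      exact (hPA 1).mpr ⟨1, U.one_mem, 1, D₀.one_mem, by group⟩
    · intro g hg
      rcases hg with hg | hg
      · exact Or.inl (hAinv g hg)
      · exact Or.inr (hBinv g hg)
  have hUN : U ≤ N := by
    intro u hu
    rw [hN]
    left
    exact (hPA u).mpr ⟨u, hu, 1, D₀.one_mem, by group⟩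
  have hd₁N : d₁ ∉ N := by
    intro h
    rcases (hN d₁).mp h with h | h
    · obtain ⟨u, hu, d, hd, heq⟩ := (hPA _).mp h
      have hu1 : u = 1 := by
        apply hUD u hu
        have : u = d₁ * d⁻¹ := by rw [heq]; group
        rw [this]
        exact D.mul_mem hd₁ (D.inv_mem (hD₀D hd))
      rw [hu1, one_mul] at heq
      exact hd₁' (heq ▸ hd)
    · obtain ⟨u, hu, d, hd, u', hu', heq⟩ := (hPB _).mp h
      have hd' : d ∈ D := hD₀D hd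
      have hdd : d⁻¹ * d₁ ∈ D := D.mul_mem (D.inv_mem hd') hd₁
      apply htB ((d⁻¹ * u⁻¹ * d) * ((d⁻¹ * d₁) * u'⁻¹ * (d⁻¹ * d₁)⁻¹))
        (U.mul_mem (hDU' d hd' _ (U.inv_mem hu)) (hDU _ hdd _ (U.inv_mem hu')))
        (d⁻¹ * d₁) hdd
      have h1 : t = d⁻¹ * u⁻¹ * d₁ * u'⁻¹ := by
        rw [heq]
        group
      rw [h1]
      group
  have hnotmem : ∀ d ∈ D, d ∉ D₀ → t * d * t⁻¹ ∉ D₀ := by
    intro d _ hd h
    apply hd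
    have h1 := htD₀'' _ h
    have h2 : t⁻¹ * (t * d * t⁻¹) * t = d := by group
    rwa [h2] at h1
  refine ⟨N, ?_, hUN⟩
  rw [Subgroup.index_eq_two_iff]
  refine ⟨d₁, fun b => ?_⟩
  have hnotboth : ¬ (b * d₁ ∈ N ∧ b ∈ N) := by
    rintro ⟨h1, h2⟩
    apply hd₁N
    have : d₁ = b⁻¹ * (b * d₁) := by group
    rw [this]
    exact N.mul_mem (N.inv_mem h2) h1
  have hone : b * d₁ ∈ N ∨ b ∈ N := by
    rcases hcover b with ⟨u, hu, d, hd, rfl⟩ | ⟨u, hu, d, hd, u', hu', rfl⟩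
    · by_cases hd0 : d ∈ D₀
      · right
        rw [hN]
        left
        exact (hPA _).mpr ⟨u, hu, d, hd0, rfl⟩
      · left
        rw [hN]
        left
        refine (hPA _).mpr ⟨u, hu, d * d₁, ?_, by group⟩
        rw [hmul d hd d₁ hd₁]
        exact ⟨fun h => absurd h hd0, fun h => absurd h hd₁'⟩
    · by_cases hd0 : d ∈ D₀
      · right
        rw [hN]
        right
        exact (hPB _).mpr ⟨u, hu, d, hd0, u', hu', rfl⟩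
      · left
        rw [hN]
        right
        refine (hPB _).mpr ⟨u, hu, d * (t * d₁ * t⁻¹), ?_, d₁⁻¹ * u' * d₁,
          hDU' d₁ hd₁ u' hu', by group⟩
        rw [hmul d hd _ (htD' d₁ hd₁)]
        exact ⟨fun h => absurd h hd0, fun h => absurd h (hnotmem d₁ hd₁ hd₁')⟩
  rcases hone with h | h
  · exact Or.inl ⟨h, fun h' => hnotboth ⟨h, h'⟩⟩
  · exact Or.inr ⟨h, fun h' => hnotboth ⟨h', h⟩⟩

end Cfsg.Agent.Lib.Helper22.Sharp3F
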