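import Mathlib
import Cfsg.Agent.Lib.Helper22.FieldAut
import Cfsg.Agent.S0035
import Cfsg.Agent.S0042
import Cfsg.Agent.S1160

set_option autoImplicit false
open Cfsg
open scoped Pointwise

namespace Cfsg.Agent.Lib.Helper22.ZassReg

/-- a finite nilpotent group whose Sylow subgroups (for primes dividing the order) are commutative
is commutative -/
theorem comm_of_nilpotent_sylow_comm {K : Type*} [Group K] [Finite K] [hn : Group.IsNilpotent K]
    (h : ∀ (p : ℕ) [Fact p.Prime] (P : Sylow p K), p ∣ Nat.card K →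
      ∀ x y : (P : Subgroup K), x * y = y * x) :
    ∀ x y : K, x * y = y * x := by
  have htfae : Group.IsNilpotent K ↔
      Nonempty ((∀ p : (Nat.card K).primeFactors, ∀ P : Sylow p K, (↑P : Subgroup K)) ≃* K) :=
    (Group.isNilpotent_of_finite_tfae (G := K)).out 0 4
  obtain ⟨e⟩ := htfae.mp hn
  intro x y
  have hxy : e.symm x * e.symm y = e.symm y * e.symm x := by
    funext p
    funext P
    haveI : Fact (p : ℕ).Prime := ⟨Nat.prime_of_mem_primeFactors p.2⟩
    exact h p P (Nat.dvd_of_mem_primeFactors p.2) _ _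
  have := congrArg e hxy
  simpa using this

variable {L V : Type*} [Group L] [Finite L] [AddCommGroup V] [Finite V] [DistribMulAction L V]
  [FaithfulSMul L V]

/-- abstract form: a finite group acting faithfully on a finite abelian group, transitively on
nonzero elements, nonidentity elements fixing at most one nonzero element, some nonidentity
element fixing a nonzero element: the abelian group has order `2 ^ p` with `p` prime -/
theorem abstract_T
    (htrans : ∀ u w : V, u ≠ 0 → w ≠ 0 → ∃ l : L, l • u = w)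
    (hsemi : ∀ l : L, l ≠ 1 → ∀ u w : V, u ≠ 0 → w ≠ 0 → l • u = u → l • w = w → u = w)
    (hfix : ∃ l : L, l ≠ 1 ∧ ∃ v : V, v ≠ 0 ∧ l • v = v) :
    ∃ p : ℕ, p.Prime ∧ Nat.card V = 2 ^ p := by
  classical
  obtain ⟨l₀, hl₀, v₀, hv₀, hlv⟩ := hfix
  -- characteristic two
  have h2v₀ : v₀ + v₀ = 0 := by
    by_contra hne
    have h1 : l₀ • (v₀ + v₀) = v₀ + v₀ := by rw [smul_add, hlv]
    have h2 := hsemi l₀ hl₀ v₀ (v₀ + v₀) hv₀ hne hlv h1
    apply hv₀
    have : v₀ + v₀ = v₀ + 0 := by rw [add_zero]; exact h2.symm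
    exact add_left_cancel this
  have h2 : ∀ v : V, v + v = 0 := by
    intro v
    by_cases hv : v = 0
    · rw [hv, add_zero]
    · obtain ⟨l, hl⟩ := htrans v₀ v hv₀ hv
      rw [← hl, ← smul_add, h2v₀, smul_zero]
  have hneg : ∀ v : V, -v = v := fun v => neg_eq_of_add_eq_zero_left (h2 v)
  -- a third vector
  obtain ⟨u₁, hu₁⟩ : ∃ u : V, l₀ • u ≠ u := by
    by_contra hcon
    push Not at hcon
    apply hl₀
    apply FaithfulSMul.eq_of_smul_eq_smul (α := V)
    intro v
    rw [hcon v, one_smul]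
  have hu₁0 : u₁ ≠ 0 := by
    rintro rfl
    exact hu₁ (smul_zero _)
  have hu₁v : u₁ ≠ v₀ := by
    rintro rfl
    exact hu₁ hlv
  -- the Frobenius complement
  obtain ⟨C, hC⟩ : ∃ C : Subgroup L, C = MulAction.stabilizer L v₀ := ⟨_, rfl⟩
  have hmemC : ∀ x : L, x ∈ C ↔ x • v₀ = v₀ := by
    intro x
    rw [hC, MulAction.mem_stabilizer_iff]
  have hconjC : ∀ g x : L, x ∈ MulAut.conj g • C ↔ x • (g • v₀) = g • v₀ := by
    intro g x
    rw [Subgroup.mem_pointwise_smul_iff_inv_smul_mem, hmemC]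
    show (MulAut.conj g)⁻¹ x • v₀ = v₀ ↔ _
    rw [← map_inv, MulAut.conj_apply, inv_inv, mul_smul, mul_smul, inv_smul_eq_iff]
  have hFC : IsFrobeniusComplement C := by
    refine ⟨?_, ?_, ?_⟩
    · intro h
      have : l₀ ∈ C := (hmemC l₀).mpr hlv
      rw [h, Subgroup.mem_bot] at this
      exact hl₀ this
    · intro h
      obtain ⟨l, hl⟩ := htrans v₀ u₁ hv₀ hu₁0
      have : l ∈ C := by rw [h]; exact Subgroup.mem_top l
      rw [hmemC, hl] at this
      exact hu₁v this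
    · intro g hg
      rw [Subgroup.eq_bot_iff_forall]
      intro x hx
      obtain ⟨hx1, hx2⟩ := Subgroup.mem_inf.mp hx
      rw [hmemC] at hx1
      rw [hconjC] at hx2
      by_contra hx1'
      have hgv : g • v₀ ≠ 0 := by
        intro h
        apply hv₀
        have := congrArg (fun w => g⁻¹ • w) h
        simpa using this
      have := hsemi x hx1' v₀ (g • v₀) hv₀ hgv hx1 hx2
      apply hg
      rw [hmemC]
      exact this.symm
  obtain ⟨K, hKset, hKn, hKnil⟩ := Cfsg.Agent.S0042.result C hFC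
  obtain ⟨K', hK'set, -, hKcompl⟩ := Cfsg.Agent.S0035.result C hFC
  have hKK' : K' = K := SetLike.ext' (hK'set.trans hKset.symm)
  rw [hKK'] at hKcompl
  have hKmem : ∀ k : L, k ∈ K → k = 1 ∨ ∀ g : L, k ∉ MulAut.conj g • C := by
    intro k hk
    have : k ∈ (K : Set L) := hk
    rw [hKset] at this
    exact this
  -- K1
  have hK1 : ∀ k : L, k ∈ K → k ≠ 1 → ∀ w : V, w ≠ 0 → k • w ≠ w := by
    intro k hk hk1 w hw hkw
    rcases hKmem k hk with h | h
    · exact hk1 h
    · obtain ⟨g, hg⟩ := htrans v₀ w hv₀ hw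
      apply h g
      rw [hconjC, hg, hkw]
  -- K2
  have hK2 : ∀ w : V, w ≠ 0 → ∃ k : L, k ∈ K ∧ k • v₀ = w := by
    intro w hw
    obtain ⟨g, hg⟩ := htrans v₀ w hv₀ hw
    obtain ⟨⟨k, c⟩, hkc, -⟩ := (Subgroup.isComplement'_def.mp hKcompl).existsUnique g
    refine ⟨k.1, k.2, ?_⟩
    have hc : (c : L) • v₀ = v₀ := (hmemC c.1).mp c.2
    have hkc' : (k : L) * (c : L) = g := hkc
    rw [← hg, ← hkc', mul_smul, hc]
  have hKtrans : ∀ u w : V, u ≠ 0 → w ≠ 0 → ∃ k : L, k ∈ K ∧ k • u = w := by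
    intro u w hu hw
    obtain ⟨k₁, hk₁, hk₁u⟩ := hK2 u hu
    obtain ⟨k₂, hk₂, hk₂w⟩ := hK2 w hw
    refine ⟨k₂ * k₁⁻¹, K.mul_mem hk₂ (K.inv_mem hk₁), ?_⟩
    rw [mul_smul, ← hk₁u, inv_smul_smul, hk₂w]
  -- K has odd order
  have hKodd : ¬ 2 ∣ Nat.card K := by
    intro h
    haveI : Fact (Nat.Prime 2) := ⟨Nat.prime_two⟩
    obtain ⟨k, hk⟩ := exists_prime_orderOf_dvd_card' 2 h
    have hk' : orderOf (k : L) = 2 := by rw [Subgroup.orderOf_coe]; exact hk
    have hk1 : (k : L) ≠ 1 := by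
      intro h
      rw [h, orderOf_one] at hk'
      omega
    have hk2 : (k : L) * (k : L) = 1 := by
      rw [← pow_two, ← hk', pow_orderOf_eq_one]
    have hkk : ∀ w : V, (k : L) • ((k : L) • w) = w := by
      intro w
      rw [← mul_smul, hk2, one_smul]
    have h3 : (k : L) • (v₀ + (k : L) • v₀) = v₀ + (k : L) • v₀ := by
      rw [smul_add, hkk, add_comm]
    have h4 : v₀ + (k : L) • v₀ = 0 := by
      by_contra hne
      exact hK1 k k.2 hk1 _ hne h3
    have h5 : (k : L) • v₀ = v₀ := by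
      have := neg_eq_of_add_eq_zero_right h4
      rw [← this, hneg]
    exact hK1 k k.2 hk1 v₀ hv₀ h5
  -- K commutative
  haveI : Group.IsNilpotent K := hKnil
  have hKcomm : ∀ x y : K, x * y = y * x := by
    apply comm_of_nilpotent_sylow_comm
    intro p hp P hpd
    have hp2 : p ≠ 2 := by
      rintro rfl
      exact hKodd hpd
    have hcyc := (Cfsg.Agent.S1160.result (P := ↥(P : Subgroup K)) (E := V) (p := p) (q := 2)
      hp2 P.2 Nat.prime_two (fun e => by rw [two_nsmul]; exact h2 e) ?_).1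
    · intro x y
      haveI := hcyc
      exact (IsCyclic.isMulCommutative (α := ↥(P : Subgroup K))).is_comm.comm x y
    · have hstab : ∀ a : V, a ≠ 0 → MulAction.stabilizer ↥(P : Subgroup K) a = ⊥ := by
        intro a ha
        rw [Subgroup.eq_bot_iff_forall]
        intro x hx
        rw [MulAction.mem_stabilizer_iff] at hx
        by_contra hx1
        have hx1' : ((x : K) : L) ≠ 1 := by
          intro h
          apply hx1
          apply Subtype.ext
          apply Subtype.ext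
          exact h
        exact hK1 ((x : K) : L) (x : K).2 hx1' a ha hx
      intro a b ha hb
      rw [hstab a ha, hstab b hb]
  -- the set of endomorphisms
  let T : L →* AddMonoid.End V := DistribMulAction.toAddMonoidEnd L V
  have hT : ∀ (l : L) (v : V), T l v = l • v := fun _ _ => rfl
  obtain ⟨A, hA⟩ : ∃ A : Set (AddMonoid.End V), A = {x | ∃ k ∈ K, T k = x} := ⟨_, rfl⟩
  -- an element of prime order in C
  have hord : orderOf l₀ ≠ 1 := fun h => hl₀ (orderOf_eq_one_iff.mp h)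
  obtain ⟨q, hq⟩ : ∃ q : ℕ, q = (orderOf l₀).minFac := ⟨_, rfl⟩
  have hqp : q.Prime := by rw [hq]; exact Nat.minFac_prime hord
  have hqd : q ∣ orderOf l₀ := by rw [hq]; exact Nat.minFac_dvd _
  obtain ⟨l₁, hl₁⟩ : ∃ l₁ : L, l₁ = l₀ ^ (orderOf l₀ / q) := ⟨_, rfl⟩
  have hl₁ord : orderOf l₁ = q := by
    rw [hl₁]
    exact orderOf_pow_orderOf_div (orderOf_pos l₀).ne' hqd
  have hl₁1 : l₁ ≠ 1 := by
    intro h
    rw [h, orderOf_one] at hl₁ord
    exact hqp.one_lt.ne hl₁ord
  have hl₁v : l₁ • v₀ = v₀ := by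
    have : l₁ ∈ C := by
      rw [hl₁]
      exact C.pow_mem ((hmemC l₀).mpr hlv) _
    exact (hmemC l₁).mp this
  refine ⟨q, hqp, ?_⟩
  apply Cfsg.Agent.Lib.Helper22.FieldAut.card_eq_two_pow A ?_ ?_ (T l₁) q hqp ?_ ?_ ?_ v₀ hv₀ ?_ ?_
  · intro x hx y hy
    rw [hA] at hx hy
    obtain ⟨k₁, hk₁, rfl⟩ := hx
    obtain ⟨k₂, hk₂, rfl⟩ := hy
    rw [← map_mul, ← map_mul]
    have := hKcomm ⟨k₁, hk₁⟩ ⟨k₂, hk₂⟩
    have h' : k₁ * k₂ = k₂ * k₁ := congrArg Subtype.val this
    rw [h']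
  · intro u w hu hw
    obtain ⟨k, hk, hkw⟩ := hKtrans u w hu hw
    refine ⟨T k, ?_, ?_⟩
    · rw [hA]
      exact ⟨k, hk, rfl⟩
    · rw [hT, hkw]
  · rw [← map_pow, ← hl₁ord, pow_orderOf_eq_one, map_one]
  · intro h
    apply hl₁1
    apply FaithfulSMul.eq_of_smul_eq_smul (α := V)
    intro v
    rw [one_smul, ← hT, h]
    rfl
  · intro x hx
    rw [hA] at hx
    obtain ⟨k, hk, rfl⟩ := hx
    refine ⟨T (l₁ * k * l₁⁻¹), ?_, ?_⟩
    · rw [hA]
      exact ⟨l₁ * k * l₁⁻¹, hKn.conj_mem k hk l₁, rfl⟩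
    · rw [← map_mul, ← map_mul]
      congr 1
      group
  · rw [hT, hl₁v]
  · intro w hw
    rw [hT] at hw
    by_cases hw0 : w = 0
    · exact Or.inl hw0
    · right
      exact (hsemi l₁ hl₁1 v₀ w hv₀ hw0 hl₁v hw).symm

end Cfsg.Agent.Lib.Helper22.ZassReg
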