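import Mathlib
import Cfsg.Agent.Lib.Helper22.ZassReg

set_option autoImplicit false
open Cfsg

namespace Cfsg.Agent.Lib.Helper22.ZassRegApp

variable {G : Type*} [Group G]

/-- additive commutative group structure on `Additive N` from commutativity -/
@[reducible] def addCommGroupOfComm (N : Subgroup G) (hc : ∀ x y : ↥N, x * y = y * x) :
    AddCommGroup (Additive ↥N) :=
  { (inferInstance : AddGroup (Additive ↥N)) with
    add_comm := fun x y => hc (Additive.toMul x) (Additive.toMul y) }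

/-- conjugation action of a subgroup on a normal subgroup, additively -/
@[reducible] def conjDMA (N : Subgroup G) [hN : N.Normal] (H : Subgroup G) :
    DistribMulAction ↥H (Additive ↥N) where
  smul h v := Additive.ofMul ⟨(h : G) * ((Additive.toMul v : ↥N) : G) * (h : G)⁻¹,
    hN.conj_mem _ (Additive.toMul v).2 _⟩
  one_smul v := by
    apply congrArg Additive.ofMul (a₂ := Additive.toMul v)
    apply Subtype.ext
    show ((1 : ↥H) : G) * ((Additive.toMul v : ↥N) : G) * ((1 : ↥H) : G)⁻¹ =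
      ((Additive.toMul v : ↥N) : G)
    rw [Subgroup.coe_one]
    group
  mul_smul h₁ h₂ v := by
    apply congrArg Additive.ofMul
    apply Subtype.ext
    show ((h₁ * h₂ : ↥H) : G) * ((Additive.toMul v : ↥N) : G) * ((h₁ * h₂ : ↥H) : G)⁻¹ =
      (h₁ : G) * ((h₂ : G) * ((Additive.toMul v : ↥N) : G) * (h₂ : G)⁻¹) * (h₁ : G)⁻¹
    rw [Subgroup.coe_mul]
    group
  smul_zero h := by
    apply congrArg Additive.ofMul
    apply Subtype.ext
    show (h : G) * ((1 : ↥N) : G) * (h : G)⁻¹ = ((1 : ↥N) : G)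
    simp
  smul_add h v w := by
    apply congrArg Additive.ofMul
    apply Subtype.ext
    show (h : G) * ((Additive.toMul v * Additive.toMul w : ↥N) : G) * (h : G)⁻¹ =
      ((h : G) * ((Additive.toMul v : ↥N) : G) * (h : G)⁻¹) *
        ((h : G) * ((Additive.toMul w : ↥N) : G) * (h : G)⁻¹)
    rw [Subgroup.coe_mul]
    group

theorem main {Ω : Type*} [MulAction G Ω] [Fintype Ω] [FaithfulSMul G Ω]
    (h2 : MulAction.IsMultiplyPretransitive G Ω 2)
    (h3 : ∀ g : G, ∀ a b c : Ω, a ≠ b → b ≠ c → a ≠ c → g • a = a → g • b = b → g • c = c → g = 1)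
    (hfix : ∃ g : G, g ≠ 1 ∧ ∃ a b : Ω, a ≠ b ∧ g • a = a ∧ g • b = b)
    (N : Subgroup G) [hN : N.Normal] (hNt : MulAction.IsPretransitive N Ω)
    (hNr : ∀ a : Ω, MulAction.stabilizer N a = ⊥) :
    ∃ p : ℕ, p.Prime ∧ Fintype.card Ω = 2 ^ p := by
  classical
  obtain ⟨g, hg1, a, b, hab, hga, hgb⟩ := hfix
  haveI : Finite G := Finite.of_injective (MulAction.toPermHom G Ω) MulAction.toPerm_injective
  have h2t : ∀ x y : Ω, x ≠ a → y ≠ a → ∃ h : G, h • a = a ∧ h • x = y := by
    intro x y hx hy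
    exact (MulAction.is_two_pretransitive_iff.mp h2) (Ne.symm hx) (Ne.symm hy)
  -- regularity
  have hR1 : ∀ w : Ω, ∃ n : G, n ∈ N ∧ n • a = w := by
    intro w
    obtain ⟨n, hn⟩ := MulAction.exists_smul_eq ↥N a w
    exact ⟨n.1, n.2, hn⟩
  have hR2 : ∀ n : G, n ∈ N → n • a = a → n = 1 := by
    intro n hn hna
    have : (⟨n, hn⟩ : ↥N) ∈ MulAction.stabilizer ↥N a := by
      rw [MulAction.mem_stabilizer_iff]
      exact hna
    rw [hNr a, Subgroup.mem_bot] at this
    exact congrArg Subtype.val this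
  have hR3 : ∀ n n' : G, n ∈ N → n' ∈ N → n • a = n' • a → n = n' := by
    intro n n' hn hn' h
    have h1 : n'⁻¹ * n = 1 := by
      apply hR2 _ (N.mul_mem (N.inv_mem hn') hn)
      rw [mul_smul, h, inv_smul_smul]
    calc n = n' * (n'⁻¹ * n) := by group
      _ = n' := by rw [h1, mul_one]
  have hconj : ∀ h n : G, h • a = a → n ∈ N → h * n * h⁻¹ ∈ N ∧ (h * n * h⁻¹) • a = h • (n • a) := by
    intro h n hh hn
    refine ⟨hN.conj_mem n hn h, ?_⟩
    rw [mul_smul, mul_smul, inv_smul_eq_iff.mpr hh.symm]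
  -- exponent two
  obtain ⟨nb, hnbN, hnb⟩ := hR1 b
  have hgnb : g * nb * g⁻¹ = nb := by
    obtain ⟨h1, h2'⟩ := hconj g nb hga hnbN
    apply hR3 _ _ h1 hnbN
    rw [h2', hnb, hgb]
  have hgnb' : g * nb = nb * g := by
    calc g * nb = (g * nb * g⁻¹) * g := by group
      _ = nb * g := by rw [hgnb]
  have hnb2 : nb * nb = 1 := by
    apply hR2 _ (N.mul_mem hnbN hnbN)
    by_contra hne
    apply hg1
    apply h3 g a b (nb • b) hab
    · intro h
      apply hab
      rw [← hnb] at h
      have := smul_left_cancel nb h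
      rw [← hnb]
      exact this
    · intro h
      apply hne
      rw [mul_smul, hnb]
      exact h.symm
    · exact hga
    · exact hgb
    · rw [← mul_smul, hgnb', mul_smul, hgb]
  have hexp : ∀ n : G, n ∈ N → n * n = 1 := by
    intro n hn
    by_cases hn1 : n = 1
    · rw [hn1, mul_one]
    · have hna : n • a ≠ a := fun h => hn1 (hR2 n hn h)
      obtain ⟨h, hha, hhb⟩ := h2t b (n • a) hab.symm hna
      obtain ⟨h1, h2'⟩ := hconj h nb hha hnbN
      have : h * nb * h⁻¹ = n := by
        apply hR3 _ _ h1 hn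
        rw [h2', hnb, hhb]
      rw [← this]
      calc h * nb * h⁻¹ * (h * nb * h⁻¹) = h * (nb * nb) * h⁻¹ := by group
        _ = 1 := by rw [hnb2]; group
  have hcomm : ∀ x y : ↥N, x * y = y * x := by
    intro x y
    apply Subtype.ext
    show (x : G) * (y : G) = (y : G) * (x : G)
    have hx := hexp x.1 x.2
    have hy := hexp y.1 y.2
    have hxy := hexp _ (N.mul_mem x.2 y.2)
    have hinv : ∀ n : G, n ∈ N → n⁻¹ = n := fun n hn => inv_eq_of_mul_eq_one_left (hexp n hn)
    calc (x : G) * (y : G) = ((x : G) * (y : G))⁻¹ := (hinv _ (N.mul_mem x.2 y.2)).symm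
      _ = (y : G)⁻¹ * (x : G)⁻¹ := mul_inv_rev _ _
      _ = (y : G) * (x : G) := by rw [hinv _ y.2, hinv _ x.2]
  -- the abstract set-up
  letI : AddCommGroup (Additive ↥N) := addCommGroupOfComm N hcomm
  letI : DistribMulAction ↥(MulAction.stabilizer G a) (Additive ↥N) :=
    conjDMA N (MulAction.stabilizer G a)
  have hsmul : ∀ (h : ↥(MulAction.stabilizer G a)) (v : Additive ↥N),
      ((Additive.toMul (h • v) : ↥N) : G) = (h : G) * ((Additive.toMul v : ↥N) : G) * (h : G)⁻¹ :=
    fun _ _ => rfl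
  have hstab : ∀ h : ↥(MulAction.stabilizer G a), (h : G) • a = a := fun h =>
    MulAction.mem_stabilizer_iff.mp h.2
  have hpt : ∀ (h : ↥(MulAction.stabilizer G a)) (v : Additive ↥N),
      ((Additive.toMul (h • v) : ↥N) : G) • a = (h : G) • (((Additive.toMul v : ↥N) : G) • a) := by
    intro h v
    rw [hsmul]
    exact (hconj (h : G) _ (hstab h) (Additive.toMul v).2).2
  have hne0 : ∀ v : Additive ↥N, v ≠ 0 → ((Additive.toMul v : ↥N) : G) • a ≠ a := by
    intro v hv h
    apply hv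
    have := hR2 _ (Additive.toMul v).2 h
    have h1 : (Additive.toMul v : ↥N) = 1 := Subtype.ext this
    exact h1
  have heqv : ∀ v w : Additive ↥N,
      ((Additive.toMul v : ↥N) : G) • a = ((Additive.toMul w : ↥N) : G) • a → v = w := by
    intro v w h
    have := hR3 _ _ (Additive.toMul v).2 (Additive.toMul w).2 h
    have h1 : (Additive.toMul v : ↥N) = Additive.toMul w := Subtype.ext this
    exact h1
  haveI : FaithfulSMul ↥(MulAction.stabilizer G a) (Additive ↥N) := by
    refine ⟨?_⟩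
    intro h₁ h₂ h
    apply Subtype.ext
    apply FaithfulSMul.eq_of_smul_eq_smul (α := Ω)
    intro w
    obtain ⟨n, hn, hnw⟩ := hR1 w
    have h1 := hpt h₁ (Additive.ofMul ⟨n, hn⟩)
    have h2' := hpt h₂ (Additive.ofMul ⟨n, hn⟩)
    rw [h (Additive.ofMul ⟨n, hn⟩)] at h1
    have h3' : (h₁ : G) • (n • a) = (h₂ : G) • (n • a) := h1.symm.trans h2'
    rw [hnw] at h3'
    exact h3'
  have key := Cfsg.Agent.Lib.Helper22.ZassReg.abstract_T
    (L := ↥(MulAction.stabilizer G a)) (V := Additive ↥N) ?_ ?_ ?_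
  · obtain ⟨p, hp, hcard⟩ := key
    refine ⟨p, hp, ?_⟩
    rw [← hcard, ← Nat.card_eq_fintype_card]
    apply Nat.card_congr
    refine (Equiv.ofBijective (fun v : Additive ↥N => ((Additive.toMul v : ↥N) : G) • a) ⟨?_, ?_⟩).symm
    · intro v w h
      exact heqv v w h
    · intro w
      obtain ⟨n, hn, hnw⟩ := hR1 w
      exact ⟨Additive.ofMul ⟨n, hn⟩, hnw⟩
  · intro u w hu hw
    obtain ⟨h, hha, hhu⟩ := h2t _ _ (hne0 u hu) (hne0 w hw)
    refine ⟨⟨h, MulAction.mem_stabilizer_iff.mpr hha⟩, ?_⟩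
    apply heqv
    rw [hpt]
    exact hhu
  · intro l hl u w hu hw hlu hlw
    apply heqv
    by_contra hne
    apply hl
    apply Subtype.ext
    show (l : G) = 1
    apply h3 (l : G) a _ _ (hne0 u hu).symm hne (hne0 w hw).symm (hstab l)
    · have := hpt l u
      rw [hlu] at this
      exact this.symm
    · have := hpt l w
      rw [hlw] at this
      exact this.symm
  · refine ⟨⟨g, MulAction.mem_stabilizer_iff.mpr hga⟩, ?_, Additive.ofMul ⟨nb, hnbN⟩, ?_, ?_⟩
    · intro h
      exact hg1 (congrArg Subtype.val h)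
    · intro h
      have h1 : (⟨nb, hnbN⟩ : ↥N) = 1 := h
      have h2' : nb = 1 := congrArg Subtype.val h1
      rw [h2', one_smul] at hnb
      exact hab hnb
    · apply heqv
      rw [hpt]
      show g • (nb • a) = nb • a
      rw [hnb, hgb]

end Cfsg.Agent.Lib.Helper22.ZassRegApp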