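import Mathlib
import Cfsg.Agent.S0040
import Cfsg.Agent.S0728
import Cfsg.Agent.Lib.Helper22.Sharp3A
import Cfsg.Agent.Lib.Helper22.Sharp3E
import Cfsg.Agent.Lib.Helper22.Sharp3F
import Cfsg.Agent.Lib.Helper22.ZassRegApp

/-!
Sharply triply transitive groups of even degree in which every involution has a fixed point have a
subgroup of index two (helper22).  Concrete application of `Sharp3E` and `Sharp3F`.
-/

set_option autoImplicit false
set_option maxHeartbeats 1000000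

namespace Cfsg.Agent.Lib.Helper22.Sharp3G

open Cfsg.Agent.Lib.Helper22

variable {G Ω : Type*} [Group G] [MulAction G Ω]

/-- the data of a sharply triply transitive group with its Frobenius kernel and a swapping
involution with a fixed point -/
structure Setup (a b e : Ω) (H F : Subgroup G) (t : G) (p : ℕ) : Prop where
  h2t : ∀ {x y x' y' : Ω}, x ≠ y → x' ≠ y' → ∃ g : G, g • x = x' ∧ g • y = y'
  h3 : ∀ g : G, ∀ x y z : Ω, x ≠ y → y ≠ z → x ≠ z → g • x = x → g • y = y → g • z = z → g = 1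
  hab : a ≠ b
  hHmem : ∀ g : G, g ∈ H ↔ g • a = a ∧ g • b = b
  hHtr : ∀ x y : Ω, x ≠ a → x ≠ b → y ≠ a → y ≠ b → ∃ h ∈ H, h • x = y
  hHeven : Even (Nat.card H)
  hcard : Nat.card H + 1 = Nat.card F
  hFa : ∀ u ∈ F, u • a = a
  hFconj : ∀ g : G, g • a = a → ∀ u ∈ F, g * u * g⁻¹ ∈ F
  hFfree : ∀ u ∈ F, ∀ y : Ω, y ≠ a → u • y = y → u = 1
  hFtr : ∀ y z : Ω, y ≠ a → z ≠ a → ∃ u ∈ F, u • y = z
  hFcomm : ∀ u ∈ F, ∀ v ∈ F, u * v = v * u
  hp : p.Prime
  hp2 : p ≠ 2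
  hFp : ∀ u ∈ F, u ^ p = 1
  htt : t * t = 1
  hta : t • a = b
  htb : t • b = a
  hea : e ≠ a
  heb : e ≠ b
  hte : t • e = e

namespace Setup

variable {a b e : Ω} {H F : Subgroup G} {t : G} {p : ℕ}

theorem fixH (S : Setup a b e H F t p) {h : G} (hh : h ∈ H) : h • a = a ∧ h • b = b :=
  (S.hHmem h).mp hh

theorem H_free (S : Setup a b e H F t p) {h : G} (hh : h ∈ H) {x : Ω} (hxa : x ≠ a) (hxb : x ≠ b)
    (hx : h • x = x) : h = 1 :=
  S.h3 h a b x S.hab (Ne.symm hxb) (Ne.symm hxa) (S.fixH hh).1 (S.fixH hh).2 hx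

theorem F_ne_one_smul (S : Setup a b e H F t p) {u : G} (hu : u ∈ F) (hu1 : u ≠ 1) :
    u • b ≠ a ∧ u • b ≠ b := by
  constructor
  · intro h
    have h1 : u • b = u • a := by rw [h, S.hFa u hu]
    exact S.hab (MulAction.injective u h1).symm
  · intro h
    exact hu1 (S.hFfree u hu b S.hab.symm h)

theorem conj_free (S : Setup a b e H F t p) {d : G} (hd : d ∈ H) {u : G} (hu : u ∈ F)
    (hu1 : u ≠ 1) (h : d * u * d⁻¹ = u) : d = 1 := by
  obtain ⟨h1, h2⟩ := S.F_ne_one_smul hu hu1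
  apply S.H_free hd h1 h2
  have e1 : d * u = u * d := by
    calc d * u = d * u * d⁻¹ * d := by group
      _ = u * d := by rw [h]
  rw [← mul_smul, e1, mul_smul, (S.fixH hd).2]

theorem invol_inverts [Finite G] (S : Setup a b e H F t p) {z : G} (hz : z ∈ H) (hzz : z * z = 1)
    (hz1 : z ≠ 1) : ∀ u ∈ F, z * u * z⁻¹ = u⁻¹ := by
  have hza := (S.fixH hz).1
  have hzi : z⁻¹ = z := inv_eq_of_mul_eq_one_right hzz
  have key := Sharp3A.inv_of_fpf (M := ↥F)
    (fun u => ⟨z * (u : G) * z⁻¹, S.hFconj z hza u.1 u.2⟩)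
    (by
      intro x y
      apply Subtype.ext
      show z * ((x : G) * (y : G)) * z⁻¹ = (z * (x : G) * z⁻¹) * (z * (y : G) * z⁻¹)
      group)
    (by
      intro x
      apply Subtype.ext
      show z * (z * (x : G) * z⁻¹) * z⁻¹ = (x : G)
      rw [hzi]
      calc z * (z * (x : G) * z) * z = (z * z) * (x : G) * (z * z) := by group
        _ = (x : G) := by rw [hzz, one_mul, mul_one])
    (by
      intro x hx
      by_contra hx1
      have h1 : z * (x : G) * z⁻¹ = (x : G) := congrArg Subtype.val hx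
      have hx1' : (x : G) ≠ 1 := fun h => hx1 (Subtype.ext h)
      exact hz1 (S.conj_free hz x.2 hx1' h1))
  intro u hu
  exact congrArg Subtype.val (key ⟨u, hu⟩)

theorem exists_F_ne_one (S : Setup a b e H F t p) : ∃ u ∈ F, u ≠ 1 := by
  obtain ⟨u, hu, hub⟩ := S.hFtr b e S.hab.symm S.hea
  refine ⟨u, hu, ?_⟩
  intro h
  rw [h, one_smul] at hub
  exact S.heb hub.symm

theorem invol_unique [Finite G] (S : Setup a b e H F t p) {z z' : G} (hz : z ∈ H)
    (hzz : z * z = 1) (hz1 : z ≠ 1) (hz' : z' ∈ H) (hzz' : z' * z' = 1) (hz1' : z' ≠ 1) :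
    z' = z := by
  obtain ⟨u, hu, hu1⟩ := S.exists_F_ne_one
  have h1 := S.invol_inverts hz hzz hz1
  have h2 := S.invol_inverts hz' hzz' hz1'
  have h3 : (z * z') * u * (z * z')⁻¹ = u := by
    calc (z * z') * u * (z * z')⁻¹ = z * (z' * u * z'⁻¹) * z⁻¹ := by group
      _ = z * u⁻¹ * z⁻¹ := by rw [h2 u hu]
      _ = u⁻¹⁻¹ := h1 u⁻¹ (F.inv_mem hu)
      _ = u := inv_inv u
  have h4 := S.conj_free (H.mul_mem hz hz') hu hu1 h3
  have hzi : z⁻¹ = z := inv_eq_of_mul_eq_one_right hzz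
  exact ((inv_eq_of_mul_eq_one_right h4).symm.trans hzi)

theorem exists_invol [Finite G] (S : Setup a b e H F t p) :
    ∃ z ∈ H, z * z = 1 ∧ z ≠ 1 := by
  haveI : Fact (Nat.Prime 2) := ⟨Nat.prime_two⟩
  obtain ⟨z, hz⟩ := exists_prime_orderOf_dvd_card' (G := ↥H) 2 S.hHeven.two_dvd
  refine ⟨z, z.2, ?_, ?_⟩
  · have h1 := pow_orderOf_eq_one z
    rw [hz, pow_two] at h1
    exact congrArg Subtype.val h1
  · intro h
    have h1 : z = 1 := Subtype.ext h
    rw [h1, orderOf_one] at hz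
    norm_num at hz

theorem t_ne_one (S : Setup a b e H F t p) : t ≠ 1 := by
  intro h1
  have := S.hta
  rw [h1, one_smul] at this
  exact S.hab this

theorem cent_t (S : Setup a b e H F t p) {d : G} (hd : d ∈ H) (h : t * d * t = d) :
    d * d = 1 := by
  have hcomm : t * d = d * t := by
    calc t * d = t * d * (t * t) := by rw [S.htt, mul_one]
      _ = (t * d * t) * t := by group
      _ = d * t := by rw [h]
  have f1 : t • (d • e) = d • e := by
    rw [← mul_smul, hcomm, mul_smul, S.hte]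
  have f2 : t • (d • d • e) = d • d • e := by
    rw [← mul_smul, hcomm, mul_smul, f1]
  have hdd : d • d • e = e := by
    by_cases c1 : e = d • e
    · rw [← c1, ← c1]
    · by_cases c2 : d • e = d • d • e
      · exact absurd (MulAction.injective d c2) c1
      · by_cases c3 : e = d • d • e
        · exact c3.symm
        · exact absurd (S.h3 t e (d • e) (d • d • e) c1 c2 c3 S.hte f1 f2) S.t_ne_one
  apply S.H_free (H.mul_mem hd hd) S.hea S.heb
  rw [mul_smul, hdd]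

theorem to_abe (S : Setup a b e H F t p) {x₁ x₂ x₃ : Ω} (h12 : x₁ ≠ x₂) (h13 : x₁ ≠ x₃)
    (h23 : x₂ ≠ x₃) : ∃ g : G, g • x₁ = a ∧ g • x₂ = b ∧ g • x₃ = e := by
  obtain ⟨g₁, h1, h2⟩ := S.h2t h12 S.hab
  have hra : g₁ • x₃ ≠ a := fun h => h13 (MulAction.injective g₁ (h1.trans h.symm))
  have hrb : g₁ • x₃ ≠ b := fun h => h23 (MulAction.injective g₁ (h2.trans h.symm))
  obtain ⟨h, hh, hhr⟩ := S.hHtr _ e hra hrb S.hea S.heb
  refine ⟨h * g₁, ?_, ?_, ?_⟩
  · rw [mul_smul, h1, (S.fixH hh).1]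
  · rw [mul_smul, h2, (S.fixH hh).2]
  · rw [mul_smul, hhr]

theorem three_trans (S : Setup a b e H F t p) : MulAction.IsMultiplyPretransitive G Ω 3 := by
  refine ⟨fun x y => ?_⟩
  have hx : ∀ i j : Fin 3, i ≠ j → x i ≠ x j := fun i j hij h => hij (x.injective h)
  have hy : ∀ i j : Fin 3, i ≠ j → y i ≠ y j := fun i j hij h => hij (y.injective h)
  obtain ⟨g, hg0, hg1, hg2⟩ :=
    S.to_abe (hx 0 1 (by decide)) (hx 0 2 (by decide)) (hx 1 2 (by decide))
  obtain ⟨g', hg0', hg1', hg2'⟩ :=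
    S.to_abe (hy 0 1 (by decide)) (hy 0 2 (by decide)) (hy 1 2 (by decide))
  refine ⟨g'⁻¹ * g, ?_⟩
  ext i
  rw [Function.Embedding.smul_apply, mul_smul, inv_smul_eq_iff]
  fin_cases i
  · exact hg0.trans hg0'.symm
  · exact hg1.trans hg1'.symm
  · exact hg2.trans hg2'.symm

theorem sharp (S : Setup a b e H F t p) : ∀ x : Fin 3 ↪ Ω, MulAction.stabilizer G x = ⊥ := by
  intro x
  rw [eq_bot_iff]
  intro g hg
  rw [MulAction.mem_stabilizer_iff] at hg
  have h : ∀ i, g • x i = x i := fun i => by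
    have := DFunLike.congr_fun hg i
    rwa [Function.Embedding.smul_apply] at this
  have hx : ∀ i j : Fin 3, i ≠ j → x i ≠ x j := fun i j hij h => hij (x.injective h)
  rw [Subgroup.mem_bot]
  exact S.h3 g (x 0) (x 1) (x 2) (hx 0 1 (by decide)) (hx 1 2 (by decide)) (hx 0 2 (by decide))
    (h 0) (h 1) (h 2)

theorem order_three (S : Setup a b e H F t p) {x y : G} (hx : x ∈ H) (hy : y ∈ H)
    (hx3 : orderOf x = 3) (hy3 : orderOf y = 3) : y = x ∨ y = x⁻¹ := by
  have hx3' : x ^ 3 = 1 := by rw [← hx3]; exact pow_orderOf_eq_one x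
  have hy3' : y ^ 3 = 1 := by rw [← hy3]; exact pow_orderOf_eq_one y
  have hx1 : x ≠ 1 := by
    intro h
    rw [h, orderOf_one] at hx3
    norm_num at hx3
  have hy1 : y ≠ 1 := by
    intro h
    rw [h, orderOf_one] at hy3
    norm_num at hy3
  exact Cfsg.Agent.S0728.key S.three_trans S.sharp S.hab S.hea S.heb hx3' hy3' hx1 hy1
    (S.fixH hx).1 (S.fixH hx).2 (S.fixH hy).1 (S.fixH hy).2

end Setup

/-- transporting the Sylow structure along an isomorphism -/
theorem sylow_transport {A B : Type*} [Group A] [Group B] (φ : A ≃* B) (ℓ : ℕ) [Fact ℓ.Prime]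
    (h : ∀ P : Sylow ℓ A, IsCyclic P ∨ ∃ n : ℕ, Nonempty (P ≃* QuaternionGroup (2 ^ n)))
    (T : Sylow ℓ B) : IsCyclic T ∨ ∃ n : ℕ, Nonempty (T ≃* QuaternionGroup (2 ^ n)) := by
  have hr : (T : Subgroup B) ≤ φ.toMonoidHom.range := by
    intro x _
    exact ⟨φ.symm x, φ.apply_symm_apply x⟩
  obtain ⟨P, hP⟩ : ∃ P : Sylow ℓ A, (P : Subgroup A) = (T : Subgroup B).comap φ.toMonoidHom :=
    ⟨T.comapOfInjective φ.toMonoidHom φ.injective hr, Sylow.coe_comapOfInjective _ _ _ _⟩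
  have hmem : ∀ x : A, x ∈ (P : Subgroup A) ↔ φ x ∈ (T : Subgroup B) := by
    intro x
    rw [hP, Subgroup.mem_comap]
    rfl
  let ψ : ↥(P : Subgroup A) ≃* ↥(T : Subgroup B) :=
    { toFun := fun x => ⟨φ x, (hmem x).mp x.2⟩
      invFun := fun y => ⟨φ.symm y, (hmem _).mpr (by rw [φ.apply_symm_apply]; exact y.2)⟩
      left_inv := fun x => Subtype.ext (φ.symm_apply_apply x)
      right_inv := fun y => Subtype.ext (φ.apply_symm_apply y)
      map_mul' := fun x y => Subtype.ext (map_mul φ x.1 y.1) }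
  rcases h P with hc | ⟨n, ⟨θ⟩⟩
  · left
    haveI := hc
    exact isCyclic_of_surjective ψ.toMonoidHom ψ.surjective
  · right
    exact ⟨n, ⟨ψ.symm.trans θ⟩⟩

/-- conjugation action of a subgroup on a subgroup it normalises, additively -/
@[reducible] def conjDMA' (N H : Subgroup G) (hn : ∀ h ∈ H, ∀ u ∈ N, h * u * h⁻¹ ∈ N) :
    DistribMulAction ↥H (Additive ↥N) where
  smul h v := Additive.ofMul ⟨(h : G) * ((Additive.toMul v : ↥N) : G) * (h : G)⁻¹,
    hn _ h.2 _ (Additive.toMul v).2⟩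
  one_smul v := by
    apply congrArg Additive.ofMul (a₂ := Additive.toMul v)
    apply Subtype.ext
    show ((1 : ↥H) : G) * ((Additive.toMul v : ↥N) : G) * ((1 : ↥H) : G)⁻¹ =
      ((Additive.toMul v : ↥N) : G)
    rw [Subgroup.coe_one]
    group
  mul_smul h₁ h₂ v := by
    apply congrArg Additive.ofMul
    apply Subtype.ext
    show ((h₁ * h₂ : ↥H) : G) * ((Additive.toMul v : ↥N) : G) * ((h₁ * h₂ : ↥H) : G)⁻¹ =
      (h₁ : G) * ((h₂ : G) * ((Additive.toMul v : ↥N) : G) * (h₂ : G)⁻¹) * (h₁ : G)⁻¹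
    rw [Subgroup.coe_mul]
    group
  smul_zero h := by
    apply congrArg Additive.ofMul
    apply Subtype.ext
    show (h : G) * ((1 : ↥N) : G) * (h : G)⁻¹ = ((1 : ↥N) : G)
    simp
  smul_add h v w := by
    apply congrArg Additive.ofMul
    apply Subtype.ext
    show (h : G) * ((Additive.toMul v * Additive.toMul w : ↥N) : G) * (h : G)⁻¹ =
      ((h : G) * ((Additive.toMul v : ↥N) : G) * (h : G)⁻¹) *
        ((h : G) * ((Additive.toMul w : ↥N) : G) * (h : G)⁻¹)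
    rw [Subgroup.coe_mul]
    group

namespace Setup

variable {a b e : Ω} {H F : Subgroup G} {t : G} {p : ℕ}

theorem sylow_H [Finite G] (S : Setup a b e H F t p) (ℓ : ℕ) [Fact ℓ.Prime] (T : Sylow ℓ ↥H) :
    IsCyclic T ∨ ∃ n : ℕ, Nonempty (T ≃* QuaternionGroup (2 ^ n)) := by
  classical
  obtain ⟨X, hX⟩ : ∃ X : Subgroup G, X = MulAction.stabilizer G a := ⟨_, rfl⟩
  have hXmem : ∀ g : G, g ∈ X ↔ g • a = a := by
    intro g
    rw [hX, MulAction.mem_stabilizer_iff]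
  have hHX : H ≤ X := fun h hh => (hXmem h).mpr (S.fixH hh).1
  have hFX : F ≤ X := fun u hu => (hXmem u).mpr (S.hFa u hu)
  haveI hKn : (F.subgroupOf X).Normal := by
    constructor
    intro k hk x
    rw [Subgroup.mem_subgroupOf] at hk ⊢
    exact S.hFconj x.1 ((hXmem _).mp x.2) _ hk
  have hc : Subgroup.IsComplement' (F.subgroupOf X) (H.subgroupOf X) := by
    apply Subgroup.isComplement'_of_disjoint_and_mul_eq_univ
    · rw [Subgroup.disjoint_def]
      intro x hxF hxH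
      rw [Subgroup.mem_subgroupOf] at hxF hxH
      apply Subtype.ext
      exact S.hFfree x.1 hxF b S.hab.symm (S.fixH hxH).2
    · rw [Set.eq_univ_iff_forall]
      intro x
      rw [Set.mem_mul]
      have hxa : (x : G) • a = a := (hXmem _).mp x.2
      have hxb : (x : G) • b ≠ a := fun h =>
        S.hab ((MulAction.injective (x : G) (hxa.trans h.symm)))
      obtain ⟨u, hu, hub⟩ := S.hFtr b ((x : G) • b) S.hab.symm hxb
      refine ⟨⟨u, hFX hu⟩, ?_, (⟨u, hFX hu⟩ : ↥X)⁻¹ * x, ?_, ?_⟩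
      · show (⟨u, hFX hu⟩ : ↥X) ∈ F.subgroupOf X
        rw [Subgroup.mem_subgroupOf]
        exact hu
      · show (⟨u, hFX hu⟩ : ↥X)⁻¹ * x ∈ H.subgroupOf X
        rw [Subgroup.mem_subgroupOf, S.hHmem]
        show (u⁻¹ * (x : G)) • a = a ∧ (u⁻¹ * (x : G)) • b = b
        constructor
        · rw [mul_smul, hxa, inv_smul_eq_iff, S.hFa u hu]
        · rw [mul_smul, inv_smul_eq_iff, hub]
      · exact mul_inv_cancel_left _ _
  have hK : F.subgroupOf X ≠ ⊥ := by
    obtain ⟨u, hu, hu1⟩ := S.exists_F_ne_one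
    intro hbot
    have h1 : (⟨u, hFX hu⟩ : ↥X) ∈ F.subgroupOf X := by
      rw [Subgroup.mem_subgroupOf]
      exact hu
    rw [hbot, Subgroup.mem_bot] at h1
    exact hu1 (congrArg Subtype.val h1)
  have hfpf : ∀ h ∈ H.subgroupOf X, h ≠ 1 →
      F.subgroupOf X ⊓ Subgroup.centralizer {h} = ⊥ := by
    intro h hh hh1
    rw [eq_bot_iff]
    intro k hk
    rw [Subgroup.mem_inf] at hk
    obtain ⟨hkF, hkC⟩ := hk
    rw [Subgroup.mem_subgroupOf] at hkF hh
    rw [Subgroup.mem_bot]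
    by_contra hk1
    have hk1' : (k : G) ≠ 1 := fun hh' => hk1 (Subtype.ext hh')
    have h1 : h * k = k * h := Subgroup.mem_centralizer_iff.mp hkC h (Set.mem_singleton h)
    have h2 : (h : G) * (k : G) = (k : G) * (h : G) := congrArg Subtype.val h1
    have h3 : (h : G) * (k : G) * (h : G)⁻¹ = (k : G) := by
      rw [h2]
      group
    exact hh1 (Subtype.ext (S.conj_free hh hkF hk1' h3))
  have hall : ∀ P : Sylow ℓ ↥(H.subgroupOf X),
      IsCyclic P ∨ ∃ n : ℕ, Nonempty (P ≃* QuaternionGroup (2 ^ n)) :=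
    fun P => Cfsg.Agent.S0040.result (F.subgroupOf X) (H.subgroupOf X) hc hK hfpf ℓ P
  exact sylow_transport (Subgroup.subgroupOfEquivOfLe hHX) ℓ hall T

theorem sylow_H_odd [Finite G] (S : Setup a b e H F t p) (ℓ : ℕ) [hℓ : Fact ℓ.Prime] (hℓ2 : ℓ ≠ 2)
    (T : Sylow ℓ ↥H) : IsCyclic T := by
  rcases S.sylow_H ℓ T with h | ⟨n, ⟨θ⟩⟩
  · exact h
  · exfalso
    have h1 : Nat.card T = Nat.card (QuaternionGroup (2 ^ n)) := Nat.card_congr θ.toEquiv
    haveI : NeZero (2 ^ n) := ⟨by positivity⟩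
    rw [Nat.card_eq_fintype_card (α := QuaternionGroup (2 ^ n)), QuaternionGroup.card] at h1
    obtain ⟨k, hk⟩ := IsPGroup.iff_card.mp T.2
    rw [hk] at h1
    have h2 : 2 ∣ ℓ ^ k := by
      rw [h1]
      exact Dvd.dvd.mul_right (by norm_num) _
    have h3 := Nat.Prime.dvd_of_dvd_pow Nat.prime_two h2
    exact hℓ2 ((Nat.prime_dvd_prime_iff_eq Nat.prime_two hℓ.out).mp h3).symm

end Setup

/-- from a subgroup of index two to one invariant under an involutory automorphism -/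
theorem invariant_index_two {D : Type*} [Group D] (ε : D ≃* D) (hε2 : ∀ x, ε (ε x) = x)
    (K : Subgroup D) (hK : K.index = 2) :
    ∃ K₀ : Subgroup D, (∀ x y : D, x * y ∈ K₀ ↔ (x ∈ K₀ ↔ y ∈ K₀)) ∧ (∃ x : D, x ∉ K₀) ∧
      ∀ x : D, x ∈ K₀ → ε x ∈ K₀ := by
  classical
  have hm : ∀ x y : D, x * y ∈ K ↔ (x ∈ K ↔ y ∈ K) :=
    fun x y => Subgroup.mul_mem_iff_of_index_two hK
  have hex : ∃ x : D, x ∉ K := by
    by_contra hcon
    push Not at hcon
    have h1 : K = ⊤ := by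
      rw [eq_top_iff]
      intro x _
      exact hcon x
    rw [h1, Subgroup.index_top] at hK
    norm_num at hK
  by_cases hinv : ∀ x : D, x ∈ K ↔ ε x ∈ K
  · exact ⟨K, hm, hex, fun x hx => (hinv x).mp hx⟩
  · push Not at hinv
    obtain ⟨x₀, hx₀⟩ := hinv
    refine ⟨{ carrier := {x | x ∈ K ↔ ε x ∈ K}
              mul_mem' := ?_
              one_mem' := ?_
              inv_mem' := ?_ }, ?_, ?_, ?_⟩
    · intro x y hx hy
      have hx' : x ∈ K ↔ ε x ∈ K := hx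
      have hy' : y ∈ K ↔ ε y ∈ K := hy
      show x * y ∈ K ↔ ε (x * y) ∈ K
      rw [map_mul, hm, hm, hx', hy']
    · show (1 : D) ∈ K ↔ ε 1 ∈ K
      rw [map_one]
    · intro x hx
      have hx' : x ∈ K ↔ ε x ∈ K := hx
      show x⁻¹ ∈ K ↔ ε x⁻¹ ∈ K
      rw [map_inv, K.inv_mem_iff, K.inv_mem_iff]
      exact hx'
    · intro x y
      show (x * y ∈ K ↔ ε (x * y) ∈ K) ↔ ((x ∈ K ↔ ε x ∈ K) ↔ (y ∈ K ↔ ε y ∈ K))
      rw [map_mul, hm, hm]
      by_cases h1 : x ∈ K <;> by_cases h2 : y ∈ K <;> by_cases h3 : ε x ∈ K <;>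
        by_cases h4 : ε y ∈ K <;> simp [h1, h2, h3, h4]
    · refine ⟨x₀, ?_⟩
      show ¬ (x₀ ∈ K ↔ ε x₀ ∈ K)
      rcases hx₀ with ⟨h1, h2⟩ | ⟨h1, h2⟩
      · exact fun h => h2 (h.mp h1)
      · exact fun h => h1 (h.mpr h2)
    · intro x hx
      have hx' : x ∈ K ↔ ε x ∈ K := hx
      show ε x ∈ K ↔ ε (ε x) ∈ K
      rw [hε2]
      exact hx'.symm

namespace Setup

variable {a b e : Ω} {H F : Subgroup G} {t : G} {p : ℕ}

theorem t_conj_mem (S : Setup a b e H F t p) {d : G} (hd : d ∈ H) : t * d * t ∈ H := by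
  rw [S.hHmem]
  constructor
  · rw [mul_smul, mul_smul, S.hta, (S.fixH hd).2, S.htb]
  · rw [mul_smul, mul_smul, S.htb, (S.fixH hd).1, S.hta]

theorem exists_index_two_H [Finite G] (S : Setup a b e H F t p) :
    ∃ H₀ : Subgroup G, H₀ ≤ H ∧
      (∀ d ∈ H, ∀ d' ∈ H, (d * d' ∈ H₀ ↔ (d ∈ H₀ ↔ d' ∈ H₀))) ∧
      (∃ d₁ ∈ H, d₁ ∉ H₀) ∧ ∀ d ∈ H₀, t * d * t ∈ H₀ := by
  classical
  -- the automorphism
  let ε : ↥H ≃* ↥H :=
    { toFun := fun h => ⟨t * (h : G) * t, S.t_conj_mem h.2⟩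
      invFun := fun h => ⟨t * (h : G) * t, S.t_conj_mem h.2⟩
      left_inv := by
        intro h
        apply Subtype.ext
        show t * (t * (h : G) * t) * t = (h : G)
        calc t * (t * (h : G) * t) * t = (t * t) * (h : G) * (t * t) := by group
          _ = (h : G) := by rw [S.htt, one_mul, mul_one]
      right_inv := by
        intro h
        apply Subtype.ext
        show t * (t * (h : G) * t) * t = (h : G)
        calc t * (t * (h : G) * t) * t = (t * t) * (h : G) * (t * t) := by group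
          _ = (h : G) := by rw [S.htt, one_mul, mul_one]
      map_mul' := by
        intro h k
        apply Subtype.ext
        show t * ((h : G) * (k : G)) * t = (t * (h : G) * t) * (t * (k : G) * t)
        calc t * ((h : G) * (k : G)) * t = t * (h : G) * 1 * (k : G) * t := by group
          _ = t * (h : G) * (t * t) * (k : G) * t := by rw [S.htt]
          _ = (t * (h : G) * t) * (t * (k : G) * t) := by group }
  have hεc : ∀ h : ↥H, ((ε h : ↥H) : G) = t * (h : G) * t := fun _ => rfl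
  have hε2 : ∀ x, ε (ε x) = x := by
    intro h
    apply Subtype.ext
    rw [hεc, hεc]
    calc t * (t * (h : G) * t) * t = (t * t) * (h : G) * (t * t) := by group
      _ = (h : G) := by rw [S.htt, one_mul, mul_one]
  -- the involution
  obtain ⟨z, hzH, hzz, hz1⟩ := S.exists_invol
  have hzo : orderOf (⟨z, hzH⟩ : ↥H) = 2 := by
    apply orderOf_eq_prime
    · apply Subtype.ext
      show z ^ 2 = 1
      rw [pow_two, hzz]
    · intro h
      exact hz1 (congrArg Subtype.val h)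
  have hεfix : ∀ x : ↥H, ε x = x → x = 1 ∨ x = ⟨z, hzH⟩ := by
    intro x hx
    have h1 : t * (x : G) * t = (x : G) := by
      rw [← hεc, hx]
    have h2 := S.cent_t x.2 h1
    by_cases hx1 : (x : G) = 1
    · left
      exact Subtype.ext hx1
    · right
      apply Subtype.ext
      exact S.invol_unique hzH hzz hz1 x.2 h2 hx1
  -- the module
  have hFc : ∀ x y : ↥F, x * y = y * x := fun x y => Subtype.ext (S.hFcomm x.1 x.2 y.1 y.2)
  have hn : ∀ h ∈ H, ∀ u ∈ F, h * u * h⁻¹ ∈ F := fun h hh u hu => S.hFconj h (S.fixH hh).1 u hu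
  letI : AddCommGroup (Additive ↥F) := ZassRegApp.addCommGroupOfComm F hFc
  letI : DistribMulAction ↥H (Additive ↥F) := conjDMA' F H hn
  haveI : Finite (Additive ↥F) := Finite.of_equiv ↥F Additive.ofMul
  have hsmul : ∀ (h : ↥H) (v : Additive ↥F),
      ((Additive.toMul (h • v) : ↥F) : G) = (h : G) * ((Additive.toMul v : ↥F) : G) * (h : G)⁻¹ :=
    fun _ _ => rfl
  have hchar : ∀ v : Additive ↥F, p • v = 0 := by
    intro v
    have h1 : (Additive.toMul v : ↥F) ^ p = 1 := by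
      apply Subtype.ext
      rw [Subgroup.coe_pow]
      exact S.hFp _ (Additive.toMul v).2
    exact congrArg Additive.ofMul h1
  have hfree : ∀ (d : ↥H) (v : Additive ↥F), v ≠ 0 → d • v = v → d = 1 := by
    intro d v hv hdv
    have h1 : ((Additive.toMul v : ↥F) : G) ≠ 1 := by
      intro h
      apply hv
      have h2 : (Additive.toMul v : ↥F) = 1 := Subtype.ext h
      exact h2
    have h2 : (d : G) * ((Additive.toMul v : ↥F) : G) * (d : G)⁻¹ = ((Additive.toMul v : ↥F) : G) := by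
      rw [← hsmul, hdv]
    exact Subtype.ext (S.conj_free d.2 (Additive.toMul v).2 h1 h2)
  have hcard : Nat.card ↥H + 1 = Nat.card (Additive ↥F) := by
    rw [S.hcard]
    exact Nat.card_congr Additive.ofMul
  haveI : Fact (Nat.Prime 2) := ⟨Nat.prime_two⟩
  have hsyl2 : ∀ T : Sylow 2 ↥H, IsCyclic T ∨ ∃ n : ℕ, Nonempty (T ≃* QuaternionGroup (2 ^ n)) :=
    fun T => S.sylow_H 2 T
  have hsylodd : ∀ (ℓ : ℕ) [Fact ℓ.Prime], ℓ ≠ 2 → ∀ P : Sylow ℓ ↥H, IsCyclic P :=
    fun ℓ _ hℓ P => S.sylow_H_odd ℓ hℓ P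
  have h3 : ∀ x y : ↥H, orderOf x = 3 → orderOf y = 3 → y = x ∨ y = x⁻¹ := by
    intro x y hx hy
    rw [← Subgroup.orderOf_coe] at hx hy
    rcases S.order_three x.2 y.2 hx hy with h | h
    · exact Or.inl (Subtype.ext h)
    · exact Or.inr (Subtype.ext h)
  obtain ⟨K, hK⟩ := Sharp3E.exists_index_two (D := ↥H) (V := Additive ↥F) p S.hp S.hp2 hchar hfree
    hcard hsyl2 hsylodd ε hε2 ⟨z, hzH⟩ hzo hεfix h3
  obtain ⟨K₀, hK₀m, ⟨x₁, hx₁⟩, hK₀ε⟩ := invariant_index_two ε hε2 K hK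
  have hmem : ∀ (d : G) (hd : d ∈ H), d ∈ K₀.map H.subtype ↔ (⟨d, hd⟩ : ↥H) ∈ K₀ := by
    intro d hd
    rw [Subgroup.mem_map]
    constructor
    · rintro ⟨x, hx, hxd⟩
      have h1 : x = ⟨d, hd⟩ := Subtype.ext hxd
      rw [← h1]
      exact hx
    · intro h
      exact ⟨⟨d, hd⟩, h, rfl⟩
  refine ⟨K₀.map H.subtype, ?_, ?_, ⟨x₁.1, x₁.2, ?_⟩, ?_⟩
  · intro d hd
    obtain ⟨x, -, hxd⟩ := Subgroup.mem_map.mp hd
    rw [← hxd]
    exact x.2
  · intro d hd d' hd'
    rw [hmem d hd, hmem d' hd', hmem (d * d') (H.mul_mem hd hd')]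
    exact hK₀m ⟨d, hd⟩ ⟨d', hd'⟩
  · rw [hmem x₁.1 x₁.2]
    exact hx₁
  · intro d hd
    have hdH : d ∈ H := by
      obtain ⟨x, -, hxd⟩ := Subgroup.mem_map.mp hd
      rw [← hxd]
      exact x.2
    rw [hmem d hdH] at hd
    rw [hmem _ (S.t_conj_mem hdH)]
    exact hK₀ε _ hd

end Setup

namespace Setup

variable {a b e : Ω} {H F : Subgroup G} {t : G} {p : ℕ}

theorem eq_of_agree (S : Setup a b e H F t p) {g g' : G} {x y z : Ω} (hxy : x ≠ y) (hyz : y ≠ z)
    (hxz : x ≠ z) (h1 : g • x = g' • x) (h2 : g • y = g' • y) (h3 : g • z = g' • z) : g = g' := by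
  have h : g'⁻¹ * g = 1 := by
    apply S.h3 _ x y z hxy hyz hxz
    · rw [mul_smul, h1, inv_smul_smul]
    · rw [mul_smul, h2, inv_smul_smul]
    · rw [mul_smul, h3, inv_smul_smul]
  exact (inv_mul_eq_one.mp h).symm

theorem stabA (S : Setup a b e H F t p) {g : G} (hg : g • a = a) :
    ∃ u ∈ F, ∃ d ∈ H, g = u * d := by
  have hgb : g • b ≠ a := fun h => S.hab (MulAction.injective g (hg.trans h.symm))
  obtain ⟨u, hu, hub⟩ := S.hFtr b (g • b) S.hab.symm hgb
  refine ⟨u, hu, u⁻¹ * g, ?_, by group⟩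
  rw [S.hHmem]
  constructor
  · rw [mul_smul, hg, inv_smul_eq_iff, S.hFa u hu]
  · rw [mul_smul, inv_smul_eq_iff, hub]

theorem stabA' (S : Setup a b e H F t p) {g : G} (hg : g • a = a) :
    ∃ d ∈ H, ∃ u ∈ F, g = d * u := by
  have hg' : g⁻¹ • a = a := by rw [inv_smul_eq_iff, hg]
  obtain ⟨u, hu, d, hd, h⟩ := S.stabA hg'
  refine ⟨d⁻¹, H.inv_mem hd, u⁻¹, F.inv_mem hu, ?_⟩
  have h1 : g = (g⁻¹)⁻¹ := (inv_inv g).symm
  rw [h1, h, mul_inv_rev]

theorem cover (S : Setup a b e H F t p) (g : G) :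
    (∃ u ∈ F, ∃ d ∈ H, g = u * d) ∨ (∃ u ∈ F, ∃ d ∈ H, ∃ u' ∈ F, g = u * d * t * u') := by
  by_cases hg : g • a = a
  · exact Or.inl (S.stabA hg)
  · right
    obtain ⟨u, hu, hub⟩ := S.hFtr b (g • a) S.hab.symm hg
    have h1 : (t * u⁻¹ * g) • a = a := by
      rw [mul_smul, mul_smul, ← hub, inv_smul_smul, S.htb]
    obtain ⟨d₂, hd₂, u₂, hu₂, h2⟩ := S.stabA' h1
    refine ⟨u, hu, t * d₂ * t, S.t_conj_mem hd₂, u₂, hu₂, ?_⟩
    have hti : t⁻¹ = t := inv_eq_of_mul_eq_one_right S.htt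
    calc g = u * t⁻¹ * (t * u⁻¹ * g) := by group
      _ = u * t * (d₂ * u₂) := by rw [h2, hti]
      _ = u * t * d₂ * 1 * u₂ := by group
      _ = u * t * d₂ * (t * t) * u₂ := by rw [S.htt]
      _ = u * (t * d₂ * t) * t * u₂ := by group

theorem sus [Finite G] (S : Setup a b e H F t p)
    (hinvfix : ∀ s : G, s * s = 1 → s ≠ 1 → ∃ x : Ω, s • x = x)
    (H₀ : Subgroup G) (hH₀ : H₀ ≤ H)
    (hmul : ∀ d ∈ H, ∀ d' ∈ H, (d * d' ∈ H₀ ↔ (d ∈ H₀ ↔ d' ∈ H₀)))
    (hinv : ∀ d ∈ H₀, t * d * t ∈ H₀) {u : G} (hu : u ∈ F) (hu1 : u ≠ 1) :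
    ∃ v ∈ F, ∃ δ ∈ H₀, ∃ v' ∈ F, t * u * t = v * δ * t * v' := by
  obtain ⟨z, hzH, hzz, hz1⟩ := S.exists_invol
  have hzi : z⁻¹ = z := inv_eq_of_mul_eq_one_right hzz
  have hti : t⁻¹ = t := inv_eq_of_mul_eq_one_right S.htt
  have hzF := S.invol_inverts hzH hzz hz1
  -- z commutes with t
  have htzt : t * z * t = z := by
    apply S.invol_unique hzH hzz hz1 (S.t_conj_mem hzH)
    · calc (t * z * t) * (t * z * t) = t * z * (t * t) * z * t := by group
        _ = t * (z * z) * t := by rw [S.htt]; group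
        _ = 1 := by rw [hzz, mul_one, S.htt]
    · intro h
      apply hz1
      calc z = (t * t) * z * (t * t) := by rw [S.htt, one_mul, mul_one]
        _ = t * (t * z * t) * t := by group
        _ = 1 := by rw [h, mul_one, S.htt]
  have hzt : z * t * z⁻¹ = t := by
    rw [hzi]
    calc z * t * z = (t * z * t) * t * z := by rw [htzt]
      _ = t * z * (t * t) * z := by group
      _ = t * (z * z) := by rw [S.htt]; group
      _ = t := by rw [hzz, mul_one]
  -- z central in H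
  have hzH' : ∀ δ ∈ H, z * δ * z⁻¹ = δ := by
    intro δ hδ
    have h1 : δ⁻¹ * z * δ = z := by
      apply S.invol_unique hzH hzz hz1 (H.mul_mem (H.mul_mem (H.inv_mem hδ) hzH) hδ)
      · calc (δ⁻¹ * z * δ) * (δ⁻¹ * z * δ) = δ⁻¹ * (z * z) * δ := by group
          _ = 1 := by rw [hzz]; group
      · intro h
        apply hz1
        calc z = δ * (δ⁻¹ * z * δ) * δ⁻¹ := by group
          _ = 1 := by rw [h]; group
    calc z * δ * z⁻¹ = δ * (δ⁻¹ * z * δ) * z⁻¹ := by group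
      _ = δ := by rw [h1]; group
  -- the Bruhat form of g = t u t
  obtain ⟨hub_a, hub_b⟩ := S.F_ne_one_smul hu hu1
  have hga : (t * u * t) • a ≠ a := by
    rw [mul_smul, mul_smul, S.hta]
    intro h
    apply hub_b
    apply MulAction.injective t
    show t • u • b = t • b
    rw [h, S.htb]
  rcases S.cover (t * u * t) with ⟨u', hu', d, hd, h⟩ | ⟨v, hv, δ, hδ, v', hv', h⟩
  · exfalso
    apply hga
    rw [h, mul_smul, (S.fixH hd).1, S.hFa u' hu']
  -- conjugating by z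
  have hconj : z * (t * u * t) * z⁻¹ = (t * u * t)⁻¹ := by
    calc z * (t * u * t) * z⁻¹ = (z * t * z⁻¹) * (z * u * z⁻¹) * (z * t * z⁻¹) := by group
      _ = t * u⁻¹ * t := by rw [hzt, hzF u hu]
      _ = t⁻¹ * u⁻¹ * t⁻¹ := by rw [hti]
      _ = (t * u * t)⁻¹ := by group
  have hconj2 : z * (v * δ * t * v') * z⁻¹ = v⁻¹ * δ * t * v'⁻¹ := by
    calc z * (v * δ * t * v') * z⁻¹
        = (z * v * z⁻¹) * (z * δ * z⁻¹) * (z * t * z⁻¹) * (z * v' * z⁻¹) := by group
      _ = v⁻¹ * δ * t * v'⁻¹ := by rw [hzt, hzF v hv, hzF v' hv', hzH' δ hδ]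
  have heq : v * δ * t * v' = v' * (t * δ⁻¹ * t) * t * v := by
    have h1 : (v * δ * t * v')⁻¹ = v⁻¹ * δ * t * v'⁻¹ := by
      rw [← hconj2, ← h, hconj]
    calc v * δ * t * v' = ((v * δ * t * v')⁻¹)⁻¹ := (inv_inv _).symm
      _ = (v⁻¹ * δ * t * v'⁻¹)⁻¹ := by rw [h1]
      _ = v' * t⁻¹ * δ⁻¹ * 1 * v := by group
      _ = v' * t * δ⁻¹ * (t * t) * v := by rw [hti, S.htt]
      _ = v' * (t * δ⁻¹ * t) * t * v := by group
  have hδi : t * δ⁻¹ * t ∈ H := S.t_conj_mem (H.inv_mem hδ)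
  have hvv : v = v' := by
    have h1 : (v * δ * t * v') • a = v • b := by
      rw [mul_smul, mul_smul, mul_smul, S.hFa v' hv', S.hta, (S.fixH hδ).2]
    have h2 : (v' * (t * δ⁻¹ * t) * t * v) • a = v' • b := by
      rw [mul_smul, mul_smul, mul_smul, S.hFa v hv, S.hta, (S.fixH hδi).2]
    rw [heq, h2] at h1
    have h3 : (v⁻¹ * v') • b = b := by rw [mul_smul, h1, inv_smul_smul]
    have h4 := S.hFfree _ (F.mul_mem (F.inv_mem hv) hv') b S.hab.symm h3
    exact (inv_mul_eq_one.mp h4)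
  subst hvv
  have hδt : δ * t = t * δ⁻¹ := by
    calc δ * t = v⁻¹ * (v * δ * t * v) * v⁻¹ := by group
      _ = v⁻¹ * (v * (t * δ⁻¹ * t) * t * v) * v⁻¹ := by rw [heq]
      _ = t * δ⁻¹ * (t * t) := by group
      _ = t * δ⁻¹ := by rw [S.htt, mul_one]
  have hss : (δ * t) * (δ * t) = 1 := by
    calc (δ * t) * (δ * t) = (t * δ⁻¹) * (δ * t) := congrArg (· * (δ * t)) hδt
      _ = t * t := by group
      _ = 1 := S.htt
  have hsa : (δ * t) • a = b := by rw [mul_smul, S.hta, (S.fixH hδ).2]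
  have hsb : (δ * t) • b = a := by rw [mul_smul, S.htb, (S.fixH hδ).1]
  have hs1 : δ * t ≠ 1 := by
    intro h1
    rw [h1, one_smul] at hsa
    exact S.hab hsa
  obtain ⟨x, hx⟩ := hinvfix (δ * t) hss hs1
  have hxa : x ≠ a := by
    intro h1
    rw [h1, hsa] at hx
    exact S.hab hx.symm
  have hxb : x ≠ b := by
    intro h1
    rw [h1, hsb] at hx
    exact S.hab hx
  obtain ⟨d, hd, hde⟩ := S.hHtr e x S.hea S.heb hxa hxb
  have hdia : d⁻¹ • a = a := by rw [inv_smul_eq_iff, (S.fixH hd).1]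
  have hdib : d⁻¹ • b = b := by rw [inv_smul_eq_iff, (S.fixH hd).2]
  have hdix : d⁻¹ • x = e := by rw [inv_smul_eq_iff, hde]
  have hdt : d * t * d⁻¹ = δ * t := by
    apply S.eq_of_agree S.hab hxb.symm hxa.symm
    · rw [mul_smul, mul_smul, hdia, S.hta, (S.fixH hd).2, hsa]
    · rw [mul_smul, mul_smul, hdib, S.htb, (S.fixH hd).1, hsb]
    · rw [mul_smul, mul_smul, hdix, S.hte, hde, hx]
  have hδd : δ = d * (t * d⁻¹ * t) := by
    calc δ = (δ * t) * t⁻¹ := by group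
      _ = d * t * d⁻¹ * t := by rw [← hdt, hti]
      _ = d * (t * d⁻¹ * t) := by group
  have hδ₀ : δ ∈ H₀ := by
    rw [hδd, hmul d hd _ (S.t_conj_mem (H.inv_mem hd))]
    constructor
    · intro hd0
      exact hinv _ (H₀.inv_mem hd0)
    · intro hd0
      have h1 := hinv _ hd0
      have h2 : t * (t * d⁻¹ * t) * t = d⁻¹ := by
        calc t * (t * d⁻¹ * t) * t = (t * t) * d⁻¹ * (t * t) := by group
          _ = d⁻¹ := by rw [S.htt, one_mul, mul_one]
      rw [h2] at h1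
      exact (H₀.inv_mem_iff).mp h1
  exact ⟨v, hv, δ, hδ₀, v, hv, h⟩

/-- the main consequence: a subgroup of index two containing the kernel -/
theorem exists_index_two [Finite G] (S : Setup a b e H F t p)
    (hinvfix : ∀ s : G, s * s = 1 → s ≠ 1 → ∃ x : Ω, s • x = x) :
    ∃ N : Subgroup G, N.index = 2 ∧ F ≤ N := by
  obtain ⟨H₀, hH₀, hmul, ⟨d₁, hd₁, hd₁'⟩, hinv⟩ := S.exists_index_two_H
  exact Sharp3F.index_two_of_bruhat F H H₀ t
    (fun d hd u hu => S.hFconj d (S.fixH hd).1 u hu) S.htt (fun d hd => S.t_conj_mem hd) hinv hH₀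
    hmul d₁ hd₁ hd₁'
    (fun u hu huH => S.hFfree u hu b S.hab.symm (S.fixH huH).2)
    (fun u hu d hd h => by
      have h1 : t • a = a := by rw [h, mul_smul, (S.fixH hd).1, S.hFa u hu]
      rw [S.hta] at h1
      exact S.hab h1.symm)
    S.cover
    (fun u hu hu1 => S.sus hinvfix H₀ hH₀ hmul hinv hu hu1)

end Setup

end Cfsg.Agent.Lib.Helper22.Sharp3G
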