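import Mathlib
import Cfsg.Agent.S0339
import Cfsg.Agent.S0738
import Cfsg.Agent.S0740
import Cfsg.Agent.S0741
import Cfsg.Agent.Lib.Helper22.Sharp3G

/-!
A simple Zassenhaus group of even degree with two-point stabilisers of even order cannot be sharply
triply transitive (helper22).
-/

set_option autoImplicit false
set_option maxHeartbeats 1000000

namespace Cfsg.Agent.Lib.Helper22.Sharp3H

open Cfsg.Agent.Lib.Helper22

theorem four_dvd_support {α : Type*} [Fintype α] [DecidableEq α] (σ : Equiv.Perm α)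
    (hσ : σ * σ = 1) (hσ1 : σ ≠ 1) (hs : Equiv.Perm.sign σ = 1) : 4 ∣ σ.support.card := by
  have ho : orderOf σ = 2 := orderOf_eq_prime (by rw [pow_two]; exact hσ) hσ1
  have hpr : (orderOf σ).Prime := by rw [ho]; exact Nat.prime_two
  obtain ⟨n, hn⟩ := Equiv.Perm.cycleType_prime_order hpr
  rw [ho] at hn
  have h1 := Equiv.Perm.sum_cycleType σ
  rw [hn, Multiset.sum_replicate, smul_eq_mul] at h1
  have h2 := Equiv.Perm.sign_of_cycleType σ
  rw [hn, Multiset.sum_replicate, Multiset.card_replicate, smul_eq_mul, hs] at h2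
  have h4 : Even (n + 1) := by
    rcases Nat.even_or_odd (n + 1) with h | h
    · exact h
    · exfalso
      have h5 : Odd ((n + 1) * 2 + (n + 1)) := by
        obtain ⟨k, hk⟩ := h
        exact ⟨3 * k + 1, by omega⟩
      rw [Odd.neg_one_pow h5] at h2
      exact absurd h2 (by decide)
  obtain ⟨k, hk⟩ := h4
  rw [← h1, hk]
  exact ⟨k, by ring⟩

theorem caseB {G Ω : Type*} [Group G] [Finite G] [MulAction G Ω] [Fintype Ω]
    (hZ : Cfsg.IsZassenhausGroup G Ω) [IsSimpleGroup G] {a b : Ω} (hab : a ≠ b)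
    (heven : Even (Nat.card ↥(MulAction.stabilizer G a ⊓ MulAction.stabilizer G b)))
    (hcase : Fintype.card Ω - 2 <
      2 * Nat.card ↥(MulAction.stabilizer G a ⊓ MulAction.stabilizer G b)) : False := by
  classical
  have hZ' := hZ
  obtain ⟨hfaith, h2, h3, hfix, hnoreg⟩ := hZ
  obtain ⟨-, h2t, hF3', hthird, -⟩ := Cfsg.Agent.S0339.basics hZ'
  have hba : b ≠ a := hab.symm
  have hn1' := Cfsg.Agent.S0741.result hZ' hab heven
  have heven' := heven
  obtain ⟨H, hH⟩ : ∃ H : Subgroup G, H = MulAction.stabilizer G a ⊓ MulAction.stabilizer G b :=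
    ⟨_, rfl⟩
  rw [← hH] at heven hcase
  have hHmem : ∀ g : G, g ∈ H ↔ g • a = a ∧ g • b = b := by
    intro g
    rw [hH, Subgroup.mem_inf, MulAction.mem_stabilizer_iff, MulAction.mem_stabilizer_iff]
  have hfixH : ∀ h ∈ H, h • a = a ∧ h • b = b := fun h hh => (hHmem h).mp hh
  obtain ⟨c₀, hc₀a, hc₀b⟩ := hthird a b hab
  -- the complement of `{a, b}`
  have hcardX : Fintype.card {x : Ω // x ≠ a ∧ x ≠ b} = Fintype.card Ω - 2 := by
    rw [Fintype.card_subtype]
    have h1 : (Finset.univ.filter (fun x : Ω => x ≠ a ∧ x ≠ b)) = ({a, b} : Finset Ω)ᶜ := by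
      ext x
      simp only [Finset.mem_filter, Finset.mem_univ, true_and, Finset.mem_compl,
        Finset.mem_insert, Finset.mem_singleton, not_or]
    rw [h1, Finset.card_compl, Finset.card_pair hab]
  have hN3 : 1 ≤ Fintype.card Ω - 2 := by
    rw [← hcardX]
    exact Fintype.card_pos_iff.mpr ⟨⟨c₀, hc₀a, hc₀b⟩⟩
  have hsm : ∀ h ∈ H, ∀ x : Ω, x ≠ a ∧ x ≠ b → h • x ≠ a ∧ h • x ≠ b := by
    intro h hh x hx
    constructor
    · intro h1
      apply hx.1
      apply MulAction.injective h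
      show h • x = h • a
      rw [h1, (hfixH h hh).1]
    · intro h1
      apply hx.2
      apply MulAction.injective h
      show h • x = h • b
      rw [h1, (hfixH h hh).2]
  have hHfree : ∀ h ∈ H, ∀ x : Ω, x ≠ a → x ≠ b → h • x = x → h = 1 :=
    fun h hh x hxa hxb hx =>
      h3 h a b x hab (Ne.symm hxb) (Ne.symm hxa) (hfixH h hh).1 (hfixH h hh).2 hx
  have hHinj : ∀ h ∈ H, ∀ k ∈ H, ∀ x : Ω, x ≠ a → x ≠ b → h • x = k • x → h = k := by
    intro h hh k hk x hxa hxb hx
    have h1 : (k⁻¹ * h) • x = x := by rw [mul_smul, hx, inv_smul_smul]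
    have h2 := hHfree _ (H.mul_mem (H.inv_mem hk) hh) x hxa hxb h1
    exact (inv_mul_eq_one.mp h2).symm
  have hHtr : ∀ x y : Ω, x ≠ a → x ≠ b → y ≠ a → y ≠ b → ∃ h ∈ H, h • x = y := by
    intro x y hxa hxb hya hyb
    by_contra hcon
    push Not at hcon
    let ψ : ↥H ⊕ ↥H → {x : Ω // x ≠ a ∧ x ≠ b} := fun s =>
      Sum.elim (fun h : ↥H => ⟨(h : G) • x, hsm h.1 h.2 x ⟨hxa, hxb⟩⟩)
        (fun h : ↥H => ⟨(h : G) • y, hsm h.1 h.2 y ⟨hya, hyb⟩⟩) s
    have hψ : Function.Injective ψ := by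
      rintro (h | h) (k | k) hhk
      · have h1 : (h : G) • x = (k : G) • x := congrArg Subtype.val hhk
        rw [Subtype.ext (hHinj h.1 h.2 k.1 k.2 x hxa hxb h1)]
      · exfalso
        have h1 : (h : G) • x = (k : G) • y := congrArg Subtype.val hhk
        apply hcon ((k : G)⁻¹ * (h : G)) (H.mul_mem (H.inv_mem k.2) h.2)
        rw [mul_smul, h1, inv_smul_smul]
      · exfalso
        have h1 : (h : G) • y = (k : G) • x := congrArg Subtype.val hhk
        apply hcon ((h : G)⁻¹ * (k : G)) (H.mul_mem (H.inv_mem h.2) k.2)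
        rw [mul_smul, ← h1, inv_smul_smul]
      · have h1 : (h : G) • y = (k : G) • y := congrArg Subtype.val hhk
        rw [Subtype.ext (hHinj h.1 h.2 k.1 k.2 y hya hyb h1)]
    have h1 := Nat.card_le_card_of_injective ψ hψ
    rw [Nat.card_sum, Nat.card_eq_fintype_card (α := {x : Ω // x ≠ a ∧ x ≠ b}), hcardX] at h1
    omega
  have hdN : Nat.card H = Fintype.card Ω - 2 := by
    have hbij : Function.Bijective (fun h : ↥H =>
        (⟨(h : G) • c₀, hsm h.1 h.2 c₀ ⟨hc₀a, hc₀b⟩⟩ : {x : Ω // x ≠ a ∧ x ≠ b})) := by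
      constructor
      · intro h k hhk
        exact Subtype.ext (hHinj h.1 h.2 k.1 k.2 c₀ hc₀a hc₀b (congrArg Subtype.val hhk))
      · intro y
        obtain ⟨h, hh, hy⟩ := hHtr c₀ y.1 hc₀a hc₀b y.2.1 y.2.2
        exact ⟨⟨h, hh⟩, Subtype.ext hy⟩
    rw [Nat.card_congr (Equiv.ofBijective _ hbij), Nat.card_eq_fintype_card, hcardX]
  have hevenn : Even (Fintype.card Ω) := by
    obtain ⟨k, hk⟩ := heven
    exact ⟨k + 1, by omega⟩
  -- the action of the point stabiliser on the remaining points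
  have hΔne : ∀ x : SubMulAction.ofStabilizer G a, (x : Ω) ≠ a :=
    fun x => (SubMulAction.mem_ofStabilizer_iff G a).mp x.2
  haveI hpre : MulAction.IsPretransitive (MulAction.stabilizer G a)
      (SubMulAction.ofStabilizer G a) := by
    refine ⟨fun x y => ?_⟩
    obtain ⟨g, hga, hgx⟩ := h2t (a := a) (b := (x : Ω)) (c := a) (d := (y : Ω))
      (hΔne x).symm (hΔne y).symm
    exact ⟨⟨g, MulAction.mem_stabilizer_iff.mpr hga⟩, Subtype.ext hgx⟩
  have hX2 : ∀ x : MulAction.stabilizer G a, ∀ y z : SubMulAction.ofStabilizer G a, y ≠ z →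
      x • y = y → x • z = z → x = 1 := by
    intro x y z hyz hy hz
    have hy' : (x : G) • (y : Ω) = y := congrArg Subtype.val hy
    have hz' : (x : G) • (z : Ω) = z := congrArg Subtype.val hz
    apply Subtype.ext
    exact h3 x a y z (hΔne y).symm (fun h => hyz (Subtype.ext h)) (hΔne z).symm
      (MulAction.mem_stabilizer_iff.mp x.2) hy' hz'
  obtain ⟨g₀, hg₀1, hg₀a, hg₀b⟩ := hF3' a b hab
  obtain ⟨b₀, hb₀⟩ : ∃ b₀ : SubMulAction.ofStabilizer G a, (b₀ : Ω) = b :=
    ⟨⟨b, (SubMulAction.mem_ofStabilizer_iff G a).mpr hba⟩, rfl⟩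
  have hstab : MulAction.stabilizer (MulAction.stabilizer G a) b₀ ≠ ⊥ := by
    intro hbot
    have hmem : (⟨g₀, MulAction.mem_stabilizer_iff.mpr hg₀a⟩ : MulAction.stabilizer G a) ∈
        MulAction.stabilizer (MulAction.stabilizer G a) b₀ := by
      rw [MulAction.mem_stabilizer_iff]
      apply Subtype.ext
      show g₀ • (b₀ : Ω) = b₀
      rw [hb₀]
      exact hg₀b
    rw [hbot, Subgroup.mem_bot] at hmem
    exact hg₀1 (congrArg Subtype.val hmem)
  have hΔex : ∃ c : SubMulAction.ofStabilizer G a, c ≠ b₀ :=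
    ⟨⟨c₀, (SubMulAction.mem_ofStabilizer_iff G a).mpr hc₀a⟩,
      fun h => hc₀b ((congrArg Subtype.val h).trans hb₀)⟩
  obtain ⟨Kf, hKn, hKmem, hKtr⟩ :=
    Cfsg.Agent.S0339.frobenius_action (X := MulAction.stabilizer G a)
      (Δ := SubMulAction.ofStabilizer G a) hX2 b₀ hstab hΔex
  -- the Frobenius kernel as a subgroup of `G`
  obtain ⟨F, hFdef⟩ : ∃ F : Subgroup G, F = Kf.map (MulAction.stabilizer G a).subtype := ⟨_, rfl⟩
  have hFmem : ∀ u : G, u ∈ F ↔ ∃ k ∈ Kf, (k : G) = u := by
    intro u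
    rw [hFdef, Subgroup.mem_map]
    rfl
  have hFle : F ≤ MulAction.stabilizer G a := by
    rw [hFdef]
    exact Subgroup.map_subtype_le Kf
  have hFa : ∀ u ∈ F, u • a = a := fun u hu => MulAction.mem_stabilizer_iff.mp (hFle hu)
  have hFn : (F.subgroupOf (MulAction.stabilizer G a)).Normal := by
    have h1 : F.subgroupOf (MulAction.stabilizer G a) = Kf := by
      rw [hFdef]
      exact Subgroup.comap_map_eq_self_of_injective (Subgroup.subtype_injective _) Kf
    rw [h1]
    exact hKn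
  have hFfree : ∀ u ∈ F, ∀ y : Ω, y ≠ a → u • y = y → u = 1 := by
    intro u hu y hya huy
    obtain ⟨k, hk, hku⟩ := (hFmem u).mp hu
    rcases (hKmem k).mp hk with h | h
    · rw [← hku, h]
      rfl
    · exfalso
      refine h ⟨y, (SubMulAction.mem_ofStabilizer_iff G a).mpr hya⟩ (Subtype.ext ?_)
      show (k : G) • y = y
      rw [hku]
      exact huy
  have hFtr : ∀ y z : Ω, y ≠ a → z ≠ a → ∃ u ∈ F, u • y = z := by
    intro y z hya hza
    obtain ⟨k, hk, hkyz⟩ := hKtr ⟨y, (SubMulAction.mem_ofStabilizer_iff G a).mpr hya⟩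
      ⟨z, (SubMulAction.mem_ofStabilizer_iff G a).mpr hza⟩
    exact ⟨k, (hFmem _).mpr ⟨k, hk, rfl⟩, congrArg Subtype.val hkyz⟩
  have hFuniq : ∀ u ∈ F, ∀ u' ∈ F, ∀ y : Ω, y ≠ a → u • y = u' • y → u = u' := by
    intro u hu u' hu' y hya h
    have h1 : (u'⁻¹ * u) • y = y := by rw [mul_smul, h, inv_smul_smul]
    have h2 := hFfree _ (F.mul_mem (F.inv_mem hu') hu) y hya h1
    exact (inv_mul_eq_one.mp h2).symm
  have hreg : ∀ y z : Ω, y ≠ a → z ≠ a → ∃! u : F, (u : G) • y = z := by
    intro y z hya hza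
    obtain ⟨u, hu, huy⟩ := hFtr y z hya hza
    refine ⟨⟨u, hu⟩, huy, ?_⟩
    intro u' hu'
    apply Subtype.ext
    exact hFuniq u'.1 u'.2 u hu y hya (hu'.trans huy.symm)
  obtain ⟨hFcomm, p, f, hp, hFp, hnpf⟩ := Cfsg.Agent.S0738.result hZ' hab hn1' F hFle hFn hreg
  have hFconj : ∀ g : G, g • a = a → ∀ u ∈ F, g * u * g⁻¹ ∈ F := by
    intro g hg u hu
    obtain ⟨k, hk, hku⟩ := (hFmem u).mp hu
    refine (hFmem _).mpr ⟨⟨g, MulAction.mem_stabilizer_iff.mpr hg⟩ * k *
      ⟨g, MulAction.mem_stabilizer_iff.mpr hg⟩⁻¹, hKn.conj_mem k hk _, ?_⟩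
    rw [← hku]
    rfl
  -- the swapping involution
  obtain ⟨t, hto, hta, htb, htfix⟩ := (Cfsg.Agent.S0740.result hZ' hab).2.2 hevenn heven'
  have htt : t * t = 1 := by
    have h1 := pow_orderOf_eq_one t
    rw [hto, pow_two] at h1
    exact h1
  obtain ⟨e, hte⟩ : ∃ e : Ω, t • e = e := by
    have hpos : 0 < Nat.card (MulAction.fixedBy Ω t) := by
      rw [htfix]
      norm_num
    obtain ⟨⟨e, he⟩⟩ := (Nat.card_pos_iff.mp hpos).1
    exact ⟨e, MulAction.mem_fixedBy.mp he⟩
  have hea : e ≠ a := by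
    intro h
    rw [h] at hte
    exact hab (hte.symm.trans hta)
  have heb : e ≠ b := by
    intro h
    rw [h] at hte
    exact hab (htb.symm.trans hte)
  -- cardinality of the kernel
  have hcardF : Nat.card F = Fintype.card Ω - 1 := by
    have hbij : Function.Bijective (fun u : F => (⟨(u : G) • b, fun h => hba
        (MulAction.injective (u : G) (h.trans (hFa u.1 u.2).symm))⟩ : {y : Ω // y ≠ a})) := by
      constructor
      · intro u u' huu'
        have h1 : (u : G) • b = (u' : G) • b := congrArg Subtype.val huu'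
        exact Subtype.ext (hFuniq u.1 u.2 u'.1 u'.2 b hba h1)
      · intro y
        obtain ⟨u, hu, huy⟩ := hFtr b y.1 hba y.2
        exact ⟨⟨u, hu⟩, Subtype.ext huy⟩
    have h1 := Nat.card_congr (Equiv.ofBijective _ hbij)
    have h2 : Fintype.card (Option {y : Ω // y ≠ a}) = Fintype.card Ω :=
      Fintype.card_congr (Equiv.optionSubtypeNe a)
    rw [Fintype.card_option] at h2
    rw [h1, Nat.card_eq_fintype_card]
    omega
  have hp2 : p ≠ 2 := by
    intro hp2
    rw [hp2] at hnpf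
    rcases Nat.eq_zero_or_pos f with hf | hf
    · rw [hf, pow_zero] at hnpf
      omega
    · have h1 : Even (2 ^ f) := (Nat.even_pow).mpr ⟨even_two, by omega⟩
      obtain ⟨k, hk⟩ := h1
      obtain ⟨m, hm⟩ := hevenn
      omega
  haveI := hFcomm
  -- the set-up
  have S : Sharp3G.Setup a b e H F t p :=
    { h2t := fun hxy hxy' => h2t hxy hxy'
      h3 := h3
      hab := hab
      hHmem := hHmem
      hHtr := hHtr
      hHeven := heven
      hcard := by rw [hcardF, hdN]; omega
      hFa := hFa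
      hFconj := hFconj
      hFfree := hFfree
      hFtr := hFtr
      hFcomm := fun u hu v hv => congrArg Subtype.val (mul_comm' (⟨u, hu⟩ : ↥F) ⟨v, hv⟩)
      hp := hp
      hp2 := hp2
      hFp := hFp
      htt := htt
      hta := hta
      htb := htb
      hea := hea
      heb := heb
      hte := hte }
  -- all elements act as even permutations
  obtain ⟨χ, hχ⟩ : ∃ χ : G →* ℤˣ, χ = Equiv.Perm.sign.comp (MulAction.toPermHom G Ω) := ⟨_, rfl⟩
  have hker : χ.ker = ⊤ := by
    rcases (χ.normal_ker).eq_bot_or_eq_top with h | h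
    · exfalso
      have hinj : Function.Injective χ := (MonoidHom.ker_eq_bot_iff χ).mp h
      have h1 : Nat.card G ≤ Nat.card ℤˣ := Nat.card_le_card_of_injective χ hinj
      have h2' : Nat.card ℤˣ = 2 := by
        rw [Nat.card_eq_fintype_card]
        exact Fintype.card_units_int
      have h3' : Nat.card F ≤ Nat.card G := Subgroup.card_le_card_group F
      obtain ⟨m, hm⟩ := hevenn
      omega
    · exact h
  have hsign : ∀ g : G, Equiv.Perm.sign (MulAction.toPerm g : Equiv.Perm Ω) = 1 := by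
    intro g
    have h1 : g ∈ χ.ker := by
      rw [hker]
      exact Subgroup.mem_top g
    rw [MonoidHom.mem_ker, hχ] at h1
    exact h1
  have hsupp : ∀ s : G, s * s = 1 → s ≠ 1 →
      4 ∣ (Finset.univ.filter (fun x : Ω => s • x ≠ x)).card := by
    intro s hss hs1
    have h1 : MulAction.toPerm s * MulAction.toPerm s = (1 : Equiv.Perm Ω) := by
      ext x
      show s • s • x = x
      rw [← mul_smul, hss, one_smul]
    have h2' : (MulAction.toPerm s : Equiv.Perm Ω) ≠ 1 := by
      intro h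
      apply hs1
      have hx : ∀ x : Ω, s • x = x := fun x => Equiv.ext_iff.mp h x
      exact h3 s a b c₀ hab (Ne.symm hc₀b) (Ne.symm hc₀a) (hx a) (hx b) (hx c₀)
    have h4 := four_dvd_support _ h1 h2' (hsign s)
    have h5 : (MulAction.toPerm s : Equiv.Perm Ω).support
        = Finset.univ.filter (fun x : Ω => s • x ≠ x) := by
      ext x
      rw [Equiv.Perm.mem_support, Finset.mem_filter]
      simp
    rw [h5] at h4
    exact h4
  -- four divides the degree minus two
  obtain ⟨z, hzH, hzz, hz1⟩ := S.exists_invol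
  have h4N : 4 ∣ Fintype.card Ω - 2 := by
    have h1 := hsupp z hzz hz1
    have h2' : (Finset.univ.filter (fun x : Ω => z • x ≠ x)) = ({a, b} : Finset Ω)ᶜ := by
      ext x
      simp only [Finset.mem_filter, Finset.mem_univ, true_and, Finset.mem_compl,
        Finset.mem_insert, Finset.mem_singleton, not_or]
      constructor
      · intro hx
        constructor
        · intro hxa
          rw [hxa] at hx
          exact hx (hfixH z hzH).1
        · intro hxb
          rw [hxb] at hx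
          exact hx (hfixH z hzH).2
      · intro hx hzx
        exact hz1 (hHfree z hzH x hx.1 hx.2 hzx)
    rw [h2', Finset.card_compl, Finset.card_pair hab] at h1
    exact h1
  have hinvfix : ∀ s : G, s * s = 1 → s ≠ 1 → ∃ x : Ω, s • x = x := by
    intro s hss hs1
    by_contra hno
    push Not at hno
    have h1 := hsupp s hss hs1
    have h2' : (Finset.univ.filter (fun x : Ω => s • x ≠ x)) = Finset.univ := by
      ext x
      simp only [Finset.mem_filter, Finset.mem_univ, true_and, iff_true]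
      exact hno x
    rw [h2', Finset.card_univ] at h1
    obtain ⟨k1, hk1⟩ := h1
    obtain ⟨k2, hk2⟩ := h4N
    omega
  obtain ⟨N', hN'idx, hFN⟩ := S.exists_index_two hinvfix
  haveI := Subgroup.normal_of_index_eq_two hN'idx
  rcases Subgroup.Normal.eq_bot_or_eq_top (H := N') inferInstance with h | h
  · obtain ⟨u, hu, hu1⟩ := S.exists_F_ne_one
    have h1 := hFN hu
    rw [h, Subgroup.mem_bot] at h1
    exact hu1 h1
  · rw [h, Subgroup.index_top] at hN'idx
    norm_num at hN'idx

end Cfsg.Agent.Lib.Helper22.Sharp3H
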