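import Mathlib
import Cfsg.Agent.S0339
import Cfsg.Agent.S0728
import Cfsg.Agent.Lib.Helper22.Sharp3G

/-!
In a sharply triply transitive group of even degree the two-point stabiliser has a subgroup of index
two normalised by the swapping involution (helper22).
-/

set_option autoImplicit false
set_option maxHeartbeats 1000000

namespace Cfsg.Agent.Lib.Helper22.Sharp3I

open Cfsg.Agent.Lib.Helper22

/-- a finite group on whose non-identity elements a group of automorphisms acts transitively is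
elementary abelian -/
theorem elem_abelian_of_transitive {G : Type*} [Group G] (F D : Subgroup G) [Finite F]
    (hconj : ∀ d ∈ D, ∀ u ∈ F, d * u * d⁻¹ ∈ F)
    (htr : ∀ u ∈ F, u ≠ 1 → ∀ v ∈ F, v ≠ 1 → ∃ d ∈ D, d * u * d⁻¹ = v)
    (hne : ∃ u ∈ F, u ≠ 1) :
    ∃ p : ℕ, p.Prime ∧ p ∣ Nat.card F ∧ (∀ u ∈ F, u ^ p = 1) ∧
      ∀ u ∈ F, ∀ v ∈ F, u * v = v * u := by
  classical
  obtain ⟨u₀, hu₀, hu₀1⟩ := hne
  haveI : Nontrivial ↥F := ⟨⟨⟨u₀, hu₀⟩, 1, fun h => hu₀1 (congrArg Subtype.val h)⟩⟩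
  have hcard : Nat.card ↥F ≠ 1 := by
    intro h
    have := (Nat.card_eq_one_iff_unique.mp h).1
    exact not_subsingleton ↥F this
  obtain ⟨p, hp, hpd⟩ : ∃ p : ℕ, p.Prime ∧ p ∣ Nat.card ↥F :=
    ⟨_, Nat.minFac_prime hcard, Nat.minFac_dvd _⟩
  haveI : Fact p.Prime := ⟨hp⟩
  obtain ⟨x, hx⟩ := exists_prime_orderOf_dvd_card' (G := ↥F) p hpd
  have hx1 : (x : G) ≠ 1 := by
    intro h
    have h1 : x = 1 := Subtype.ext h
    rw [h1, orderOf_one] at hx
    exact hp.one_lt.ne hx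
  have hxp : (x : G) ^ p = 1 := by
    have h1 := pow_orderOf_eq_one x
    rw [hx] at h1
    have h2 := congrArg Subtype.val h1
    rwa [Subgroup.coe_pow] at h2
  have hexp : ∀ u ∈ F, u ^ p = 1 := by
    intro u hu
    by_cases hu1 : u = 1
    · rw [hu1, one_pow]
    · obtain ⟨d, -, hd⟩ := htr x x.2 hx1 u hu hu1
      rw [← hd, conj_pow, hxp]
      group
  have hP : IsPGroup p ↥F := by
    intro g
    refine ⟨1, ?_⟩
    rw [pow_one]
    apply Subtype.ext
    rw [Subgroup.coe_pow]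
    exact hexp g.1 g.2
  haveI := hP.center_nontrivial
  obtain ⟨c, hc1⟩ := exists_ne (1 : ↥(Subgroup.center ↥F))
  have hcc : ∀ v : ↥F, v * (c : ↥F) = (c : ↥F) * v := fun v =>
    Subgroup.mem_center_iff.mp c.2 v
  have hc1' : ((c : ↥F) : G) ≠ 1 := by
    intro h
    apply hc1
    apply Subtype.ext
    apply Subtype.ext
    exact h
  have hcentral : ∀ u ∈ F, u ≠ 1 → ∀ v ∈ F, u * v = v * u := by
    intro u hu hu1 v hv
    obtain ⟨d, hd, hdu⟩ := htr ((c : ↥F) : G) (c : ↥F).2 hc1' u hu hu1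
    have hv' : d⁻¹ * v * d ∈ F := by
      have := hconj d⁻¹ (D.inv_mem hd) v hv
      rwa [inv_inv] at this
    have h1 := congrArg Subtype.val (hcc ⟨d⁻¹ * v * d, hv'⟩)
    rw [Subgroup.coe_mul, Subgroup.coe_mul] at h1
    have h2 : (d⁻¹ * v * d) * ((c : ↥F) : G) = ((c : ↥F) : G) * (d⁻¹ * v * d) := h1
    rw [← hdu]
    calc d * ((c : ↥F) : G) * d⁻¹ * v = d * (((c : ↥F) : G) * (d⁻¹ * v * d)) * d⁻¹ := by group
      _ = d * ((d⁻¹ * v * d) * ((c : ↥F) : G)) * d⁻¹ := by rw [h2]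
      _ = v * (d * ((c : ↥F) : G) * d⁻¹) := by group
  refine ⟨p, hp, hpd, hexp, ?_⟩
  intro u hu v hv
  by_cases hu1 : u = 1
  · rw [hu1, one_mul, mul_one]
  · exact hcentral u hu hu1 v hv

theorem sharp3_index_two {G Ω : Type*} [Group G] [Finite G] [MulAction G Ω] [Fintype Ω]
    [DecidableEq Ω] (heven : Even (Fintype.card Ω)) (h6 : 6 ≤ Fintype.card Ω)
    (h3t : MulAction.IsMultiplyPretransitive G Ω 3)
    (hsharp : ∀ x : Fin 3 ↪ Ω, MulAction.stabilizer G x = ⊥) {a b c : Ω} (hab : a ≠ b)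
    (hac : a ≠ c) (hbc : b ≠ c) (s : G) (hsa : s • a = b) (hsb : s • b = a) (hsc : s • c = c) :
    ∃ N : Subgroup G, N ≤ MulAction.stabilizer G a ⊓ MulAction.stabilizer G b ∧
      (N.subgroupOf (MulAction.stabilizer G a ⊓ MulAction.stabilizer G b)).Normal ∧
      N.relIndex (MulAction.stabilizer G a ⊓ MulAction.stabilizer G b) = 2 ∧
      ∀ n ∈ N, s * n * s⁻¹ ∈ N := by
  classical
  have hba : b ≠ a := hab.symm
  have h3 : ∀ g : G, ∀ x y z : Ω, x ≠ y → y ≠ z → x ≠ z → g • x = x → g • y = y → g • z = z →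
      g = 1 := fun g x y z hxy hyz hxz hx hy hz =>
    Cfsg.Agent.S0728.eq_one_of_fix3 hsharp hxy hxz hyz hx hy hz
  have hthird : ∀ x y : Ω, ∃ z : Ω, z ≠ x ∧ z ≠ y := by
    intro x y
    by_contra hcon
    push Not at hcon
    have h1 : (Finset.univ : Finset Ω) ⊆ {x, y} := by
      intro z _
      by_cases hz : z = x
      · simp [hz]
      · simp [hcon z hz]
    have h2 := Finset.card_le_card h1
    rw [Finset.card_univ] at h2
    have h3' : ({x, y} : Finset Ω).card ≤ 2 := Finset.card_le_two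
    omega
  have h2t : ∀ {x y x' y' : Ω}, x ≠ y → x' ≠ y' → ∃ g : G, g • x = x' ∧ g • y = y' := by
    intro x y x' y' hxy hxy'
    obtain ⟨z, hzx, hzy⟩ := hthird x y
    obtain ⟨z', hzx', hzy'⟩ := hthird x' y'
    obtain ⟨g, h1, h2, -⟩ :=
      Cfsg.Agent.S0728.exists_map3 h3t hxy hzx.symm hzy.symm hxy' hzx'.symm hzy'.symm
    exact ⟨g, h1, h2⟩
  obtain ⟨H, hH⟩ : ∃ H : Subgroup G, H = MulAction.stabilizer G a ⊓ MulAction.stabilizer G b :=
    ⟨_, rfl⟩
  rw [← hH]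
  have hHmem : ∀ g : G, g ∈ H ↔ g • a = a ∧ g • b = b := by
    intro g
    rw [hH, Subgroup.mem_inf, MulAction.mem_stabilizer_iff, MulAction.mem_stabilizer_iff]
  have hfixH : ∀ h ∈ H, h • a = a ∧ h • b = b := fun h hh => (hHmem h).mp hh
  have hca : c ≠ a := hac.symm
  have hcb : c ≠ b := hbc.symm
  have hHtr : ∀ x y : Ω, x ≠ a → x ≠ b → y ≠ a → y ≠ b → ∃ h ∈ H, h • x = y := by
    intro x y hxa hxb hya hyb
    obtain ⟨g, h1, h2, h3'⟩ :=
      Cfsg.Agent.S0728.exists_map3 h3t hab hxa.symm hxb.symm hab hya.symm hyb.symm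
    exact ⟨g, (hHmem g).mpr ⟨h1, h2⟩, h3'⟩
  -- the complement of `{a, b}`
  have hcardX : Fintype.card {x : Ω // x ≠ a ∧ x ≠ b} = Fintype.card Ω - 2 := by
    rw [Fintype.card_subtype]
    have h1 : (Finset.univ.filter (fun x : Ω => x ≠ a ∧ x ≠ b)) = ({a, b} : Finset Ω)ᶜ := by
      ext x
      simp only [Finset.mem_filter, Finset.mem_univ, true_and, Finset.mem_compl,
        Finset.mem_insert, Finset.mem_singleton, not_or]
    rw [h1, Finset.card_compl, Finset.card_pair hab]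
  have hsm : ∀ h ∈ H, ∀ x : Ω, x ≠ a ∧ x ≠ b → h • x ≠ a ∧ h • x ≠ b := by
    intro h hh x hx
    constructor
    · intro h1
      apply hx.1
      apply MulAction.injective h
      show h • x = h • a
      rw [h1, (hfixH h hh).1]
    · intro h1
      apply hx.2
      apply MulAction.injective h
      show h • x = h • b
      rw [h1, (hfixH h hh).2]
  have hHfree : ∀ h ∈ H, ∀ x : Ω, x ≠ a → x ≠ b → h • x = x → h = 1 :=
    fun h hh x hxa hxb hx =>
      h3 h a b x hab (Ne.symm hxb) (Ne.symm hxa) (hfixH h hh).1 (hfixH h hh).2 hx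
  have hHinj : ∀ h ∈ H, ∀ k ∈ H, ∀ x : Ω, x ≠ a → x ≠ b → h • x = k • x → h = k := by
    intro h hh k hk x hxa hxb hx
    have h1 : (k⁻¹ * h) • x = x := by rw [mul_smul, hx, inv_smul_smul]
    have h2 := hHfree _ (H.mul_mem (H.inv_mem hk) hh) x hxa hxb h1
    exact (inv_mul_eq_one.mp h2).symm
  have hdN : Nat.card H = Fintype.card Ω - 2 := by
    have hbij : Function.Bijective (fun h : ↥H =>
        (⟨(h : G) • c, hsm h.1 h.2 c ⟨hca, hcb⟩⟩ : {x : Ω // x ≠ a ∧ x ≠ b})) := by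
      constructor
      · intro h k hhk
        exact Subtype.ext (hHinj h.1 h.2 k.1 k.2 c hca hcb (congrArg Subtype.val hhk))
      · intro y
        obtain ⟨h, hh, hy⟩ := hHtr c y.1 hca hcb y.2.1 y.2.2
        exact ⟨⟨h, hh⟩, Subtype.ext hy⟩
    rw [Nat.card_congr (Equiv.ofBijective _ hbij), Nat.card_eq_fintype_card, hcardX]
  have hHeven : Even (Nat.card H) := by
    rw [hdN]
    obtain ⟨k, hk⟩ := heven
    exact ⟨k - 1, by omega⟩
  -- the action of the point stabiliser on the remaining points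
  have hΔne : ∀ x : SubMulAction.ofStabilizer G a, (x : Ω) ≠ a :=
    fun x => (SubMulAction.mem_ofStabilizer_iff G a).mp x.2
  haveI hpre : MulAction.IsPretransitive (MulAction.stabilizer G a)
      (SubMulAction.ofStabilizer G a) := by
    refine ⟨fun x y => ?_⟩
    obtain ⟨g, hga, hgx⟩ := h2t (x := a) (y := (x : Ω)) (x' := a) (y' := (y : Ω))
      (hΔne x).symm (hΔne y).symm
    exact ⟨⟨g, MulAction.mem_stabilizer_iff.mpr hga⟩, Subtype.ext hgx⟩
  have hX2 : ∀ x : MulAction.stabilizer G a, ∀ y z : SubMulAction.ofStabilizer G a, y ≠ z →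
      x • y = y → x • z = z → x = 1 := by
    intro x y z hyz hy hz
    have hy' : (x : G) • (y : Ω) = y := congrArg Subtype.val hy
    have hz' : (x : G) • (z : Ω) = z := congrArg Subtype.val hz
    apply Subtype.ext
    exact h3 x a y z (hΔne y).symm (fun h => hyz (Subtype.ext h)) (hΔne z).symm
      (MulAction.mem_stabilizer_iff.mp x.2) hy' hz'
  -- a non-identity element of `H`
  obtain ⟨g₀, hg₀H, hg₀1⟩ : ∃ g₀ ∈ H, g₀ ≠ 1 := by
    by_contra hcon
    push Not at hcon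
    have h1 : Nat.card H ≤ 1 := by
      rw [Finite.card_le_one_iff_subsingleton]
      refine ⟨fun x y => ?_⟩
      apply Subtype.ext
      rw [hcon x.1 x.2, hcon y.1 y.2]
    omega
  have hg₀a := (hfixH g₀ hg₀H).1
  have hg₀b := (hfixH g₀ hg₀H).2
  obtain ⟨b₀, hb₀⟩ : ∃ b₀ : SubMulAction.ofStabilizer G a, (b₀ : Ω) = b :=
    ⟨⟨b, (SubMulAction.mem_ofStabilizer_iff G a).mpr hba⟩, rfl⟩
  have hstab : MulAction.stabilizer (MulAction.stabilizer G a) b₀ ≠ ⊥ := by
    intro hbot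
    have hmem : (⟨g₀, MulAction.mem_stabilizer_iff.mpr hg₀a⟩ : MulAction.stabilizer G a) ∈
        MulAction.stabilizer (MulAction.stabilizer G a) b₀ := by
      rw [MulAction.mem_stabilizer_iff]
      apply Subtype.ext
      show g₀ • (b₀ : Ω) = b₀
      rw [hb₀]
      exact hg₀b
    rw [hbot, Subgroup.mem_bot] at hmem
    exact hg₀1 (congrArg Subtype.val hmem)
  have hΔex : ∃ c' : SubMulAction.ofStabilizer G a, c' ≠ b₀ :=
    ⟨⟨c, (SubMulAction.mem_ofStabilizer_iff G a).mpr hca⟩,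
      fun h => hcb ((congrArg Subtype.val h).trans hb₀)⟩
  obtain ⟨Kf, hKn, hKmem, hKtr⟩ :=
    Cfsg.Agent.S0339.frobenius_action (X := MulAction.stabilizer G a)
      (Δ := SubMulAction.ofStabilizer G a) hX2 b₀ hstab hΔex
  -- the Frobenius kernel as a subgroup of `G`
  obtain ⟨F, hFdef⟩ : ∃ F : Subgroup G, F = Kf.map (MulAction.stabilizer G a).subtype := ⟨_, rfl⟩
  have hFmem : ∀ u : G, u ∈ F ↔ ∃ k ∈ Kf, (k : G) = u := by
    intro u
    rw [hFdef, Subgroup.mem_map]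
    rfl
  have hFle : F ≤ MulAction.stabilizer G a := by
    rw [hFdef]
    exact Subgroup.map_subtype_le Kf
  have hFa : ∀ u ∈ F, u • a = a := fun u hu => MulAction.mem_stabilizer_iff.mp (hFle hu)
  have hFfree : ∀ u ∈ F, ∀ y : Ω, y ≠ a → u • y = y → u = 1 := by
    intro u hu y hya huy
    obtain ⟨k, hk, hku⟩ := (hFmem u).mp hu
    rcases (hKmem k).mp hk with h | h
    · rw [← hku, h]
      rfl
    · exfalso
      refine h ⟨y, (SubMulAction.mem_ofStabilizer_iff G a).mpr hya⟩ (Subtype.ext ?_)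
      show (k : G) • y = y
      rw [hku]
      exact huy
  have hFtr : ∀ y z : Ω, y ≠ a → z ≠ a → ∃ u ∈ F, u • y = z := by
    intro y z hya hza
    obtain ⟨k, hk, hkyz⟩ := hKtr ⟨y, (SubMulAction.mem_ofStabilizer_iff G a).mpr hya⟩
      ⟨z, (SubMulAction.mem_ofStabilizer_iff G a).mpr hza⟩
    exact ⟨k, (hFmem _).mpr ⟨k, hk, rfl⟩, congrArg Subtype.val hkyz⟩
  have hFuniq : ∀ u ∈ F, ∀ u' ∈ F, ∀ y : Ω, y ≠ a → u • y = u' • y → u = u' := by
    intro u hu u' hu' y hya h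
    have h1 : (u'⁻¹ * u) • y = y := by rw [mul_smul, h, inv_smul_smul]
    have h2 := hFfree _ (F.mul_mem (F.inv_mem hu') hu) y hya h1
    exact (inv_mul_eq_one.mp h2).symm
  have hFconj : ∀ g : G, g • a = a → ∀ u ∈ F, g * u * g⁻¹ ∈ F := by
    intro g hg u hu
    obtain ⟨k, hk, hku⟩ := (hFmem u).mp hu
    refine (hFmem _).mpr ⟨⟨g, MulAction.mem_stabilizer_iff.mpr hg⟩ * k *
      ⟨g, MulAction.mem_stabilizer_iff.mpr hg⟩⁻¹, hKn.conj_mem k hk _, ?_⟩
    rw [← hku]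
    rfl
  have hcardF : Nat.card F = Fintype.card Ω - 1 := by
    have hbij : Function.Bijective (fun u : F => (⟨(u : G) • b, fun h => hba
        (MulAction.injective (u : G) (h.trans (hFa u.1 u.2).symm))⟩ : {y : Ω // y ≠ a})) := by
      constructor
      · intro u u' huu'
        have h1 : (u : G) • b = (u' : G) • b := congrArg Subtype.val huu'
        exact Subtype.ext (hFuniq u.1 u.2 u'.1 u'.2 b hba h1)
      · intro y
        obtain ⟨u, hu, huy⟩ := hFtr b y.1 hba y.2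
        exact ⟨⟨u, hu⟩, Subtype.ext huy⟩
    have h1 := Nat.card_congr (Equiv.ofBijective _ hbij)
    have h2 : Fintype.card (Option {y : Ω // y ≠ a}) = Fintype.card Ω :=
      Fintype.card_congr (Equiv.optionSubtypeNe a)
    rw [Fintype.card_option] at h2
    rw [h1, Nat.card_eq_fintype_card]
    omega
  -- `H` acts transitively on the non-identity elements of `F`
  obtain ⟨u₀, hu₀, hu₀1⟩ : ∃ u₀ ∈ F, u₀ ≠ 1 := by
    obtain ⟨u, hu, hub⟩ := hFtr b c hba hca
    refine ⟨u, hu, ?_⟩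
    intro h
    rw [h, one_smul] at hub
    exact hbc hub
  have hconjfree : ∀ d ∈ H, ∀ u ∈ F, u ≠ 1 → d * u * d⁻¹ = u → d = 1 := by
    intro d hd u hu hu1 h
    have h1 : u • b ≠ a := by
      intro h'
      have h2 : u • b = u • a := by rw [h', hFa u hu]
      exact hab (MulAction.injective u h2).symm
    have h2 : u • b ≠ b := fun h' => hu1 (hFfree u hu b hba h')
    apply hHfree d hd (u • b) h1 h2
    have e1 : d * u = u * d := by
      calc d * u = d * u * d⁻¹ * d := by group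
        _ = u * d := by rw [h]
    rw [← mul_smul, e1, mul_smul, (hfixH d hd).2]
  have hHF : ∀ d ∈ H, ∀ u ∈ F, d * u * d⁻¹ ∈ F := fun d hd u hu => hFconj d (hfixH d hd).1 u hu
  have hne1 : ∀ d ∈ H, ∀ u ∈ F, u ≠ 1 → d * u * d⁻¹ ≠ 1 := by
    intro d hd u hu hu1 h
    apply hu1
    calc u = d⁻¹ * (d * u * d⁻¹) * d := by group
      _ = 1 := by rw [h]; group
  have hsurj : ∀ v ∈ F, v ≠ 1 → ∃ d ∈ H, d * u₀ * d⁻¹ = v := by
    have hinj : Function.Injective (fun d : ↥H =>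
        (⟨⟨(d : G) * u₀ * (d : G)⁻¹, hHF d.1 d.2 u₀ hu₀⟩, fun h =>
          hne1 d.1 d.2 u₀ hu₀ hu₀1 (congrArg Subtype.val h)⟩ : {u : ↥F // u ≠ 1})) := by
      intro d d' hdd'
      have h1 : (d : G) * u₀ * (d : G)⁻¹ = (d' : G) * u₀ * (d' : G)⁻¹ :=
        congrArg (fun x : {u : ↥F // u ≠ 1} => ((x : ↥F) : G)) hdd'
      have h2 : ((d' : G)⁻¹ * (d : G)) * u₀ * ((d' : G)⁻¹ * (d : G))⁻¹ = u₀ := by
        calc ((d' : G)⁻¹ * (d : G)) * u₀ * ((d' : G)⁻¹ * (d : G))⁻¹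
            = (d' : G)⁻¹ * ((d : G) * u₀ * (d : G)⁻¹) * (d' : G) := by group
          _ = (d' : G)⁻¹ * ((d' : G) * u₀ * (d' : G)⁻¹) * (d' : G) := by rw [h1]
          _ = u₀ := by group
      have h3' := hconjfree _ (H.mul_mem (H.inv_mem d'.2) d.2) u₀ hu₀ hu₀1 h2
      exact Subtype.ext (inv_mul_eq_one.mp h3').symm
    have hcard : Nat.card {u : ↥F // u ≠ 1} ≤ Nat.card ↥H := by
      have h2 : Nat.card (Option {y : ↥F // y ≠ 1}) = Nat.card ↥F :=
        Nat.card_congr (Equiv.optionSubtypeNe (1 : ↥F))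
      rw [Finite.card_option] at h2
      omega
    have hbij := hinj.bijective_of_nat_card_le hcard
    intro v hv hv1
    obtain ⟨d, hd⟩ := hbij.2 ⟨⟨v, hv⟩, fun h => hv1 (congrArg Subtype.val h)⟩
    exact ⟨d.1, d.2, congrArg (fun x : {u : ↥F // u ≠ 1} => ((x : ↥F) : G)) hd⟩
  have htr : ∀ u ∈ F, u ≠ 1 → ∀ v ∈ F, v ≠ 1 → ∃ d ∈ H, d * u * d⁻¹ = v := by
    intro u hu hu1 v hv hv1
    obtain ⟨d₁, hd₁, h1⟩ := hsurj u hu hu1
    obtain ⟨d₂, hd₂, h2⟩ := hsurj v hv hv1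
    refine ⟨d₂ * d₁⁻¹, H.mul_mem hd₂ (H.inv_mem hd₁), ?_⟩
    rw [← h1, ← h2]
    group
  obtain ⟨p, hp, hpd, hFp, hFcomm⟩ := elem_abelian_of_transitive F H hHF htr ⟨u₀, hu₀, hu₀1⟩
  have hp2 : p ≠ 2 := by
    intro h
    rw [h, hcardF] at hpd
    obtain ⟨k, hk⟩ := hpd
    obtain ⟨m, hm⟩ := heven
    omega
  -- the involution
  have hss : s * s = 1 := by
    apply h3 (s * s) a b c hab hbc hac
    · rw [mul_smul, hsa, hsb]
    · rw [mul_smul, hsb, hsa]
    · rw [mul_smul, hsc, hsc]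
  have hsi : s⁻¹ = s := inv_eq_of_mul_eq_one_right hss
  have S : Sharp3G.Setup a b c H F s p :=
    { h2t := fun hxy hxy' => h2t hxy hxy'
      h3 := h3
      hab := hab
      hHmem := hHmem
      hHtr := hHtr
      hHeven := hHeven
      hcard := by rw [hcardF, hdN]; omega
      hFa := hFa
      hFconj := hFconj
      hFfree := hFfree
      hFtr := hFtr
      hFcomm := hFcomm
      hp := hp
      hp2 := hp2
      hFp := hFp
      htt := hss
      hta := hsa
      htb := hsb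
      hea := hca
      heb := hcb
      hte := hsc }
  obtain ⟨H₀, hH₀, hmul, ⟨d₁, hd₁, hd₁'⟩, hinv⟩ := S.exists_index_two_H
  have hidx : (H₀.subgroupOf H).index = 2 := by
    rw [Subgroup.index_eq_two_iff]
    refine ⟨⟨d₁, hd₁⟩, fun x => ?_⟩
    have h1 : x * ⟨d₁, hd₁⟩ ∈ H₀.subgroupOf H ↔ ((x : G) ∈ H₀ ↔ d₁ ∈ H₀) := by
      rw [Subgroup.mem_subgroupOf, Subgroup.coe_mul]
      exact hmul x.1 x.2 d₁ hd₁
    by_cases hx : (x : G) ∈ H₀
    · right
      refine ⟨Subgroup.mem_subgroupOf.mpr hx, ?_⟩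
      intro h
      exact hd₁' ((h1.mp h).mp hx)
    · left
      refine ⟨h1.mpr ⟨fun h => absurd h hx, fun h => absurd h hd₁'⟩, ?_⟩
      intro h
      exact hx (Subgroup.mem_subgroupOf.mp h)
  refine ⟨H₀, hH₀, Subgroup.normal_of_index_eq_two hidx, hidx, ?_⟩
  intro n hn
  rw [hsi]
  exact hinv n hn

end Cfsg.Agent.Lib.Helper22.Sharp3I
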