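import Mathlib
import Cfsg.Agent.Lib.Helper22.SharpCount

/-! Sharply `k`-transitive actions: basic framework. -/

namespace Cfsg.Agent.Lib.Helper22.SharpTrans

open MulAction Cfsg.Agent.Lib.Helper22.SharpCount

/-- Sharply `k`-transitive action. -/
structure IsSharp (G : Type*) (α : Type*) [Group G] [MulAction G α] (k : ℕ) : Prop where
  trans : IsMultiplyPretransitive G α k
  sharp : ∀ x : Fin k ↪ α, stabilizer G x = ⊥

variable {G α : Type*} [Group G] [MulAction G α]

namespace IsSharp

section basic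
variable {k : ℕ} (hs : IsSharp G α k)
include hs

theorem eq_one_of_fix (y : Fin k ↪ α) (g : G) (h : ∀ i, g • y i = y i) : g = 1 := by
  have hm : g ∈ stabilizer G y := by
    rw [mem_stabilizer_iff]
    ext i
    rw [Function.Embedding.smul_apply]
    exact h i
  rw [hs.sharp y] at hm
  exact Subgroup.mem_bot.mp hm

theorem eq_of_agree (y : Fin k ↪ α) (g h : G) (hgh : ∀ i, g • y i = h • y i) : g = h := by
  have := hs.eq_one_of_fix y (h⁻¹ * g) (fun i => by rw [mul_smul, hgh i, inv_smul_smul])
  exact (inv_mul_eq_one.mp this).symm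

theorem exists_map (y z : Fin k ↪ α) : ∃ g : G, ∀ i, g • y i = z i := by
  have := hs.trans
  obtain ⟨g, hg⟩ := exists_smul_eq G y z
  exact ⟨g, fun i => by rw [← hg, Function.Embedding.smul_apply]⟩

end basic

section lift
variable {m : ℕ} (hs : IsSharp G α (m + 1)) (x : Fin (m + 1) ↪ α)

/-- The element of `G` inducing the permutation `π` on the base points. -/
noncomputable def lift (π : Equiv.Perm (Fin (m + 1))) : G :=
  (hs.exists_map x (π.toEmbedding.trans x)).choose

theorem lift_spec (π : Equiv.Perm (Fin (m + 1))) (i : Fin (m + 1)) :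
    hs.lift x π • x i = x (π i) :=
  (hs.exists_map x (π.toEmbedding.trans x)).choose_spec i

theorem lift_mul (π ρ : Equiv.Perm (Fin (m + 1))) :
    hs.lift x (π * ρ) = hs.lift x π * hs.lift x ρ := by
  apply hs.eq_of_agree x
  intro i
  rw [lift_spec, mul_smul, lift_spec, lift_spec, Equiv.Perm.mul_apply]

theorem lift_one : hs.lift x 1 = 1 := by
  apply hs.eq_of_agree x
  intro i
  rw [lift_spec, one_smul, Equiv.Perm.one_apply]

theorem lift_inv (π : Equiv.Perm (Fin (m + 1))) : hs.lift x π⁻¹ = (hs.lift x π)⁻¹ := by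
  rw [eq_inv_iff_mul_eq_one, ← lift_mul, inv_mul_cancel, lift_one]

theorem lift_pow (π : Equiv.Perm (Fin (m + 1))) (j : ℕ) :
    hs.lift x (π ^ j) = (hs.lift x π) ^ j := by
  induction j with
  | zero => rw [pow_zero, pow_zero, lift_one]
  | succ j ih => rw [pow_succ, pow_succ, lift_mul, ih]

theorem lift_ne_one (π : Equiv.Perm (Fin (m + 1))) (hπ : π ≠ 1) : hs.lift x π ≠ 1 := by
  intro h
  apply hπ
  ext i
  have := hs.lift_spec x π i
  rw [h, one_smul] at this
  rw [Equiv.Perm.one_apply, ← x.injective this]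

end lift

section H
variable {m : ℕ} (x : Fin (m + 1) ↪ α)

/-- Pointwise stabilizer of the first `m` base points. -/
def H (x : Fin (m + 1) ↪ α) : Subgroup G := ⨅ i : Fin m, stabilizer G (x i.castSucc)

theorem mem_H {g : G} : g ∈ (H x : Subgroup G) ↔ ∀ i : Fin m, g • x i.castSucc = x i.castSucc := by
  simp [H, Subgroup.mem_iInf]

theorem mem_H' {g : G} :
    g ∈ (H x : Subgroup G) ↔ ∀ i : Fin (m + 1), i ≠ Fin.last m → g • x i = x i := by
  rw [mem_H]
  constructor
  · intro h i hi
    obtain ⟨j, rfl⟩ := Fin.exists_castSucc_eq.mpr hi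
    exact h j
  · intro h i
    exact h _ (Fin.castSucc_ne_last i)

end H

section reg
variable {m : ℕ} (hs : IsSharp G α (m + 1)) (x : Fin (m + 1) ↪ α)
include hs

theorem H_smul_last_injective (h h' : G) (hh : h ∈ (H x : Subgroup G)) (hh' : h' ∈ (H x : Subgroup G))
    (e : h • x (Fin.last m) = h' • x (Fin.last m)) : h = h' := by
  apply hs.eq_of_agree x
  intro i
  by_cases hi : i = Fin.last m
  · rw [hi, e]
  · rw [(mem_H' x).mp hh i hi, (mem_H' x).mp hh' i hi]

theorem H_smul_last_notMem (h : G) (hh : h ∈ (H x : Subgroup G)) (i : Fin (m + 1))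
    (hi : i ≠ Fin.last m) : h • x (Fin.last m) ≠ x i := by
  intro e
  rw [← (mem_H' x).mp hh i hi] at e
  exact hi (x.injective (smul_left_cancel h e)).symm

theorem H_exists (z : α) (hz : ∀ i : Fin (m + 1), i ≠ Fin.last m → z ≠ x i) :
    ∃ h ∈ (H x : Subgroup G), h • x (Fin.last m) = z := by
  have hz' : z ∉ Set.range (Fin.castSuccEmb.trans x) := by
    rintro ⟨i, hi⟩
    exact hz i.castSucc (Fin.castSucc_ne_last i) hi.symm
  obtain ⟨g, hg⟩ := hs.exists_map x (Fin.Embedding.snoc (Fin.castSuccEmb.trans x) hz')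
  refine ⟨g, ?_, ?_⟩
  · rw [mem_H]
    intro i
    rw [hg, Fin.Embedding.snoc_castSucc]
    rfl
  · rw [hg, Fin.Embedding.snoc_last]

end reg


section card
variable {m : ℕ} (hs : IsSharp G α (m + 1)) (x : Fin (m + 1) ↪ α)
include hs

theorem card_H [Finite α] : Nat.card (H x : Subgroup G) + m = Nat.card α := by
  classical
  let f : ↥(H x : Subgroup G) → ↥((Set.range (Fin.castSuccEmb.trans x))ᶜ : Set α) := fun h =>
    ⟨(h : G) • x (Fin.last m), by
      rintro ⟨i, hi⟩
      exact hs.H_smul_last_notMem x h h.2 i.castSucc (Fin.castSucc_ne_last i) hi.symm⟩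
  have hf : Function.Bijective f := by
    constructor
    · intro h h' e
      apply Subtype.ext
      exact hs.H_smul_last_injective x h h' h.2 h'.2 (congrArg Subtype.val e)
    · rintro ⟨z, hz⟩
      have hz' : ∀ i : Fin (m + 1), i ≠ Fin.last m → z ≠ x i := by
        intro i hi e
        obtain ⟨j, rfl⟩ := Fin.exists_castSucc_eq.mpr hi
        exact hz ⟨j, e.symm⟩
      obtain ⟨h, hh, e⟩ := hs.H_exists x z hz'
      exact ⟨⟨h, hh⟩, Subtype.ext e⟩
  rw [Nat.card_congr (Equiv.ofBijective f hf)]
  have h1 := Set.ncard_add_ncard_compl (Set.range (Fin.castSuccEmb.trans x))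
  rw [← Nat.card_coe_set_eq, ← Nat.card_coe_set_eq,
    Nat.card_range_of_injective (Fin.castSuccEmb.trans x).injective, Nat.card_fin] at h1
  omega

theorem finite_H [Finite α] : Finite (H x : Subgroup G) := by
  apply Nat.finite_of_card_ne_zero
  intro h0
  -- H contains 1, and injects into α
  have : Function.Injective (fun h : (H x : Subgroup G) => (h : G) • x (Fin.last m)) := by
    intro h h' e
    apply Subtype.ext
    exact hs.H_smul_last_injective x h h' h.2 h'.2 e
  have := Finite.of_injective _ this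
  have := Nat.card_pos (α := (H x : Subgroup G))
  omega

end card

section norm
variable {m : ℕ} (hs : IsSharp G α (m + 1)) (x : Fin (m + 1) ↪ α)

theorem lift_mem_normalizer (π : Equiv.Perm (Fin (m + 1))) (hπ : π (Fin.last m) = Fin.last m) :
    hs.lift x π ∈ Subgroup.normalizer ((H x : Subgroup G) : Set G) := by
  have key : ∀ ρ : Equiv.Perm (Fin (m + 1)), ρ (Fin.last m) = Fin.last m →
      ∀ h ∈ (H x : Subgroup G), hs.lift x ρ * h * (hs.lift x ρ)⁻¹ ∈ (H x : Subgroup G) := by
    intro ρ hρ h hh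
    rw [mem_H']
    intro i hi
    have hi' : ρ⁻¹ i ≠ Fin.last m := by
      intro e
      apply hi
      have : i = ρ (Fin.last m) := by rw [← e]; simp
      rw [this, hρ]
    rw [← lift_inv, mul_smul, mul_smul, lift_spec, (mem_H' x).mp hh _ hi', lift_spec]
    simp
  rw [Subgroup.mem_normalizer_iff]
  intro h
  constructor
  · exact key π hπ h
  · intro hh
    have hπ' : π⁻¹ (Fin.last m) = Fin.last m := by
      rw [Equiv.Perm.inv_eq_iff_eq, hπ]
    have := key π⁻¹ hπ' _ hh
    rw [lift_inv] at this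
    simpa [mul_assoc] using this

/-- The automorphism of `H` induced by the lift of `π`. -/
noncomputable def τ (π : Equiv.Perm (Fin (m + 1))) (hπ : π (Fin.last m) = Fin.last m) :
    MulAut (H x : Subgroup G) :=
  (H x : Subgroup G).normalizerMonoidHom ⟨hs.lift x π, hs.lift_mem_normalizer x π hπ⟩

theorem τ_apply (π : Equiv.Perm (Fin (m + 1))) (hπ : π (Fin.last m) = Fin.last m)
    (h : (H x : Subgroup G)) :
    ((hs.τ x π hπ h : (H x : Subgroup G)) : G) = hs.lift x π * h * (hs.lift x π)⁻¹ := by
  simp [τ]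

theorem τ_mul (π ρ : Equiv.Perm (Fin (m + 1))) (hπ : π (Fin.last m) = Fin.last m)
    (hρ : ρ (Fin.last m) = Fin.last m) (hπρ : (π * ρ) (Fin.last m) = Fin.last m) :
    hs.τ x (π * ρ) hπρ = hs.τ x π hπ * hs.τ x ρ hρ := by
  ext h
  rw [MulAut.mul_apply, τ_apply, τ_apply, τ_apply, lift_mul]
  group

theorem τ_one (h1 : (1 : Equiv.Perm (Fin (m + 1))) (Fin.last m) = Fin.last m) :
    hs.τ x 1 h1 = 1 := by
  ext h
  rw [τ_apply, lift_one]
  simp

theorem τ_congr (π ρ : Equiv.Perm (Fin (m + 1))) (hπ : π (Fin.last m) = Fin.last m)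
    (e : π = ρ) : hs.τ x π hπ = hs.τ x ρ (e ▸ hπ) := by
  subst e; rfl

/-- (F4): the fixed points of `τ π` inject, together with the base points fixed by `π`, into the
fixed points of `lift π`, of which there are at most `m`. -/
theorem card_fix_le [Finite α] (π : Equiv.Perm (Fin (m + 1))) (hπ : π (Fin.last m) = Fin.last m)
    (hπ1 : π ≠ 1) (S : Finset (Fin m)) (hS : ∀ i ∈ S, π i.castSucc = i.castSucc) :
    Nat.card (fixSub (hs.τ x π hπ)) + S.card ≤ m := by
  classical
  by_contra hcon
  push Not at hcon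
  have := hs.finite_H x
  have := Fintype.ofFinite (fixSub (hs.τ x π hπ))
  -- embedding of Fin (m+1) into the sum type
  have hc : Fintype.card (Fin (m + 1)) ≤ Fintype.card ((fixSub (hs.τ x π hπ)) ⊕ S) := by
    rw [Fintype.card_sum, Fintype.card_fin, Fintype.card_coe, ← Nat.card_eq_fintype_card]
    omega
  obtain ⟨e⟩ := Function.Embedding.nonempty_of_card_le hc
  let F : (fixSub (hs.τ x π hπ)) ⊕ S → α :=
    Sum.elim (fun h => ((h : (H x : Subgroup G)) : G) • x (Fin.last m)) (fun i => x (i : Fin m).castSucc)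
  have hF : Function.Injective F := by
    rintro (h | i) (h' | i') e
    · simp only [F, Sum.elim_inl] at e
      have := hs.H_smul_last_injective x _ _ h.1.2 h'.1.2 e
      exact congrArg Sum.inl (Subtype.ext (Subtype.ext this))
    · exfalso
      simp only [F, Sum.elim_inl, Sum.elim_inr] at e
      exact hs.H_smul_last_notMem x _ h.1.2 _ (Fin.castSucc_ne_last _) e
    · exfalso
      simp only [F, Sum.elim_inl, Sum.elim_inr] at e
      exact hs.H_smul_last_notMem x _ h'.1.2 _ (Fin.castSucc_ne_last _) e.symm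
    · simp only [F, Sum.elim_inr] at e
      have := Fin.castSucc_injective _ (x.injective e)
      exact congrArg Sum.inr (Subtype.ext this)
  have hfix : ∀ z, hs.lift x π • F z = F z := by
    rintro (h | i)
    · simp only [F, Sum.elim_inl]
      have hh : hs.τ x π hπ h.1 = h.1 := h.2
      have hh' := congrArg (fun k : (H x : Subgroup G) => (k : G)) hh
      simp only [τ_apply] at hh'
      -- lift * h * lift⁻¹ = h
      have : hs.lift x π * (h.1 : G) = (h.1 : G) * hs.lift x π :=
        mul_inv_eq_iff_eq_mul.mp hh'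
      rw [← mul_smul, this, mul_smul, lift_spec, hπ]
    · simp only [F, Sum.elim_inr]
      rw [lift_spec, hS i.1 i.2]
  have h1 := hs.eq_one_of_fix (e.trans ⟨F, hF⟩) (hs.lift x π) (fun i => hfix _)
  exact hs.lift_ne_one x π hπ1 h1

/-- The homomorphism from permutations of the base points fixing the last one to `MulAut H`. -/
noncomputable def τhom :
    (MulAction.stabilizer (Equiv.Perm (Fin (m + 1))) (Fin.last m)) →* MulAut (H x : Subgroup G) where
  toFun π := hs.τ x π.1 (MulAction.mem_stabilizer_iff.mp π.2)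
  map_one' := hs.τ_one x _
  map_mul' π ρ := hs.τ_mul x π.1 ρ.1 _ _ _

theorem τhom_apply (π : MulAction.stabilizer (Equiv.Perm (Fin (m + 1))) (Fin.last m)) :
    hs.τhom x π = hs.τ x π.1 (MulAction.mem_stabilizer_iff.mp π.2) := rfl

end norm

end IsSharp

end Cfsg.Agent.Lib.Helper22.SharpTrans
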