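import Mathlib
import Cfsg.Agent.Lib.Helper22.SharpTrans

/-! Jordan: a finite sharply 4-transitive group has degree 4, 5, 6 or 11. -/

namespace Cfsg.Agent.Lib.Helper22.SharpTrans

open MulAction Cfsg.Agent.Lib.Helper22.SharpCount

variable {G α : Type*} [Group G] [MulAction G α]

/-- Embedding of four distinct points. -/
def emb4 (a b c d : α) (hab : a ≠ b) (hac : a ≠ c) (had : a ≠ d) (hbc : b ≠ c) (hbd : b ≠ d)
    (hcd : c ≠ d) : Fin 4 ↪ α :=
  ⟨![a, b, c, d], by
    intro i j hij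
    fin_cases i <;> fin_cases j <;> simp_all⟩

namespace IsSharp

variable (hs : IsSharp G α 4)
include hs

theorem fix4 (g : G) (a b c d : α) (hab : a ≠ b) (hac : a ≠ c) (had : a ≠ d) (hbc : b ≠ c)
    (hbd : b ≠ d) (hcd : c ≠ d) (ha : g • a = a) (hb : g • b = b) (hc : g • c = c)
    (hd : g • d = d) : g = 1 := by
  apply hs.eq_one_of_fix (emb4 a b c d hab hac had hbc hbd hcd) g
  intro i
  fin_cases i <;> simpa [emb4]

theorem agree4 (g g' : G) (a b c d : α) (hab : a ≠ b) (hac : a ≠ c) (had : a ≠ d) (hbc : b ≠ c)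
    (hbd : b ≠ d) (hcd : c ≠ d) (ha : g • a = g' • a) (hb : g • b = g' • b) (hc : g • c = g' • c)
    (hd : g • d = g' • d) : g = g' := by
  apply hs.eq_of_agree (emb4 a b c d hab hac had hbc hbd hcd) g g'
  intro i
  fin_cases i <;> simpa [emb4]

/-- Uniqueness of the involution in the three-point stabilizer. -/
theorem unique_involution [Finite α] (x : Fin 4 ↪ α) (a a' : G)
    (ha : a ∈ (H x : Subgroup G)) (ha' : a' ∈ (H x : Subgroup G))
    (ha2 : a * a = 1) (ha'2 : a' * a' = 1) (ha1 : a ≠ 1) (ha'1 : a' ≠ 1) : a = a' := by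
  classical
  by_contra hne
  have hfin := hs.finite_H x
  -- base points
  have h01 : x 0 ≠ x 1 := fun h => by simpa using x.injective h
  have h02 : x 0 ≠ x 2 := fun h => by simpa using x.injective h
  have h12 : x 1 ≠ x 2 := fun h => by simpa using x.injective h
  -- w swaps x 2 and x 3
  set w := hs.lift x (Equiv.swap 2 3) with hw
  have w0 : w • x 0 = x 0 := by rw [hw, lift_spec]; rfl
  have w1 : w • x 1 = x 1 := by rw [hw, lift_spec]; rfl
  have w2 : w • x 2 = x 3 := by rw [hw, lift_spec]; rfl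
  -- membership facts
  have Hfix : ∀ h ∈ (H x : Subgroup G), h • x 0 = x 0 ∧ h • x 1 = x 1 ∧ h • x 2 = x 2 := by
    intro h hh
    have := (mem_H' x).mp hh
    exact ⟨this 0 (by decide), this 1 (by decide), this 2 (by decide)⟩
  -- the involutions
  let j : G → G → G := fun h c => (h * w) * c * (h * w)⁻¹
  have j0 : ∀ h ∈ (H x : Subgroup G), ∀ c ∈ (H x : Subgroup G), j h c • x 0 = x 0 := by
    intro h hh c hc
    simp only [j]
    have e : (h * w) • x 0 = x 0 := by rw [mul_smul, w0, (Hfix h hh).1]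
    rw [mul_smul, mul_smul, inv_smul_eq_iff.mpr e.symm, (Hfix c hc).1, e]
  have j1 : ∀ h ∈ (H x : Subgroup G), ∀ c ∈ (H x : Subgroup G), j h c • x 1 = x 1 := by
    intro h hh c hc
    simp only [j]
    have e : (h * w) • x 1 = x 1 := by rw [mul_smul, w1, (Hfix h hh).2.1]
    rw [mul_smul, mul_smul, inv_smul_eq_iff.mpr e.symm, (Hfix c hc).2.1, e]
  have jz : ∀ h ∈ (H x : Subgroup G), ∀ c ∈ (H x : Subgroup G), j h c • (h • x 3) = h • x 3 := by
    intro h hh c hc
    simp only [j]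
    have e : (h * w) • x 2 = h • x 3 := by rw [mul_smul, w2]
    rw [mul_smul, mul_smul, inv_smul_eq_iff.mpr e.symm, (Hfix c hc).2.2, e]
  have jsq : ∀ h c : G, c * c = 1 → j h c * j h c = 1 := by
    intro h c hc
    simp only [j]
    have : (h * w) * c * (h * w)⁻¹ * ((h * w) * c * (h * w)⁻¹) = (h * w) * (c * c) * (h * w)⁻¹ := by
      group
    rw [this, hc]; group
  have jne : ∀ h c : G, c ≠ 1 → j h c ≠ 1 := by
    intro h c hc e
    apply hc
    simp only [j] at e
    have : c = (h * w)⁻¹ * ((h * w) * c * (h * w)⁻¹) * (h * w) := by group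
    rw [this, e]; group
  have jinj : ∀ h c c' : G, j h c = j h c' → c = c' := by
    intro h c c' e
    simp only [j] at e
    have e1 : c = (h * w)⁻¹ * ((h * w) * c * (h * w)⁻¹) * (h * w) := by group
    have e2 : c' = (h * w)⁻¹ * ((h * w) * c' * (h * w)⁻¹) * (h * w) := by group
    rw [e1, e2, e]
  -- z_h is not a base point
  have znot : ∀ h ∈ (H x : Subgroup G), h • x 3 ≠ x 0 ∧ h • x 3 ≠ x 1 ∧ h • x 3 ≠ x 2 := by
    intro h hh
    exact ⟨hs.H_smul_last_notMem x h hh 0 (by decide), hs.H_smul_last_notMem x h hh 1 (by decide),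
      hs.H_smul_last_notMem x h hh 2 (by decide)⟩
  -- j moves x 2
  have jmove : ∀ h ∈ (H x : Subgroup G), ∀ c ∈ (H x : Subgroup G), c ≠ 1 → j h c • x 2 ≠ x 2 := by
    intro h hh c hc hc1 e
    obtain ⟨z0, z1, z2⟩ := znot h hh
    exact jne h c hc1 (hs.fix4 _ (x 0) (x 1) (x 2) (h • x 3) h01 h02 z0.symm h12 z1.symm z2.symm
      (j0 h hh c hc) (j1 h hh c hc) e (jz h hh c hc))
  have jimg : ∀ h ∈ (H x : Subgroup G), ∀ c ∈ (H x : Subgroup G),
      j h c • x 2 ≠ x 0 ∧ j h c • x 2 ≠ x 1 := by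
    intro h hh c hc
    constructor
    · intro e
      rw [← j0 h hh c hc] at e
      exact h02 (smul_left_cancel _ e).symm
    · intro e
      rw [← j1 h hh c hc] at e
      exact h12 (smul_left_cancel _ e).symm
  -- the map F
  let cc : Bool → G := fun b => if b then a else a'
  have ccH : ∀ b, cc b ∈ (H x : Subgroup G) := by
    intro b; cases b <;> simp [cc, ha, ha']
  have cc2 : ∀ b, cc b * cc b = 1 := by
    intro b; cases b <;> simp [cc, ha2, ha'2]
  have cc1 : ∀ b, cc b ≠ 1 := by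
    intro b; cases b <;> simp [cc, ha1, ha'1]
  have ccinj : ∀ b b', cc b = cc b' → b = b' := by
    intro b b' e
    cases b <;> cases b' <;> simp [cc] at e ⊢
    · exact hne e.symm
    · exact hne e
  let F : ↥(H x : Subgroup G) × Bool → ↥((Set.range (Fin.castSuccEmb.trans x))ᶜ : Set α) :=
    fun p => ⟨j p.1 (cc p.2) • x 2, by
      rintro ⟨i, hi⟩
      have him := jimg p.1 p.1.2 (cc p.2) (ccH p.2)
      have hmv := jmove p.1 p.1.2 (cc p.2) (ccH p.2) (cc1 p.2)
      fin_cases i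
      · exact him.1 hi.symm
      · exact him.2 hi.symm
      · exact hmv hi.symm⟩
  have hF : Function.Injective F := by
    rintro ⟨h, b⟩ ⟨h', b'⟩ e
    have e' : j h (cc b) • x 2 = j h' (cc b') • x 2 := congrArg Subtype.val e
    set y := j h (cc b) • x 2 with hy
    have hh := h.2
    have hh' := h'.2
    -- j y = x 2
    have jy : j h (cc b) • y = x 2 := by
      rw [hy, ← mul_smul, jsq _ _ (cc2 b), one_smul]
    have jy' : j h' (cc b') • y = x 2 := by
      rw [e', ← mul_smul, jsq _ _ (cc2 b'), one_smul]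
    have y0 : y ≠ x 0 := (jimg h hh _ (ccH b)).1
    have y1 : y ≠ x 1 := (jimg h hh _ (ccH b)).2
    have y2 : y ≠ x 2 := jmove h hh _ (ccH b) (cc1 b)
    have ejj : j h (cc b) = j h' (cc b') := by
      apply hs.agree4 _ _ (x 0) (x 1) (x 2) y h01 h02 y0.symm h12 y1.symm y2.symm
      · rw [j0 h hh _ (ccH b), j0 h' hh' _ (ccH b')]
      · rw [j1 h hh _ (ccH b), j1 h' hh' _ (ccH b')]
      · exact e'
      · rw [jy, jy']
    -- fixed points z_h, z_h'
    have ez : (h : G) • x 3 = (h' : G) • x 3 := by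
      by_contra hzne
      obtain ⟨z0, z1, _⟩ := znot h hh
      obtain ⟨z0', z1', _⟩ := znot h' hh'
      apply jne h (cc b) (cc1 b)
      apply hs.fix4 _ (x 0) (x 1) ((h : G) • x 3) ((h' : G) • x 3) h01 z0.symm z0'.symm z1.symm z1'.symm
        hzne (j0 h hh _ (ccH b)) (j1 h hh _ (ccH b)) (jz h hh _ (ccH b))
      rw [ejj]
      exact jz h' hh' _ (ccH b')
    have ehh : (h : G) = h' := hs.H_smul_last_injective x h h' hh hh' ez
    have ehh' : h = h' := Subtype.ext ehh
    subst ehh'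
    have := ccinj b b' (jinj _ _ _ ejj)
    rw [this]
  have hcard := Nat.card_le_card_of_injective F hF
  have h1 := Set.ncard_add_ncard_compl (Set.range (Fin.castSuccEmb.trans x))
  rw [← Nat.card_coe_set_eq, ← Nat.card_coe_set_eq,
    Nat.card_range_of_injective (Fin.castSuccEmb.trans x).injective, Nat.card_fin] at h1
  have h2 := hs.card_H x
  rw [Nat.card_prod, Nat.card_eq_fintype_card (α := Bool), Fintype.card_bool] at hcard
  have h3 := Nat.card_pos (α := ↥(H x : Subgroup G))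
  omega


theorem degree_sharp4 [Finite α] (hn : 4 ≤ Nat.card α) :
    Nat.card α = 4 ∨ Nat.card α = 5 ∨ Nat.card α = 6 ∨ Nat.card α = 11 := by
  classical
  have := Fintype.ofFinite α
  obtain ⟨x⟩ : Nonempty (Fin 4 ↪ α) := Function.Embedding.nonempty_of_card_le (by
    rw [Fintype.card_fin, ← Nat.card_eq_fintype_card]; exact hn)
  have hfin := hs.finite_H x
  have hp₁ : Equiv.swap (0 : Fin 4) 1 ∈ MulAction.stabilizer (Equiv.Perm (Fin 4)) (Fin.last 3) := by
    rw [mem_stabilizer_iff]; decide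
  have hp₂ : Equiv.swap (1 : Fin 4) 2 ∈ MulAction.stabilizer (Equiv.Perm (Fin 4)) (Fin.last 3) := by
    rw [mem_stabilizer_iff]; decide
  set p₁ : MulAction.stabilizer (Equiv.Perm (Fin 4)) (Fin.last 3) := ⟨_, hp₁⟩ with hp₁def
  set p₂ : MulAction.stabilizer (Equiv.Perm (Fin 4)) (Fin.last 3) := ⟨_, hp₂⟩ with hp₂def
  set τ₁ := hs.τhom x p₁ with hτ₁
  set τ₂ := hs.τhom x p₂ with hτ₂
  have e11 : p₁ * p₁ = 1 := Subtype.ext (by
    show Equiv.swap (0 : Fin 4) 1 * Equiv.swap (0 : Fin 4) 1 = 1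
    decide)
  have e22 : p₂ * p₂ = 1 := Subtype.ext (by
    show Equiv.swap (1 : Fin 4) 2 * Equiv.swap (1 : Fin 4) 2 = 1
    decide)
  have e123 : (p₁ * p₂) ^ 3 = 1 := Subtype.ext (by
    show (Equiv.swap (0 : Fin 4) 1 * Equiv.swap (1 : Fin 4) 2) ^ 3 = 1
    decide)
  have h1 : τ₁ * τ₁ = 1 := by rw [hτ₁, ← map_mul, e11, map_one]
  have h2 : τ₂ * τ₂ = 1 := by rw [hτ₂, ← map_mul, e22, map_one]
  have h3 : (τ₁ * τ₂) ^ 3 = 1 := by rw [hτ₁, hτ₂, ← map_mul, ← map_pow, e123, map_one]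
  have c1 : Nat.card (fixSub τ₁) ≤ 2 := by
    have := hs.card_fix_le x (Equiv.swap (0 : Fin 4) 1) (mem_stabilizer_iff.mp hp₁) (by decide)
      {2} (by intro i hi; rw [Finset.mem_singleton] at hi; subst hi; decide)
    rw [Finset.card_singleton] at this
    have e : τ₁ = hs.τ x (Equiv.swap (0 : Fin 4) 1) (mem_stabilizer_iff.mp hp₁) := rfl
    rw [e]
    omega
  have c2 : Nat.card (fixSub τ₂) ≤ 2 := by
    have := hs.card_fix_le x (Equiv.swap (1 : Fin 4) 2) (mem_stabilizer_iff.mp hp₂) (by decide)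
      {0} (by intro i hi; rw [Finset.mem_singleton] at hi; subst hi; decide)
    rw [Finset.card_singleton] at this
    have e : τ₂ = hs.τ x (Equiv.swap (1 : Fin 4) 2) (mem_stabilizer_iff.mp hp₂) := rfl
    rw [e]
    omega
  have c3 : Nat.card (fixSub (τ₁ * τ₂ * τ₁)) ≤ 2 := by
    have hq : (Equiv.swap (0 : Fin 4) 1 * Equiv.swap (1 : Fin 4) 2 * Equiv.swap (0 : Fin 4) 1)
        (Fin.last 3) = Fin.last 3 := by decide
    have := hs.card_fix_le x
      (Equiv.swap (0 : Fin 4) 1 * Equiv.swap (1 : Fin 4) 2 * Equiv.swap (0 : Fin 4) 1) hq (by decide)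
      {1} (by intro i hi; rw [Finset.mem_singleton] at hi; subst hi; decide)
    rw [Finset.card_singleton] at this
    have e : τ₁ * τ₂ * τ₁ = hs.τ x
        (Equiv.swap (0 : Fin 4) 1 * Equiv.swap (1 : Fin 4) 2 * Equiv.swap (0 : Fin 4) 1) hq := by
      rw [hτ₁, hτ₂, ← map_mul, ← map_mul]; rfl
    rw [e]
    omega
  have cs : Nat.card (fixSub (τ₁ * τ₂)) ≤ 3 := by
    have hq : (Equiv.swap (0 : Fin 4) 1 * Equiv.swap (1 : Fin 4) 2) (Fin.last 3) = Fin.last 3 := by
      decide
    have := hs.card_fix_le x (Equiv.swap (0 : Fin 4) 1 * Equiv.swap (1 : Fin 4) 2) hq (by decide)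
      ∅ (by intro i hi; simp at hi)
    rw [Finset.card_empty] at this
    have e : τ₁ * τ₂ = hs.τ x (Equiv.swap (0 : Fin 4) 1 * Equiv.swap (1 : Fin 4) 2) hq := by
      rw [hτ₁, hτ₂, ← map_mul]; rfl
    rw [e]
    omega
  obtain ⟨hodd, hgen⟩ := lemmaA τ₁ τ₂ h1 h2 h3 c1 c2 c3
  haveI : Fact (Nat.Prime 3) := ⟨by norm_num⟩
  have hmod := card_modEq_fix (τ₁ * τ₂) 3 1 (by simpa using h3)
  have hcH := hs.card_H x
  have hpos := Nat.card_pos (α := ↥(H x : Subgroup G))
  have hcpos := Nat.card_pos (α := ↥(fixSub (τ₁ * τ₂)))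
  rcases Nat.even_or_odd (Nat.card ↥(H x : Subgroup G)) with hev | hod
  · -- even case: unique involution
    obtain ⟨a, ha⟩ := exists_prime_orderOf_dvd_card' (G := ↥(H x : Subgroup G)) 2
      (even_iff_two_dvd.mp hev)
    have ha2 : a * a = 1 := by rw [← pow_two, ← ha, pow_orderOf_eq_one]
    have ha1 : a ≠ 1 := by
      intro h; rw [h, orderOf_one] at ha; omega
    have key : ∀ τ : MulAut ↥(H x : Subgroup G), τ a = a := by
      intro τ
      apply Subtype.ext
      apply hs.unique_involution x _ _ (τ a).2 a.2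
      · have : τ a * τ a = 1 := by rw [← map_mul, ha2, map_one]
        exact congrArg Subtype.val this
      · exact congrArg Subtype.val ha2
      · intro h
        apply ha1
        have : τ a = 1 := Subtype.ext h
        exact (map_eq_one_iff τ τ.injective).mp this
      · intro h
        exact ha1 (Subtype.ext h)
    have hamem : a ∈ fixSub (τ₁ * τ₂) := key _
    have hdvd : 2 ∣ Nat.card ↥(fixSub (τ₁ * τ₂)) := by
      have := orderOf_dvd_natCard (⟨a, hamem⟩ : ↥(fixSub (τ₁ * τ₂)))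
      rwa [← Subgroup.orderOf_coe, ha] at this
    have hc2 : Nat.card ↥(fixSub (τ₁ * τ₂)) = 2 := by omega
    rw [hc2] at hgen hmod
    have hm : Nat.card ↥(H x : Subgroup G) % 3 = 2 := hmod
    obtain ⟨r, hr⟩ := hev
    omega
  · have := hodd hod
    obtain ⟨r, hr⟩ := hod
    omega

end IsSharp

end Cfsg.Agent.Lib.Helper22.SharpTrans
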