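import Mathlib
import Cfsg.Agent.Lib.Helper22.Sharp4

/-! Tits: a sharply 4-transitive group acts on a finite set. -/

namespace Cfsg.Agent.Lib.Helper22.SharpTrans

open MulAction Cfsg.Agent.Lib.Helper22.SharpCount

variable {G α : Type*} [Group G] [MulAction G α]

namespace IsSharp

variable (hs : IsSharp G α 4)
include hs

theorem finite_fixed (g : G) (hg : g ≠ 1) : {z : α | g • z = z}.Finite := by
  by_contra h
  have hinf : Set.Infinite {z : α | g • z = z} := h
  haveI := hinf.to_subtype
  let e : ℕ ↪ {z : α | g • z = z} := Infinite.natEmbedding _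
  let y : Fin 4 ↪ α := (Fin.valEmbedding.trans e).trans (Function.Embedding.subtype _)
  apply hg
  apply hs.eq_one_of_fix y g
  intro i
  exact (e i.val).2

theorem finite_of_sharp4 (x : Fin 4 ↪ α) : Finite α := by
  classical
  set κ := hs.lift x (Equiv.swap 2 3) with hκdef
  set ω := hs.lift x (Equiv.swap 0 1) with hωdef
  have κκ : κ * κ = 1 := by
    rw [hκdef, ← lift_mul, Equiv.swap_mul_self, lift_one]
  have ωω : ω * ω = 1 := by
    rw [hωdef, ← lift_mul, Equiv.swap_mul_self, lift_one]
  have comm : ω * κ = κ * ω := by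
    rw [hκdef, hωdef, ← lift_mul, ← lift_mul]
    congr 1
    decide
  have κ1 : κ ≠ 1 := hs.lift_ne_one x _ (by decide)
  have ω1 : ω ≠ 1 := hs.lift_ne_one x _ (by decide)
  have κω1 : κ * ω ≠ 1 := by
    rw [hκdef, hωdef, ← lift_mul]
    exact hs.lift_ne_one x _ (by decide)
  have hκ : ∀ z : α, κ • κ • z = z := fun z => by rw [smul_smul, κκ, one_smul]
  have hω : ∀ z : α, ω • ω • z = z := fun z => by rw [smul_smul, ωω, one_smul]
  have hc : ∀ z : α, ω • κ • z = κ • ω • z := fun z => by rw [smul_smul, comm, mul_smul]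
  -- fixed points of the base
  have κ0 : κ • x 0 = x 0 := by rw [hκdef, lift_spec]; rfl
  have κ1' : κ • x 1 = x 1 := by rw [hκdef, lift_spec]; rfl
  have ω2 : ω • x 2 = x 2 := by rw [hωdef, lift_spec]; rfl
  have ω3 : ω • x 3 = x 3 := by rw [hωdef, lift_spec]; rfl
  set N : Set α := {z | κ • z = z} ∪ {z | ω • z = z} ∪ {z | (κ * ω) • z = z} with hN
  have hNfin : N.Finite :=
    ((hs.finite_fixed κ κ1).union (hs.finite_fixed ω ω1)).union (hs.finite_fixed (κ * ω) κω1)
  set S : Set G := {g | g * κ = κ * g ∧ g * ω = ω * g} with hS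
  have hSfin : S.Finite := by
    refine Set.Finite.of_injOn (f := fun g : G => (g • x 0, g • x 1, g • x 2, g • x 3))
      (t := N ×ˢ N ×ˢ N ×ˢ N) ?_ ?_ (hNfin.prod (hNfin.prod (hNfin.prod hNfin)))
    · intro g hg
      obtain ⟨hg1, hg2⟩ := hg
      refine ⟨?_, ?_, ?_, ?_⟩
      · left; left
        show κ • g • x 0 = g • x 0
        rw [smul_smul, ← hg1, mul_smul, κ0]
      · left; left
        show κ • g • x 1 = g • x 1
        rw [smul_smul, ← hg1, mul_smul, κ1']
      · left; right
        show ω • g • x 2 = g • x 2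
        rw [smul_smul, ← hg2, mul_smul, ω2]
      · left; right
        show ω • g • x 3 = g • x 3
        rw [smul_smul, ← hg2, mul_smul, ω3]
    · intro g _ g' _ h
      simp only [Prod.mk.injEq] at h
      apply hs.eq_of_agree x
      intro i
      fin_cases i
      · exact h.1
      · exact h.2.1
      · exact h.2.2.1
      · exact h.2.2.2
  -- the complement of N is covered by an orbit of S
  have hcompl : (Nᶜ : Set α).Finite := by
    rcases Set.eq_empty_or_nonempty (Nᶜ : Set α) with he | ⟨i, hi⟩
    · rw [he]; exact Set.finite_empty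
    · have key : ∀ j ∈ (Nᶜ : Set α), ∃ g ∈ S, g • i = j := by
        intro j hj
        have hemb : ∀ z ∈ (Nᶜ : Set α), z ≠ κ • z ∧ z ≠ ω • z ∧ z ≠ κ • ω • z ∧
            κ • z ≠ ω • z ∧ κ • z ≠ κ • ω • z ∧ ω • z ≠ κ • ω • z := by
          intro z hz
          have h1 : κ • z ≠ z := fun h => hz (Or.inl (Or.inl h))
          have h2 : ω • z ≠ z := fun h => hz (Or.inl (Or.inr h))
          have h3 : κ • ω • z ≠ z := fun h => hz (Or.inr (by
            show (κ * ω) • z = z
            rw [mul_smul]; exact h))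
          refine ⟨fun h => h1 h.symm, fun h => h2 h.symm, fun h => h3 h.symm, ?_, ?_, ?_⟩
          · intro h
            apply h3
            rw [← h, hκ]
          · intro h
            apply h2
            have := congrArg (fun t => κ • t) h
            simp only [hκ] at this
            exact this.symm
          · intro h
            apply h1
            have := congrArg (fun t => ω • t) h
            simp only [hω, hc] at this
            exact this.symm
        obtain ⟨a1, a2, a3, a4, a5, a6⟩ := hemb i hi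
        obtain ⟨b1, b2, b3, b4, b5, b6⟩ := hemb j hj
        obtain ⟨g, hg⟩ := hs.exists_map (emb4 i (κ • i) (ω • i) (κ • ω • i) a1 a2 a3 a4 a5 a6)
          (emb4 j (κ • j) (ω • j) (κ • ω • j) b1 b2 b3 b4 b5 b6)
        have hg0 : g • i = j := hg 0
        have hg1 : g • κ • i = κ • j := hg 1
        have hg2 : g • ω • i = ω • j := hg 2
        have hg3 : g • κ • ω • i = κ • ω • j := hg 3
        refine ⟨g, ⟨?_, ?_⟩, hg0⟩
        · apply hs.agree4 _ _ i (κ • i) (ω • i) (κ • ω • i) a1 a2 a3 a4 a5 a6
          · rw [mul_smul, mul_smul, hg1, hg0]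
          · rw [mul_smul, mul_smul, hκ, hg0, hg1, hκ]
          · rw [mul_smul, mul_smul, hg3, hg2]
          · rw [mul_smul, mul_smul, hκ, hg2, hg3, hκ]
        · apply hs.agree4 _ _ i (κ • i) (ω • i) (κ • ω • i) a1 a2 a3 a4 a5 a6
          · rw [mul_smul, mul_smul, hg2, hg0]
          · rw [mul_smul, mul_smul, hc, hg3, hg1, hc]
          · rw [mul_smul, mul_smul, hω, hg0, hg2, hω]
          · rw [mul_smul, mul_smul, hc, hω, hg1, hg3, hc, hω]
      have hsub : (Nᶜ : Set α) ⊆ (fun g : G => g • i) '' S := by
        intro j hj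
        obtain ⟨g, hgS, hgj⟩ := key j hj
        exact ⟨g, hgS, hgj⟩
      exact (hSfin.image _).subset hsub
  have huniv : (Set.univ : Set α).Finite := by
    rw [← Set.union_compl_self N]
    exact hNfin.union hcompl
  exact Set.finite_univ_iff.mp huniv

end IsSharp

end Cfsg.Agent.Lib.Helper22.SharpTrans
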