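import Mathlib
import Cfsg.Agent.Lib.Helper22.Sharp4

/-! Jordan: degrees of sharply `k`-transitive groups for `k ≥ 5`. -/

namespace Cfsg.Agent.Lib.Helper22.SharpTrans

open MulAction Cfsg.Agent.Lib.Helper22.SharpCount

namespace IsSharp

/-- The point stabilizer of a sharply `(k+1)`-transitive action is sharply `k`-transitive. -/
theorem stabilizer {G α : Type*} [Group G] [MulAction G α] [Finite α] {k : ℕ}
    (hs : IsSharp G α (k + 1)) (hn : k + 1 ≤ Nat.card α) (a : α) :
    IsSharp (MulAction.stabilizer G a) (SubMulAction.ofStabilizer G a) k := by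
  have h1 := hs.trans
  have hpre : IsPretransitive G α := by
    rw [← is_one_pretransitive_iff]
    exact isMultiplyPretransitive_of_le (n := k + 1) (by omega) hn
  constructor
  · exact (SubMulAction.ofStabilizer.isMultiplyPretransitive (G := G) (α := α) (n := k) (a := a)).mp h1
  · intro y
    rw [eq_bot_iff]
    intro g hg
    rw [Subgroup.mem_bot]
    apply Subtype.ext
    apply hs.eq_one_of_fix (SubMulAction.ofStabilizer.snoc y) (g : G)
    intro i
    rcases Fin.eq_castSucc_or_eq_last i with ⟨j, rfl⟩ | rfl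
    · rw [SubMulAction.ofStabilizer.snoc_castSucc]
      rw [mem_stabilizer_iff] at hg
      have h2 : g • y j = y j := by rw [← Function.Embedding.smul_apply, hg]
      exact congrArg Subtype.val h2
    · rw [SubMulAction.ofStabilizer.snoc_last]
      exact g.2

/-- There is no sharply 6-transitive group of degree 13. -/
theorem not_sharp6_13 {G α : Type*} [Group G] [MulAction G α] [Finite α]
    (hs : IsSharp G α 6) (hn : Nat.card α = 13) : False := by
  classical
  have := Fintype.ofFinite α
  obtain ⟨x⟩ : Nonempty (Fin 6 ↪ α) := Function.Embedding.nonempty_of_card_le (by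
    rw [Fintype.card_fin, ← Nat.card_eq_fintype_card]; omega)
  have hfin := hs.finite_H x
  set π : Equiv.Perm (Fin 6) :=
    Equiv.swap 0 1 * Equiv.swap 1 2 * Equiv.swap 2 3 * Equiv.swap 3 4 with hπ
  have hπl : π (Fin.last 5) = Fin.last 5 := by decide
  have hπ1 : π ≠ 1 := by decide
  have hπ5 : π ^ 5 = 1 := by decide
  have hp : π ∈ MulAction.stabilizer (Equiv.Perm (Fin 6)) (Fin.last 5) := by
    rw [mem_stabilizer_iff]; exact hπl
  set τ := hs.τhom x ⟨π, hp⟩ with hτ
  have hτ5 : τ ^ 5 ^ 1 = 1 := by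
    rw [pow_one, hτ, ← map_pow]
    have : (⟨π, hp⟩ : MulAction.stabilizer (Equiv.Perm (Fin 6)) (Fin.last 5)) ^ 5 = 1 :=
      Subtype.ext hπ5
    rw [this, map_one]
  have : Fact (Nat.Prime 5) := ⟨by norm_num⟩
  have hmod := card_modEq_fix τ 5 1 hτ5
  have hle := hs.card_fix_le x π hπl hπ1 ∅ (by intro i hi; simp at hi)
  rw [Finset.card_empty] at hle
  have hle' : Nat.card ↥(fixSub τ) ≤ 5 := hle
  have hcH := hs.card_H x
  have hH8 : Nat.card ↥(H x : Subgroup G) = 8 := by omega
  have hdvd : Nat.card ↥(fixSub τ) ∣ Nat.card ↥(H x : Subgroup G) :=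
    Subgroup.card_subgroup_dvd_card _
  rw [hH8] at hdvd hmod
  have hm : 8 % 5 = Nat.card ↥(fixSub τ) % 5 := hmod
  have hpos := Nat.card_pos (α := ↥(fixSub τ))
  obtain ⟨c, hc⟩ : ∃ c, c = Nat.card ↥(fixSub τ) := ⟨_, rfl⟩
  rw [← hc] at hle' hdvd hm hpos
  interval_cases c <;> omega

end IsSharp

/-- Degrees of sharply `k`-transitive groups, `k ≥ 6`. -/
theorem degree_sharp_ge6 (k : ℕ) (hk : 6 ≤ k) :
    ∀ {G : Type*} {α : Type*} [Group G] [MulAction G α] [Finite α], IsSharp G α k →
      k ≤ Nat.card α → Nat.card α = k ∨ Nat.card α = k + 1 ∨ Nat.card α = k + 2 := by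
  induction k, hk using Nat.le_induction with
  | base =>
    intro G α _ _ _ hs hn
    have hne : Nonempty α := by
      apply Nat.card_pos_iff.mp (by omega) |>.1
    obtain ⟨a⟩ := hne
    have hs5 := hs.stabilizer hn a
    have hc1 := SubMulAction.nat_card_ofStabilizer_add_one_eq G a
    have hne2 : Nonempty (SubMulAction.ofStabilizer G a) := by
      apply Nat.card_pos_iff.mp (by omega) |>.1
    obtain ⟨b⟩ := hne2
    have hs4 := hs5.stabilizer (by omega) b
    have hc2 := SubMulAction.nat_card_ofStabilizer_add_one_eq (MulAction.stabilizer G a) b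
    have h4 := hs4.degree_sharp4 (by omega)
    have h13 : Nat.card α ≠ 13 := fun h => hs.not_sharp6_13 h
    omega
  | succ k hk ih =>
    intro G α _ _ _ hs hn
    have hne : Nonempty α := by
      apply Nat.card_pos_iff.mp (by omega) |>.1
    obtain ⟨a⟩ := hne
    have hs' := hs.stabilizer hn a
    have hc1 := SubMulAction.nat_card_ofStabilizer_add_one_eq G a
    have := ih hs' (by omega)
    omega

/-- Degrees of sharply 5-transitive groups. -/
theorem degree_sharp5 {G α : Type*} [Group G] [MulAction G α] [Finite α] (hs : IsSharp G α 5)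
    (hn : 5 ≤ Nat.card α) :
    Nat.card α = 5 ∨ Nat.card α = 6 ∨ Nat.card α = 7 ∨ Nat.card α = 12 := by
  have hne : Nonempty α := by
    apply Nat.card_pos_iff.mp (by omega) |>.1
  obtain ⟨a⟩ := hne
  have hs4 := hs.stabilizer hn a
  have hc1 := SubMulAction.nat_card_ofStabilizer_add_one_eq G a
  have h4 := hs4.degree_sharp4 (by omega)
  omega

end Cfsg.Agent.Lib.Helper22.SharpTrans
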