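import Mathlib
import Cfsg.Agent.Lib.Helper22.Breadth

set_option autoImplicit false
open scoped commutatorElement

namespace Cfsg.Agent.Lib.Helper22.SmallClasses

open Cfsg.Agent.Lib.Helper22.Breadth Subgroup

variable {G : Type*} [Group G]

/-- For `A` abelian normal, `a ↦ ⁅a, x⁆` is a homomorphism `A → G`. -/
def commHom (A : Subgroup G) [hA : A.Normal] (hAab : ∀ a ∈ A, ∀ b ∈ A, a * b = b * a) (x : G) :
    ↥A →* G where
  toFun a := ⁅(a : G), x⁆
  map_one' := by simp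
  map_mul' := by
    intro a b
    have hb : ⁅(b : G), x⁆ ∈ A := by
      rw [commutatorElement_def, mul_assoc, mul_assoc]
      refine A.mul_mem b.2 ?_
      rw [← mul_assoc]
      exact hA.conj_mem _ (A.inv_mem b.2) x
    have hu : x * (a : G)⁻¹ * x⁻¹ ∈ A := hA.conj_mem _ (A.inv_mem a.2) x
    have hcomm := hAab _ hb _ hu
    show ⁅((a * b : ↥A) : G), x⁆ = ⁅(a : G), x⁆ * ⁅(b : G), x⁆
    have e1 : ⁅((a * b : ↥A) : G), x⁆ = (a : G) * (⁅(b : G), x⁆ * (x * (a : G)⁻¹ * x⁻¹)) := by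
      rw [Subgroup.coe_mul]
      simp only [commutatorElement_def]; group
    have e2 : ⁅(a : G), x⁆ * ⁅(b : G), x⁆ = (a : G) * ((x * (a : G)⁻¹ * x⁻¹) * ⁅(b : G), x⁆) := by
      simp only [commutatorElement_def]; group
    rw [e1, e2, hcomm]

lemma commHom_apply (A : Subgroup G) [A.Normal] (hAab : ∀ a ∈ A, ∀ b ∈ A, a * b = b * a) (x : G)
    (a : ↥A) : commHom A hAab x a = ⁅(a : G), x⁆ := rfl

lemma commHom_mem (A : Subgroup G) [hA : A.Normal] (hAab : ∀ a ∈ A, ∀ b ∈ A, a * b = b * a) (x : G)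
    (a : ↥A) : commHom A hAab x a ∈ A := by
  rw [commHom_apply, commutatorElement_def, mul_assoc, mul_assoc]
  refine A.mul_mem a.2 ?_
  rw [← mul_assoc]
  exact hA.conj_mem _ (A.inv_mem a.2) x


/-- conjugating a commutator `⁅a, x⁆` by an element centralizing `x`. -/
lemma conj_comm_of_commute {c x : G} (hcx : c * x = x * c) (a : G) :
    ⁅c * a * c⁻¹, x⁆ = c * ⁅a, x⁆ * c⁻¹ := by
  have h1 : c⁻¹ * x * c = x := by rw [mul_assoc, ← hcx, ← mul_assoc, inv_mul_cancel, one_mul]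
  have h2 : c⁻¹ * x⁻¹ * c = x⁻¹ := by
    have : c⁻¹ * x⁻¹ * c = (c⁻¹ * x * c)⁻¹ := by group
    rw [this, h1]
  calc ⁅c * a * c⁻¹, x⁆ = c * a * (c⁻¹ * x * c) * a⁻¹ * (c⁻¹ * x⁻¹ * c) * c⁻¹ := by
        simp only [commutatorElement_def]; group
    _ = c * ⁅a, x⁆ * c⁻¹ := by
        rw [h1, h2]; simp only [commutatorElement_def]; group

/-- **Key lemma** (Mann, Isaacs): if `x` has minimal noncentral class size and `A` is an abelian
normal subgroup then `⁅A, x⁆ ≤ Z(G)`. -/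
theorem comm_mem_center [Finite G] (A : Subgroup G) [hA : A.Normal]
    (hAab : ∀ a ∈ A, ∀ b ∈ A, a * b = b * a) (x : G)
    (hmin : ∀ y : G, 1 < (centralizer ({y} : Set G)).index →
      (centralizer ({x} : Set G)).index ≤ (centralizer ({y} : Set G)).index)
    (a : G) (ha : a ∈ A) : ⁅a, x⁆ ∈ center G := by
  classical
  by_contra hbc
  obtain ⟨b, hb⟩ : ∃ b : G, b = ⁅a, x⁆ := ⟨_, rfl⟩
  rw [← hb] at hbc
  obtain ⟨φ, hφ⟩ : ∃ φ : ↥A →* G, φ = commHom A hAab x := ⟨_, rfl⟩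
  have hφapp : ∀ a' : ↥A, φ a' = ⁅(a' : G), x⁆ := fun a' => by rw [hφ]; rfl
  have hφA : ∀ a' : ↥A, φ a' ∈ A := fun a' => by rw [hφ]; exact commHom_mem A hAab x a'
  have hbφ : b = φ ⟨a, ha⟩ := by rw [hφapp, hb]
  have hbA : b ∈ A := by rw [hbφ]; exact hφA _
  have hb1 : b ≠ 1 := by
    intro h; apply hbc; rw [h]; exact Subgroup.one_mem _
  obtain ⟨C, hC⟩ : ∃ C : Subgroup G, C = centralizer ({x} : Set G) := ⟨_, rfl⟩
  obtain ⟨D, hD⟩ : ∃ D : Subgroup G, D = centralizer ({b} : Set G) := ⟨_, rfl⟩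
  have hCmem : ∀ g, g ∈ C ↔ g * x = x * g := by
    intro g; rw [hC, Subgroup.mem_centralizer_iff]
    constructor
    · intro h; exact (h x rfl).symm
    · intro h y hy; rw [Set.mem_singleton_iff] at hy; subst hy; exact h.symm
  have hDmem : ∀ g, g ∈ D ↔ g * b = b * g := by
    intro g; rw [hD, Subgroup.mem_centralizer_iff]
    constructor
    · intro h; exact (h b rfl).symm
    · intro h y hy; rw [Set.mem_singleton_iff] at hy; subst hy; exact h.symm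
  have hAD : A ≤ D := by
    intro g hg; rw [hDmem]; exact hAab _ hg _ hbA
  -- `|D| ≤ |C|`
  have hidx : 1 < D.index := by
    have h0 : D.index ≠ 0 := Subgroup.index_ne_zero_of_finite
    have h1 : D.index ≠ 1 := by
      intro h
      rw [Subgroup.index_eq_one] at h
      apply hbc
      rw [Subgroup.mem_center_iff]
      intro g
      have : g ∈ D := by rw [h]; exact Subgroup.mem_top g
      exact (hDmem g).mp this
    omega
  have hDC : Nat.card D ≤ Nat.card C := by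
    have h1 : C.index ≤ D.index := by rw [hC, hD]; rw [hD] at hidx; exact hmin b hidx
    have h2 := Subgroup.card_mul_index C
    have h3 := Subgroup.card_mul_index D
    by_contra hlt
    push Not at hlt
    have h0 : 0 < C.index := Nat.pos_of_ne_zero Subgroup.index_ne_zero_of_finite
    have : Nat.card C * C.index < Nat.card D * D.index :=
      calc Nat.card C * C.index < Nat.card D * C.index := Nat.mul_lt_mul_of_pos_right hlt h0
        _ ≤ Nat.card D * D.index := Nat.mul_le_mul_left _ h1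
    omega
  -- first injection: `H × B → D`
  have hsec : ∀ β : ↥φ.range, ∃ a' : ↥A, φ a' = β := fun β => β.2
  choose s hs using hsec
  have inj1 : Nat.card (↥(C ⊓ D) × ↥φ.range) ≤ Nat.card ↥D := by
    refine Nat.card_le_card_of_injective
      (fun hβ => (⟨(hβ.1 : G) * (s hβ.2 : G), D.mul_mem hβ.1.2.2 (hAD (s hβ.2).2)⟩ : ↥D)) ?_
    rintro ⟨h₁, β₁⟩ ⟨h₂, β₂⟩ heq
    simp only [Subtype.mk.injEq] at heq
    have ht : (h₂ : G)⁻¹ * h₁ = (s β₂ : G) * (s β₁ : G)⁻¹ := by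
      rw [inv_mul_eq_iff_eq_mul, ← mul_assoc, ← heq]; group
    have htC : (s β₂ : G) * (s β₁ : G)⁻¹ ∈ C := by
      rw [← ht]; exact C.mul_mem (C.inv_mem h₂.2.1) h₁.2.1
    have hφt : φ (s β₂ * (s β₁)⁻¹) = 1 := by
      rw [hφapp, commutatorElement_eq_one_iff_mul_comm]
      exact (hCmem _).mp htC
    rw [map_mul, map_inv, hs, hs, mul_inv_eq_one] at hφt
    have hβ : β₁ = β₂ := Subtype.ext hφt.symm
    subst hβ
    have : (h₁ : G) = h₂ := mul_right_cancel heq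
    exact Prod.ext (Subtype.ext this) rfl
  -- second injection: `C → H × (B ∖ 1)`
  let f : G → G := fun c => c * b * c⁻¹
  let r : G → G := fun y =>
    if h : ∃ c : ↥C, f c = y then ((Classical.choose h : ↥C) : G) else 1
  have hrC : ∀ c : ↥C, r (f c) ∈ C := by
    intro c
    have h : ∃ c' : ↥C, f c' = f c := ⟨c, rfl⟩
    show (if h : ∃ c' : ↥C, f c' = f c then ((Classical.choose h : ↥C) : G) else 1) ∈ C
    rw [dif_pos h]; exact (Classical.choose h).2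
  have hrf : ∀ c : ↥C, f (r (f c)) = f c := by
    intro c
    have h : ∃ c' : ↥C, f c' = f c := ⟨c, rfl⟩
    show f (if h : ∃ c' : ↥C, f c' = f c then ((Classical.choose h : ↥C) : G) else 1) = f c
    rw [dif_pos h]; exact Classical.choose_spec h
  let T : Set G := {y | y ∈ φ.range ∧ y ≠ 1}
  have hfT : ∀ c : ↥C, f c ∈ T := by
    intro c
    refine ⟨⟨⟨(c : G) * a * (c : G)⁻¹, hA.conj_mem a ha c⟩, ?_⟩, ?_⟩
    · rw [hφapp]
      show ⁅(c : G) * a * (c : G)⁻¹, x⁆ = (c : G) * b * (c : G)⁻¹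
      rw [conj_comm_of_commute ((hCmem _).mp c.2), hb]
    · intro h
      apply hb1
      have : (c : G) * b * (c : G)⁻¹ = 1 := h
      rw [mul_inv_eq_one] at this
      have h2 : (c : G) * b = (c : G) * 1 := by rw [this, mul_one]
      exact mul_left_cancel h2
  have hmemH : ∀ c : ↥C, (r (f c))⁻¹ * (c : G) ∈ C ⊓ D := by
    intro c
    refine ⟨C.mul_mem (C.inv_mem (hrC c)) c.2, (hDmem _).mpr ?_⟩
    have h1 := hrf c
    -- r b r⁻¹ = c b c⁻¹
    have h2 : r (f c) * b * (r (f c))⁻¹ = (c : G) * b * (c : G)⁻¹ := h1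
    have h3 : b = (r (f c))⁻¹ * ((c : G) * b * (c : G)⁻¹) * r (f c) := by
      rw [← h2]; group
    calc (r (f c))⁻¹ * (c : G) * b = ((r (f c))⁻¹ * ((c : G) * b * (c : G)⁻¹) * r (f c)) *
          ((r (f c))⁻¹ * (c : G)) := by group
      _ = b * ((r (f c))⁻¹ * (c : G)) := by rw [← h3]
  have inj2 : Nat.card ↥C ≤ Nat.card (↥(C ⊓ D) × ↥T) := by
    refine Nat.card_le_card_of_injective
      (fun c => ((⟨(r (f c))⁻¹ * (c : G), hmemH c⟩ : ↥(C ⊓ D)), (⟨f c, hfT c⟩ : ↥T))) ?_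
    intro c c' heq
    simp only [Prod.mk.injEq, Subtype.mk.injEq] at heq
    obtain ⟨h1, h2⟩ := heq
    rw [h2] at h1
    exact Subtype.ext (mul_left_cancel h1)
  -- `|T| + 1 ≤ |B|`
  have hT : Nat.card ↥T + 1 ≤ Nat.card ↥φ.range := by
    rw [← Finite.card_option]
    refine Nat.card_le_card_of_injective
      (fun o : Option ↥T => match o with
        | none => (1 : ↥φ.range)
        | some t => (⟨(t : G), t.2.1⟩ : ↥φ.range)) ?_
    intro o o' heq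
    match o, o' with
    | none, none => rfl
    | none, some t =>
      exfalso
      have : (1 : G) = (t : G) := congrArg Subtype.val heq
      exact t.2.2 this.symm
    | some t, none =>
      exfalso
      have : (t : G) = (1 : G) := congrArg Subtype.val heq
      exact t.2.2 this
    | some t, some t' =>
      have h' : (⟨(t : G), t.2.1⟩ : ↥φ.range) = ⟨(t' : G), t'.2.1⟩ := heq
      have : (t : G) = (t' : G) := Subtype.mk.inj h'
      rw [Subtype.ext this]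
  rw [Nat.card_prod] at inj1 inj2
  have hHpos : 0 < Nat.card ↥(C ⊓ D) := Nat.card_pos
  have : Nat.card ↥(C ⊓ D) * Nat.card ↥φ.range ≤ Nat.card ↥(C ⊓ D) * Nat.card ↥T :=
    inj1.trans (hDC.trans inj2)
  have h2 := Nat.le_of_mul_le_mul_left this hHpos
  omega


/-- elements stabilizing the chain `A ≥ A ∩ Z(G) ≥ 1` have commutators centralizing `A`. -/
lemma comm_mem_centralizer (A : Subgroup G) {m₁ m₂ : G} (h₁ : m₁ ∈ twoStep A (center G))
    (h₂ : m₂ ∈ twoStep A (center G)) : ⁅m₁, m₂⁆ ∈ centralizer (A : Set G) := by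
  have key : ∀ m ∈ twoStep A (center G), ∀ a ∈ A, ∃ ζ ∈ center G, m * a * m⁻¹ = a * ζ := by
    intro m hm a ha
    refine ⟨⁅a⁻¹, m⁆, hm a⁻¹ (A.inv_mem ha), ?_⟩
    simp only [commutatorElement_def]; group
  have key2 : ∀ n₁ ∈ twoStep A (center G), ∀ n₂ ∈ twoStep A (center G), ∀ a ∈ A,
      (n₁ * n₂) * a * (n₁ * n₂)⁻¹ = (n₂ * n₁) * a * (n₂ * n₁)⁻¹ := by
    intro n₁ hn₁ n₂ hn₂ a ha
    obtain ⟨ζ₁, hζ₁, e₁⟩ := key n₁ hn₁ a ha
    obtain ⟨ζ₂, hζ₂, e₂⟩ := key n₂ hn₂ a ha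
    rw [Subgroup.mem_center_iff] at hζ₁ hζ₂
    have c1 : n₁ * ζ₂ * n₁⁻¹ = ζ₂ := by rw [hζ₂ n₁, mul_assoc, mul_inv_cancel, mul_one]
    have c2 : n₂ * ζ₁ * n₂⁻¹ = ζ₁ := by rw [hζ₁ n₂, mul_assoc, mul_inv_cancel, mul_one]
    calc (n₁ * n₂) * a * (n₁ * n₂)⁻¹ = n₁ * (n₂ * a * n₂⁻¹) * n₁⁻¹ := by group
      _ = n₁ * (a * ζ₂) * n₁⁻¹ := by rw [e₂]
      _ = (n₁ * a * n₁⁻¹) * (n₁ * ζ₂ * n₁⁻¹) := by group
      _ = a * ζ₁ * ζ₂ := by rw [e₁, c1]
      _ = a * ζ₂ * ζ₁ := by rw [mul_assoc, hζ₂ ζ₁, ← mul_assoc]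
      _ = (n₂ * a * n₂⁻¹) * (n₂ * ζ₁ * n₂⁻¹) := by rw [e₂, c2]
      _ = n₂ * (a * ζ₁) * n₂⁻¹ := by group
      _ = n₂ * (n₁ * a * n₁⁻¹) * n₂⁻¹ := by rw [e₁]
      _ = (n₂ * n₁) * a * (n₂ * n₁)⁻¹ := by group
  rw [Subgroup.mem_centralizer_iff]
  intro a ha
  have h := key2 m₂⁻¹ (Subgroup.inv_mem _ h₂) m₁⁻¹ (Subgroup.inv_mem _ h₁) a ha
  have h' : a = (m₂⁻¹ * m₁⁻¹)⁻¹ * ((m₁⁻¹ * m₂⁻¹) * a * (m₁⁻¹ * m₂⁻¹)⁻¹) * (m₂⁻¹ * m₁⁻¹) := by
    rw [← h]; group
  have e : ⁅m₁, m₂⁆ = (m₂⁻¹ * m₁⁻¹)⁻¹ * (m₁⁻¹ * m₂⁻¹) := by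
    simp only [commutatorElement_def]; group
  rw [e]
  calc a * ((m₂⁻¹ * m₁⁻¹)⁻¹ * (m₁⁻¹ * m₂⁻¹))
      = ((m₂⁻¹ * m₁⁻¹)⁻¹ * ((m₁⁻¹ * m₂⁻¹) * a * (m₁⁻¹ * m₂⁻¹)⁻¹) * (m₂⁻¹ * m₁⁻¹)) *
          ((m₂⁻¹ * m₁⁻¹)⁻¹ * (m₁⁻¹ * m₂⁻¹)) := by rw [← h']
    _ = (m₂⁻¹ * m₁⁻¹)⁻¹ * (m₁⁻¹ * m₂⁻¹) * a := by group

/-- If `A` is a self-centralizing subgroup then any elements `u, v, w` stabilizing the chain
`A ≥ A ∩ Z(G) ≥ 1` have trivial fourfold commutators. -/
lemma four_comm (A : Subgroup G) (hCA : centralizer (A : Set G) = A) {u v w : G}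
    (hu : u ∈ twoStep A (center G)) (hv : v ∈ twoStep A (center G))
    (hw : w ∈ twoStep A (center G)) (t : G) : ⁅⁅⁅u, v⁆, w⁆, t⁆ = 1 := by
  have h1 : ⁅u, v⁆ ∈ A := by
    have := comm_mem_centralizer A hu hv
    rwa [hCA] at this
  have h2 : ⁅⁅u, v⁆, w⁆ ∈ center G := hw _ h1
  rw [commutatorElement_eq_one_iff_mul_comm]
  exact ((Subgroup.mem_center_iff.mp h2) t).symm

/-- elements of minimal noncentral (or central) class size stabilize the chain. -/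
lemma mem_twoStep_of_min [Finite G] (A : Subgroup G) [A.Normal]
    (hAab : ∀ a ∈ A, ∀ b ∈ A, a * b = b * a) (x : G)
    (hmin : ∀ y : G, 1 < (centralizer ({y} : Set G)).index →
      (centralizer ({x} : Set G)).index ≤ (centralizer ({y} : Set G)).index) :
    x ∈ twoStep A (center G) :=
  fun a ha => comm_mem_center A hAab x hmin a ha

end Cfsg.Agent.Lib.Helper22.SmallClasses
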